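import Mathlib

/-!
# G0F for S4875: schematic dominance of a base-changed family can be checked on affine opens.
-/

set_option autoImplicit false
set_option linter.style.haveILetI false

universe u

open CategoryTheory CategoryTheory.Limits AlgebraicGeometry TensorProduct TopologicalSpace

namespace Groth.Agent.Lib.Helper45.SDG0F

theorem G0F {X X' : Scheme.{u}} {ι : Type u} (Z : ι → Scheme.{u}) (f : ∀ i, Z i ⟶ X)
    (g : X' ⟶ X)
    (H : ∀ (U : X.Opens) (U' : X'.Opens), IsAffineOpen U → IsAffineOpen U' → U' ≤ g ⁻¹ᵁ U →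
      ∀ t : Γ(X', U'), (∀ i, (pullback.snd (f i) g).app U' t = 0) → t = 0) :
    ∀ (V : X'.Opens) (t : Γ(X', V)), (∀ i, (pullback.snd (f i) g).app V t = 0) → t = 0 := by
  intro V t ht
  have key : ∀ x : V, ∃ (U' : X'.Opens) (hU'V : U' ≤ V), (x : X') ∈ U' ∧
      X'.presheaf.map (homOfLE hU'V).op t = 0 := by
    intro x
    obtain ⟨_, ⟨U, hU : IsAffineOpen U, rfl⟩, hxU, -⟩ :=
      (X.isBasis_affineOpens).exists_subset_of_mem_open
        (show g.base (x : X') ∈ (⊤ : X.Opens).1 from trivial) (⊤ : X.Opens).2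
    have hxW : (x : X') ∈ (V ⊓ g ⁻¹ᵁ U : X'.Opens) := ⟨x.2, hxU⟩
    obtain ⟨_, ⟨U', hU' : IsAffineOpen U', rfl⟩, hxU', hU'le⟩ :=
      (X'.isBasis_affineOpens).exists_subset_of_mem_open hxW (V ⊓ g ⁻¹ᵁ U : X'.Opens).2
    have h1 : U' ≤ V := fun y hy => (hU'le hy).1
    have h2 : U' ≤ g ⁻¹ᵁ U := fun y hy => (hU'le hy).2
    refine ⟨U', h1, hxU', H U U' hU hU' h2 _ ?_⟩
    intro i
    have hnat := (pullback.snd (f i) g).naturality (homOfLE h1).op
    have := congrArg (fun φ => φ.hom t) hnat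
    simp only [CommRingCat.comp_apply] at this
    rw [this, ht i, map_zero]
  choose U' hU'V hxU' hres using key
  refine X'.sheaf.eq_of_locally_eq' U' V (fun x => homOfLE (hU'V x)) ?_ t 0 ?_
  · intro y hy
    exact Opens.mem_iSup.2 ⟨⟨y, hy⟩, hxU' ⟨y, hy⟩⟩
  · intro x
    have := hres x
    rw [map_zero]
    exact this

end Groth.Agent.Lib.Helper45.SDG0F
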