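import Mathlib

/-!
# G2F for S4875: a schematically dominant family detects `g`-power torsion on affine opens.
-/

set_option autoImplicit false
set_option linter.style.haveILetI false

universe u

open CategoryTheory CategoryTheory.Limits AlgebraicGeometry TensorProduct TopologicalSpace

namespace Groth.Agent.Lib.Helper45.SDG2F

theorem G2F {X : Scheme.{u}} {ι : Type u} (Z : ι → Scheme.{u}) (f : ∀ i, Z i ⟶ X)
    (h : ∀ (V : X.Opens) (t : Γ(X, V)), (∀ i, (f i).app V t = 0) → t = 0)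
    (U : X.Opens) (hU : IsAffineOpen U) (g x : Γ(X, U))
    (hx : ∀ (i : ι) (W : (Z i).Opens) (_ : IsAffineOpen W) (hWU : W ≤ f i ⁻¹ᵁ U),
      ∃ m : ℕ, ((f i).appLE U W hWU).hom g ^ m * ((f i).appLE U W hWU).hom x = 0) :
    ∃ m : ℕ, g ^ m * x = 0 := by
  refine exists_pow_mul_eq_zero_of_res_basicOpen_eq_zero_of_isAffineOpen X hU x g ?_
  change X.presheaf.map (homOfLE (X.basicOpen_le g)).op x = 0
  apply h (X.basicOpen g)
  intro i
  set D : (Z i).Opens := f i ⁻¹ᵁ X.basicOpen g with hD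
  have hDU : D ≤ f i ⁻¹ᵁ U := (f i).preimage_mono (X.basicOpen_le g)
  set y : Γ(Z i, D) := (f i).app (X.basicOpen g)
    (X.presheaf.map (homOfLE (X.basicOpen_le g)).op x) with hy
  -- `y` is the pullback of `x` to `D`
  have hyx : y = ((f i).appLE U D hDU).hom x := by
    rw [hy, ← CommRingCat.comp_apply, Scheme.Hom.app_eq_appLE, Scheme.Hom.map_appLE]
  have key : ∀ p : D, ∃ (W : (Z i).Opens) (hWD : W ≤ D), (p : Z i) ∈ W ∧
      (Z i).presheaf.map (homOfLE hWD).op y = 0 := by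
    intro p
    obtain ⟨W₀, hW₀, hpW₀, hW₀U⟩ := exists_isAffineOpen_mem_and_subset
      (x := (p : Z i)) (U := f i ⁻¹ᵁ U) (hDU p.2)
    have hW₀U' : W₀ ≤ f i ⁻¹ᵁ U := hW₀U
    obtain ⟨m, hm⟩ := hx i W₀ hW₀ hW₀U'
    set g' := ((f i).appLE U W₀ hW₀U').hom g with hg'
    set x' := ((f i).appLE U W₀ hW₀U').hom x with hx'
    have hWeq : (Z i).basicOpen g' = W₀ ⊓ D := Scheme.basicOpen_appLE (f i) W₀ U hW₀U' g
    have hWD : (Z i).basicOpen g' ≤ D := hWeq ▸ inf_le_right
    refine ⟨(Z i).basicOpen g', hWD, ?_, ?_⟩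
    · rw [hWeq]
      exact ⟨hpW₀, p.2⟩
    · have e1 : (Z i).presheaf.map (homOfLE hWD).op y =
          (Z i).presheaf.map (homOfLE ((Z i).basicOpen_le g')).op x' := by
        rw [hyx, hx', ← CommRingCat.comp_apply, ← CommRingCat.comp_apply,
          Scheme.Hom.appLE_map, Scheme.Hom.appLE_map]
      rw [e1]
      have hu : IsUnit ((Z i).presheaf.map (homOfLE ((Z i).basicOpen_le g')).op g') :=
        RingedSpace.isUnit_res_basicOpen (Z i).toRingedSpace g'
      have h0 : ((Z i).presheaf.map (homOfLE ((Z i).basicOpen_le g')).op g') ^ m *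
          (Z i).presheaf.map (homOfLE ((Z i).basicOpen_le g')).op x' = 0 := by
        rw [← map_pow, ← map_mul, hm, map_zero]
      exact (hu.pow m).mul_right_eq_zero.mp h0
  choose W hWD hpW hres using key
  refine (Z i).sheaf.eq_of_locally_eq' W D (fun p => homOfLE (hWD p)) ?_ y 0 ?_
  · intro q hq
    exact Opens.mem_iSup.2 ⟨⟨q, hq⟩, hpW ⟨q, hq⟩⟩
  · intro p
    have := hres p
    rw [map_zero]
    exact this

end Groth.Agent.Lib.Helper45.SDG2F
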