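import Mathlib
set_option autoImplicit false
set_option linter.unusedSectionVars false
set_option backward.isDefEq.respectTransparency false
open CategoryTheory CategoryTheory.Limits

namespace Groth.Agent.Lib.Helper45.KInjAdj

variable {C D : Type*} [Category C] [Category D] [Abelian C] [Abelian D]
  {L : C ⥤ D} {R : D ⥤ C} [L.Additive] [R.Additive] (adj : L ⊣ R) [L.PreservesHomology]

/-- the unit on complexes -/
def unitHom (K : CochainComplex C ℤ) :
    K ⟶ (R.mapHomologicalComplex _).obj ((L.mapHomologicalComplex _).obj K) where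
  f n := adj.unit.app (K.X n)
  comm' i j _ := by
    show adj.unit.app (K.X i) ≫ R.map (L.map (K.d i j)) = K.d i j ≫ adj.unit.app (K.X j)
    exact (adj.unit.naturality (K.d i j)).symm

/-- the transpose of a morphism of complexes -/
def transpose {K : CochainComplex C ℤ} {I : CochainComplex D ℤ}
    (f : K ⟶ (R.mapHomologicalComplex _).obj I) : (L.mapHomologicalComplex _).obj K ⟶ I where
  f n := (adj.homEquiv (K.X n) (I.X n)).symm (f.f n)
  comm' i j _ := by
    show (adj.homEquiv (K.X i) (I.X i)).symm (f.f i) ≫ I.d i j =
      L.map (K.d i j) ≫ (adj.homEquiv (K.X j) (I.X j)).symm (f.f j)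
    have h : f.f i ≫ R.map (I.d i j) = K.d i j ≫ f.f j := f.comm i j
    rw [← Adjunction.homEquiv_naturality_left_symm, ← Adjunction.homEquiv_naturality_right_symm, h]

theorem unit_transpose {K : CochainComplex C ℤ} {I : CochainComplex D ℤ}
    (f : K ⟶ (R.mapHomologicalComplex _).obj I) :
    unitHom adj K ≫ (R.mapHomologicalComplex _).map (transpose adj f) = f := by
  ext n
  have key : ∀ (g : K.X n ⟶ R.obj (I.X n)),
      adj.unit.app (K.X n) ≫ R.map ((adj.homEquiv (K.X n) (I.X n)).symm g) = g := by
    intro g
    exact (adj.homEquiv_unit (f := (adj.homEquiv _ _).symm g)).symm.trans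
      (Equiv.apply_symm_apply _ g)
  exact key (f.f n)

theorem acyclic_map {K : CochainComplex C ℤ} (hK : K.Acyclic) :
    ((L.mapHomologicalComplex _).obj K).Acyclic := by
  intro i
  exact (hK i).map L

include adj in
theorem isKInjective_map (I : CochainComplex D ℤ) [I.IsKInjective] :
    CochainComplex.IsKInjective ((R.mapHomologicalComplex (ComplexShape.up ℤ)).obj I) where
  nonempty_homotopy_zero {K} f hK := by
    have h := CochainComplex.IsKInjective.homotopyZero (transpose adj f) (acyclic_map hK)
    have h1 := (R.mapHomotopy h).compLeft (unitHom adj K)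
    refine ⟨(Homotopy.ofEq (unit_transpose adj f).symm).trans (h1.trans (Homotopy.ofEq ?_))⟩
    simp

end Groth.Agent.Lib.Helper45.KInjAdj
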