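import Groth.Agent.Lib.Helper45.TensorPerm1
import Groth.Agent.Lib.Helper7.FinLocFreePullback
import Groth.Agent.Lib.Helper60.TensorRestrict
import Groth.Agent.Lib.Helper60.TensorMod
import Groth.Agent.Lib.Helper2.FreeModAff

/-!
# Tensor products of finite locally free modules on schemes; transfer of the resolution property
(helper45)

`freeModTensorIso : O^n ⊗ O^m ≅ O^(n*m)`, `isFinLocFree_tensorMod'` (finite locally free ⊗ finite
locally free is finite locally free), and `main14988`: if `Y` has the resolution property and a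
family of finite locally free modules on `X` is `f`-generating, then `X` has the resolution
property.
-/

set_option autoImplicit false
set_option linter.style.haveILetI false
set_option linter.unusedSectionVars false
universe u
open CategoryTheory Limits Opposite AlgebraicGeometry
open Groth.Agent.Lib.Helper42.TensorColim Groth.Agent.Lib.Helper42.Flat
open Groth.Agent.Lib.Helper60.TensorLib Groth.Agent.Lib.Helper60.TensorRestrict
open Groth.Agent.Lib.Helper2.FreeModAff

namespace Groth.Agent.Lib.Helper45.ResPropTensor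

open Groth.Agent.Lib.Helper45.TensorPerm

variable {X : Scheme.{u}}

lemma tensorMod_eq (M N : X.Modules) :
    CohB1.tensorMod M N = ((ModSite.tensorBi X.sheaf).obj M).obj N := rfl

/-- the index equivalence. -/
def idxEquiv (n m : ℕ) : (Σ _ : ULift.{u} (Fin n), ULift.{u} (Fin m)) ≃ ULift.{u} (Fin (n * m)) :=
  (Equiv.sigmaEquivProd _ _).trans
    ((Equiv.prodCongr Equiv.ulift Equiv.ulift).trans (finProdFinEquiv.trans Equiv.ulift.symm))

/-- `O^n ⊗ O^m ≅ O^(n*m)`. -/
noncomputable def freeModTensorIso (n m : ℕ) :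
    CohB1.tensorMod (FlatMod.freeMod X n) (FlatMod.freeMod X m) ≅ FlatMod.freeMod X (n * m) :=
  tensorModCongrLeft (freeModIso X n) _ ≪≫ tensorModCongrRight _ (freeModIso X m) ≪≫
    (freeTensIso X.sheaf (ULift.{u} (Fin n)) (ULift.{u} (Fin m)) : _) ≪≫
    (SheafOfModules.freeFunctor (R := X.ringCatSheaf)).mapIso (Equiv.toIso (idxEquiv n m)) ≪≫
    (freeModIso X (n * m)).symm

theorem isFinLocFree_tensorMod' {E F : X.Modules} (hE : FlatMod.IsFinLocFree E)
    (hF : FlatMod.IsFinLocFree F) : FlatMod.IsFinLocFree (CohB1.tensorMod E F) := by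
  intro x
  obtain ⟨U₁, n, hx₁, h₁⟩ := hE x
  obtain ⟨U₂, m, hx₂, h₂⟩ := hF x
  obtain ⟨a⟩ := nonempty_iso_freeMod_of_le E (inf_le_left : U₁ ⊓ U₂ ≤ U₁) n h₁
  obtain ⟨b⟩ := nonempty_iso_freeMod_of_le F (inf_le_right : U₁ ⊓ U₂ ≤ U₂) m h₂
  refine ⟨U₁ ⊓ U₂, n * m, ⟨hx₁, hx₂⟩, ⟨?_⟩⟩
  exact restrictTensorIso (U₁ ⊓ U₂).ι E F ≪≫ tensorModCongrLeft a _ ≪≫
    tensorModCongrRight _ b ≪≫ freeModTensorIso n m


/-- `W ⊗ -` on `X.Modules`. -/
noncomputable def tensLX (W : X.Modules) : X.Modules ⥤ X.Modules := tensL X.sheaf W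

instance (W : X.Modules) : PreservesColimitsOfSize.{u, u} (tensLX W) :=
  inferInstanceAs (PreservesColimitsOfSize.{u, u} (tensL X.sheaf W))

/-- `W ⊗ f^*(-)`. -/
noncomputable def GW {Y : Scheme.{u}} (f : X ⟶ Y) (W : X.Modules) : Y.Modules ⥤ X.Modules :=
  Scheme.Modules.pullback f ⋙ tensLX W

lemma GW_obj {Y : Scheme.{u}} (f : X ⟶ Y) (W : X.Modules) (N : Y.Modules) :
    (GW f W).obj N = CohB1.tensorMod W ((Scheme.Modules.pullback f).obj N) := rfl

instance {Y : Scheme.{u}} (f : X ⟶ Y) (W : X.Modules) :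
    PreservesColimitsOfSize.{u, u} (GW f W) := by
  haveI : PreservesColimitsOfSize.{u, u} (Scheme.Modules.pullback f) :=
    (Scheme.Modules.pullbackPushforwardAdjunction f).leftAdjoint_preservesColimits
  unfold GW
  infer_instance

theorem main14988 {Y : Scheme.{u}} (f : X ⟶ Y)
    (hY : ∀ N : Y.Modules, Coh.IsQCoh N →
      ∃ (κ : Type u) (V : κ → Y.Modules) (π : (∐ V) ⟶ N), (∀ k, FlatMod.IsFinLocFree (V k)) ∧ Epi π)
    {ι : Type u} (W : ι → X.Modules) (hW : ∀ i, FlatMod.IsFinLocFree (W i))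
    (hf : ∀ M : X.Modules, Coh.IsQCoh M →
      ∃ (κ : Type u) (j : κ → ι) (N : κ → Y.Modules)
        (π : (∐ fun k => CohB1.tensorMod (W (j k)) ((Scheme.Modules.pullback f).obj (N k))) ⟶ M),
        (∀ k, Coh.IsQCoh (N k)) ∧ Epi π) :
    ∀ M : X.Modules, Coh.IsQCoh M →
      ∃ (κ : Type u) (E : κ → X.Modules) (π : (∐ E) ⟶ M), (∀ k, FlatMod.IsFinLocFree (E k)) ∧ Epi π := by
  intro M hM
  obtain ⟨κ, j, N, π, hN, hπ⟩ := hf M hM
  choose κ' V ρ hV hρ using fun k => hY (N k) (hN k)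
  let T : κ → X.Modules := fun k => CohB1.tensorMod (W (j k)) ((Scheme.Modules.pullback f).obj (N k))
  let E : (Σ k, κ' k) → X.Modules := fun p => (GW f (W (j p.1))).obj (V p.1 p.2)
  let φ : ∀ p : Σ k, κ' k, E p ⟶ M := fun p =>
    (GW f (W (j p.1))).map (Sigma.ι (V p.1) p.2 ≫ ρ p.1) ≫ Sigma.ι T p.1 ≫ π
  refine ⟨Σ k, κ' k, E, Sigma.desc φ, ?_, ?_⟩
  · rintro ⟨k, l⟩
    exact isFinLocFree_tensorMod' (hW _)
      (Groth.Agent.Lib.Helper7.FinLocFree.isFinLocFree_pullback f (hV k l))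
  · constructor
    intro Z a b hab
    haveI := hπ
    rw [← cancel_epi π]
    apply Sigma.hom_ext
    intro k
    haveI : Epi (ρ k) := hρ k
    haveI : Epi ((GW f (W (j k))).map (ρ k)) := inferInstance
    refine (cancel_epi ((GW f (W (j k))).map (ρ k))).1 ?_
    apply (isColimitOfPreserves (GW f (W (j k))) (coproductIsCoproduct (V k))).hom_ext
    rintro ⟨l⟩
    have h1 := Sigma.ι E ⟨k, l⟩ ≫= hab
    simp only [Sigma.ι_desc_assoc] at h1
    simp only [φ, Functor.map_comp, Category.assoc] at h1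
    simp only [Functor.mapCocone_pt, Functor.mapCocone_ι_app, Cofan.mk_pt, Cofan.mk_ι_app]
    exact h1

end Groth.Agent.Lib.Helper45.ResPropTensor
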