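import Groth.Agent.Lib.Helper45.QcSum12
import Mathlib.Topology.Sheaves.Sheaf
import Mathlib.CategoryTheory.Sites.Spaces

/-!
# Quasi-compact opens are quasi-compact objects; sections of direct sums over them
-/

set_option autoImplicit false
set_option linter.style.haveILetI false
set_option linter.unusedSectionVars false

universe u

open CategoryTheory CategoryTheory.Limits Opposite ModSite TopologicalSpace

namespace Groth.Agent.Lib.Helper45.QcSum

variable {C : Type u} [SmallCategory C] {J : GrothendieckTopology C}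

/-- An object all of whose covering sieves contain a finite covering family is quasi-compact. -/
theorem isQcObject_of_finite_subcover {W : C}
    (hfin : ∀ S ∈ J W, ∃ (ι : Type u) (_ : Finite ι) (Y : ι → C) (g : ∀ k, Y k ⟶ W),
      (∀ k, S (g k)) ∧ Sieve.ofArrows Y g ∈ J W) :
    CohCx.IsQcObject (hs J W) := by
  classical
  intro I L f hJS
  have h1 := famSieve_mem_of_jointlySurjective f hJS W (el J (𝟙 W))
  obtain ⟨ι, _, Y, g, hg, hcov⟩ := hfin _ h1
  have := Fintype.ofFinite ι
  choose i x hx using hg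
  refine ⟨Finset.univ.image i, ?_⟩
  apply jointlySurjective_of_famSieve
  intro U s'
  obtain ⟨S₁, hS₁, hS₁'⟩ := exists_el W s'
  refine J.transitive hS₁ _ (fun V g' hg' => ?_)
  obtain ⟨w, hw⟩ := hS₁' V g' hg'
  refine J.superset_covering ?_ (J.pullback_stable w hcov)
  rintro V' h ⟨Z, a, b, ⟨k⟩, hab⟩
  refine ⟨⟨i k, Finset.mem_image_of_mem i (Finset.mem_univ k)⟩, (L (i k)).obj.map a.op (x k), ?_⟩
  have e1 := NatTrans.naturality_apply (f (i k)).hom a.op (x k)
  change (f (i k)).hom.app (op V') ((L (i k)).obj.map a.op (x k)) = _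
  rw [e1, hx k, ← el_comp, ← el_comp, Category.comp_id, op_comp, Functor.map_comp_apply, ← hw,
    ← el_comp, hab]

/-- A quasi-compact open of a topological space is a quasi-compact object of the site. -/
theorem isQcObject_of_isCompact {X : TopCat.{u}} (U : Opens X) (hU : IsCompact (U : Set X)) :
    CohCx.IsQcObject (hs (Opens.grothendieckTopology X) U) := by
  classical
  apply isQcObject_of_finite_subcover
  intro S hS
  choose V f hf hxV using hS
  obtain ⟨t, ht⟩ := hU.elim_finite_subcover (fun p : U => (V p.1 p.2 : Set X))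
    (fun p => (V p.1 p.2).isOpen) (fun x hx => Set.mem_iUnion.2 ⟨⟨x, hx⟩, hxV x hx⟩)
  refine ⟨{p // p ∈ t}, inferInstance, fun k => V k.1.1 k.1.2, fun k => f k.1.1 k.1.2,
    fun k => hf _ _, ?_⟩
  intro x hx
  obtain ⟨p, hp, hxp⟩ : ∃ p ∈ t, x ∈ (V p.1 p.2 : Set X) := by
    have := ht hx
    simpa using this
  exact ⟨V p.1 p.2, f p.1 p.2, Sieve.ofArrows_mk (fun k : {p // p ∈ t} => V k.1.1 k.1.2)
    (fun k => f k.1.1 k.1.2) ⟨p, hp⟩, hxp⟩

section Main6842

variable {X : TopCat.{u}} (O : TopCat.Sheaf CommRingCat.{u} X) {I : Type u}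
  (F : I → ModSite.Mod O) [HasCoproduct F] (U : Opens X)

/-- the component maps on sections. -/
noncomputable def φc (i : I) : (F i).val.obj (op U) →+ (∐ F).val.obj (op U) :=
  ((Sigma.ι F i).val.app (op U)).hom.toAddMonoidHom

lemma sum_trunc [DecidableEq I] (S S' : Finset I) (hSS' : S ⊆ S') (t : ∀ i, (F i).val.obj (op U)) :
    ∑ i ∈ S, φc O F U i (t i) =
      ∑ i ∈ S', φc O F U i (if i ∈ S then t i else 0) := by
  classical
  rw [← Finset.sum_subset hSS' (fun i _ hi => by simp [hi])]
  exact Finset.sum_congr rfl (fun i hi => by simp [hi])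

theorem surj6842 (hU : IsCompact (U : Set X)) (s : (∐ F).val.obj (op U)) :
    ∃ (S : Finset I) (t : ∀ i, (F i).val.obj (op U)), s = ∑ i ∈ S, φc O F U i (t i) := by
  classical
  have hW := isQcObject_of_isCompact U hU
  have := main9102 O U hW I
  let G := SheafOfModules.toSheaf (ModSite.ringSh O) ⋙
    (sheafSections (Opens.grothendieckTopology X) AddCommGrpCat.{u}).obj (op U)
  have hd := isColimitOfPreserves G (colimit.isColimit (Discrete.functor F))
  let T : AddSubgroup ((∐ F).val.obj (op U)) :=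
    { carrier := {s | ∃ (S : Finset I) (t : ∀ i, (F i).val.obj (op U)),
        s = ∑ i ∈ S, φc O F U i (t i)}
      add_mem' := by
        rintro a b ⟨S₁, t₁, rfl⟩ ⟨S₂, t₂, rfl⟩
        refine ⟨S₁ ∪ S₂, fun i => (if i ∈ S₁ then t₁ i else 0) + (if i ∈ S₂ then t₂ i else 0), ?_⟩
        rw [sum_trunc O F U S₁ (S₁ ∪ S₂) Finset.subset_union_left,
          sum_trunc O F U S₂ (S₁ ∪ S₂) Finset.subset_union_right, ← Finset.sum_add_distrib]
        exact Finset.sum_congr rfl (fun i _ => (map_add _ _ _).symm)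
      zero_mem' := ⟨∅, fun _ => 0, by rw [Finset.sum_empty]⟩
      neg_mem' := by
        rintro a ⟨S₁, t₁, rfl⟩
        refine ⟨S₁, fun i => - t₁ i, ?_⟩
        rw [← Finset.sum_neg_distrib]
        exact Finset.sum_congr rfl (fun i _ => (map_neg _ _).symm) }
  have hT : T = ⊤ := by
    refine eq_top_of_isColimit hd (T : AddSubgroup (G.obj (∐ F))) ?_
    rintro ⟨i⟩ z
    change (F i).val.obj (op U) at z
    refine ⟨{i}, fun j => if h : j = i then h ▸ z else 0, ?_⟩
    rw [Finset.sum_singleton]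
    simp only [dif_pos]
    rfl
  have hs : s ∈ T := by rw [hT]; trivial
  exact hs

theorem inj6842 (S : Finset I) (t : ∀ i, (F i).val.obj (op U))
    (h : ∑ i ∈ S, φc O F U i (t i) = 0) : ∀ i ∈ S, t i = 0 := by
  classical
  intro i₀ hi₀
  let p : ∐ F ⟶ F i₀ := Sigma.desc (fun j => if h : j = i₀ then eqToHom (by rw [h]) else 0)
  have hp : ∀ j, Sigma.ι F j ≫ p = if h : j = i₀ then eqToHom (by rw [h]) else 0 :=
    fun j => Sigma.ι_desc _ j
  have h1 : Sigma.ι F i₀ ≫ p = 𝟙 _ := by rw [hp]; simp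
  have h2 : ∀ j, j ≠ i₀ → Sigma.ι F j ≫ p = 0 := by
    intro j hj; rw [hp]; simp [hj]
  have h3 := congrArg (fun x => p.val.app (op U) x) h
  simp only [map_sum, map_zero] at h3
  have h4 : ∀ j, p.val.app (op U) (φc O F U j (t j)) = (Sigma.ι F j ≫ p).val.app (op U) (t j) :=
    fun j => rfl
  simp only [h4] at h3
  rw [Finset.sum_eq_single i₀ (fun j _ hj => by rw [h2 j hj]; rfl)
    (fun hn => absurd hi₀ hn), h1] at h3
  exact h3

end Main6842

end Groth.Agent.Lib.Helper45.QcSum
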