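import Groth.Agent.Lib.Helper45.QcSum3

/-!
# Tools on free modules `freeOn O U` and sections
-/

set_option autoImplicit false
set_option linter.style.haveILetI false
set_option linter.unusedSectionVars false

universe u w

open CategoryTheory CategoryTheory.Limits Opposite ModSite

namespace Groth.Agent.Lib.Helper45.QcSum

open Groth.Agent.Lib.Helper42

variable {C : Type u} [SmallCategory C] {J : GrothendieckTopology C}
variable (O : Sheaf J CommRingCat.{u})

/-- Restriction of sections of a module. -/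
noncomputable abbrev res (M : Mod O) {V U : C} (g : V ⟶ U) (s : M.val.obj (op U)) :
    M.val.obj (op V) := M.val.map g.op s

lemma res_comp (M : Mod O) {V' V U : C} (h : V' ⟶ V) (g : V ⟶ U) (s : M.val.obj (op U)) :
    res O M (h ≫ g) s = res O M h (res O M g s) := by
  unfold res
  rw [op_comp, PresheafOfModules.map_comp_apply]

lemma res_zero (M : Mod O) {V U : C} (g : V ⟶ U) :
    res O M g (0 : M.val.obj (op U)) = 0 :=
  (M.val.map g.op).hom.map_zero

lemma res_add (M : Mod O) {V U : C} (g : V ⟶ U) (x y : M.val.obj (op U)) :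
    res O M g (x + y) = res O M g x + res O M g y :=
  (M.val.map g.op).hom.map_add x y

lemma res_neg (M : Mod O) {V U : C} (g : V ⟶ U) (x : M.val.obj (op U)) :
    res O M g (-x) = -res O M g x :=
  (M.val.map g.op).hom.map_neg x

lemma res_sub (M : Mod O) {V U : C} (g : V ⟶ U) (x y : M.val.obj (op U)) :
    res O M g (x - y) = res O M g x - res O M g y :=
  (M.val.map g.op).hom.map_sub x y

lemma app_res {M N : Mod O} (φ : M ⟶ N) {V U : C} (g : V ⟶ U) (s : M.val.obj (op U)) :
    φ.val.app (op V) (res O M g s) = res O N g (φ.val.app (op U) s) :=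
  PresheafOfModules.naturality_apply φ.val g.op s

/-- The morphism out of `freeOn O U` given by a section over `U`. -/
noncomputable def ofSec {U : C} {M : Mod O} (s : M.val.obj (op U)) : freeOn O U ⟶ M :=
  (freeOnAddEquiv O U M).symm s

lemma ofSec_univ {U : C} {M : Mod O} (s : M.val.obj (op U)) :
    (ofSec O s).val.app (op U) (univ O U) = s := by
  rw [← freeOnHomEquiv_eq]
  exact (freeOnAddEquiv O U M).apply_symm_apply s

lemma eq_ofSec {U : C} {M : Mod O} (φ : freeOn O U ⟶ M) :
    φ = ofSec O (φ.val.app (op U) (univ O U)) := by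
  rw [← freeOnHomEquiv_eq]
  exact ((freeOnAddEquiv O U M).symm_apply_apply φ).symm

lemma ofSec_injective {U : C} {M : Mod O} : Function.Injective (ofSec O (U := U) (M := M)) :=
  (freeOnAddEquiv O U M).symm.injective

lemma ofSec_zero {U : C} {M : Mod O} : ofSec O (0 : M.val.obj (op U)) = 0 :=
  map_zero (freeOnAddEquiv O U M).symm

lemma ofSec_comp {U : C} {M N : Mod O} (s : M.val.obj (op U)) (φ : M ⟶ N) :
    ofSec O s ≫ φ = ofSec O (φ.val.app (op U) s) := by
  rw [eq_ofSec O (ofSec O s ≫ φ)]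
  congr 1
  change φ.val.app (op U) ((ofSec O s).val.app (op U) (univ O U)) = _
  rw [ofSec_univ]

/-- The morphism `freeOn O V ⟶ freeOn O U` induced by `g : V ⟶ U`. -/
noncomputable def freeOnMap {V U : C} (g : V ⟶ U) : freeOn O V ⟶ freeOn O U :=
  ofSec O (res O _ g (univ O U))

lemma freeOnMap_ofSec {V U : C} (g : V ⟶ U) {M : Mod O} (s : M.val.obj (op U)) :
    freeOnMap O g ≫ ofSec O s = ofSec O (res O M g s) := by
  unfold freeOnMap
  rw [ofSec_comp, app_res, ofSec_univ]

lemma freeOnMap_comp_eq {V U : C} (g : V ⟶ U) {M : Mod O} (φ : freeOn O U ⟶ M) :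
    freeOnMap O g ≫ φ = ofSec O (res O M g (φ.val.app (op U) (univ O U))) := by
  conv_lhs => rw [eq_ofSec O φ]
  rw [freeOnMap_ofSec]

/-- Separatedness for sections of a module. -/
lemma sec_ext (M : Mod O) {U : C} (S : Sieve U) (hS : S ∈ J U) (x y : M.val.obj (op U))
    (h : ∀ (V : C) (g : V ⟶ U), S g → res O M g x = res O M g y) : x = y :=
  Sheaf.isSeparated ((SheafOfModules.toSheaf _).obj M) U S hS x y h

/-- A morphism out of `freeOn O U` vanishing on a covering family vanishes. -/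
lemma eq_zero_of_cover {U : C} {κ : Type w} {Y : κ → C} (g : ∀ k, Y k ⟶ U)
    (hg : Sieve.ofArrows Y g ∈ J U) {T : Mod O} (φ : freeOn O U ⟶ T)
    (h : ∀ k, freeOnMap O (g k) ≫ φ = 0) : φ = 0 := by
  rw [eq_ofSec O φ, ← ofSec_zero]
  congr 1
  refine sec_ext O T _ hg _ _ ?_
  rintro V f ⟨Z, a, b, ⟨k⟩, rfl⟩
  have hk := h k
  rw [freeOnMap_comp_eq, ← ofSec_zero] at hk
  have hk' := ofSec_injective O hk
  rw [res_comp, hk', res_zero, res_zero]

/-- Local lifting of sections along an epimorphism. -/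
lemma exists_local_lift {M N : Mod O} (p : M ⟶ N) [Epi p] {U : C} (s : N.val.obj (op U)) :
    ∃ S ∈ J U, ∀ (V : C) (g : V ⟶ U), S g →
      ∃ t : M.val.obj (op V), p.val.app (op V) t = res O N g s := by
  have h1 : Epi ((SheafOfModules.toSheaf (ringSh O)).map p) := inferInstance
  have h2 := (Sheaf.isLocallySurjective_iff_epi' _ _).2 h1
  refine ⟨_, Presheaf.imageSieve_mem J ((SheafOfModules.toSheaf (ringSh O)).map p).hom s, ?_⟩
  intro V g hg
  obtain ⟨t, ht⟩ := hg
  exact ⟨t, ht⟩

section Cover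

variable {O}
variable (B : Set C)
  (hB₁ : ∀ X : C, ∃ (κ : Type u) (Y : κ → C) (g : ∀ k, Y k ⟶ X),
    Sieve.ofArrows Y g ∈ J X ∧ ∀ k, Y k ∈ B)
  (hB₂ : ∀ U ∈ B, CohCx.IsQcObject ((presheafToSheaf J (Type u)).obj (yoneda.obj U)))

/-- The arrows of a sieve with source in `B`. -/
def restrB {U : C} (S : Sieve U) : Presieve U := fun Y g => S g ∧ Y ∈ B

include hB₁ in
lemma generate_restrB_mem {U : C} (S : Sieve U) (hS : S ∈ J U) :
    Sieve.generate (restrB B S) ∈ J U := by
  refine J.transitive hS _ (fun V g hg => ?_)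
  obtain ⟨κ, Y, a, ha, hY⟩ := hB₁ V
  refine J.superset_covering ?_ ha
  rintro Z f ⟨Z', b, c, ⟨k⟩, rfl⟩
  change Sieve.generate (restrB B S) ((b ≫ a k) ≫ g)
  rw [Category.assoc]
  exact Sieve.downward_closed _
    (⟨_, 𝟙 _, _, ⟨S.downward_closed hg _, hY k⟩, Category.id_comp _⟩ :
      Sieve.generate (restrB B S) (a k ≫ g)) b

include hB₁ hB₂ in
/-- Finite subcovers by members of `B`. -/
theorem exists_finite_B_cover {U : C} (hU : U ∈ B) (S : Sieve U) (hS : S ∈ J U) :
    ∃ t : Finset (Σ V : C, {g : V ⟶ U // restrB B S g}),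
      Sieve.ofArrows (fun i : t => i.1.1) (fun i : t => i.1.2.1) ∈ J U :=
  exists_finite_of_generate_mem (hB₂ U hU) _ (generate_restrB_mem B hB₁ S hS)

end Cover

end Groth.Agent.Lib.Helper45.QcSum
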