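import Groth.Agent.Lib.Helper45.QcSum2
import Groth.Agent.Lib.Helper42.ModSheaf
import Groth.Agent.Lib.Helper42.ModSiteLib

/-!
# Sections of modules over a quasi-compact object commute with direct sums
-/

set_option autoImplicit false
set_option linter.style.haveILetI false
set_option linter.unusedSectionVars false

universe u

open CategoryTheory CategoryTheory.Limits Opposite ModSite

namespace Groth.Agent.Lib.Helper45.QcSum

open Groth.Agent.Lib.Helper42

variable {C : Type u} [SmallCategory C] {J : GrothendieckTopology C}

theorem main9102 (O : Sheaf J CommRingCat.{u}) (W : C)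
    (hW : CohCx.IsQcObject ((presheafToSheaf J (Type u)).obj (yoneda.obj W))) (ι : Type u) :
    PreservesColimitsOfShape (Discrete ι)
      (SheafOfModules.toSheaf (ModSite.ringSh O) ⋙
        (sheafSections J AddCommGrpCat.{u}).obj (op W)) := by
  have := preservesColimitsOfShape_sections hW ι
  infer_instance

/-- The universal section of `freeOn O U` over `U`. -/
noncomputable def univ (O : Sheaf J CommRingCat.{u}) (U : C) : (freeOn O U).val.obj (op U) :=
  ModSiteLib.freeOnHomEquiv O U _ (𝟙 _)

lemma freeOnHomEquiv_eq (O : Sheaf J CommRingCat.{u}) (U : C) {M : Mod O} (h : freeOn O U ⟶ M) :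
    ModSiteLib.freeOnHomEquiv O U M h = h.val.app (op U) (univ O U) := by
  have := ModSiteLib.freeOnHomEquiv_comp O U (𝟙 _) h
  rwa [Category.id_comp] at this

/-- The additive version of `freeOnHomEquiv`. -/
noncomputable def freeOnAddEquiv (O : Sheaf J CommRingCat.{u}) (U : C) (M : Mod O) :
    (freeOn O U ⟶ M) ≃+ M.val.obj (op U) :=
  { ModSiteLib.freeOnHomEquiv O U M with
    map_add' := by
      intro h h'
      change ModSiteLib.freeOnHomEquiv O U M (h + h') = ModSiteLib.freeOnHomEquiv O U M h +
        ModSiteLib.freeOnHomEquiv O U M h'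
      rw [freeOnHomEquiv_eq, freeOnHomEquiv_eq, freeOnHomEquiv_eq]
      rfl }

/-- `Hom(freeOn O U, -)` is the sections functor. -/
noncomputable def coyonedaIso (O : Sheaf J CommRingCat.{u}) (U : C) :
    preadditiveCoyoneda.obj (op (ModSite.freeOn O U)) ≅
      SheafOfModules.toSheaf (ModSite.ringSh O) ⋙
        (sheafSections J AddCommGrpCat.{u}).obj (op U) :=
  NatIso.ofComponents (fun M => AddEquiv.toAddCommGrpIso (freeOnAddEquiv O U M)) (by
    intro M N φ
    ext h
    exact ModSiteLib.freeOnHomEquiv_comp O U h φ)

theorem main9103 (O : Sheaf J CommRingCat.{u}) (U : C)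
    (hU : CohCx.IsQcObject ((presheafToSheaf J (Type u)).obj (yoneda.obj U))) (ι : Type u) :
    PreservesColimitsOfShape (Discrete ι) (preadditiveCoyoneda.obj (op (ModSite.freeOn O U))) := by
  have := main9102 O U hU ι
  exact preservesColimitsOfShape_of_natIso (coyonedaIso O U).symm

end Groth.Agent.Lib.Helper45.QcSum
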