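import Mathlib

/-!
# [T] for helper65's S13749 (helper45): a topological lemma on Noetherian sober spaces

`exists_open_nhd_inter_subset`: if every generization of `y` lying in the open `O` lies in the
open `O₀`, then `W' ∩ O ⊆ O₀` for some open neighbourhood `W'` of `y`.
-/

set_option autoImplicit false
set_option linter.unusedVariables false

universe u

open CategoryTheory CategoryTheory.Limits AlgebraicGeometry TopologicalSpace

namespace Groth.Agent.Lib.Helper45.NeronDescT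

theorem exists_open_nhd_inter_subset {W : Type*} [TopologicalSpace W] [NoetherianSpace W]
    [QuasiSober W] (O O₀ : Set W) (hO : IsOpen O) (hO₀ : IsOpen O₀) (h₀ : O₀ ⊆ O) (y : W)
    (hy : ∀ ξ ∈ O, ξ ⤳ y → ξ ∈ O₀) : ∃ W' : Set W, IsOpen W' ∧ y ∈ W' ∧ W' ∩ O ⊆ O₀ := by
  obtain ⟨S, hSf, hSc, hSi, hSU⟩ :=
    NoetherianSpace.exists_finite_set_isClosed_irreducible hO₀.isClosed_compl
  let S' : Set (Set W) := {t ∈ S | y ∉ t}
  have hS'f : S'.Finite := hSf.subset (Set.sep_subset _ _)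
  refine ⟨(⋃₀ S')ᶜ, ?_, ?_, ?_⟩
  · rw [isOpen_compl_iff]
    rw [Set.sUnion_eq_biUnion]
    exact hS'f.isClosed_biUnion (fun t ht => hSc t ht.1)
  · rintro ⟨t, ht, hyt⟩
    exact ht.2 hyt
  · rintro w ⟨hw, hwO⟩
    by_contra hw0
    have hwC : w ∈ O₀ᶜ := hw0
    rw [hSU] at hwC
    obtain ⟨t, ht, hwt⟩ := hwC
    have hyt : y ∈ t := by
      by_contra hyt
      exact hw ⟨t, ⟨ht, hyt⟩, hwt⟩
    have hgen := (hSi t ht).isGenericPoint_genericPoint (hSc t ht)
    have h1 : (hSi t ht).genericPoint ⤳ y := hgen.specializes hyt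
    have h2 : (hSi t ht).genericPoint ∈ O := (hgen.mem_open_set_iff hO).2 ⟨w, hwt, hwO⟩
    have h3 : (hSi t ht).genericPoint ∈ O₀ := hy _ h2 h1
    have h4 : (hSi t ht).genericPoint ∈ O₀ᶜ := by
      rw [hSU]
      exact ⟨t, ht, hgen.mem⟩
    exact h4 h3

end Groth.Agent.Lib.Helper45.NeronDescT
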