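import Groth.Agent.Lib.Helper45.FTDict1

/-!
# Extensions of modules of finite type are of finite type (small ringed sites)
-/

set_option autoImplicit false
set_option linter.style.haveILetI false
set_option linter.unusedSectionVars false

universe u

open CategoryTheory CategoryTheory.Limits Opposite ModSite

namespace Groth.Agent.Lib.Helper45.FTDict

open Groth.Agent.Lib.Helper45.QcSum

variable {C : Type u} [SmallCategory C] {J : GrothendieckTopology C} (O : Sheaf J CommRingCat.{u})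

lemma res_smul (F : Mod O) {V U : C} (g : V ⟶ U) (a : (ringSh O).obj.obj (op U))
    (x : F.val.obj (op U)) :
    res O F g (a • x) = ((ringSh O).obj.map g.op a) • res O F g x :=
  PresheafOfModules.map_smul F.val g.op a x

lemma res_sum (F : Mod O) {V U : C} (g : V ⟶ U) {ι : Type} (t : Finset ι)
    (x : ι → F.val.obj (op U)) :
    res O F g (∑ i ∈ t, x i) = ∑ i ∈ t, res O F g (x i) :=
  map_sum (F.val.map g.op).hom x t

lemma app_smul {F G : Mod O} (φ : F ⟶ G) (V : C) (a : (ringSh O).obj.obj (op V))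
    (x : F.val.obj (op V)) : φ.val.app (op V) (a • x) = a • φ.val.app (op V) x :=
  (φ.val.app (op V)).hom.map_smul a x

lemma app_sum {F G : Mod O} (φ : F ⟶ G) (V : C) {ι : Type} (t : Finset ι)
    (x : ι → F.val.obj (op V)) :
    φ.val.app (op V) (∑ i ∈ t, x i) = ∑ i ∈ t, φ.val.app (op V) (x i) :=
  map_sum (φ.val.app (op V)).hom x t

lemma ft_of_local (F : Mod O)
    (h : ∀ W₀ : C, ∃ S ∈ J W₀, ∀ (U : C) (g : U ⟶ W₀), S g → ∃ T ∈ J U,
      ∀ (V : C) (k : V ⟶ U), T k → ∃ (n : ℕ) (s : Fin n → F.val.obj (op V)), LocGen O F V s) :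
    FT O F := by
  intro W₀
  obtain ⟨S, hS, hS'⟩ := h W₀
  choose T hT hT' using hS'
  refine ⟨Sieve.bind S T, J.bind_covering hS (fun _ _ hg => hT _ _ hg), ?_⟩
  rintro V k ⟨U, a, b, hb, ha, rfl⟩
  exact hT' U b hb V a ha

lemma locGen_of_local (F : Mod O) (U : C) {ι : Type} [Fintype ι] (s : ι → F.val.obj (op U))
    (h : ∀ (V : C) (g : V ⟶ U) (t : F.val.obj (op V)), ∃ S ∈ J V, ∀ (W : C) (h : W ⟶ V), S h →
      ∃ S' ∈ J W, ∀ (W' : C) (h' : W' ⟶ W), S' h' →
        ∃ a : ι → (ringSh O).obj.obj (op W'),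
          res O F (h' ≫ h) t = ∑ i, a i • res O F ((h' ≫ h) ≫ g) (s i)) :
    LocGen O F U s := by
  intro V g t
  obtain ⟨S, hS, hS'⟩ := h V g t
  choose T hT hT' using hS'
  refine ⟨Sieve.bind S T, J.bind_covering hS (fun _ _ hg => hT _ _ hg), ?_⟩
  rintro W' k ⟨W, a, b, hb, ha, rfl⟩
  exact hT' W b hb W' a ha

lemma LocGen.exists_fin (F : Mod O) (U : C) {ι : Type} [Fintype ι] (s : ι → F.val.obj (op U))
    (hs : LocGen O F U s) : ∃ (n : ℕ) (s' : Fin n → F.val.obj (op U)), LocGen O F U s' := by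
  classical
  let e := Fintype.equivFin ι
  refine ⟨Fintype.card ι, fun k => s (e.symm k), ?_⟩
  intro V g t
  obtain ⟨S, hS, hS'⟩ := hs V g t
  refine ⟨S, hS, fun W h hh => ?_⟩
  obtain ⟨a, ha⟩ := hS' W h hh
  refine ⟨fun k => a (e.symm k), ?_⟩
  rw [ha]
  exact (Equiv.sum_comp e.symm (fun i => a i • res O F (h ≫ g) (s i))).symm

lemma exists_preimage {S : ShortComplex (Mod O)} (hS : S.ShortExact) (V : C)
    (x : S.X₂.val.obj (op V)) (hx : S.g.val.app (op V) x = 0) :
    ∃ y : S.X₁.val.obj (op V), S.f.val.app (op V) y = x := by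
  have := hS.mono_f
  have h0 : ofSec O x ≫ S.g = 0 := by rw [ofSec_comp, hx, ofSec_zero]
  refine ⟨(hS.exact.lift (ofSec O x) h0).val.app (op V) (univ O V), ?_⟩
  have h1 := hS.exact.lift_f (ofSec O x) h0
  have h2 := congrArg (fun φ => φ.val.app (op V) (univ O V)) h1
  simp only [ofSec_univ] at h2
  exact h2

lemma finset_inf_mem {U : C} {ι : Type} (t : Finset ι) (T : ι → Sieve U)
    (hT : ∀ l, T l ∈ J U) : t.inf T ∈ J U := by
  classical
  induction t using Finset.induction_on with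
  | empty => simp
  | insert a t _ ih =>
    rw [Finset.inf_insert]
    exact J.intersection_covering (hT a) ih

lemma finset_inf_apply {U V : C} {ι : Type} (t : Finset ι) (T : ι → Sieve U) (k : V ⟶ U) :
    (t.inf T) k ↔ ∀ l ∈ t, T l k := by
  classical
  induction t using Finset.induction_on with
  | empty => simp
  | insert a t _ ih =>
    rw [Finset.inf_insert, Sieve.inter_apply, ih]
    simp

theorem ft_of_shortExact {S : ShortComplex (Mod O)} (hS : S.ShortExact)
    (h₁ : FT O S.X₁) (h₃ : FT O S.X₃) : FT O S.X₂ := by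
  classical
  apply ft_of_local
  intro W₀
  obtain ⟨S₁, hS₁, h₁'⟩ := h₁ W₀
  obtain ⟨S₃, hS₃, h₃'⟩ := h₃ W₀
  refine ⟨S₁ ⊓ S₃, J.intersection_covering hS₁ hS₃, ?_⟩
  intro U g hg
  obtain ⟨n, s, hs⟩ := h₁' U g hg.1
  obtain ⟨m, t, ht⟩ := h₃' U g hg.2
  have := hS.epi_g
  choose T hT hT' using fun l => exists_local_lift O S.g (t l)
  refine ⟨Finset.univ.inf T, finset_inf_mem _ T hT, ?_⟩
  intro V k hk
  rw [finset_inf_apply] at hk
  choose tl htl using fun l => hT' l V k (hk l (Finset.mem_univ l))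
  let σ : Fin n ⊕ Fin m → S.X₂.val.obj (op V) :=
    Sum.elim (fun i => S.f.val.app (op V) (res O S.X₁ k (s i))) tl
  apply LocGen.exists_fin O S.X₂ V σ
  apply locGen_of_local
  intro V' g' x
  obtain ⟨Sa, hSa, hSa'⟩ := ht V' (g' ≫ k) (S.g.val.app (op V') x)
  refine ⟨Sa, hSa, fun W h hh => ?_⟩
  obtain ⟨b, hb⟩ := hSa' W h hh
  -- the difference lies in the image of `S.f`
  let z : S.X₂.val.obj (op W) := res O S.X₂ h x - ∑ l, b l • res O S.X₂ (h ≫ g') (tl l)
  have hz : S.g.val.app (op W) z = 0 := by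
    simp only [z]
    rw [map_sub, app_res, hb, app_sum, sub_eq_zero]
    refine Finset.sum_congr rfl (fun l _ => ?_)
    rw [app_smul, app_res, htl, ← res_comp, Category.assoc]
  obtain ⟨y, hy⟩ := exists_preimage O hS W z hz
  obtain ⟨Sb, hSb, hSb'⟩ := hs W (h ≫ g' ≫ k) y
  refine ⟨Sb, hSb, fun W' h' hh' => ?_⟩
  obtain ⟨a, ha⟩ := hSb' W' h' hh'
  refine ⟨Sum.elim a (fun l => (ringSh O).obj.map h'.op (b l)), ?_⟩
  rw [Fintype.sum_sum_type]
  simp only [Sum.elim_inl, Sum.elim_inr, σ]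
  have hx : res O S.X₂ h x = S.f.val.app (op W) y + ∑ l, b l • res O S.X₂ (h ≫ g') (tl l) := by
    rw [hy]
    simp only [z]
    abel
  rw [res_comp, hx, res_add, ← app_res, ha, app_sum, res_sum]
  congr 1
  · refine Finset.sum_congr rfl (fun i _ => ?_)
    rw [app_smul, ← app_res, ← res_comp]
    simp only [Category.assoc]
  · refine Finset.sum_congr rfl (fun l _ => ?_)
    rw [res_smul, ← res_comp]
    simp only [Category.assoc]

theorem isFiniteType_of_shortExact {S : ShortComplex (Mod O)} (hS : S.ShortExact)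
    [SheafOfModules.IsFiniteType (R := ringSh O) S.X₁]
    [SheafOfModules.IsFiniteType (R := ringSh O) S.X₃] :
    SheafOfModules.IsFiniteType (R := ringSh O) S.X₂ :=
  isFiniteType_of_ft O _ (ft_of_shortExact O hS (ft_of_isFiniteType O S.X₁)
    (ft_of_isFiniteType O S.X₃))

end Groth.Agent.Lib.Helper45.FTDict
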