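import Mathlib

/-!
# ETAT for S6843: spreading out étaleness from a localization.
-/

set_option autoImplicit false
set_option linter.style.haveILetI false

universe u

namespace Groth.Agent.Lib.Helper45.SpreadETAT

theorem exists_etale_away {R : Type u} [CommRing R] (p : Ideal R) [p.IsPrime] (R'' : Type u)
    [CommRing R''] [Algebra (Localization.AtPrime p) R'']
    [Algebra.Etale (Localization.AtPrime p) R''] [Algebra R R'']
    [IsScalarTower R (Localization.AtPrime p) R''] (C : Type u) [CommRing C] [Algebra R C]
    [Algebra.FinitePresentation R C] [Algebra C R''] [IsScalarTower R C R'']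
    [IsLocalization (Algebra.algebraMapSubmonoid C p.primeCompl) R''] (m'' : Ideal R'')
    [m''.IsPrime] :
    ∃ h : C, algebraMap C R'' h ∉ m'' ∧ Algebra.Etale R (Localization.Away h) := by
  set q : Ideal C := m''.comap (algebraMap C R'') with hq
  haveI : q.IsPrime := Ideal.comap_isPrime _ _
  let W := Localization.AtPrime m''
  haveI hW : IsLocalization.AtPrime W q :=
    IsLocalization.isLocalization_isLocalization_atPrime_isLocalization
      (Algebra.algebraMapSubmonoid C p.primeCompl) W m''
  -- `W` is formally étale over `R`
  haveI h1 : Algebra.FormallyEtale R (Localization.AtPrime p) :=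
    Algebra.FormallyEtale.of_isLocalization p.primeCompl
  haveI h2 : Algebra.FormallyEtale R R'' :=
    Algebra.FormallyEtale.comp R (Localization.AtPrime p) R''
  haveI h3 : Algebra.FormallyEtale R'' W := Algebra.FormallyEtale.of_isLocalization m''.primeCompl
  haveI h4 : Algebra.FormallyEtale R W := Algebra.FormallyEtale.comp R R'' W
  let e : Localization.AtPrime q ≃ₐ[C] W :=
    IsLocalization.algEquiv q.primeCompl (Localization.AtPrime q) W
  haveI h5 : Algebra.IsEtaleAt R q :=
    Algebra.FormallyEtale.of_equiv (e.restrictScalars R).symm
  obtain ⟨f, hf, hEt⟩ := Algebra.exists_etale_of_isEtaleAt (R := R) q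
  exact ⟨f, fun h => hf h, hEt⟩

end Groth.Agent.Lib.Helper45.SpreadETAT
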