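import Mathlib
import Groth.Prelude.Def_ProCons
import Groth.Agent.Lib.Helper36.ProConsScheme
import Groth.Agent.Lib.Helper36.ProCons2

/-!
# K23 for S5326: a point of the complement of an ind-constructible set that is maximal
for specialization inside the complement.
-/

set_option autoImplicit false
set_option linter.style.haveILetI false

universe u

open CategoryTheory CategoryTheory.Limits AlgebraicGeometry

namespace Groth.Agent.Lib.Helper45.NeutRepK23

open Groth.Agent.Lib.Helper36 in
/-- A closed subset of a scheme is pro-constructible. -/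
theorem isProConstructible_of_isClosed (P : Scheme.{u}) {F : Set P} (hF : IsClosed F) :
    ProCons.IsProConstructible F := by
  apply isProConstructible_of_forall_exists_isClosed_up
  intro x
  obtain ⟨W, hW, hxW⟩ := scheme_exists_isGoodOpen P x
  haveI := hW.prespectralSpace
  exact ⟨W, hW, hxW, isClosed_up_of_isClosed (hF.preimage continuous_subtype_val)⟩

/-- The complement of an ind-constructible subset of a quasi-compact scheme is
quasi-compact for the Zariski topology. -/
theorem isCompact_compl (P : Scheme.{u}) [CompactSpace P] (E : Set P)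
    (hE : ProCons.IsIndConstructible E) : IsCompact Eᶜ := by
  rw [isCompact_iff_finite_subcover]
  intro ι U hU hcov
  have h1 : ⋂ i, (U i)ᶜ ⊆ E := by
    intro p hp
    by_contra hpE
    obtain ⟨i, hi⟩ := Set.mem_iUnion.1 (hcov hpE)
    exact (Set.mem_iInter.1 hp i) hi
  obtain ⟨J, hJ⟩ := Groth.Agent.Lib.Helper36.scheme_exists_finset_iInter_subset P hE
    (fun i => (U i)ᶜ) (fun i => isProConstructible_of_isClosed P (hU i).isClosed_compl) h1
  refine ⟨J, ?_⟩
  intro p hp
  by_contra hpU
  apply hp
  apply hJ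
  simp only [Set.mem_iInter, Set.mem_compl_iff]
  intro i hi hpi
  exact hpU (Set.mem_biUnion hi hpi)

theorem exists_maximal_not_mem (P : Scheme.{u}) [CompactSpace P] (E : Set P)
    (hE : ProCons.IsIndConstructible E) (hne : E ≠ Set.univ) :
    ∃ p₀ : P, p₀ ∉ E ∧ ∀ p : P, p₀ ⤳ p → p ∉ E → p = p₀ := by
  have hc : IsCompact Eᶜ := isCompact_compl P E hE
  haveI : CompactSpace ↥(Eᶜ : Set P) := isCompact_iff_compactSpace.1 hc
  haveI : Nonempty ↥(Eᶜ : Set P) := by
    obtain ⟨p, hp⟩ := (Set.ne_univ_iff_exists_notMem E).1 hne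
    exact ⟨⟨p, hp⟩⟩
  obtain ⟨q, -, hq⟩ := IsClosed.exists_closed_singleton (X := ↥(Eᶜ : Set P))
    isClosed_univ Set.univ_nonempty
  refine ⟨q.1, q.2, ?_⟩
  intro p hp hpE
  have h2 : q ⤳ (⟨p, hpE⟩ : ↥(Eᶜ : Set P)) := by
    exact (Topology.IsInducing.subtypeVal.specializes_iff).1 hp
  have h3 : (⟨p, hpE⟩ : ↥(Eᶜ : Set P)) ∈ closure ({q} : Set ↥(Eᶜ : Set P)) :=
    h2.mem_closure
  rw [hq.closure_eq] at h3
  exact congrArg Subtype.val (Set.mem_singleton_iff.1 h3)

end Groth.Agent.Lib.Helper45.NeutRepK23
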