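import Mathlib
import Groth.Agent.Lib.Helper85.ExtLoc

/-!
# L6 for helper24's S18639 (helper45)

`exists_smul_eq_zero_of_localization`: over a Noetherian ring, if the localization `C_p` has
injective dimension `< N` over `R_p`, then every class in `Ext^j_R(T, C)` (`T` finite, `j ≥ N`)
is killed by some `s ∉ p`.  Uses `Helper85.ExtLoc.main`.
-/

set_option autoImplicit false
set_option linter.style.haveILetI false
open CategoryTheory Abelian IsLocalRing
universe u

namespace Groth.Agent.Lib.Helper45.S18639L6

open Groth.Agent.Lib.Helper85.ExtLoc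

theorem exists_smul_eq_zero_of_localization {R : Type u} [CommRing R] [IsNoetherianRing R]
    (p : Ideal R) [p.IsPrime] (T C : Type u) [AddCommGroup T] [Module R T] [Module.Finite R T]
    [AddCommGroup C] [Module R C] (N : ℕ)
    (h : HasInjectiveDimensionLT (ModuleCat.of (Localization.AtPrime p)
      (LocalizedModule p.primeCompl C)) N) (j : ℕ) (hj : N ≤ j)
    (x : Ext.{u} (ModuleCat.of R T) (ModuleCat.of R C) j) : ∃ s ∈ p.primeCompl, s • x = 0 := by
  let e : (LF p.primeCompl).obj (ModuleCat.of R C) ≅
      ModuleCat.of (Localization.AtPrime p) (LocalizedModule p.primeCompl C) :=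
    (Shrink.linearEquiv (Localization p.primeCompl) (LocalizedModule p.primeCompl C)).toModuleIso
  haveI : HasInjectiveDimensionLT ((LF p.primeCompl).obj (ModuleCat.of R C)) N :=
    hasInjectiveDimensionLT_of_iso e.symm N
  have h0 : Φ p.primeCompl x = 0 := Ext.eq_zero_of_hasInjectiveDimensionLT _ N hj
  exact (main p.primeCompl j T (ModuleCat.of R C)).2 x h0

end Groth.Agent.Lib.Helper45.S18639L6
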