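import Groth.Agent.Lib.Helper45.ToposFin3
import Groth.Prelude.Def_ToposFin2

/-!
# Finiteness conditions in a sheaf topos, part 4 (helper45): generating sets, algebraic topoi
-/

set_option autoImplicit false
set_option backward.isDefEq.respectTransparency false
universe w w' v u

open CategoryTheory CategoryTheory.Limits Opposite

namespace Groth.Agent.Lib.Helper45

variable {C : Type u} [SmallCategory C] {J : GrothendieckTopology C}

lemma jEpi_iff_forall {ι : Type w} {X : ToposFin.Sh J} {F : ι → ToposFin.Sh J}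
    (π : ∀ i, F i ⟶ X) : JEpi π ↔
      ∀ (Z : ToposFin.Sh J) (a b : X ⟶ Z), (∀ i, π i ≫ a = π i ≫ b) → a = b :=
  ⟨fun h _ a b => h a b, fun h Z a b => h Z a b⟩

lemma exists_cover_of_isGenerating {S : Set (ToposFin.Sh J)} (hgen : ToposFin.IsGenerating S)
    (X : ToposFin.Sh J) : ∃ (ι : Type u) (F : ι → ToposFin.Sh J) (π : ∀ i, F i ⟶ X),
      (∀ i, F i ∈ S) ∧ JEpi π := by
  obtain ⟨ι, F, π, hF, hπ⟩ := hgen X
  exact ⟨ι, F, π, hF, (jEpi_iff_forall π).2 hπ⟩

lemma hasQCGenerators_of_isGenerating {S : Set (ToposFin.Sh J)}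
    (hqc : ∀ K ∈ S, ToposFin.IsQC K) (hgen : ToposFin.IsGenerating S) :
    ToposFin.HasQCGenerators J := by
  intro X
  obtain ⟨ι, F, π, hF, hπ⟩ := exists_cover_of_isGenerating hgen X
  exact ⟨ι, F, π, fun i => hqc _ (hF i), (epi_desc_iff π).2 hπ⟩

/-- finite cover of a quasi-compact object by members of a generating set. -/
lemma exists_finite_cover_of_isGenerating {S : Set (ToposFin.Sh J)}
    (hgen : ToposFin.IsGenerating S) {X : ToposFin.Sh J} (hX : ToposFin.IsQC X) :
    ∃ (κ : Type u) (_ : Finite κ) (F : κ → ToposFin.Sh J) (π : ∀ k, F k ⟶ X),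
      (∀ k, F k ∈ S) ∧ JEpi π := by
  obtain ⟨ι, F, π, hF, hπ⟩ := exists_cover_of_isGenerating hgen X
  obtain ⟨s, hs⟩ := (isQC_iff X).1 hX _ _ _ hπ
  exact ⟨s, inferInstance, fun k => F k, fun k => π k, fun k => hF k, hs⟩

/-- reduce quasi-compactness of fibre products to members of a generating set. -/
lemma isQC_pullback_of_isGenerating {S : Set (ToposFin.Sh J)} (hgen : ToposFin.IsGenerating S)
    {A B Y : ToposFin.Sh J} (hA : ToposFin.IsQC A) (hB : ToposFin.IsQC B) (a : A ⟶ Y) (b : B ⟶ Y)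
    (h : ∀ (A' B' : ToposFin.Sh J) (a' : A' ⟶ Y) (b' : B' ⟶ Y), A' ∈ S → B' ∈ S →
      ToposFin.IsQC (pullback a' b')) : ToposFin.IsQC (pullback a b) := by
  obtain ⟨κ, hκ, F, π, hF, hπ⟩ := exists_finite_cover_of_isGenerating hgen hA
  obtain ⟨μ, hμ, G, ρ, hG, hρ⟩ := exists_finite_cover_of_isGenerating hgen hB
  exact isQC_pullback_of_finite_covers a b π ρ hπ hρ fun k l => h _ _ _ _ (hF k) (hG l)

/-- members of a generating set of quasi-compact objects stable under fibre products are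
quasi-separated. -/
lemma isQS_of_mem_of_closedUnderPullbacks {S : Set (ToposFin.Sh J)}
    (hqc : ∀ K ∈ S, ToposFin.IsQC K) (hgen : ToposFin.IsGenerating S)
    (hpb : ToposFin.ClosedUnderPullbacks S) {K : ToposFin.Sh J} (hK : K ∈ S) :
    ToposFin.IsQS K := by
  intro A B a b hA hB
  refine isQC_pullback_of_isGenerating hgen hA hB a b fun A' B' a' b' hA' hB' => ?_
  obtain ⟨P, p, q, hP, sq⟩ := hpb a' b' hA' hB' hK
  exact isQC_of_iso sq.isoPullback (hqc P hP)

lemma isCoherent_of_mem_of_closedUnderPullbacks {S : Set (ToposFin.Sh J)}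
    (hqc : ∀ K ∈ S, ToposFin.IsQC K) (hgen : ToposFin.IsGenerating S)
    (hpb : ToposFin.ClosedUnderPullbacks S) {K : ToposFin.Sh J} (hK : K ∈ S) :
    ToposFin.IsCoherent K :=
  ⟨hqc K hK, isQS_of_mem_of_closedUnderPullbacks hqc hgen hpb hK⟩

/-- In an algebraic topos the product of two members of the generating set is quasi-separated. -/
lemma isQS_prod_of_mem {S : Set (ToposFin.Sh J)}
    (hqc : ∀ K ∈ S, ToposFin.IsQC K) (hgen : ToposFin.IsGenerating S)
    (hpb : ToposFin.ClosedUnderPullbacks S) (heq : ToposFin.ClosedUnderEqualizers S)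
    {K L : ToposFin.Sh J} (hK : K ∈ S) (hL : L ∈ S) : ToposFin.IsQS (K ⨯ L) := by
  intro A B a b hA hB
  refine isQC_pullback_of_isGenerating hgen hA hB a b fun A' B' a' b' hA' hB' => ?_
  obtain ⟨P, p, q, hP, sq⟩ := hpb (a' ≫ prod.fst) (b' ≫ prod.fst) hA' hB' hK
  obtain ⟨E, e, w, hE, ⟨hlim⟩⟩ := heq (p ≫ a' ≫ prod.snd) (q ≫ b' ≫ prod.snd) hP hL
  have hl : ∀ {W : ToposFin.Sh J} (k : W ⟶ P) (hk : k ≫ p ≫ a' ≫ prod.snd = k ≫ q ≫ b' ≫ prod.snd),
      Fork.IsLimit.lift hlim k hk ≫ e = k := fun k hk => Fork.IsLimit.lift_ι' hlim k hk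
  have sq' : IsPullback (e ≫ p) (e ≫ q) a' b' := by
    refine ⟨⟨?_⟩, ⟨PullbackCone.IsLimit.mk _ (fun s => Fork.IsLimit.lift hlim
      (sq.lift s.fst s.snd (by rw [← Category.assoc, s.condition, Category.assoc])) ?_) ?_ ?_ ?_⟩⟩
    · apply Limits.prod.hom_ext
      · simpa using e ≫= sq.w
      · simpa using w
    · have h1 : sq.lift s.fst s.snd (by rw [← Category.assoc, s.condition, Category.assoc]) ≫ p =
        s.fst := sq.lift_fst _ _ _
      have h2 : sq.lift s.fst s.snd (by rw [← Category.assoc, s.condition, Category.assoc]) ≫ q =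
        s.snd := sq.lift_snd _ _ _
      rw [reassoc_of% h1, reassoc_of% h2, reassoc_of% s.condition]
    · intro s
      rw [← Category.assoc, hl]
      exact sq.lift_fst _ _ _
    · intro s
      rw [← Category.assoc, hl]
      exact sq.lift_snd _ _ _
    · intro s m h1 h2
      apply Fork.IsLimit.hom_ext hlim
      change _ ≫ e = _ ≫ e
      rw [hl]
      apply sq.hom_ext
      · simpa using h1
      · simpa using h2
  exact isQC_of_iso sq'.isoPullback (hqc E hE)

/-- In an algebraic topos every morphism with quasi-separated source is quasi-separated. -/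
lemma isQSHom_of_isQS_of_isAlgebraic (hE : ToposFin.IsAlgebraic J) {X Y : ToposFin.Sh J}
    (f : X ⟶ Y) (hX : ToposFin.IsQS X) : ToposFin.IsQSHom f := by
  obtain ⟨S, hqc, hgen, hpb, heq⟩ := hE
  obtain ⟨ι, F, π, hF, hπ⟩ := exists_cover_of_isGenerating hgen X
  refine isQSHom_of_cover_with_qs_products (hasQCGenerators_of_isGenerating hqc hgen) f F π hπ
    (fun i => hqc _ (hF i)) (fun i j => ?_) hX
  have : Mono (prod.lift (pullback.fst (π i ≫ f) (π j ≫ f)) (pullback.snd (π i ≫ f) (π j ≫ f))) := by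
    refine ⟨fun {W} x y hxy => ?_⟩
    have h1 := congrArg (fun t => t ≫ prod.fst) hxy
    have h2 := congrArg (fun t => t ≫ prod.snd) hxy
    simp only [Category.assoc, prod.lift_fst, prod.lift_snd] at h1 h2
    exact pullback.hom_ext h1 h2
  exact isQS_of_mono (prod.lift (pullback.fst (π i ≫ f) (π j ≫ f))
    (pullback.snd (π i ≫ f) (π j ≫ f))) (isQS_prod_of_mem hqc hgen hpb heq (hF i) (hF j))

lemma hasQCGenerators_of_isAlgebraic (hE : ToposFin.IsAlgebraic J) :
    ToposFin.HasQCGenerators J := by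
  obtain ⟨S, hqc, hgen, -, -⟩ := hE
  exact hasQCGenerators_of_isGenerating hqc hgen

/-- the source of a quasi-compact morphism with quasi-compact target is quasi-compact. -/
lemma isQC_of_isQCHom {X Y : ToposFin.Sh J} (f : X ⟶ Y) (hf : ToposFin.IsQCHom f)
    (hY : ToposFin.IsQC Y) : ToposFin.IsQC X :=
  isQC_of_iso (asIso (pullback.fst f (𝟙 Y))) (hf Y (𝟙 Y) hY)

lemma isQS_of_isQSHom_of_isQS {X Y : ToposFin.Sh J} (f : X ⟶ Y) (hf : ToposFin.IsQSHom f)
    (hY : ToposFin.IsQS Y) : ToposFin.IsQS X := by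
  intro A B a b hA hB
  have h1 : ToposFin.IsQC (pullback (a ≫ f) (b ≫ f)) := hY A B _ _ hA hB
  have h2 := hf _ (pullback.map (a ≫ f) (b ≫ f) f f a b (𝟙 _) (by simp) (by simp)) h1
  exact isQC_of_iso (pullbackDiagonalMapIdIso a b f) h2

end Groth.Agent.Lib.Helper45
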