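import Groth.Agent.Lib.Helper45.ToposFin10

/-!
# Finiteness conditions in a sheaf topos, part 11 (helper45): coproducts, quasi-compactness
-/

set_option autoImplicit false
set_option backward.isDefEq.respectTransparency false
universe w w' v u

open CategoryTheory CategoryTheory.Limits Opposite

namespace Groth.Agent.Lib.Helper45

variable {C : Type u} [SmallCategory C] {J : GrothendieckTopology C}

/-- reindex a cofan over `Fin n` to the universe of the site. -/
noncomputable def ulCofan {n : ℕ} {X : Fin n → ToposFin.Sh J} (c : Cofan X) :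
    Cofan (fun k : ULift.{u} (Fin n) => X k.down) :=
  Cofan.mk c.pt (fun k => c.inj k.down)

noncomputable def ulCofanIsColimit {n : ℕ} {X : Fin n → ToposFin.Sh J} (c : Cofan X)
    (hc : IsColimit c) : IsColimit (ulCofan c) :=
  Cofan.IsColimit.mk _ (fun s => Cofan.IsColimit.desc hc (fun k => s.inj ⟨k⟩))
    (fun s k => by simp [ulCofan])
    (fun s m hm => Cofan.IsColimit.hom_ext hc _ _ fun k => by
      simpa [ulCofan] using hm ⟨k⟩)

lemma isQCHom_cofan_inj_fin {n : ℕ} {X : Fin n → ToposFin.Sh J} (c : Cofan X) (hc : IsColimit c)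
    (i : Fin n) : ToposFin.IsQCHom (c.inj i) :=
  isQCHom_cofan_inj (ulCofan c) (ulCofanIsColimit c hc) ⟨i⟩

lemma isQSHom_cofan_desc_iff_fin {Y : ToposFin.Sh J} {n : ℕ} (X : Fin n → ToposFin.Sh J)
    (c : Cofan X) (hc : IsColimit c) (f : c.pt ⟶ Y) :
    ToposFin.IsQSHom f ↔ ∀ i, ToposFin.IsQSHom (c.inj i ≫ f) := by
  have h := isQSHom_cofan_desc_iff _ (ulCofan c) (ulCofanIsColimit c hc) f
  exact h.trans ⟨fun h i => h ⟨i⟩, fun h i => h i.down⟩

lemma isQCHom_cofan_desc_iff_fin {Y : ToposFin.Sh J} {n : ℕ} (X : Fin n → ToposFin.Sh J)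
    (c : Cofan X) (hc : IsColimit c) (f : c.pt ⟶ Y) :
    ToposFin.IsQCHom f ↔ ∀ i, ToposFin.IsQCHom (c.inj i ≫ f) :=
  ⟨fun hf i => isQCHom_comp (isQCHom_cofan_inj_fin c hc i) hf,
    fun h => isQCHom_of_finite_cover_of_source f c.inj (jEpi_cofan_inj c hc) h⟩

/-- S3074 (2). -/
lemma isQS_sigma_iff {ι : Type u} (F : ι → ToposFin.Sh J) :
    ToposFin.IsQS (∐ F) ↔ ∀ i, ToposFin.IsQS (F i) := by
  have hc : IsColimit (Cofan.mk (∐ F) (Sigma.ι F)) := coproductIsCoproduct F
  constructor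
  · intro h i
    have := mono_cofan_inj _ hc i
    exact isQS_of_mono (Sigma.ι F i) h
  · intro h
    exact isQS_of_qs_cover_qc_maps (Sigma.ι F) (jEpi_cofan_inj _ hc) h
      fun i => isQCHom_cofan_inj _ hc i

/-- S3058. -/
lemma isQC_sigma_iff {ι : Type u} (F : ι → ToposFin.Sh J) :
    ToposFin.IsQC (∐ F) ↔
      (∀ i, ToposFin.IsQC (F i)) ∧ {i | IsEmpty (F i ≅ ⊥_ (ToposFin.Sh J))}.Finite := by
  classical
  have hc : IsColimit (Cofan.mk (∐ F) (Sigma.ι F)) := coproductIsCoproduct F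
  have hJE : JEpi (Sigma.ι F) := jEpi_cofan_inj _ hc
  constructor
  · intro h
    refine ⟨fun i => ?_, ?_⟩
    · have := isQCHom_cofan_inj _ hc i (∐ F) (𝟙 _) h
      exact isQC_of_iso (asIso (pullback.fst (Sigma.ι F i) (𝟙 (∐ F)))) this
    · obtain ⟨s, hs⟩ := (isQC_iff _).1 h _ _ _ hJE
      refine Set.Finite.subset s.finite_toSet fun i hi => ?_
      by_contra his
      apply hi.false
      -- `F i` is empty
      have hE : IsEmptyObj (F i) := by
        intro Z a b
        refine (hs.pullback_snd (Sigma.ι F i)) a b fun j => ?_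
        have hij : (j : ι) ≠ i := fun h => his (h ▸ j.2)
        exact isEmptyObj_of_disjoint _ hc hij (pullback.fst _ _) (pullback.snd _ _)
          pullback.condition _ _
      exact hE.nonempty_iso.some
  · rintro ⟨hqc, hfin⟩
    have : Finite {i | IsEmpty (F i ≅ ⊥_ (ToposFin.Sh J))} := hfin
    refine isQC_of_finite_cover
      (fun i : {i | IsEmpty (F i ≅ ⊥_ (ToposFin.Sh J))} => Sigma.ι F i) ?_ fun i => hqc i
    intro Z a b hab
    refine hJE a b fun i => ?_
    by_cases hi : IsEmpty (F i ≅ ⊥_ (ToposFin.Sh J))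
    · exact hab ⟨i, hi⟩
    · rw [not_isEmpty_iff] at hi
      obtain ⟨e⟩ := hi
      exact (IsInitial.ofIso initialIsInitial e.symm).hom_ext _ _

end Groth.Agent.Lib.Helper45
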