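import Groth.Agent.Lib.Helper45.ToposFP2
import Groth.Agent.Lib.Helper45.ToposFin11
import Mathlib.CategoryTheory.Sites.RegularEpi

/-!
# Coherent objects are finitely presentable (in a sheaf topos with quasi-compact generators)
-/

set_option autoImplicit false
set_option linter.style.haveILetI false
set_option linter.unusedSectionVars false

universe u

open CategoryTheory CategoryTheory.Limits Opposite

namespace Groth.Agent.Lib.Helper45.ToposFP

open Groth.Agent.Lib.Helper45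

variable {C : Type u} [SmallCategory C] {J : GrothendieckTopology C}

/-- Descent of a morphism along an epimorphism of sheaves of sets. -/
lemma exists_desc_of_epi {G X W : ToposFin.Sh J} (g : G ⟶ X) [Epi g] (e : G ⟶ W)
    (h : pullback.fst g g ≫ e = pullback.snd g g ≫ e) : ∃ m : X ⟶ W, g ≫ m = e := by
  haveI : EffectiveEpi g :=
    (isRegularEpi_iff_effectiveEpi g).1 (IsRegularEpiCategory.regularEpiOfEpi g)
  have hh : ∀ {Z : ToposFin.Sh J} (g₁ g₂ : Z ⟶ G), g₁ ≫ g = g₂ ≫ g → g₁ ≫ e = g₂ ≫ e := by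
    intro Z g₁ g₂ hg
    have h1 : pullback.lift g₁ g₂ hg ≫ pullback.fst g g = g₁ := pullback.lift_fst _ _ _
    have h2 : pullback.lift g₁ g₂ hg ≫ pullback.snd g g = g₂ := pullback.lift_snd _ _ _
    calc g₁ ≫ e = (pullback.lift g₁ g₂ hg ≫ pullback.fst g g) ≫ e := by rw [h1]
      _ = (pullback.lift g₁ g₂ hg ≫ pullback.snd g g) ≫ e := by
        rw [Category.assoc, Category.assoc, h]
      _ = g₂ ≫ e := by rw [h2]
  exact ⟨EffectiveEpi.desc g e hh, EffectiveEpi.fac g e hh⟩

lemma jEpi_sigma_ι {κ : Type u} (T : κ → ToposFin.Sh J) :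
    JEpi (fun k => Sigma.ι T k) := by
  intro Z a b hab
  exact Sigma.hom_ext _ _ hab

lemma exists_common_target {I : Type u} [SmallCategory I] [IsFiltered I] {κ : Type u} [Finite κ]
    (i : κ → I) : ∃ k₀ : I, ∀ k, Nonempty (i k ⟶ k₀) := by
  classical
  have := Fintype.ofFinite κ
  obtain ⟨S, hS⟩ := IsFiltered.sup_objs_exists (Finset.univ.image i)
  exact ⟨S, fun k => hS (Finset.mem_image_of_mem i (Finset.mem_univ k))⟩

variable {I : Type u} [SmallCategory I] [IsFiltered I] (D : I ⥤ ToposFin.Sh J)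

theorem exists_factor_of_isCoherent (hE : ToposFin.HasQCGenerators J) {X : ToposFin.Sh J}
    (hX : ToposFin.IsCoherent X) (φ : X ⟶ colimit D) :
    ∃ (k : I) (ψ : X ⟶ D.obj k), ψ ≫ colimit.ι D k = φ := by
  have hι : JEpi (fun k => colimit.ι D k) := by
    intro Z a b hab
    exact colimit.hom_ext hab
  obtain ⟨κ, hκ, T, τ, i, y, hT, hτ, hy⟩ :=
    exists_finite_qc_refinement hE hX.1 φ (fun k => colimit.ι D k) hι
  haveI := hκ
  obtain ⟨k₀, hk₀⟩ := exists_common_target i
  let t : ∀ k, i k ⟶ k₀ := fun k => (hk₀ k).some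
  let G : ToposFin.Sh J := ∐ T
  let g : G ⟶ X := Sigma.desc τ
  haveI : Epi g := (epi_desc_iff τ).2 hτ
  let ψ₀ : G ⟶ D.obj k₀ := Sigma.desc (fun k => y k ≫ D.map (t k))
  have hψ₀ : ψ₀ ≫ colimit.ι D k₀ = g ≫ φ := by
    apply Sigma.hom_ext
    intro k
    simp only [ψ₀, g, colimit.ι_desc_assoc, Cofan.mk_ι_app, Category.assoc, colimit.w, hy k]
  have hG : ToposFin.IsQC G :=
    isQC_of_finite_cover (fun k => Sigma.ι T k) (jEpi_sigma_ι T) hT
  have hR : ToposFin.IsQC (pullback g g) := hX.2 G G g g hG hG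
  have hRR : (pullback.fst g g ≫ ψ₀) ≫ colimit.ι D k₀ = (pullback.snd g g ≫ ψ₀) ≫ colimit.ι D k₀ := by
    rw [Category.assoc, Category.assoc, hψ₀, ← Category.assoc, ← Category.assoc, pullback.condition]
  obtain ⟨k', c, hc⟩ := exists_eq_of_isQC D hR _ _ hRR
  obtain ⟨m, hm⟩ := exists_desc_of_epi g (ψ₀ ≫ D.map c)
    (by simpa only [Category.assoc] using hc)
  refine ⟨k', m, ?_⟩
  rw [← cancel_epi g, ← Category.assoc, hm, Category.assoc, colimit.w, hψ₀]

theorem post_bijective_of_isCoherent (hE : ToposFin.HasQCGenerators J) {X : ToposFin.Sh J}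
    (hX : ToposFin.IsCoherent X) :
    Function.Bijective (colimit.post D (coyoneda.obj (op X))) := by
  refine ⟨post_injective_of_isQC D hX.1, fun φ => ?_⟩
  obtain ⟨k, ψ, hψ⟩ := exists_factor_of_isCoherent D hE hX φ
  refine ⟨colimit.ι (D ⋙ coyoneda.obj (op X)) k ψ, ?_⟩
  exact (ConcreteCategory.congr_hom (colimit.ι_post D (coyoneda.obj (op X)) k) ψ).trans hψ

end Groth.Agent.Lib.Helper45.ToposFP
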