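import Groth.Agent.Lib.Helper45.CanTop6

/-!
# The canonical functor from a small site to its sheaf topos (helper45)

`epsF J = yoneda ⋙ presheafToSheaf J (Type u)`; covering families become jointly epimorphic
(`jEpi_epsMap_of_ofArrows_mem`); for subcanonical `J` it is fully faithful and sections of
`eps J X` over `V` are morphisms `V ⟶ X` (`secOf`, `exists_secOf_eq`, `secOf_injective`);
sectionwise equivalence relations are equivalence relations of the topos
(`isEquivRel_of_secRel`), and `isEquivRel_epsMap`.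
-/

set_option autoImplicit false
set_option backward.isDefEq.respectTransparency false
universe w w' v u

open CategoryTheory CategoryTheory.Limits Opposite

namespace Groth.Agent.Lib.Helper45

variable {C : Type u} [SmallCategory C] {J : GrothendieckTopology C}

variable (J) in
/-- the canonical functor from the site to the sheaf topos. -/
noncomputable abbrev epsF : C ⥤ ToposFin.Sh J := yoneda ⋙ presheafToSheaf J (Type u)

lemma epsF_map {V X : C} (f : V ⟶ X) : (epsF J).map f = epsMap J f := (epsMap_eq f).symm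

lemma epsMap_comp {V X X' : C} (f : V ⟶ X) (g : X ⟶ X') :
    epsMap J (f ≫ g) = epsMap J f ≫ epsMap J g := by
  rw [← epsF_map, ← epsF_map, ← epsF_map, Functor.map_comp]

/-- the section of `eps J X` over `V` attached to `f : V ⟶ X`. -/
noncomputable def secOf {V X : C} (f : V ⟶ X) : (ToposFin.eps J X).obj.obj (op V) :=
  (ToposFin.eps J X).obj.map f.op (etaSec J X)

lemma secMap_secOf {V X : C} (f : V ⟶ X) : secMap (secOf (J := J) f) = epsMap J f := rfl

lemma epsMap_app_secOf {V X X' : C} (f : V ⟶ X) (g : X ⟶ X') :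
    (epsMap J g).hom.app (op V) (secOf f) = secOf (f ≫ g) := by
  have h1 : (epsMap J g).hom.app (op V) (secOf f) =
      (epsMap J f ≫ epsMap J g).hom.app (op V) (etaSec J V) := by
    change _ = (epsMap J g).hom.app (op V) ((epsMap J f).hom.app (op V) (etaSec J V))
    rw [epsMap_app_etaSec]
    rfl
  rw [h1, ← epsMap_comp, epsMap_app_etaSec]
  rfl

lemma secOf_restrict {V W X : C} (f : V ⟶ X) (g : W ⟶ V) :
    (ToposFin.eps J X).obj.map g.op (secOf f) = secOf (J := J) (g ≫ f) := by
  rw [secOf, secOf, restrict_restrict]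

/-- a family generating a covering sieve becomes jointly epimorphic in the sheaf topos. -/
lemma jEpi_epsMap_of_ofArrows_mem {ι : Type w} {X : C} {Y : ι → C} (s : ∀ i, Y i ⟶ X)
    (h : Sieve.ofArrows Y s ∈ J X) : JEpi (fun i => epsMap J (s i)) := by
  intro Z a b hab
  apply jEpi_epsMap_of_covering _ h
  rintro ⟨V, f, hf⟩
  obtain ⟨i, k, rfl⟩ := (Sieve.mem_ofArrows_iff Y s f).1 hf
  change epsMap J (k ≫ s i) ≫ a = epsMap J (k ≫ s i) ≫ b
  rw [epsMap_comp, Category.assoc, Category.assoc, hab i]

lemma epi_epsMap_of_generate_singleton_mem {X Y : C} (f : Y ⟶ X)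
    (h : Sieve.generate (Presieve.singleton f) ∈ J X) : Epi (epsMap J f) := by
  have h' : Sieve.ofArrows (fun _ : PUnit.{1} => Y) (fun _ => f) ∈ J X := by
    convert h using 1
    rw [Sieve.ofArrows, Presieve.ofArrows_pUnit]
  have := jEpi_epsMap_of_ofArrows_mem _ h'
  exact epi_of_jEpi_punit _ this

section Subcanonical

variable [J.Subcanonical]

variable (J) in
/-- for a subcanonical topology the canonical functor is the Yoneda embedding into sheaves. -/
noncomputable def epsFIso : epsF J ≅ J.yoneda :=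
  Functor.isoWhiskerRight J.yonedaCompSheafToPresheaf.symm (presheafToSheaf J (Type u)) ≪≫
    Functor.associator _ _ _ ≪≫
    Functor.isoWhiskerLeft J.yoneda (asIso (sheafificationAdjunction J (Type u)).counit) ≪≫
    Functor.rightUnitor _

instance : (epsF J).Full := Functor.Full.of_iso (epsFIso J).symm

instance : (epsF J).Faithful := Functor.Faithful.of_iso (epsFIso J).symm

lemma epsMap_injective {V X : C} {f g : V ⟶ X} (h : epsMap J f = epsMap J g) : f = g := by
  apply (epsF J).map_injective
  rw [epsF_map, epsF_map, h]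

lemma exists_epsMap_eq {V X : C} (φ : ToposFin.eps J V ⟶ ToposFin.eps J X) :
    ∃ f : V ⟶ X, epsMap J f = φ := by
  obtain ⟨f, hf⟩ := (epsF J).map_surjective φ
  exact ⟨f, by rw [← epsF_map, hf]⟩

lemma secOf_injective {V X : C} {f g : V ⟶ X} (h : secOf (J := J) f = secOf g) : f = g := by
  apply epsMap_injective (J := J)
  rw [← secMap_secOf, ← secMap_secOf, h]

lemma exists_secOf_eq {V X : C} (x : (ToposFin.eps J X).obj.obj (op V)) :
    ∃ f : V ⟶ X, secOf f = x := by
  obtain ⟨f, hf⟩ := exists_epsMap_eq (secMap x)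
  refine ⟨f, ?_⟩
  have := congrArg (fun t => t.hom.app (op V) (etaSec J V)) hf
  simp only [secMap_app_etaSec] at this
  rw [← this, epsMap_app_etaSec]
  rfl

end Subcanonical


section SecRel

variable {R A : ToposFin.Sh J} {p₁ p₂ : R ⟶ A}
  (hinj : ∀ (V : Cᵒᵖ) (ρ ρ' : R.obj.obj V), p₁.hom.app V ρ = p₁.hom.app V ρ' →
    p₂.hom.app V ρ = p₂.hom.app V ρ' → ρ = ρ')

include hinj in
/-- a pair of morphisms which is sectionwise related lifts to the relation. -/
lemma exists_lift_of_secRel {T : ToposFin.Sh J} (a b : T ⟶ A)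
    (h : ∀ (V : Cᵒᵖ) (t : T.obj.obj V), secRel p₁ p₂ V (a.hom.app V t) (b.hom.app V t)) :
    ∃ f : T ⟶ R, f ≫ p₁ = a ∧ f ≫ p₂ = b := by
  choose ρ hρ1 hρ2 using h
  refine ⟨ObjectProperty.homMk
    { app := fun V => TypeCat.ofHom (fun t => ρ V t)
      naturality := ?_ }, ?_, ?_⟩
  · intro V W φ
    ext t
    change ρ W (T.obj.map φ t) = R.obj.map φ (ρ V t)
    apply hinj
    · rw [hρ1]
      have n1 := ConcreteCategory.congr_hom (p₁.hom.naturality φ) (ρ V t)
      have n2 := ConcreteCategory.congr_hom (a.hom.naturality φ) t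
      simp only [types_comp_apply] at n1 n2
      rw [n1, hρ1, n2]
    · rw [hρ2]
      have n1 := ConcreteCategory.congr_hom (p₂.hom.naturality φ) (ρ V t)
      have n2 := ConcreteCategory.congr_hom (b.hom.naturality φ) t
      simp only [types_comp_apply] at n1 n2
      rw [n1, hρ2, n2]
  · apply Sheaf.hom_ext
    ext V t
    exact hρ1 V t
  · apply Sheaf.hom_ext
    ext V t
    exact hρ2 V t

include hinj in
/-- a sectionwise equivalence relation is an equivalence relation of the topos. -/
lemma isEquivRel_of_secRel (heq : ∀ V : Cᵒᵖ, Equivalence (secRel p₁ p₂ V)) :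
    SGA4.IsEquivRel p₁ p₂ := by
  intro T
  have key : ∀ a b : T ⟶ A, (∃ f : T ⟶ R, f ≫ p₁ = a ∧ f ≫ p₂ = b) ↔
      ∀ (V : Cᵒᵖ) (t : T.obj.obj V), secRel p₁ p₂ V (a.hom.app V t) (b.hom.app V t) := by
    intro a b
    constructor
    · rintro ⟨f, rfl, rfl⟩ V t
      exact ⟨f.hom.app V t, rfl, rfl⟩
    · exact exists_lift_of_secRel hinj a b
  constructor
  · intro f g hfg
    simp only [Prod.mk.injEq] at hfg
    apply Sheaf.hom_ext
    ext V t
    apply hinj
    · exact congrArg (fun k => k.hom.app V t) hfg.1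
    · exact congrArg (fun k => k.hom.app V t) hfg.2
  · refine ⟨fun a => (key a a).2 fun V t => (heq V).refl _,
      fun {a b} hab => (key b a).2 fun V t => (heq V).symm ((key a b).1 hab V t),
      fun {a b c} hab hbc => (key a c).2 fun V t =>
        (heq V).trans ((key a b).1 hab V t) ((key b c).1 hbc V t)⟩

end SecRel

/-- for a subcanonical topology, the canonical functor preserves equivalence relations. -/
lemma isEquivRel_epsMap [J.Subcanonical] {R X : C} {p₁ p₂ : R ⟶ X}
    (hR : SGA4.IsEquivRel p₁ p₂) : SGA4.IsEquivRel (epsMap J p₁) (epsMap J p₂) := by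
  have key : ∀ (V : C) (α α' : V ⟶ X),
      secRel (epsMap J p₁) (epsMap J p₂) (op V) (secOf α) (secOf α') ↔
        ∃ r : V ⟶ R, r ≫ p₁ = α ∧ r ≫ p₂ = α' := by
    intro V α α'
    constructor
    · rintro ⟨ρ, h1, h2⟩
      obtain ⟨r, rfl⟩ := exists_secOf_eq ρ
      rw [epsMap_app_secOf] at h1 h2
      exact ⟨r, secOf_injective h1, secOf_injective h2⟩
    · rintro ⟨r, rfl, rfl⟩
      exact ⟨secOf r, epsMap_app_secOf _ _, epsMap_app_secOf _ _⟩
  apply isEquivRel_of_secRel
  · rintro ⟨V⟩ ρ ρ' h1 h2
    obtain ⟨r, rfl⟩ := exists_secOf_eq ρ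
    obtain ⟨r', rfl⟩ := exists_secOf_eq ρ'
    rw [epsMap_app_secOf, epsMap_app_secOf] at h1 h2
    have : r = r' := by
      apply (hR V).1
      simp only [Prod.mk.injEq]
      exact ⟨secOf_injective h1, secOf_injective h2⟩
    rw [this]
  · rintro ⟨V⟩
    have hV := (hR V).2
    refine ⟨fun a => ?_, fun {a b} hab => ?_, fun {a b c} hab hbc => ?_⟩
    · obtain ⟨α, rfl⟩ := exists_secOf_eq a
      exact (key V α α).2 (hV.refl α)
    · obtain ⟨α, rfl⟩ := exists_secOf_eq a
      obtain ⟨β, rfl⟩ := exists_secOf_eq b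
      exact (key V β α).2 (hV.symm ((key V α β).1 hab))
    · obtain ⟨α, rfl⟩ := exists_secOf_eq a
      obtain ⟨β, rfl⟩ := exists_secOf_eq b
      obtain ⟨γ, rfl⟩ := exists_secOf_eq c
      exact (key V α γ).2 (hV.trans ((key V α β).1 hab) ((key V β γ).1 hbc))

end Groth.Agent.Lib.Helper45
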