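import Groth.Agent.Lib.Helper45.CanTop1

/-!
# The canonical topology of a sheaf topos, part 2 (helper45)

Gluing morphisms along a jointly epimorphic sieve (`glueHom`, `glueHom_fac`, `glueHom_unique`),
`isSheaf_yoneda_epiTop`, `epiTop_eq_canonical`, `mem_canonical_iff_jEpi`.
-/

set_option autoImplicit false
set_option backward.isDefEq.respectTransparency false
universe w w' v u

open CategoryTheory CategoryTheory.Limits Opposite

namespace Groth.Agent.Lib.Helper45

variable {C : Type u} [SmallCategory C] {J : GrothendieckTopology C}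

section Glue

variable {X Z : ToposFin.Sh J} (S : Sieve X)
  (t : ∀ ⦃A : ToposFin.Sh J⦄ (g : A ⟶ X), S g → (A ⟶ Z))
  (ht : ∀ ⦃A B : ToposFin.Sh J⦄ (g : A ⟶ X) (hg : S g) (k : B ⟶ A),
    t (k ≫ g) (S.downward_closed hg k) = k ≫ t g hg)

omit ht in
lemma glue_congr {A : ToposFin.Sh J} {g₁ g₂ : A ⟶ X} (h : g₁ = g₂) (h₁ : S g₁) (h₂ : S g₂) :
    t g₁ h₁ = t g₂ h₂ := by
  subst h
  rfl

/-- the local values of the glued morphism on a section. -/
noncomputable def glueFam {U : C} (x : X.obj.obj (op U)) :
    Presieve.FamilyOfElements Z.obj (secSieve S x).arrows :=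
  fun V f hf => (t (secMap (X.obj.map f.op x)) hf).hom.app (op V) (etaSec J V)

include ht in
lemma glueFam_compatible {U : C} (x : X.obj.obj (op U)) : (glueFam S t x).Compatible := by
  rw [Presieve.compatible_iff_sieveCompatible]
  intro V W f g hf
  change (t (secMap (X.obj.map (g ≫ f).op x)) _).hom.app (op W) (etaSec J W) =
    Z.obj.map g.op ((t (secMap (X.obj.map f.op x)) hf).hom.app (op V) (etaSec J V))
  have e : secMap (X.obj.map (g ≫ f).op x) = epsMap J g ≫ secMap (X.obj.map f.op x) := by
    rw [epsMap_comp_secMap, restrict_restrict]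
  rw [glue_congr S t e _ (S.downward_closed hf _), ht _ hf]
  change (t (secMap (X.obj.map f.op x)) hf).hom.app (op W)
    ((epsMap J g).hom.app (op W) (etaSec J W)) = _
  rw [epsMap_app_etaSec, map_app_restrict]

variable (hS : S ∈ epiTop J X)

/-- the value of the glued morphism on a section. -/
noncomputable def glueSec {U : C} (x : X.obj.obj (op U)) : Z.obj.obj (op U) :=
  (((isSheaf_iff_isSheaf_of_type _ _).1 Z.2) _ (hS U x)).amalgamate (glueFam S t x)
    (glueFam_compatible S t ht x)

lemma glueSec_restrict {U V : C} (x : X.obj.obj (op U)) (f : V ⟶ U) (hf : secSieve S x f) :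
    Z.obj.map f.op (glueSec S t ht hS x) =
      (t (secMap (X.obj.map f.op x)) hf).hom.app (op V) (etaSec J V) :=
  Presieve.IsSheafFor.valid_glue _ _ f hf

lemma glueSec_unique {U : C} (x : X.obj.obj (op U)) (z : Z.obj.obj (op U))
    (hz : ∀ ⦃V : C⦄ (f : V ⟶ U) (hf : secSieve S x f), Z.obj.map f.op z =
      (t (secMap (X.obj.map f.op x)) hf).hom.app (op V) (etaSec J V)) :
    z = glueSec S t ht hS x := by
  apply ((((isSheaf_iff_isSheaf_of_type _ _).1 Z.2) _ (hS U x)).isSeparatedFor).ext
  intro V f hf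
  rw [hz f hf, glueSec_restrict S t ht hS x f hf]

lemma glueSec_map {U U' : C} (k : U' ⟶ U) (x : X.obj.obj (op U)) :
    glueSec S t ht hS (X.obj.map k.op x) = Z.obj.map k.op (glueSec S t ht hS x) := by
  symm
  apply glueSec_unique
  intro V f hf
  have hf' : secSieve S x (f ≫ k) := by
    rw [secSieve_apply] at hf ⊢
    rw [← restrict_restrict]
    exact hf
  rw [restrict_restrict, glueSec_restrict S t ht hS x (f ≫ k) hf']
  have e : secMap (X.obj.map (f ≫ k).op x) = secMap (X.obj.map f.op (X.obj.map k.op x)) := by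
    rw [restrict_restrict]
  rw [glue_congr S t e hf' hf]

/-- the glued morphism. -/
noncomputable def glueHom : X ⟶ Z :=
  ObjectProperty.homMk
    { app := fun U => TypeCat.ofHom (fun x => glueSec S t ht hS (U := U.unop) x)
      naturality := by
        intro U U' φ
        ext x
        exact glueSec_map S t ht hS φ.unop x }

lemma glueHom_app {U : C} (x : X.obj.obj (op U)) :
    (glueHom S t ht hS).hom.app (op U) x = glueSec S t ht hS x := rfl

lemma glueHom_fac {A : ToposFin.Sh J} (g : A ⟶ X) (hg : S g) :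
    g ≫ glueHom S t ht hS = t g hg := by
  apply Sheaf.hom_ext
  ext ⟨U⟩ y
  change (glueHom S t ht hS).hom.app (op U) (g.hom.app (op U) y) = (t g hg).hom.app (op U) y
  rw [glueHom_app]
  symm
  apply glueSec_unique
  intro V f hf
  have e : secMap (X.obj.map f.op (g.hom.app (op U) y)) = secMap (A.obj.map f.op y) ≫ g := by
    rw [secMap_comp, map_app_restrict]
  rw [glue_congr S t e hf (S.downward_closed hg _), ht g hg, ← map_app_restrict]
  change _ = (t g hg).hom.app (op V) ((secMap (A.obj.map f.op y)).hom.app (op V) (etaSec J V))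
  rw [secMap_app_etaSec]

lemma glueHom_unique (τ : X ⟶ Z) (hτ : ∀ ⦃A : ToposFin.Sh J⦄ (g : A ⟶ X) (hg : S g), g ≫ τ = t g hg) :
    τ = glueHom S t ht hS := by
  apply Sheaf.hom_ext
  ext ⟨U⟩ x
  change τ.hom.app (op U) x = (glueHom S t ht hS).hom.app (op U) x
  rw [glueHom_app]
  apply glueSec_unique
  intro V f hf
  rw [← hτ _ hf, ← map_app_restrict]
  change _ = τ.hom.app (op V) ((secMap (X.obj.map f.op x)).hom.app (op V) (etaSec J V))
  rw [secMap_app_etaSec]

end Glue

/-- representable presheaves on the sheaf topos are sheaves for `epiTop`. -/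
theorem isSheaf_yoneda_epiTop (Z : ToposFin.Sh J) :
    Presieve.IsSheaf (epiTop J) (yoneda.obj Z) := by
  intro X S hS t ht
  rw [Presieve.compatible_iff_sieveCompatible] at ht
  have ht' : ∀ ⦃A B : ToposFin.Sh J⦄ (g : A ⟶ X) (hg : S g) (k : B ⟶ A),
      t (k ≫ g) (S.downward_closed hg k) = k ≫ t g hg := fun A B g hg k => ht g k hg
  refine ⟨glueHom S t ht' hS, fun A g hg => glueHom_fac S t ht' hS g hg, fun τ hτ => ?_⟩
  exact glueHom_unique S t ht' hS τ fun A g hg => hτ g hg

variable (J) in
/-- the canonical topology of the sheaf topos is the topology of jointly epimorphic sieves. -/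
theorem epiTop_eq_canonical : epiTop J = Sheaf.canonicalTopology (ToposFin.Sh J) := by
  apply le_antisymm
  · apply Sheaf.le_finestTopology
    rintro P ⟨Z, rfl⟩
    exact isSheaf_yoneda_epiTop Z
  · intro X S hS
    rw [mem_epiTop_iff_jEpi]
    intro Z a b hab
    have hZ := Sheaf.isSheaf_yoneda_obj (C := ToposFin.Sh J) Z
    apply ((hZ S hS).isSeparatedFor).ext
    intro A g hg
    exact hab ⟨A, g, hg⟩

lemma mem_canonical_iff_jEpi {X : ToposFin.Sh J} (S : Sieve X) :
    S ∈ Sheaf.canonicalTopology (ToposFin.Sh J) X ↔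
      JEpi (fun p : Σ A : ToposFin.Sh J, {g : A ⟶ X // S g} => p.2.1) := by
  rw [← epiTop_eq_canonical, mem_epiTop_iff_jEpi]

end Groth.Agent.Lib.Helper45
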