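import Groth.Agent.Lib.Helper4.QcGen.Defs
import Groth.Agent.Lib.Helper45.ToposFP3

/-!
# QC1 for helper4's S0948 (helper45)

`isQC_of_isQcObject` (Prelude `CohCx.IsQcObject` ⇒ `ToposFin.IsQC`), `exists_eq_of_covBy`
(two maps from an `S`-covered sheaf into a stage of a filtered diagram that agree in the colimit
agree at a later stage), `exists_local_factor` (a map from `K ∈ S` to a filtered colimit factors
through a stage after passing to an epi `K' ↠ K` with `K' ∈ S`).
-/

set_option autoImplicit false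
set_option linter.style.haveILetI false
set_option linter.unusedSectionVars false

universe u

open CategoryTheory Limits Opposite Simplicial Groth.Agent.Lib.Helper4.QcGen

namespace Groth.Agent.Lib.Helper45.QcGenQC1

open Groth.Agent.Lib.Helper45 Groth.Agent.Lib.Helper45.ToposFP

variable {C : Type u} [SmallCategory C] {J : GrothendieckTopology C} {S : Set (Sheaf J (Type u))}

lemma ljs_iff_jointlySurjective {K : Sheaf J (Type u)} {ι : Type u} {L : ι → Sheaf J (Type u)}
    (f : ∀ i, L i ⟶ K) : LJS f ↔ CohCx.JointlySurjective f := by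
  constructor
  · intro h U x
    obtain ⟨R, hR, hx⟩ := h U x
    exact ⟨R, hR, fun V g hg => hx g hg⟩
  · intro h U x
    obtain ⟨R, hR, hx⟩ := h U x
    exact ⟨R, hR, fun V g hg => hx V g hg⟩

lemma isQC_of_isQcObject {K : Sheaf J (Type u)} (hK : CohCx.IsQcObject K) : ToposFin.IsQC K := by
  rw [isQC_iff]
  intro ι F π hπ
  obtain ⟨t, ht⟩ := hK ι F π ((ljs_iff_jointlySurjective π).1 ((jEpi_iff_ljs π).1 hπ))
  exact ⟨t, (jEpi_iff_ljs _).2 ((ljs_iff_jointlySurjective _).2 ht)⟩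

variable {I : Type u} [SmallCategory I] [IsFiltered I]

lemma exists_eq_of_covBy (h : Hyp S) (D : I ⥤ Sheaf J (Type u)) {T : Sheaf J (Type u)}
    (hT : CovBy S T) {k : I} (f g : T ⟶ D.obj k)
    (hfg : f ≫ colimit.ι D k = g ≫ colimit.ι D k) :
    ∃ (k' : I) (c : k ⟶ k'), f ≫ D.map c = g ≫ D.map c := by
  obtain ⟨K, π, hK, hπ⟩ := hT
  have hqc : ToposFin.IsQC K := isQC_of_isQcObject (h.h5 K hK)
  obtain ⟨k', c, hc⟩ := exists_eq_of_isQC D hqc (π ≫ f) (π ≫ g)
    (by rw [Category.assoc, Category.assoc, hfg])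
  refine ⟨k', c, ?_⟩
  rw [← cancel_epi π]
  simpa only [Category.assoc] using hc

lemma exists_local_factor (h : Hyp S) (D : I ⥤ Sheaf J (Type u)) {K : Sheaf J (Type u)}
    (hK : K ∈ S) (φ : K ⟶ colimit D) :
    ∃ (K' : Sheaf J (Type u)) (k : K' ⟶ K) (i₀ : I) (σ : K' ⟶ D.obj i₀),
      K' ∈ S ∧ Epi k ∧ σ ≫ colimit.ι D i₀ = k ≫ φ := by
  have hι : JEpi (fun k => colimit.ι D k) := by
    intro Z a b hab
    exact colimit.hom_ext hab
  have h1 : JEpi (fun i => pullback.snd (colimit.ι D i) φ) := hι.pullback_snd φ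
  have hqc : ToposFin.IsQC K := isQC_of_isQcObject (h.h5 K hK)
  obtain ⟨s, hs⟩ := (isQC_iff K).1 hqc _ _ _ h1
  obtain ⟨i₀, hi₀⟩ := exists_common_target (fun i : s => (i : I))
  let t : ∀ i : s, (i : I) ⟶ i₀ := fun i => (hi₀ i).some
  let P : s → Sheaf J (Type u) := fun i => pullback (colimit.ι D (i : I)) φ
  let G : Sheaf J (Type u) := ∐ P
  let g : G ⟶ K := Sigma.desc (fun i : s => pullback.snd (colimit.ι D (i : I)) φ)
  haveI : Epi g := (epi_desc_iff _).2 hs
  let σ₀ : G ⟶ D.obj i₀ :=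
    Sigma.desc (fun i : s => pullback.fst (colimit.ι D (i : I)) φ ≫ D.map (t i))
  have hσ₀ : σ₀ ≫ colimit.ι D i₀ = g ≫ φ := by
    apply Sigma.hom_ext
    intro i
    simp only [σ₀, g, colimit.ι_desc_assoc, Cofan.mk_ι_app, Category.assoc, colimit.w,
      pullback.condition]
  obtain ⟨K', k', hK', hk'⟩ := h.h2 G K g hK inferInstance
  exact ⟨K', k' ≫ g, i₀, k' ≫ σ₀, hK', hk', by rw [Category.assoc, hσ₀, Category.assoc]⟩

end Groth.Agent.Lib.Helper45.QcGenQC1
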