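import Groth.Agent.Lib.Helper4.QcGen.Defs
import Groth.Agent.Lib.Helper45.ToposFP3

/-!
# QC2 for helper4's S0948 (helper45)

`exists_factor_of_scoh`: a map from an `S`-covered sheaf `T` (with `S`-covered self-products of
covers) to a filtered colimit of sheaves of sets factors through a stage.
-/

set_option autoImplicit false
set_option linter.style.haveILetI false
set_option linter.unusedSectionVars false

universe u

open CategoryTheory Limits Opposite Simplicial Groth.Agent.Lib.Helper4.QcGen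

namespace Groth.Agent.Lib.Helper45.QcGenQC2

open Groth.Agent.Lib.Helper45 Groth.Agent.Lib.Helper45.ToposFP

variable {C : Type u} [SmallCategory C] {J : GrothendieckTopology C} {S : Set (Sheaf J (Type u))}
variable {I : Type u} [SmallCategory I] [IsFiltered I]

lemma exists_factor_of_scoh (D : I ⥤ Sheaf J (Type u)) {T : Sheaf J (Type u)} (hT : CovBy S T)
    (hpb : ∀ {K₁ : Sheaf J (Type u)} (a : K₁ ⟶ T), K₁ ∈ S → CovBy S (pullback a a))
    (hqc : ∀ K ∈ S, ToposFin.IsQC K)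
    (hloc : ∀ {K : Sheaf J (Type u)}, K ∈ S → ∀ (φ : K ⟶ colimit D),
      ∃ (K' : Sheaf J (Type u)) (k : K' ⟶ K) (i₀ : I) (σ : K' ⟶ D.obj i₀),
        K' ∈ S ∧ Epi k ∧ σ ≫ colimit.ι D i₀ = k ≫ φ)
    (φ : T ⟶ colimit D) : ∃ (k : I) (ψ : T ⟶ D.obj k), ψ ≫ colimit.ι D k = φ := by
  obtain ⟨K, π, hK, hπ⟩ := hT
  obtain ⟨K', k, i₀, σ, hK', hk, hσ⟩ := hloc hK (π ≫ φ)
  let g : K' ⟶ T := k ≫ π
  haveI : Epi g := epi_comp k π
  have hσ' : σ ≫ colimit.ι D i₀ = g ≫ φ := by rw [hσ, Category.assoc]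
  obtain ⟨R, ρ, hR, hρ⟩ := hpb g hK'
  have hRR : (ρ ≫ pullback.fst g g ≫ σ) ≫ colimit.ι D i₀ =
      (ρ ≫ pullback.snd g g ≫ σ) ≫ colimit.ι D i₀ := by
    simp only [Category.assoc, hσ']
    rw [← Category.assoc (pullback.fst g g), ← Category.assoc (pullback.snd g g),
      pullback.condition]
  obtain ⟨k', c, hc⟩ := exists_eq_of_isQC D (hqc R hR) _ _ hRR
  have hc' : pullback.fst g g ≫ σ ≫ D.map c = pullback.snd g g ≫ σ ≫ D.map c := by
    rw [← cancel_epi ρ]
    simpa only [Category.assoc] using hc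
  obtain ⟨m, hm⟩ := exists_desc_of_epi g (σ ≫ D.map c) hc'
  refine ⟨k', m, ?_⟩
  rw [← cancel_epi g, ← Category.assoc, hm, Category.assoc, colimit.w, hσ']

end Groth.Agent.Lib.Helper45.QcGenQC2
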