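import Mathlib
import Groth.Prelude.Def_Found

/-!
# RF for S7202: bijectivity of the residue field map from surjectivity mod the maximal ideal.
-/

set_option autoImplicit false
set_option linter.style.haveILetI false

universe u

open IsLocalRing CategoryTheory AlgebraicGeometry

namespace Groth.Agent.Lib.Helper45.AA7202RF

theorem rf {U X : Scheme.{u}} (e : U ⟶ X) (u : U)
    (h : ∀ z : U.presheaf.stalk u, ∃ a : X.presheaf.stalk (e u),
      z - (e.stalkMap u).hom a ∈ maximalIdeal (U.presheaf.stalk u)) :
    Function.Bijective (e.residueFieldMap u) := by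
  refine ⟨(e.residueFieldMap u).hom.injective, ?_⟩
  intro y
  obtain ⟨z, rfl⟩ := IsLocalRing.residue_surjective y
  obtain ⟨a, ha⟩ := h z
  refine ⟨IsLocalRing.residue _ a, ?_⟩
  have h1 : (e.residueFieldMap u).hom (IsLocalRing.residue _ a) =
      IsLocalRing.residue _ ((e.stalkMap u).hom a) := rfl
  have h2 : IsLocalRing.residue (U.presheaf.stalk u) z =
      IsLocalRing.residue (U.presheaf.stalk u) ((e.stalkMap u).hom a) := by
    have h3 : IsLocalRing.residue (U.presheaf.stalk u) (z - (e.stalkMap u).hom a) = 0 :=
      (IsLocalRing.residue_eq_zero_iff _).2 ha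
    rw [map_sub, sub_eq_zero] at h3
    exact h3
  exact h1.trans h2.symm

end Groth.Agent.Lib.Helper45.AA7202RF
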