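import Groth.Agent.Lib.Helper45.Deligne3

/-!
# The regular topology on a small abelian category: `X ↦ h_X` is fully faithful and exact,
and the site has enough points (Deligne).
-/

set_option autoImplicit false
set_option linter.style.haveILetI false
set_option linter.unusedSectionVars false
universe u
open CategoryTheory CategoryTheory.Limits Opposite

namespace Groth.Agent.Lib.Helper45.AbReg

variable {A : Type u} [SmallCategory A] [Abelian A] [Preregular A]

/-- the functor `X ↦ h_X`. -/
noncomputable abbrev F : A ⥤ Sheaf (regularTopology A) AddCommGrpCat.{u} :=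
  preadditiveYoneda ⋙ presheafToSheaf (regularTopology A) AddCommGrpCat.{u}

theorem effectiveEpi_of_epi {X Y : A} (f : X ⟶ Y) [Epi f] : EffectiveEpi f := by
  have : NormalEpi f := normalEpiOfEpi f
  infer_instance

theorem isSheaf_yoneda (X : A) :
    Presheaf.IsSheaf (regularTopology A) (preadditiveYoneda.obj X) := by
  rw [Presheaf.isSheaf_iff_isSheaf_forget (regularTopology A) (preadditiveYoneda.obj X)
    (forget AddCommGrpCat.{u})]
  rw [isSheaf_iff_isSheaf_of_type]
  exact (regularTopology.subcanonical (C := A)).isSheaf_of_isRepresentable (yoneda.obj X)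

/-- `h_X` is unchanged by sheafification. -/
noncomputable def compIso :
    (F (A := A)) ⋙ sheafToPresheaf (regularTopology A) AddCommGrpCat.{u} ≅ preadditiveYoneda :=
  (NatIso.ofComponents
    (fun X => by
      haveI := isIso_toSheafify (regularTopology A) (isSheaf_yoneda X)
      exact asIso (toSheafify (regularTopology A) (preadditiveYoneda.obj X)))
    (fun {X Y} f => by
      dsimp
      exact (toSheafify_naturality (regularTopology A) (preadditiveYoneda.map f)))).symm

instance : (F (A := A)).Faithful := Functor.Faithful.of_comp_iso compIso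

instance : (F (A := A)).Full := Functor.Full.of_comp_faithful_iso compIso

instance : PreservesFiniteLimits (preadditiveYoneda : A ⥤ Aᵒᵖ ⥤ AddCommGrpCat.{u}) := by
  constructor
  intro J _ _
  constructor
  intro K
  apply preservesLimit_of_evaluation
  intro Y
  show PreservesLimit K (preadditiveCoyoneda.obj Y)
  infer_instance

instance : PreservesFiniteLimits (F (A := A)) := by
  unfold F
  infer_instance

instance : (preadditiveYoneda : A ⥤ Aᵒᵖ ⥤ AddCommGrpCat.{u}).Additive where
  map_add {X Y f g} := by
    ext Z h
    exact Preadditive.comp_add _ _ _ h f g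

instance : (F (A := A)).Additive := by
  unfold F
  infer_instance

theorem epi_map {X Y : A} (π : X ⟶ Y) [Epi π] : Epi ((F (A := A)).map π) := by
  rw [← Sheaf.isLocallySurjective_iff_epi']
  change Sheaf.IsLocallySurjective
    ((presheafToSheaf (regularTopology A) AddCommGrpCat.{u}).map (preadditiveYoneda.map π))
  rw [Presheaf.isLocallySurjective_presheafToSheaf_map_iff]
  rw [regularTopology.isLocallySurjective_iff]
  intro Z y
  haveI : Epi (pullback.fst (y : Z ⟶ Y) π) := inferInstance
  exact ⟨pullback (y : Z ⟶ Y) π, pullback.fst (y : Z ⟶ Y) π, effectiveEpi_of_epi _,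
    pullback.snd (y : Z ⟶ Y) π, pullback.condition.symm⟩

instance : PreservesFiniteColimits (F (A := A)) := by
  refine ((Functor.preservesFiniteColimits_tfae (F (A := A))).out 0 3).mp ?_
  intro S hS
  have hlex : PreservesFiniteLimits (F (A := A)) := inferInstance
  have h30 := ((Functor.preservesFiniteLimits_tfae (F (A := A))).out 3 0).mp hlex
  refine ⟨(h30 S hS).1, ?_⟩
  haveI := hS.epi_g
  exact epi_map S.g

theorem finRef : Deligne.FinRef (regularTopology A) := by
  intro a T hT
  rw [regularTopology.mem_sieves_iff_hasEffectiveEpi] at hT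
  obtain ⟨Y, π, hπ, hT⟩ := hT
  refine ⟨1, fun _ => Y, fun _ => π, fun _ => hT, ?_⟩
  rw [regularTopology.mem_sieves_iff_hasEffectiveEpi]
  exact ⟨Y, π, hπ, Sieve.ofArrows_mk _ _ (0 : Fin 1)⟩

theorem hasEnoughPoints : GrothendieckTopology.HasEnoughPoints.{u, u, u} (regularTopology A) :=
  Deligne.hasEnoughPoints finRef

end Groth.Agent.Lib.Helper45.AbReg
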