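import Mathlib

/-!
# Presheaves on the affine opens of a scheme: the induced topology and sieves of basic opens
-/

set_option autoImplicit false
set_option linter.style.haveILetI false
set_option linter.unusedSectionVars false

universe u

open CategoryTheory CategoryTheory.Limits AlgebraicGeometry TopologicalSpace Opposite

namespace Groth.Agent.Lib.Helper45.AffBasis

variable (X : Scheme.{u})

/-- The inclusion of affine opens into all opens. -/
abbrev inc : X.affineOpens ⥤ X.Opens :=
  Monotone.functor (f := fun U : X.affineOpens => (U : X.Opens)) (fun _ _ h => h)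

instance : (inc X).Full where
  map_surjective f := ⟨homOfLE (leOfHom f), Subsingleton.elim _ _⟩

instance : (inc X).Faithful where
  map_injective := fun _ => Subsingleton.elim _ _

instance : (inc X).IsCoverDense (Opens.grothendieckTopology X) where
  is_cover := by
    intro U x hx
    obtain ⟨_, ⟨V, hV, rfl⟩, hxV, hVU⟩ := X.isBasis_affineOpens.exists_subset_of_mem_open hx U.2
    exact ⟨V, homOfLE hVU, ⟨⟨V, hV⟩, 𝟙 _, homOfLE hVU, rfl⟩, hxV⟩

/-- The induced topology on affine opens. -/
def J0 : GrothendieckTopology X.affineOpens :=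
  (inc X).inducedTopology (Opens.grothendieckTopology X)

lemma mem_J0 {U : X.affineOpens} {S : Sieve U} :
    S ∈ J0 X U ↔
      ∀ x ∈ (U : X.Opens), ∃ (V : X.affineOpens) (f : V ⟶ U), S.arrows f ∧ x ∈ (V : X.Opens) := by
  rw [J0, Functor.mem_inducedTopology_iff_of_isCoverDense]
  apply forall₂_congr fun x hxU ↦ ⟨?_, ?_⟩
  · rintro ⟨V, f, ⟨W, g, h, hg, rfl⟩, hxV⟩
    exact ⟨W, g, hg, h.le hxV⟩
  · rintro ⟨W, g, hg, hxW⟩
    exact ⟨(W : X.Opens), homOfLE (leOfHom g), ⟨W, g, 𝟙 _, hg, rfl⟩, hxW⟩

variable {X}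

/-- The basic open of a section as an affine open. -/
def D (U : X.affineOpens) (f : Γ(X, (U : X.Opens))) : X.affineOpens :=
  ⟨X.basicOpen f, U.2.basicOpen f⟩

lemma D_le (U : X.affineOpens) (f : Γ(X, (U : X.Opens))) : D U f ≤ U := X.basicOpen_le f

/-- The sieve generated by a family of basic opens. -/
def PS (U : X.affineOpens) {ι : Type*} (f : ι → Γ(X, (U : X.Opens))) : Sieve U where
  arrows V _ := ∃ i, (V : X.Opens) ≤ X.basicOpen (f i)
  downward_closed := by
    rintro V W k ⟨i, hi⟩ l
    exact ⟨i, le_trans (show (W : X.Opens) ≤ V from leOfHom l) hi⟩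

/-- Restriction of sections. -/
def resΓ {U V : X.affineOpens} (k : V ⟶ U) :
    Γ(X, (U : X.Opens)) →+* Γ(X, (V : X.Opens)) :=
  (X.presheaf.map ((inc X).map k).op).hom

lemma basicOpen_resΓ {U V : X.affineOpens} (k : V ⟶ U) (f : Γ(X, (U : X.Opens))) :
    X.basicOpen (resΓ k f) = (V : X.Opens) ⊓ X.basicOpen f :=
  X.basicOpen_res f _

lemma PS_pullback {U V : X.affineOpens} (k : V ⟶ U) {ι : Type*}
    (f : ι → Γ(X, (U : X.Opens))) :
    (PS U f).pullback k = PS V (fun i => resΓ k (f i)) := by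
  ext W l
  simp only [Sieve.pullback_apply, PS]
  constructor
  · rintro ⟨i, hi⟩
    exact ⟨i, by rw [basicOpen_resΓ]; exact le_inf (leOfHom l) hi⟩
  · rintro ⟨i, hi⟩
    rw [basicOpen_resΓ] at hi
    exact ⟨i, hi.trans inf_le_right⟩

lemma iSup_basicOpen_eq {U : X.affineOpens} {ι : Type*} (f : ι → Γ(X, (U : X.Opens)))
    (h : Ideal.span (Set.range f) = ⊤) : ⨆ i, X.basicOpen (f i) = (U : X.Opens) := by
  have := (U.2.iSup_basicOpen_eq_self_iff (s := Set.range f)).2 h
  exact (iSup_range' (fun g => X.basicOpen g) f).symm.trans this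

lemma span_map_eq_top {U V : X.affineOpens} (k : V ⟶ U) {ι : Type*}
    (f : ι → Γ(X, (U : X.Opens))) (h : Ideal.span (Set.range f) = ⊤) :
    Ideal.span (Set.range (fun i => resΓ k (f i))) = ⊤ := by
  have : Set.range (fun i => resΓ k (f i)) = (resΓ k) '' Set.range f := by
    rw [← Set.range_comp]; rfl
  rw [this, ← Ideal.map_span, h, Ideal.map_top]

end Groth.Agent.Lib.Helper45.AffBasis
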