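import Groth.Agent.Lib.Helper45.AffBasis1

/-!
# Presheaves on the affine opens of a scheme: the two-cover criterion (sufficiency)
-/

set_option autoImplicit false
set_option linter.style.haveILetI false
set_option linter.unusedSectionVars false

universe u

open CategoryTheory CategoryTheory.Limits AlgebraicGeometry TopologicalSpace Opposite

namespace Groth.Agent.Lib.Helper45.AffBasis

variable {X : Scheme.{u}} (F : (X.affineOpens)ᵒᵖ ⥤ Type u)

/-- The two-cover condition. -/
def Cond2 : Prop :=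
  ∀ (U V W VW : X.affineOpens) (f g : Γ(X, (U : X.Opens))),
    (V : X.Opens) = X.basicOpen f → (W : X.Opens) = X.basicOpen g →
    (VW : X.Opens) = X.basicOpen (f * g) → (U : X.Opens) = (V : X.Opens) ⊔ (W : X.Opens) →
    ∀ (hV : V ≤ U) (hW : W ≤ U) (h1 : VW ≤ V) (h2 : VW ≤ W),
    Function.Injective (fun s : F.obj (op U) => (F.map (homOfLE hV).op s, F.map (homOfLE hW).op s)) ∧
    Set.range (fun s : F.obj (op U) => (F.map (homOfLE hV).op s, F.map (homOfLE hW).op s)) =
      {p | F.map (homOfLE h1).op p.1 = F.map (homOfLE h2).op p.2}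

variable {F}

lemma fam_congr {U : X.affineOpens} {R : Presieve U} (x : Presieve.FamilyOfElements F R)
    {Y : X.affineOpens} (k₁ k₂ : Y ⟶ U) (p₁ : R k₁) (p₂ : R k₂) : x k₁ p₁ = x k₂ p₂ := by
  obtain rfl : k₁ = k₂ := Subsingleton.elim _ _
  rfl

lemma isSheafFor_two (h2 : Cond2 F) (U : X.affineOpens) (p : Bool → Γ(X, (U : X.Opens)))
    (hp : Ideal.span (Set.range p) = ⊤) : Presieve.IsSheafFor F (PS U p).arrows := by
  have hcov : (U : X.Opens) = (D U (p true) : X.Opens) ⊔ (D U (p false) : X.Opens) := by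
    rw [← iSup_basicOpen_eq p hp, iSup_bool_eq]
    rfl
  have hV : D U (p true) ≤ U := D_le _ _
  have hW : D U (p false) ≤ U := D_le _ _
  have h1 : D U (p true * p false) ≤ D U (p true) := by
    show X.basicOpen _ ≤ X.basicOpen _
    rw [X.basicOpen_mul]; exact inf_le_left
  have h2' : D U (p true * p false) ≤ D U (p false) := by
    show X.basicOpen _ ≤ X.basicOpen _
    rw [X.basicOpen_mul]; exact inf_le_right
  obtain ⟨hinj, hrange⟩ := h2 U (D U (p true)) (D U (p false)) (D U (p true * p false))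
    (p true) (p false) rfl rfl rfl hcov hV hW h1 h2'
  intro x hx
  have hx' := (Presieve.compatible_iff_sieveCompatible x).1 hx
  have mV : (PS U p).arrows (homOfLE hV) := ⟨true, le_rfl⟩
  have mW : (PS U p).arrows (homOfLE hW) := ⟨false, le_rfl⟩
  have hmem : (x (homOfLE hV) mV, x (homOfLE hW) mW) ∈
      {q : F.obj (op (D U (p true))) × F.obj (op (D U (p false))) |
        F.map (homOfLE h1).op q.1 = F.map (homOfLE h2').op q.2} := by
    show F.map (homOfLE h1).op _ = F.map (homOfLE h2').op _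
    rw [← hx' (homOfLE hV) (homOfLE h1) mV, ← hx' (homOfLE hW) (homOfLE h2') mW]
    exact fam_congr x _ _ _ _
  rw [← hrange] at hmem
  obtain ⟨s, hs⟩ := hmem
  have hsV : F.map (homOfLE hV).op s = x (homOfLE hV) mV := congrArg Prod.fst hs
  have hsW : F.map (homOfLE hW).op s = x (homOfLE hW) mW := congrArg Prod.snd hs
  refine ⟨s, ?_, ?_⟩
  · intro Y k hk
    obtain ⟨b, hb⟩ := hk
    cases b
    · have e : k = (homOfLE hb : Y ⟶ D U (p false)) ≫ homOfLE hW := Subsingleton.elim _ _
      rw [e, op_comp, Functor.map_comp_apply, hsW, ← hx' (homOfLE hW) (homOfLE hb) mW]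
    · have e : k = (homOfLE hb : Y ⟶ D U (p true)) ≫ homOfLE hV := Subsingleton.elim _ _
      rw [e, op_comp, Functor.map_comp_apply, hsV, ← hx' (homOfLE hV) (homOfLE hb) mV]
  · intro s' hs'
    apply hinj
    show (F.map (homOfLE hV).op s', F.map (homOfLE hW).op s') =
      (F.map (homOfLE hV).op s, F.map (homOfLE hW).op s)
    rw [hs' (homOfLE hV) mV, hs' (homOfLE hW) mW, hsV, hsW]

lemma two_mem (h2 : Cond2 F) (U : X.affineOpens) (p : Bool → Γ(X, (U : X.Opens)))
    (hp : Ideal.span (Set.range p) = ⊤) : PS U p ∈ Sheaf.finestTopologySingle F U := by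
  intro V k
  rw [PS_pullback]
  exact isSheafFor_two h2 V _ (span_map_eq_top k p hp)

lemma PS_mem (E : X.affineOpens) (hE : (E : X.Opens) = ⊥)
    (ha : Nonempty (F.obj (op E)) ∧ Subsingleton (F.obj (op E))) (h2 : Cond2 F) :
    ∀ (n : ℕ) (U : X.affineOpens) (f : Fin n → Γ(X, (U : X.Opens))),
      Ideal.span (Set.range f) = ⊤ → PS U f ∈ Sheaf.finestTopologySingle F U := by
  intro n
  induction n with
  | zero =>
    intro U f hf
    have h10 : (1 : Γ(X, (U : X.Opens))) = 0 := by
      have h1 : (1 : Γ(X, (U : X.Opens))) ∈ Ideal.span (Set.range f) := by rw [hf]; trivial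
      rw [Set.range_eq_empty, Ideal.span_empty] at h1
      exact h1
    have hU : (U : X.Opens) = ⊥ := by
      rw [← X.basicOpen_of_isUnit (U := (U : X.Opens)) isUnit_one, h10, X.basicOpen_zero]
    intro V k
    have hVE : V = E := by
      apply Subtype.ext
      rw [hE]
      exact le_bot_iff.1 (le_trans (show (V : X.Opens) ≤ U from leOfHom k) hU.le)
    subst hVE
    obtain ⟨⟨t⟩, hsub⟩ := ha
    intro x _
    refine ⟨t, ?_, fun _ _ => Subsingleton.elim _ _⟩
    rintro Y l ⟨i, -⟩
    exact i.elim0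
  | succ n ih =>
    intro U f hf
    have h1 : (1 : Γ(X, (U : X.Opens))) ∈ Ideal.span (Set.range f) := by rw [hf]; trivial
    obtain ⟨a, ha'⟩ := Ideal.mem_span_range_iff_exists_fun.1 h1
    set g : Γ(X, (U : X.Opens)) := ∑ i : Fin n, a i.succ * f i.succ with hg
    have hsum : a 0 * f 0 + g = 1 := by rw [← ha', Fin.sum_univ_succ]
    let p : Bool → Γ(X, (U : X.Opens)) := fun b => cond b (f 0) g
    have hp : Ideal.span (Set.range p) = ⊤ := by
      rw [Ideal.eq_top_iff_one, ← hsum]
      exact Ideal.add_mem _ (Ideal.mul_mem_left _ _ (Ideal.subset_span ⟨true, rfl⟩))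
        (Ideal.subset_span ⟨false, rfl⟩)
    apply (Sheaf.finestTopologySingle F).transitive (two_mem h2 U p hp)
    rintro V k ⟨b, hb⟩
    cases b
    · -- V ≤ D(g)
      let W : X.affineOpens := D U g
      let k₂ : W ⟶ U := homOfLE (D_le U g)
      let k₁ : V ⟶ W := homOfLE hb
      have e : k = k₁ ≫ k₂ := Subsingleton.elim _ _
      rw [e, Sieve.pullback_comp]
      apply (Sheaf.finestTopologySingle F).pullback_stable
      rw [PS_pullback]
      refine (Sheaf.finestTopologySingle F).superset_covering ?_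
        (ih W (fun i => resΓ k₂ (f i.succ)) ?_)
      · rintro Y l ⟨i, hi⟩
        exact ⟨i.succ, hi⟩
      · apply Ideal.eq_top_of_isUnit_mem (x := resΓ k₂ g)
        · rw [hg, map_sum]
          refine Ideal.sum_mem _ (fun i _ => ?_)
          rw [map_mul]
          exact Ideal.mul_mem_left _ _ (Ideal.subset_span ⟨i, rfl⟩)
        · exact X.toRingedSpace.isUnit_res_basicOpen g
    · -- V ≤ D(f 0)
      rw [Sieve.pullback_eq_top_of_mem _ (show (PS U f).arrows k from ⟨0, hb⟩)]
      exact (Sheaf.finestTopologySingle F).top_mem _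

lemma J0_le (E : X.affineOpens) (hE : (E : X.Opens) = ⊥)
    (ha : Nonempty (F.obj (op E)) ∧ Subsingleton (F.obj (op E))) (h2 : Cond2 F) :
    J0 X ≤ Sheaf.finestTopologySingle F := by
  intro U R hR
  rw [mem_J0] at hR
  let s : Set Γ(X, (U : X.Opens)) := {f | R.arrows (homOfLE (D_le U f) : D U f ⟶ U)}
  have hs : Ideal.span s = ⊤ := by
    rw [← U.2.self_le_iSup_basicOpen_iff]
    intro x hx
    obtain ⟨V, k, hk, hxV⟩ := hR x hx
    obtain ⟨f, hfV, hxf⟩ := U.2.exists_basicOpen_le ⟨x, hxV⟩ hx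
    refine Opens.mem_iSup.2 ⟨⟨f, ?_⟩, hxf⟩
    have e : (homOfLE (D_le U f) : D U f ⟶ U) = (homOfLE hfV : D U f ⟶ V) ≫ k :=
      Subsingleton.elim _ _
    show R.arrows _
    rw [e]
    exact R.downward_closed hk _
  obtain ⟨s', hs's, hs'⟩ := (Ideal.span_eq_top_iff_finite s).1 hs
  let f : Fin s'.card → Γ(X, (U : X.Opens)) := fun i => (s'.equivFin.symm i : Γ(X, (U : X.Opens)))
  have hrange : Set.range f = (s' : Set Γ(X, (U : X.Opens))) := by
    ext x
    constructor
    · rintro ⟨i, rfl⟩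
      exact (s'.equivFin.symm i).2
    · intro hx
      exact ⟨s'.equivFin ⟨x, hx⟩, by simp [f]⟩
  refine (Sheaf.finestTopologySingle F).superset_covering ?_
    (PS_mem E hE ha h2 s'.card U f (by rw [hrange]; exact hs'))
  rintro V k ⟨i, hi⟩
  have hfi : f i ∈ s := hs's (s'.equivFin.symm i).2
  have e : k = (homOfLE hi : V ⟶ D U (f i)) ≫ homOfLE (D_le U (f i)) := Subsingleton.elim _ _
  rw [e]
  exact R.downward_closed hfi _

lemma isSheaf_J0 (E : X.affineOpens) (hE : (E : X.Opens) = ⊥)
    (ha : Nonempty (F.obj (op E)) ∧ Subsingleton (F.obj (op E))) (h2 : Cond2 F) :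
    Presieve.IsSheaf (J0 X) F := by
  refine Presieve.isSheaf_of_le _ (J0_le E hE ha h2) ?_
  intro U R hR
  simpa using hR U (𝟙 U)

instance instDense : (inc X).IsDenseSubsite (J0 X) (Opens.grothendieckTopology X) := by
  unfold J0
  infer_instance

instance instCont : (inc X).IsContinuous (J0 X) (Opens.grothendieckTopology X) :=
  inferInstance

theorem exists_sheaf (hF : Presieve.IsSheaf (J0 X) F) :
    ∃ G : TopCat.Sheaf (Type u) X.carrier, Nonempty ((inc X).op ⋙ G.1 ≅ F) := by
  let F₀ : Sheaf (J0 X) (Type u) := ⟨F, (isSheaf_iff_isSheaf_of_type _ _).2 hF⟩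
  let Φ := (inc X).sheafPushforwardContinuous (Type u) (J0 X) (Opens.grothendieckTopology X)
  haveI : Φ.IsEquivalence := by
    dsimp only [Φ]
    infer_instance
  exact ⟨Φ.objPreimage F₀, ⟨(sheafToPresheaf _ _).mapIso (Φ.objObjPreimageIso F₀)⟩⟩

end Groth.Agent.Lib.Helper45.AffBasis
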