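import Groth.Agent.Lib.Helper45.AffBasis2

/-!
# Presheaves on the affine opens of a scheme: the two-cover criterion
-/

set_option autoImplicit false
set_option linter.style.haveILetI false
set_option linter.unusedSectionVars false

universe u

open CategoryTheory CategoryTheory.Limits AlgebraicGeometry TopologicalSpace Opposite

namespace Groth.Agent.Lib.Helper45.AffBasis

variable {X : Scheme.{u}}

lemma map_map_thin {P : Type*} [Preorder P] (G : Pᵒᵖ ⥤ Type u) {a b c : P}
    (k₁ : b ⟶ a) (k₂ : c ⟶ b) (k₃ : c ⟶ a) (s : G.obj (op a)) :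
    G.map k₂.op (G.map k₁.op s) = G.map k₃.op s := by
  have e : k₂ ≫ k₁ = k₃ := Subsingleton.elim _ _
  rw [← Functor.map_comp_apply, ← op_comp, e]

lemma two_cover_sheaf {T : TopCat.{u}} (G : Sheaf (Opens.grothendieckTopology T) (Type u))
    (U V W VW : Opens T) (hU : U = V ⊔ W) (hinf : V ⊓ W = VW)
    (kV : V ⟶ U) (kW : W ⟶ U) (k1 : VW ⟶ V) (k2 : VW ⟶ W) :
    Function.Injective (fun s : G.obj.obj (op U) => (G.obj.map kV.op s, G.obj.map kW.op s)) ∧
    Set.range (fun s : G.obj.obj (op U) => (G.obj.map kV.op s, G.obj.map kW.op s)) =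
      {p | G.obj.map k1.op p.1 = G.obj.map k2.op p.2} := by
  constructor
  · intro s t hst
    have e1 := congrArg Prod.fst hst
    have e2 := congrArg Prod.snd hst
    exact TopCat.Sheaf.eq_of_locally_eq₂ G kV kW hU.le s t e1 e2
  · ext ⟨a, b⟩
    constructor
    · rintro ⟨s, hs⟩
      obtain ⟨rfl, rfl⟩ := Prod.mk.inj hs
      show G.obj.map _ (G.obj.map _ s) = G.obj.map _ (G.obj.map _ s)
      rw [map_map_thin G.obj kV k1 (k1 ≫ kV) s, map_map_thin G.obj kW k2 (k1 ≫ kV) s]
    · intro hab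
      have hab0 : G.obj.map k1.op a = G.obj.map k2.op b := hab
      have hc := TopCat.Sheaf.isLimitPullbackCone G V W
      have hle : V ⊓ W ≤ VW := hinf.le
      have hab' : G.obj.map (homOfLE inf_le_left : V ⊓ W ⟶ V).op a =
          G.obj.map (homOfLE inf_le_right : V ⊓ W ⟶ W).op b := by
        rw [← map_map_thin G.obj k1 (homOfLE hle) _ a, ← map_map_thin G.obj k2 (homOfLE hle) _ b]
        exact congrArg _ hab0
      let s₀ := (PullbackCone.IsLimit.equivPullbackObj hc).symm ⟨⟨a, b⟩, hab'⟩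
      have hs₀a : G.obj.map (homOfLE le_sup_left : V ⟶ V ⊔ W).op s₀ = a :=
        PullbackCone.IsLimit.equivPullbackObj_symm_apply_fst hc _
      have hs₀b : G.obj.map (homOfLE le_sup_right : W ⟶ V ⊔ W).op s₀ = b :=
        PullbackCone.IsLimit.equivPullbackObj_symm_apply_snd hc _
      refine ⟨G.obj.map (homOfLE hU.le : U ⟶ V ⊔ W).op s₀, ?_⟩
      show (G.obj.map kV.op (G.obj.map _ s₀), G.obj.map kW.op (G.obj.map _ s₀)) = (a, b)
      rw [map_map_thin G.obj _ _ (homOfLE le_sup_left) s₀,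
        map_map_thin G.obj _ _ (homOfLE le_sup_right) s₀, hs₀a, hs₀b]

lemma cond2_of_sheaf (G : Sheaf (Opens.grothendieckTopology X) (Type u)) :
    Cond2 ((inc X).op ⋙ G.obj) := by
  intro U V W VW f g hVf hWg hVWfg hU hV hW h1 h2
  have hinf : (V : X.Opens) ⊓ (W : X.Opens) = VW := by
    rw [hVf, hWg, hVWfg, X.basicOpen_mul]
  exact two_cover_sheaf G U V W VW hU hinf ((inc X).map (homOfLE hV)) ((inc X).map (homOfLE hW))
    ((inc X).map (homOfLE h1)) ((inc X).map (homOfLE h2))

lemma singleton_of_sheaf (G : Sheaf (Opens.grothendieckTopology X) (Type u)) (E : X.affineOpens)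
    (hE : (E : X.Opens) = ⊥) :
    Nonempty (((inc X).op ⋙ G.obj).obj (op E)) ∧ Subsingleton (((inc X).op ⋙ G.obj).obj (op E)) := by
  have ht : IsTerminal (G.obj.obj (op (E : X.Opens))) := TopCat.Sheaf.isTerminalOfEqEmpty G hE
  have hu : Unique (G.obj.obj (op (E : X.Opens))) := (Types.isTerminalEquivUnique _).toFun ht
  exact ⟨⟨hu.default⟩, hu.instSubsingleton⟩

lemma cond2_of_iso {F' F : (X.affineOpens)ᵒᵖ ⥤ Type u} (α : F' ≅ F) (h : Cond2 F') : Cond2 F := by
  intro U V W VW f g hVf hWg hVWfg hU hV hW h1 h2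
  obtain ⟨hinj, hrange⟩ := h U V W VW f g hVf hWg hVWfg hU hV hW h1 h2
  have nat : ∀ {A B : X.affineOpens} (k : A ⟶ B) (x : F.obj (op B)),
      α.inv.app (op A) (F.map k.op x) = F'.map k.op (α.inv.app (op B) x) :=
    fun k x => NatTrans.naturality_apply α.inv k.op x
  have nat' : ∀ {A B : X.affineOpens} (k : A ⟶ B) (x : F'.obj (op B)),
      α.hom.app (op A) (F'.map k.op x) = F.map k.op (α.hom.app (op B) x) :=
    fun k x => NatTrans.naturality_apply α.hom k.op x
  have hi : ∀ (A : X.affineOpens) (x : F.obj (op A)),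
      α.hom.app (op A) (α.inv.app (op A) x) = x := fun A x => Iso.inv_hom_id_app_apply α (op A) x
  constructor
  · intro s t hst
    have e1 : F.map (homOfLE hV).op s = F.map (homOfLE hV).op t := congrArg Prod.fst hst
    have e2 : F.map (homOfLE hW).op s = F.map (homOfLE hW).op t := congrArg Prod.snd hst
    have : α.inv.app (op U) s = α.inv.app (op U) t := by
      apply hinj
      show (F'.map _ _, F'.map _ _) = (F'.map _ _, F'.map _ _)
      rw [← nat, ← nat, ← nat, ← nat, e1, e2]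
    rw [← hi U s, ← hi U t, this]
  · ext ⟨a, b⟩
    constructor
    · rintro ⟨s, hs⟩
      obtain ⟨rfl, rfl⟩ := Prod.mk.inj hs
      show F.map _ (F.map _ s) = F.map _ (F.map _ s)
      rw [map_map_thin F (homOfLE hV) (homOfLE h1) (homOfLE h1 ≫ homOfLE hV) s,
        map_map_thin F (homOfLE hW) (homOfLE h2) (homOfLE h1 ≫ homOfLE hV) s]
    · intro hab
      have hab0 : F.map (homOfLE h1).op a = F.map (homOfLE h2).op b := hab
      have hmem : (α.inv.app (op V) a, α.inv.app (op W) b) ∈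
          {p : F'.obj (op V) × F'.obj (op W) |
            F'.map (homOfLE h1).op p.1 = F'.map (homOfLE h2).op p.2} := by
        show F'.map _ _ = F'.map _ _
        rw [← nat, ← nat, hab0]
      rw [← hrange] at hmem
      obtain ⟨s', hs'⟩ := hmem
      have e1 : F'.map (homOfLE hV).op s' = α.inv.app (op V) a := congrArg Prod.fst hs'
      have e2 : F'.map (homOfLE hW).op s' = α.inv.app (op W) b := congrArg Prod.snd hs'
      refine ⟨α.hom.app (op U) s', ?_⟩
      show (F.map _ _, F.map _ _) = (a, b)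
      rw [← nat', ← nat', e1, e2, hi, hi]

theorem main (X : Scheme.{u})
    (F : (X.affineOpens)ᵒᵖ ⥤ Type u) (E : X.affineOpens) (hE : (E : X.Opens) = ⊥) :
    (∃ G : TopCat.Sheaf (Type u) X.carrier,
        Nonempty ((Monotone.functor (f := fun U : X.affineOpens => (U : X.Opens)) (fun _ _ h => h)).op ⋙ G.1 ≅ F)) ↔
    ((Nonempty (F.obj (op E)) ∧ Subsingleton (F.obj (op E))) ∧
      ∀ (U V W VW : X.affineOpens) (f g : Γ(X, (U : X.Opens))),
        (V : X.Opens) = X.basicOpen f → (W : X.Opens) = X.basicOpen g →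
        (VW : X.Opens) = X.basicOpen (f * g) → (U : X.Opens) = (V : X.Opens) ⊔ (W : X.Opens) →
        ∀ (hV : V ≤ U) (hW : W ≤ U) (h1 : VW ≤ V) (h2 : VW ≤ W),
        Function.Injective (fun s : F.obj (op U) => (F.map (homOfLE hV).op s, F.map (homOfLE hW).op s)) ∧
        Set.range (fun s : F.obj (op U) => (F.map (homOfLE hV).op s, F.map (homOfLE hW).op s)) =
          {p | F.map (homOfLE h1).op p.1 = F.map (homOfLE h2).op p.2}) := by
  constructor
  · rintro ⟨G, ⟨α⟩⟩
    have hs := singleton_of_sheaf G E hE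
    refine ⟨⟨?_, ?_⟩, cond2_of_iso α (cond2_of_sheaf G)⟩
    · exact ((α.app (op E)).toEquiv.nonempty_congr).1 hs.1
    · exact ((α.app (op E)).toEquiv.subsingleton_congr).1 hs.2
  · rintro ⟨ha, h2⟩
    exact exists_sheaf (isSheaf_J0 E hE ha h2)

end Groth.Agent.Lib.Helper45.AffBasis
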