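import Groth.Agent.Lib.Helper45.EtPt9
import Groth.Prelude.Def_AlgSpOX3

/-!
# Points of the small étale site of an algebraic space, part 1: the slice over a chart

For a representable étale `p₀ : h_U ⟶ X`, the small étale site of the scheme `U` is equivalent to
the slice of the small étale site of `X` over the chart.
-/

set_option autoImplicit false
set_option linter.style.haveILetI false
set_option linter.unusedSectionVars false
set_option backward.isDefEq.respectTransparency false

open CategoryTheory AlgebraicGeometry Opposite Limits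
universe u
namespace Groth.Agent.Lib.Helper45.AlgPt
open AlgSp

variable {S : Scheme.{u}} {X : AlgSp.Sp S} {U : Over S} (p₀ : (yon S).obj U ⟶ X)
  (hp₀ : RepWith @Etale p₀)

/-- The chart functor. -/
noncomputable abbrev G : U.left.Etale ⥤ EtOver X := EtOver.ofChart p₀ hp₀

/-- The chart as an object of the small étale site of `X`. -/
noncomputable abbrev E₀ : EtOver X := (G p₀ hp₀).obj (EtPt.T U.left)

/-- The slice functor. -/
noncomputable def F : U.left.Etale ⥤ Over (E₀ p₀ hp₀) where
  obj V := Over.mk ((G p₀ hp₀).map (EtPt.toT V))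
  map {V V'} φ := Over.homMk ((G p₀ hp₀).map φ) (by
    show (G p₀ hp₀).map φ ≫ (G p₀ hp₀).map (EtPt.toT V') = (G p₀ hp₀).map (EtPt.toT V)
    rw [← Functor.map_comp]
    congr 1
    exact EtPt.hom_T_ext _ _)
  map_id V := by
    apply Over.OverMorphism.ext
    simp
  map_comp φ ψ := by
    apply Over.OverMorphism.ext
    simp

lemma F_map_left {V V' : U.left.Etale} (φ : V ⟶ V') :
    ((F p₀ hp₀).map φ).left = (G p₀ hp₀).map φ := rfl

instance : (F p₀ hp₀).Faithful where
  map_injective {V V'} φ ψ h := by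
    have h1 : (G p₀ hp₀).map φ = (G p₀ hp₀).map ψ := congrArg CommaMorphism.left h
    exact (G p₀ hp₀).map_injective h1

instance : (F p₀ hp₀).Full where
  map_surjective {V V'} h := by
    have hw : h.left ≫ (G p₀ hp₀).map (EtPt.toT V') = (G p₀ hp₀).map (EtPt.toT V) := Over.w h
    have hw' : h.left.hom.left.left ≫ V'.hom = V.hom := by
      have := congrArg (fun g => g.hom.left.left) hw
      exact this
    refine ⟨MorphismProperty.Over.homMk h.left.hom.left.left hw' trivial, ?_⟩
    apply Over.OverMorphism.ext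
    apply EtOver.hom_ext
    apply Over.OverMorphism.ext
    rfl

/-- The étale `U`-scheme underlying an object of the slice. -/
noncomputable def sliceObj (Y : Over (E₀ p₀ hp₀)) : U.left.Etale :=
  { toComma := Over.mk (Y.hom.hom.left.left : Y.left.obj.left.left ⟶ U.left)
    prop := EtOver.etale_left Y.hom }

lemma sliceObj_hom (Y : Over (E₀ p₀ hp₀)) : (sliceObj p₀ hp₀ Y).hom = Y.hom.hom.left.left := rfl

lemma sliceObj_w (Y : Over (E₀ p₀ hp₀)) :
    Y.hom.hom.left.left ≫ U.hom = Y.left.obj.left.hom := by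
  have h := Over.w Y.hom.hom.left
  have h2 : (E₀ p₀ hp₀).obj.left.hom = 𝟙 _ ≫ U.hom := rfl
  rw [h2, Category.id_comp] at h
  exact h

/-- The comparison isomorphism on underlying objects. -/
noncomputable def sliceIso (Y : Over (E₀ p₀ hp₀)) :
    (G p₀ hp₀).obj (sliceObj p₀ hp₀ Y) ≅ Y.left :=
  (ObjectProperty.fullyFaithfulι _).preimageIso
    (CostructuredArrow.isoMk (Over.isoMk (Iso.refl _) (by
      show 𝟙 _ ≫ Y.left.obj.left.hom = (sliceObj p₀ hp₀ Y).hom ≫ U.hom
      rw [Category.id_comp, sliceObj_hom, sliceObj_w])) (by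
      have hY := EtOver.w Y.hom
      show (yon S).map _ ≫ Y.left.obj.hom = (yon S).map _ ≫ p₀
      rw [← hY]
      show (yon S).map _ ≫ (yon S).map _ ≫ (yon S).map _ ≫ p₀ = (yon S).map _ ≫ p₀
      rw [← Category.assoc, ← Category.assoc, ← Functor.map_comp, ← Functor.map_comp]
      congr 2))

lemma sliceIso_hom_left (Y : Over (E₀ p₀ hp₀)) :
    (sliceIso p₀ hp₀ Y).hom.hom.left.left = 𝟙 _ := rfl

instance : (F p₀ hp₀).EssSurj where
  mem_essImage Y := by
    refine ⟨sliceObj p₀ hp₀ Y, ⟨Over.isoMk (sliceIso p₀ hp₀ Y) ?_⟩⟩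
    apply EtOver.hom_ext
    apply Over.OverMorphism.ext
    show 𝟙 _ ≫ Y.hom.hom.left.left = Y.hom.hom.left.left
    simp

instance : (F p₀ hp₀).IsEquivalence where

end Groth.Agent.Lib.Helper45.AlgPt
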