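import Groth.Agent.Lib.Helper45.AlgPt1
import Mathlib.CategoryTheory.Sites.Point.Over
import Mathlib.CategoryTheory.Sites.Point.Comap

/-!
# Points of the small étale site of an algebraic space, part 2: the induced point of a chart
-/

set_option autoImplicit false
set_option linter.style.haveILetI false
set_option linter.unusedSectionVars false
set_option backward.isDefEq.respectTransparency false

open CategoryTheory AlgebraicGeometry Opposite Limits
universe u
namespace Groth.Agent.Lib.Helper45.AlgPt
open AlgSp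

section Abstract

universe w v₁ v₂ u₁ u₂
variable {C : Type u₁} [Category.{v₁} C] {D : Type u₂} [Category.{v₂} D]
  (F : C ⥤ D) (Q : D ⥤ Type w)

instance precomp_faithful [F.Faithful] : (Functor.Elements.precomp F Q).Faithful where
  map_injective {x y} f g h := by
    apply Subtype.ext
    apply F.map_injective
    exact congrArg Subtype.val h

instance precomp_full [F.Full] : (Functor.Elements.precomp F Q).Full where
  map_surjective {x y} g := by
    obtain ⟨f, hf⟩ := F.map_surjective g.1
    refine ⟨⟨f, ?_⟩, ?_⟩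
    · show Q.map (F.map f) x.2 = y.2
      rw [hf]
      exact g.2
    · apply Subtype.ext
      exact hf

instance precomp_essSurj [F.EssSurj] : (Functor.Elements.precomp F Q).EssSurj where
  mem_essImage y := by
    let e : F.obj (F.objPreimage y.1) ≅ y.1 := F.objObjPreimageIso y.1
    refine ⟨⟨F.objPreimage y.1, Q.map e.inv y.2⟩, ⟨CategoryOfElements.isoMk _ _ e ?_⟩⟩
    show Q.map e.hom (Q.map e.inv y.2) = y.2
    rw [← FunctorToTypes.map_comp_apply, e.inv_hom_id, FunctorToTypes.map_id_apply]

instance precomp_isEquivalence [F.IsEquivalence] :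
    (Functor.Elements.precomp F Q).IsEquivalence where

lemma initiallySmall_precomp [F.IsEquivalence] [InitiallySmall.{w} Q.Elements] :
    InitiallySmall.{w} (F ⋙ Q).Elements :=
  initiallySmall_of_initial_of_initiallySmall (Functor.Elements.precomp F Q).inv

end Abstract

variable {S : Scheme.{u}} {X : AlgSp.Sp S} {U : Over S} (p₀ : (yon S).obj U ⟶ X)
  (hp₀ : RepWith @Etale p₀)

lemma coverPreserving_F :
    CoverPreserving U.left.smallEtaleTopology ((etTop X).over (E₀ p₀ hp₀)) (F p₀ hp₀) := by
  refine ⟨fun {V R} hR => ?_⟩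
  rw [GrothendieckTopology.mem_over_iff]
  obtain ⟨ι, Z, f, rfl⟩ := R.exists_eq_ofArrows
  have h1 := EtOver.ofChart_sieve_mem p₀ hp₀ Z f hR
  refine (etTop X).superset_covering ?_ h1
  rw [Sieve.ofArrows, Sieve.generate_le_iff]
  rintro _ _ ⟨i⟩
  rw [Sieve.overEquiv_iff]
  refine ⟨Z i, f i, Over.homMk (𝟙 _) ?_, Sieve.ofArrows_mk _ _ i, ?_⟩
  · show 𝟙 _ ≫ (G p₀ hp₀).map (EtPt.toT (Z i)) =
      (G p₀ hp₀).map (f i) ≫ (G p₀ hp₀).map (EtPt.toT V)
    rw [Category.id_comp, ← Functor.map_comp]
    congr 1
    exact EtPt.hom_T_ext _ _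
  · apply Over.OverMorphism.ext
    show (G p₀ hp₀).map (f i) = 𝟙 _ ≫ (G p₀ hp₀).map (f i)
    rw [Category.id_comp]

variable (P : GrothendieckTopology.Point.{u} (etTop X)) (x₀ : P.fiber.obj (E₀ p₀ hp₀))

/-- The point of the small étale site of the chart induced by `P` and `x₀`. -/
noncomputable def chartPoint : GrothendieckTopology.Point.{u} U.left.smallEtaleTopology :=
  haveI : InitiallySmall.{u} ((F p₀ hp₀) ⋙ (P.over x₀).fiber).Elements :=
    initiallySmall_precomp (F p₀ hp₀) (P.over x₀).fiber
  (P.over x₀).comap (F p₀ hp₀) (coverPreserving_F p₀ hp₀)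

lemma chartPoint_fiber : (chartPoint p₀ hp₀ P x₀).fiber =
    F p₀ hp₀ ⋙ FunctorToTypes.fromOverFunctor P.fiber x₀ := rfl

end Groth.Agent.Lib.Helper45.AlgPt
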