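import Mathlib

/-!
# A flat set-valued functor is recovered from its slice over an element

For `Q : C ⥤ Type w` with cofiltered category of elements on a category with binary products, and
`x₀ : Q.obj E₀`, the functor `Q` is isomorphic to `myStar E₀ ⋙ fromOverFunctor Q x₀`.
-/

set_option autoImplicit false
set_option linter.style.haveILetI false
set_option linter.unusedSectionVars false

open CategoryTheory Opposite Limits
universe w v₁ u₁
namespace Groth.Agent.Lib.Helper45.AlgPt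

variable {C : Type u₁} [Category.{v₁} C] (Q : C ⥤ Type w) [IsCofiltered Q.Elements]

lemma exists_common' {U₁ U₂ : C} (x₁ : Q.obj U₁) (x₂ : Q.obj U₂) :
    ∃ (W : C) (w : Q.obj W) (f₁ : W ⟶ U₁) (f₂ : W ⟶ U₂),
      Q.map f₁ w = x₁ ∧ Q.map f₂ w = x₂ := by
  let a : Q.Elements := ⟨U₁, x₁⟩
  let b : Q.Elements := ⟨U₂, x₂⟩
  exact ⟨(IsCofiltered.min a b).1, (IsCofiltered.min a b).2, (IsCofiltered.minToLeft a b).1,
    (IsCofiltered.minToRight a b).1, (IsCofiltered.minToLeft a b).2, (IsCofiltered.minToRight a b).2⟩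

lemma exists_equalize' {U U' : C} (x : Q.obj U) (f g : U ⟶ U')
    (h : Q.map f x = Q.map g x) :
    ∃ (W : C) (w : Q.obj W) (e : W ⟶ U), Q.map e w = x ∧ e ≫ f = e ≫ g := by
  let a : Q.Elements := ⟨U, x⟩
  let b : Q.Elements := ⟨U', Q.map f x⟩
  let f' : a ⟶ b := ⟨f, rfl⟩
  let g' : a ⟶ b := ⟨g, h.symm⟩
  refine ⟨(IsCofiltered.eq f' g').1, (IsCofiltered.eq f' g').2, (IsCofiltered.eqHom f' g').1,
    (IsCofiltered.eqHom f' g').2, ?_⟩
  exact congrArg Subtype.val (IsCofiltered.eq_condition f' g')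

variable [HasBinaryProducts C] (E₀ : C) (x₀ : Q.obj E₀)

/-- The functor `E ↦ (E₀ ⨯ E ⟶ E₀)`. -/
noncomputable def myStar : C ⥤ Over E₀ where
  obj E := Over.mk (prod.fst : E₀ ⨯ E ⟶ E₀)
  map f := Over.homMk (prod.map (𝟙 _) f) (by simp)
  map_id E := by
    apply Over.OverMorphism.ext
    simp
  map_comp f g := by
    apply Over.OverMorphism.ext
    simp

lemma map_comp_app {A B D : C} (f : A ⟶ B) (g : B ⟶ D) (x : Q.obj A) :
    Q.map (f ≫ g) x = Q.map g (Q.map f x) := by simp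

/-- The projection from the slice functor. -/
noncomputable def starProj : myStar E₀ ⋙ FunctorToTypes.fromOverFunctor Q x₀ ⟶ Q where
  app E := ↾(fun y => Q.map (prod.snd : E₀ ⨯ E ⟶ E) y.1)
  naturality {E E'} f := by
    ext y
    show Q.map (prod.snd : E₀ ⨯ E' ⟶ E') (Q.map (prod.map (𝟙 E₀) f) y.1) =
      Q.map f (Q.map (prod.snd : E₀ ⨯ E ⟶ E) y.1)
    rw [← map_comp_app, ← map_comp_app, prod.map_snd]

lemma starProj_app (E : C) (y : (myStar E₀ ⋙ FunctorToTypes.fromOverFunctor Q x₀).obj E) :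
    (starProj Q E₀ x₀).app E y = Q.map (prod.snd : E₀ ⨯ E ⟶ E) y.1 := rfl

lemma starProj_bijective (E : C) : Function.Bijective ((starProj Q E₀ x₀).app E) := by
  constructor
  · intro y₁ y₂ h
    rw [starProj_app, starProj_app] at h
    have h₁ : Q.map (prod.fst : E₀ ⨯ E ⟶ E₀) y₁.1 = x₀ := y₁.2
    have h₂ : Q.map (prod.fst : E₀ ⨯ E ⟶ E₀) y₂.1 = x₀ := y₂.2
    obtain ⟨W, w, g₁, g₂, hg₁, hg₂⟩ :=
      exists_common' Q (U₁ := E₀ ⨯ E) (U₂ := E₀ ⨯ E) y₁.1 y₂.1
    have e1 : Q.map (g₁ ≫ prod.fst) w = Q.map (g₂ ≫ prod.fst) w := by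
      rw [map_comp_app, map_comp_app, hg₁, hg₂]
      exact h₁.trans h₂.symm
    obtain ⟨W', w', e', he', hee'⟩ := exists_equalize' Q w _ _ e1
    have e2 : Q.map (e' ≫ g₁ ≫ prod.snd) w' = Q.map (e' ≫ g₂ ≫ prod.snd) w' := by
      rw [map_comp_app, map_comp_app, map_comp_app, map_comp_app, he', hg₁, hg₂]
      exact h
    obtain ⟨W'', w'', e'', he'', hee''⟩ := exists_equalize' Q w' _ _ e2
    have key : e'' ≫ e' ≫ g₁ = e'' ≫ e' ≫ g₂ := by
      apply prod.hom_ext
      · rw [Category.assoc, Category.assoc, Category.assoc, Category.assoc, hee']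
      · rw [Category.assoc, Category.assoc, Category.assoc, Category.assoc]
        exact hee''
    apply Subtype.ext
    have a1 : y₁.1 = Q.map (e'' ≫ e' ≫ g₁) w'' := by
      rw [map_comp_app, map_comp_app, he'', he', hg₁]
    have a2 : y₂.1 = Q.map (e'' ≫ e' ≫ g₂) w'' := by
      rw [map_comp_app, map_comp_app, he'', he', hg₂]
    rw [a1, a2, key]
  · intro e
    obtain ⟨W, w, f, g, hf, hg⟩ := exists_common' Q e x₀
    refine ⟨⟨Q.map (prod.lift g f) w, ?_⟩, ?_⟩
    · show Q.map (prod.fst : E₀ ⨯ E ⟶ E₀) (Q.map (prod.lift g f) w) = x₀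
      rw [← map_comp_app, prod.lift_fst, hg]
    · rw [starProj_app]
      show Q.map (prod.snd : E₀ ⨯ E ⟶ E) (Q.map (prod.lift g f) w) = e
      rw [← map_comp_app, prod.lift_snd, hf]

/-- `Q` is recovered from its slice. -/
noncomputable def starIso : myStar E₀ ⋙ FunctorToTypes.fromOverFunctor Q x₀ ≅ Q :=
  haveI : ∀ E, IsIso ((starProj Q E₀ x₀).app E) := fun E =>
    (isIso_iff_bijective _).2 (starProj_bijective Q E₀ x₀ E)
  haveI : IsIso (starProj Q E₀ x₀) := NatIso.isIso_of_isIso_app _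
  asIso (starProj Q E₀ x₀)

end Groth.Agent.Lib.Helper45.AlgPt
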