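import Groth.Agent.Lib.Helper45.EtPt9

/-!
# Descending points with values in a field extension of a separably closed field along étale maps
-/

set_option autoImplicit false
set_option linter.style.haveILetI false
set_option linter.unusedSectionVars false

open CategoryTheory AlgebraicGeometry Opposite Limits
universe u
namespace Groth.Agent.Lib.Helper45.AlgPt

open Groth.Agent.Lib.Helper45.EtPt

lemma epi_specMap_of_field {K L : Type u} [Field K] [Field L] (ι : K →+* L) :
    Epi (Spec.map (CommRingCat.ofHom ι)) := by
  have hflat : Flat (Spec.map (CommRingCat.ofHom ι)) := by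
    rw [HasRingHomProperty.Spec_iff (P := @Flat)]
    algebraize [ι]
    show Module.Flat _ _
    infer_instance
  have hsurj : Surjective (Spec.map (CommRingCat.ofHom ι)) :=
    ⟨fun x => ⟨default, Subsingleton.elim _ _⟩⟩
  exact Flat.epi_of_flat_of_surjective _

set_option maxHeartbeats 1600000 in
set_option backward.isDefEq.respectTransparency.types false in
theorem exists_descend_point {V U : Scheme.{u}} (f : V ⟶ U) [Etale f] {Ω Ω' : Type u} [Field Ω]
    [IsSepClosed Ω] [Field Ω'] (ι : Ω →+* Ω') (ξ : Spec (.of Ω) ⟶ U)
    (l' : Spec (.of Ω') ⟶ V) (h : l' ≫ f = Spec.map (CommRingCat.ofHom ι) ≫ ξ) :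
    ∃ l : Spec (.of Ω) ⟶ V, l ≫ f = ξ ∧ Spec.map (CommRingCat.ofHom ι) ≫ l = l' := by
  obtain ⟨⟨s, a⟩, rfl⟩ := (Scheme.SpecToEquivOfField Ω U).symm.surjective ξ
  obtain ⟨⟨y, φ'⟩, rfl⟩ := (Scheme.SpecToEquivOfField Ω' V).symm.surjective l'
  change (Spec.map φ' ≫ V.fromSpecResidueField y) ≫ f =
    Spec.map (CommRingCat.ofHom ι) ≫ Spec.map a ≫ U.fromSpecResidueField s at h
  have hy : f y = s := by
    have h1 := congrArg (fun q : Spec (.of Ω') ⟶ U => q default) h
    simpa using h1
  subst hy
  have h2 : f.residueFieldMap y ≫ φ' = a ≫ CommRingCat.ofHom ι := by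
    apply specMap_fromSpecResidueField_inj (K := Ω') (f y)
    rw [Spec.map_comp, Spec.map_comp, Category.assoc, Category.assoc,
      Scheme.Hom.SpecMap_residueFieldMap_fromSpecResidueField]
    simpa using h
  let m := (f.residueFieldMap y).hom
  dsimp at m
  let a' := a.hom
  dsimp at a'
  let φr := φ'.hom
  dsimp at φr
  have h2' : ∀ c, φr (m c) = ι (a' c) := fun c => congrArg (fun q => q.hom c) h2
  algebraize [m, a', ι, φr]
  letI : Algebra (U.residueField (f y)) Ω' := (ι.comp a').toAlgebra
  haveI : IsScalarTower (U.residueField (f y)) Ω Ω' := IsScalarTower.of_algebraMap_eq fun _ => rfl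
  haveI : IsScalarTower (U.residueField (f y)) (V.residueField y) Ω' :=
    IsScalarTower.of_algebraMap_eq fun c => (h2' c).symm
  have hsep : Algebra.IsSeparable (U.residueField (f y)) (V.residueField y) :=
    isSeparable_residueField_of_etale f y
  have hmem : ∀ b : V.residueField y, φr b ∈ ι.range := by
    intro b
    have hb : IsSeparable (U.residueField (f y)) b := Algebra.IsSeparable.isSeparable _ b
    let φalg : V.residueField y →ₐ[U.residueField (f y)] Ω' :=
      { φr with commutes' := fun c => h2' c }
    have hb' : IsSeparable (U.residueField (f y)) (φr b) :=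
      IsSeparable.map φalg φr.injective hb
    have hb'' : IsSeparable Ω (φr b) := IsSeparable.tower_top Ω hb'
    have hint : IsIntegral Ω (φr b) := hb''.isIntegral
    have hdeg : (minpoly Ω (φr b)).degree = 1 :=
      IsSepClosed.degree_eq_one_of_irreducible Ω (minpoly.irreducible hint) hb''
    exact minpoly.mem_range_of_degree_eq_one Ω (φr b) hdeg
  choose φf hφf using hmem
  have hinj : Function.Injective ι := ι.injective
  let φ : V.residueField y →+* Ω :=
    { toFun := φf
      map_one' := hinj (by rw [hφf, map_one, map_one])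
      map_mul' := fun b c => hinj (by rw [hφf, map_mul, map_mul, hφf, hφf])
      map_zero' := hinj (by rw [hφf, map_zero, map_zero])
      map_add' := fun b c => hinj (by rw [hφf, map_add, map_add, hφf, hφf]) }
  refine ⟨Spec.map (CommRingCat.ofHom φ) ≫ V.fromSpecResidueField y, ?_, ?_⟩
  · show _ = Spec.map a ≫ U.fromSpecResidueField (f y)
    rw [Category.assoc, ← Scheme.Hom.SpecMap_residueFieldMap_fromSpecResidueField,
      ← Category.assoc, ← Spec.map_comp]
    congr 2
    ext c
    apply hinj
    show ι (φf (m c)) = ι (a' c)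
    rw [hφf]
    exact h2' c
  · show _ = Spec.map φ' ≫ V.fromSpecResidueField y
    rw [← Category.assoc, ← Spec.map_comp]
    congr 2
    ext b
    exact hφf b

end Groth.Agent.Lib.Helper45.AlgPt
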