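import Groth.Agent.Lib.Helper45.AlgPt2
import Groth.Agent.Lib.Helper45.AlgPt3
import Groth.Agent.Lib.Helper45.AlgPt4
import Groth.Agent.Lib.Helper4.EtPt

/-!
# Points of the small étale site of an algebraic space, part 5: comparison of fibre functors
-/

set_option autoImplicit false
set_option linter.style.haveILetI false
set_option linter.unusedSectionVars false
set_option backward.isDefEq.respectTransparency false

open CategoryTheory AlgebraicGeometry Opposite Limits
universe u
namespace Groth.Agent.Lib.Helper45.AlgPt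
open AlgSp Groth.Agent.Lib.Helper45.EtPt

variable {S : Scheme.{u}} {X : AlgSp.Sp S} {U : Over S} (p₀ : (yon S).obj U ⟶ X)
  (hp₀ : RepWith @Etale p₀)

lemma exists_fiber_chart (hs : RepWith @Surjective p₀)
    (P : GrothendieckTopology.Point.{u} (etTop X)) : Nonempty (P.fiber.obj (E₀ p₀ hp₀)) := by
  obtain ⟨⟨E, e⟩⟩ := (P.isCofiltered).nonempty
  have hs0 : RepWith @Surjective (E₀ p₀ hp₀).obj.hom := by
    show RepWith @Surjective ((yon S).map (EtOver.homOfEtale (EtPt.T U.left)) ≫ p₀)
    refine (repWith_isMultiplicative (S := S) @Surjective).comp_mem _ _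
      ((repWith_yon_map_iff _ _).2 ?_) hs
    show Surjective (𝟙 U.left)
    infer_instance
  have hsurj : Surjective (EtOver.prodFst E (E₀ p₀ hp₀)).hom.left.left :=
    hs0.2 E.obj.hom _ _ ((E₀ p₀ hp₀).property.1.isPullback E.obj.hom)
  have hcov : Sieve.ofArrows (fun _ : PUnit.{u + 1} => EtOver.prodObj E (E₀ p₀ hp₀))
      (fun _ => EtOver.prodFst E (E₀ p₀ hp₀)) ∈ etTop X E :=
    ofArrows_mem_etTop _ _ (fun x => ⟨PUnit.unit, hsurj.surj x⟩)
  obtain ⟨Y, f, hf, y, hy⟩ := P.jointly_surjective _ hcov e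
  rw [Sieve.mem_ofArrows_iff] at hf
  obtain ⟨_, b, rfl⟩ := hf
  exact ⟨P.fiber.map (b ≫ EtOver.prodSnd E (E₀ p₀ hp₀)) y⟩

variable (P' : GrothendieckTopology.Point.{u} U.left.smallEtaleTopology)

/-- The algebraic closure of the residue field of the geometric point of the chart. -/
abbrev Ombar : Type u := AlgebraicClosure (Om P')

/-- The inclusion of the separably closed field in its algebraic closure. -/
noncomputable abbrev iot : Om P' →+* Ombar P' := algebraMap (Om P') (Ombar P')

/-- The geometric point of the chart with algebraically closed field. -/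
noncomputable def xibar : Spec (.of (Ombar P')) ⟶ U.left :=
  Spec.map (CommRingCat.ofHom (iot P')) ≫ xi P'

/-- The geometric point of `X`. -/
noncomputable def geomP : FieldPt X := Helper4.EtPt.ofSpec p₀ (Ombar P') (xibar P')

lemma geomP_isGeometric : (geomP p₀ P').IsGeometric :=
  inferInstanceAs (IsAlgClosed (AlgebraicClosure (Om P')))

lemma geomP_toHom : (geomP p₀ P').toHom = (yon S).map (Over.homMk (xibar P') rfl) ≫ p₀ :=
  Helper4.EtPt.toHom_ofSpec p₀ (Ombar P') (xibar P')

/-- The lift of the geometric point to an étale `U`-scheme attached to a point with values in the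
algebraic closure. -/
noncomputable def liftOf (V : U.left.Etale) (l' : Spec (.of (Ombar P')) ⟶ V.left)
    (h : l' ≫ V.hom = xibar P') : (FieldPt.liftsTo (geomP p₀ P')).obj ((G p₀ hp₀).obj V) :=
  ⟨Over.homMk l' (by
      show l' ≫ V.hom ≫ U.hom = xibar P' ≫ U.hom
      rw [← Category.assoc, h]), by
    rw [geomP_toHom]
    show (yon S).map _ ≫ (yon S).map (EtOver.homOfEtale V) ≫ p₀ = _
    rw [← Category.assoc, ← Functor.map_comp]
    congr 2
    apply Over.OverMorphism.ext
    exact h⟩

lemma liftOf_left (V : U.left.Etale) (l' : Spec (.of (Ombar P')) ⟶ V.left)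
    (h : l' ≫ V.hom = xibar P') : (liftOf p₀ hp₀ P' V l' h).1.left = l' := rfl

/-- The tautological lift of the geometric point to the chart. -/
noncomputable def ubar : (FieldPt.liftsTo (geomP p₀ P')).obj (E₀ p₀ hp₀) :=
  liftOf p₀ hp₀ P' (EtPt.T U.left) (xibar P') (Category.comp_id _)

lemma liftOf_map_toT (V : U.left.Etale) (l' : Spec (.of (Ombar P')) ⟶ V.left)
    (h : l' ≫ V.hom = xibar P') :
    (FieldPt.liftsTo (geomP p₀ P')).map ((G p₀ hp₀).map (EtPt.toT V)) (liftOf p₀ hp₀ P' V l' h) =
      ubar p₀ hp₀ P' := by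
  apply Subtype.ext
  rw [FieldPt.liftsTo_map_coe]
  apply Over.OverMorphism.ext
  show l' ≫ V.hom = xibar P'
  exact h

/-- The comparison from geometric fibres of the chart to compatible lifts. -/
noncomputable def betaHom : (Scheme.pointSmallEtale (xi P')).fiber ⟶
    F p₀ hp₀ ⋙ FunctorToTypes.fromOverFunctor (FieldPt.liftsTo (geomP p₀ P')) (ubar p₀ hp₀ P') where
  app V := ↾(fun t => ⟨liftOf p₀ hp₀ P' V (Spec.map (CommRingCat.ofHom (iot P')) ≫ lft t) (by
      rw [Category.assoc, lft_w]
      rfl), liftOf_map_toT p₀ hp₀ P' V _ _⟩)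
  naturality {V V'} φ := by
    ext t
    apply Subtype.ext
    apply Subtype.ext
    apply Over.OverMorphism.ext
    show Spec.map (CommRingCat.ofHom (iot P')) ≫ lft ((v P').map φ t) =
      (Spec.map (CommRingCat.ofHom (iot P')) ≫ lft t) ≫ φ.left
    rw [lft_map, Category.assoc]

lemma betaHom_bijective (V : U.left.Etale) :
    Function.Bijective ((betaHom p₀ hp₀ P').app V) := by
  constructor
  · intro t₁ t₂ h
    have h1 := congrArg (fun z => z.1.1.left) h
    have h2 : Spec.map (CommRingCat.ofHom (iot P')) ≫ lft t₁ =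
        Spec.map (CommRingCat.ofHom (iot P')) ≫ lft t₂ := h1
    have := epi_specMap_of_field (iot P')
    rw [cancel_epi] at h2
    exact v_ext _ _ h2
  · rintro ⟨⟨w, hw1⟩, hw2⟩
    have hw3 : w.left ≫ V.hom = xibar P' := by
      have := congrArg (fun z => z.1.left) hw2
      exact this
    obtain ⟨l, hl1, hl2⟩ := exists_descend_point V.hom (iot P') (xi P') w.left hw3
    refine ⟨mkV P' l hl1, ?_⟩
    apply Subtype.ext
    apply Subtype.ext
    apply Over.OverMorphism.ext
    exact hl2

/-- The comparison isomorphism. -/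
noncomputable def betaIso : (Scheme.pointSmallEtale (xi P')).fiber ≅
    F p₀ hp₀ ⋙ FunctorToTypes.fromOverFunctor (FieldPt.liftsTo (geomP p₀ P')) (ubar p₀ hp₀ P') :=
  haveI : ∀ V, IsIso ((betaHom p₀ hp₀ P').app V) := fun V =>
    (isIso_iff_bijective _).2 (betaHom_bijective p₀ hp₀ P' V)
  haveI : IsIso (betaHom p₀ hp₀ P') := NatIso.isIso_of_isIso_app _
  asIso (betaHom p₀ hp₀ P')

end Groth.Agent.Lib.Helper45.AlgPt
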