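import Groth.Agent.Lib.Helper45.AlgPt5

/-!
# Points of the small étale site of an algebraic space, part 6: every point is geometric
-/

set_option autoImplicit false
set_option linter.style.haveILetI false
set_option linter.unusedSectionVars false
set_option backward.isDefEq.respectTransparency false

open CategoryTheory AlgebraicGeometry Opposite Limits
universe u
namespace Groth.Agent.Lib.Helper45.AlgPt
open AlgSp Groth.Agent.Lib.Helper45.EtPt

section Abstract

universe w v₁ v₂ u₁ u₂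
variable {C : Type u₁} [Category.{v₁} C] {D : Type u₂} [Category.{v₂} D]

/-- Cancel an equivalence on the left of a natural isomorphism. -/
noncomputable def cancelEquiv (F : C ⥤ D) [F.IsEquivalence] {H₁ H₂ : D ⥤ Type w}
    (e : F ⋙ H₁ ≅ F ⋙ H₂) : H₁ ≅ H₂ :=
  (Functor.leftUnitor H₁).symm ≪≫ Functor.isoWhiskerRight F.asEquivalence.counitIso.symm H₁ ≪≫
    Functor.associator _ _ _ ≪≫ Functor.isoWhiskerLeft F.inv e ≪≫
    (Functor.associator _ _ _).symm ≪≫ Functor.isoWhiskerRight F.asEquivalence.counitIso H₂ ≪≫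
    Functor.leftUnitor H₂

variable {F₁ F₂ : C ⥤ Type w} (α : F₁ ≅ F₂)

instance map_faithful : (CategoryOfElements.map α.hom).Faithful where
  map_injective {x y} f g h := by
    apply Subtype.ext
    have := congrArg (fun k => k.1) h
    exact this

lemma app_injective (c : C) : Function.Injective (α.hom.app c) := by
  intro a b h
  have := congrArg (α.inv.app c) h
  simpa using this

instance map_full : (CategoryOfElements.map α.hom).Full where
  map_surjective {x y} g := by
    refine ⟨⟨g.1, ?_⟩, ?_⟩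
    · apply app_injective α
      have h1 : α.hom.app y.1 (F₁.map g.1 x.2) = F₂.map g.1 (α.hom.app x.1 x.2) :=
        congrArg (fun q => q x.2) (α.hom.naturality g.1)
      exact h1.trans g.2
    · apply Subtype.ext
      rfl

instance map_essSurj : (CategoryOfElements.map α.hom).EssSurj where
  mem_essImage y := by
    refine ⟨⟨y.1, α.inv.app y.1 y.2⟩, ⟨CategoryOfElements.isoMk _ _ (Iso.refl _) ?_⟩⟩
    show F₂.map (𝟙 _) (α.hom.app y.1 (α.inv.app y.1 y.2)) = y.2
    simp

instance map_isEquivalence : (CategoryOfElements.map α.hom).IsEquivalence where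

end Abstract

variable {S : Scheme.{u}}

theorem exists_fiber_iso (X : AlgSp.Space S)
    (P : GrothendieckTopology.Point.{u} (AlgSp.etTop X.obj)) :
    ∃ p : AlgSp.FieldPt X.obj, p.IsGeometric ∧
      Nonempty (P.fiber ≅ AlgSp.FieldPt.liftsTo p) := by
  obtain ⟨U, p₀, hp₀, hs⟩ := X.property.atlas
  obtain ⟨x₀⟩ := exists_fiber_chart p₀ hp₀ hs P
  obtain ⟨α⟩ := EtPt.exists_iso (chartPoint p₀ hp₀ P x₀)
  have hp := geomP_isGeometric p₀ (chartPoint p₀ hp₀ P x₀)
  refine ⟨geomP p₀ (chartPoint p₀ hp₀ P x₀), hp, ⟨?_⟩⟩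
  haveI : IsCofiltered P.fiber.Elements := P.isCofiltered
  haveI : IsCofiltered (FieldPt.liftsTo (geomP p₀ (chartPoint p₀ hp₀ P x₀))).Elements :=
    Helper4.EtPt.isCofiltered_etNbhd _ X.property hp
  have e₁ : F p₀ hp₀ ⋙ FunctorToTypes.fromOverFunctor P.fiber x₀ ≅
      F p₀ hp₀ ⋙ FunctorToTypes.fromOverFunctor
        (FieldPt.liftsTo (geomP p₀ (chartPoint p₀ hp₀ P x₀)))
        (ubar p₀ hp₀ (chartPoint p₀ hp₀ P x₀)) :=
    α ≪≫ betaIso p₀ hp₀ (chartPoint p₀ hp₀ P x₀)
  exact (starIso P.fiber (E₀ p₀ hp₀) x₀).symm ≪≫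
    Functor.isoWhiskerLeft (myStar (E₀ p₀ hp₀)) (cancelEquiv (F p₀ hp₀) e₁) ≪≫
    starIso _ (E₀ p₀ hp₀) (ubar p₀ hp₀ (chartPoint p₀ hp₀ P x₀))

theorem exists_sheafFiber_iso (X : AlgSp.Space S)
    (P : GrothendieckTopology.Point.{u} (AlgSp.etTop X.obj)) :
    ∃ p : AlgSp.FieldPt X.obj, p.IsGeometric ∧
      Nonempty (P.sheafFiber (A := Type (u + 1)) ≅ AlgSp.stalkEtFunctor (Type (u + 1)) p) := by
  obtain ⟨p, hp, ⟨γ⟩⟩ := exists_fiber_iso X P
  refine ⟨p, hp, ⟨?_⟩⟩
  refine Functor.isoWhiskerLeft (sheafToPresheaf (etTop X.obj) (Type (u + 1))) ?_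
  exact Functor.isoWhiskerLeft
    ((Functor.whiskeringLeft _ _ _).obj (CategoryOfElements.π (FieldPt.liftsTo p)).op)
    (Functor.Final.colimIso (CategoryOfElements.map γ.hom).op)

end Groth.Agent.Lib.Helper45.AlgPt
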