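import Groth.Prelude.Def_BigSite
import Mathlib.CategoryTheory.Sites.LocallyBijective
import Mathlib.CategoryTheory.Sites.Localization
import Mathlib.CategoryTheory.Sites.Limits
import Mathlib.CategoryTheory.Limits.FunctorCategory.Basic
import Mathlib.CategoryTheory.IsConnected

/-!
# Almost cocontinuous functors (helper45)

`IsTrivialOnEmpty`, `W_whiskerLeft_of_W` (restriction along a continuous almost cocontinuous
functor preserves local isomorphisms between presheaves that are trivial on empty objects),
`isIso_sheafify_comparison`, `W_of_isColimit`, `nonempty_isColimit_of_W` (a cocone of sheaves is a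
colimit iff the comparison from the colimit of presheaves is a local isomorphism),
`preservesColimitsOfShape_sheafPushforwardContinuous`.
-/

set_option autoImplicit false
set_option backward.isDefEq.respectTransparency false
universe u

open CategoryTheory CategoryTheory.Limits Opposite

namespace Groth.Agent.Lib.Helper45.AlmostCocont

variable {C D : Type u} [SmallCategory C] [SmallCategory D] (J : GrothendieckTopology C)
  (K : GrothendieckTopology D) (u : C ⥤ D)

/-- a presheaf with singleton values on the objects covered by the empty sieve. -/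
def IsTrivialOnEmpty (G : Dᵒᵖ ⥤ Type u) : Prop :=
  ∀ V : D, (⊥ : Sieve V) ∈ K V → Nonempty (Unique (G.obj (op V)))

lemma isTrivialOnEmpty_of_isSheaf {G : Dᵒᵖ ⥤ Type u} (hG : Presieve.IsSheaf K G) :
    IsTrivialOnEmpty K G := by
  intro V hV
  have h := hG _ hV
  let x : Presieve.FamilyOfElements G (⊥ : Sieve V).arrows := fun _ _ h => h.elim
  have hx : x.Compatible := fun _ _ _ _ _ _ _ h => h.elim
  obtain ⟨t, -, ht⟩ := h x hx
  exact ⟨⟨⟨t⟩, fun s => ht s (fun _ _ h => h.elim)⟩⟩

variable {J K u}

theorem W_whiskerLeft_of_W (hu : BigSite.IsAlmostCocontinuous u J K) {G G' : Dᵒᵖ ⥤ Type u}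
    (κ : G ⟶ G') (hκ : K.W κ) (hG : IsTrivialOnEmpty K G) (hG' : IsTrivialOnEmpty K G') :
    J.W (Functor.whiskerLeft u.op κ) := by
  rw [GrothendieckTopology.W_iff_isLocallyBijective] at hκ ⊢
  obtain ⟨hinj, hsurj⟩ := hκ
  constructor
  · refine ⟨fun {X} s t hst => ?_⟩
    have h1 := Presheaf.equalizerSieve_mem (D := Type u) (FD := TypeCat.Fun) (CD := fun X => X)
      K κ (X := op (u.obj X.unop)) s t hst
    obtain ⟨R', hR', hR'2⟩ := hu X.unop _ h1
    refine J.superset_covering ?_ hR'
    intro V g hg
    rcases hR'2 g hg with h | h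
    · obtain ⟨hU⟩ := hG _ h
      exact (hU.uniq _).trans (hU.uniq _).symm
    · exact h
  · refine ⟨fun {U} s => ?_⟩
    have h1 := Presheaf.imageSieve_mem K κ (U := op (u.obj U)) s
    obtain ⟨R', hR', hR'2⟩ := hu U _ h1
    refine J.superset_covering ?_ hR'
    intro V g hg
    rcases hR'2 g hg with h | h
    · obtain ⟨hU⟩ := hG _ h
      obtain ⟨hU'⟩ := hG' _ h
      exact ⟨hU.default, (hU'.uniq _).trans (hU'.uniq _).symm⟩
    · exact h

theorem isIso_sheafify_comparison (J : GrothendieckTopology C) (K : GrothendieckTopology D)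
    (u : C ⥤ D) [u.IsContinuous J K]
    (hu : BigSite.IsAlmostCocontinuous u J K) (G : Dᵒᵖ ⥤ Type u)
    (hG : ∀ V : D, (⊥ : Sieve V) ∈ K V → Nonempty (Unique (G.obj (op V)))) :
    IsIso (((sheafificationAdjunction J (Type u)).homEquiv (u.op ⋙ G)
      ((u.sheafPushforwardContinuous (Type u) J K).obj ((presheafToSheaf K (Type u)).obj G))).symm
        (Functor.whiskerLeft u.op (toSheafify K G))) := by
  have hW : J.W (Functor.whiskerLeft u.op (toSheafify K G)) :=
    W_whiskerLeft_of_W hu _ (K.W_toSheafify G) hG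
      (isTrivialOnEmpty_of_isSheaf K
        ((isSheaf_iff_isSheaf_of_type _ _).1 ((presheafToSheaf K (Type u)).obj G).property))
  rw [Adjunction.homEquiv_counit]
  have : IsIso ((presheafToSheaf J (Type u)).map (Functor.whiskerLeft u.op (toSheafify K G))) :=
    (J.W_iff _).1 hW
  infer_instance

section Colimits

variable (J) {I : Type} [SmallCategory I] {D' : I ⥤ Sheaf J (Type u)} (c : Cocone D')
  (cP : Cocone (D' ⋙ sheafToPresheaf J (Type u))) (hcP : IsColimit cP)
  (κ : cP.pt ⟶ c.pt.obj) (hκ : ∀ i, cP.ι.app i ≫ κ = (c.ι.app i).hom)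

include hcP hκ in
lemma W_of_isColimit (hc : IsColimit c) : J.W κ := by
  intro Z hZ
  constructor
  · intro g g' hgg'
    have : (ObjectProperty.homMk g : c.pt ⟶ ⟨Z, hZ⟩) = ObjectProperty.homMk g' := by
      apply hc.hom_ext
      intro i
      apply Sheaf.hom_ext
      change (c.ι.app i).hom ≫ g = (c.ι.app i).hom ≫ g'
      rw [← hκ, Category.assoc, Category.assoc]
      exact congrArg (fun t => cP.ι.app i ≫ t) hgg'
    exact congrArg (fun t => t.hom) this
  · intro h
    let s : Cocone D' :=
      { pt := ⟨Z, hZ⟩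
        ι :=
          { app := fun i => ObjectProperty.homMk (cP.ι.app i ≫ h)
            naturality := by
              intro i i' f
              apply Sheaf.hom_ext
              change (D'.map f).hom ≫ cP.ι.app i' ≫ h = (cP.ι.app i ≫ h) ≫ 𝟙 _
              rw [Category.comp_id, ← Category.assoc]
              congr 1
              exact cP.w f } }
    refine ⟨(hc.desc s).hom, ?_⟩
    apply hcP.hom_ext
    intro i
    change cP.ι.app i ≫ κ ≫ (hc.desc s).hom = cP.ι.app i ≫ h
    rw [← Category.assoc, hκ]
    exact congrArg (fun t => t.hom) (hc.fac s i)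

include hcP hκ in
lemma nonempty_isColimit_of_W (hW : J.W κ) : Nonempty (IsColimit c) := by
  have hbij : ∀ s : Cocone D', Function.Bijective (fun g : c.pt.obj ⟶ s.pt.obj => κ ≫ g) :=
    fun s => hW s.pt.obj s.pt.property
  refine ⟨
    { desc := fun s => ObjectProperty.homMk
        ((hbij s).surjective (hcP.desc ((sheafToPresheaf J (Type u)).mapCocone s))).choose
      fac := ?_
      uniq := ?_ }⟩
  · intro s i
    apply Sheaf.hom_ext
    have h1 := ((hbij s).surjective
      (hcP.desc ((sheafToPresheaf J (Type u)).mapCocone s))).choose_spec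
    change (c.ι.app i).hom ≫ _ = (s.ι.app i).hom
    rw [← hκ, Category.assoc]
    refine (congrArg (fun t => cP.ι.app i ≫ t) h1).trans ?_
    exact hcP.fac ((sheafToPresheaf J (Type u)).mapCocone s) i
  · intro s m hm
    apply Sheaf.hom_ext
    apply (hbij s).injective
    have h1 := ((hbij s).surjective
      (hcP.desc ((sheafToPresheaf J (Type u)).mapCocone s))).choose_spec
    refine Eq.trans ?_ h1.symm
    apply hcP.hom_ext
    intro i
    change cP.ι.app i ≫ κ ≫ m.hom = _
    rw [← Category.assoc, hκ]
    refine Eq.trans ?_ (hcP.fac ((sheafToPresheaf J (Type u)).mapCocone s) i).symm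
    exact congrArg (fun t => t.hom) (hm i)

end Colimits

section Connected

variable {I : Type} [SmallCategory I] [IsConnected I] {D' : I ⥤ Sheaf K (Type u)}
  (cP : Cocone (D' ⋙ sheafToPresheaf K (Type u))) (hcP : IsColimit cP)

include hcP in
lemma isTrivialOnEmpty_of_isColimit : IsTrivialOnEmpty K cP.pt := by
  intro V hV
  have hU : ∀ i, Nonempty (Unique ((D'.obj i).obj.obj (op V))) := fun i =>
    isTrivialOnEmpty_of_isSheaf K
      ((isSheaf_iff_isSheaf_of_type _ _).1 (D'.obj i).property) V hV
  let e : ∀ i, Unique ((D'.obj i).obj.obj (op V)) := fun i => (hU i).some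
  have hc := isColimitOfPreserves ((evaluation Dᵒᵖ (Type u)).obj (op V)) hcP
  let φ : I → cP.pt.obj (op V) := fun i => (cP.ι.app i).app (op V) (e i).default
  have hφ : ∀ i i', φ i = φ i' := by
    apply constant_of_preserves_morphisms
    intro i i' f
    have h0 : ((D' ⋙ sheafToPresheaf K (Type u)).map f).app (op V) ≫ (cP.ι.app i').app (op V) =
        (cP.ι.app i).app (op V) := by
      rw [← NatTrans.comp_app, cP.w f]
    have h1 := ConcreteCategory.congr_hom h0 (e i).default
    refine h1.symm.trans ?_
    change (cP.ι.app i').app (op V) ((D'.map f).hom.app (op V) (e i).default) = _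
    congr 1
    exact (e i').uniq _
  obtain ⟨i₀⟩ := (inferInstance : Nonempty I)
  refine ⟨⟨⟨φ i₀⟩, fun x => ?_⟩⟩
  obtain ⟨i, y, rfl⟩ := Types.jointly_surjective_of_isColimit hc x
  change (cP.ι.app i).app (op V) y = φ i₀
  rw [(e i).uniq y]
  exact hφ i i₀

end Connected

theorem preservesColimitsOfShape_sheafPushforwardContinuous (J : GrothendieckTopology C)
    (K : GrothendieckTopology D) (u : C ⥤ D) [u.IsContinuous J K]
    (hu : BigSite.IsAlmostCocontinuous u J K) (I : Type) [SmallCategory I] [IsConnected I] :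
    PreservesColimitsOfShape I (u.sheafPushforwardContinuous (Type u) J K) := by
  refine ⟨fun {D'} => ⟨fun {c} hc => ?_⟩⟩
  let cP := colimit.cocone (D' ⋙ sheafToPresheaf K (Type u))
  let hcP : IsColimit cP := colimit.isColimit _
  let κ : cP.pt ⟶ c.pt.obj := hcP.desc ((sheafToPresheaf K (Type u)).mapCocone c)
  have hκ : ∀ i, cP.ι.app i ≫ κ = (c.ι.app i).hom :=
    fun i => hcP.fac ((sheafToPresheaf K (Type u)).mapCocone c) i
  have hW : K.W κ := W_of_isColimit K c cP hcP κ hκ hc
  have hW' : J.W (Functor.whiskerLeft u.op κ) :=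
    W_whiskerLeft_of_W hu κ hW (isTrivialOnEmpty_of_isColimit cP hcP)
      (isTrivialOnEmpty_of_isSheaf K ((isSheaf_iff_isSheaf_of_type _ _).1 c.pt.property))
  let cP' : Cocone ((D' ⋙ u.sheafPushforwardContinuous (Type u) J K) ⋙
      sheafToPresheaf J (Type u)) :=
    ((Functor.whiskeringLeft Cᵒᵖ Dᵒᵖ (Type u)).obj u.op).mapCocone cP
  have hcP' : IsColimit cP' :=
    isColimitOfPreserves ((Functor.whiskeringLeft Cᵒᵖ Dᵒᵖ (Type u)).obj u.op) hcP
  exact nonempty_isColimit_of_W J ((u.sheafPushforwardContinuous (Type u) J K).mapCocone c)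
    cP' hcP' (Functor.whiskerLeft u.op κ)
    (fun i => by
      change Functor.whiskerLeft u.op (cP.ι.app i) ≫ Functor.whiskerLeft u.op κ = _
      rw [← Functor.whiskerLeft_comp, hκ]
      rfl) hW'

end Groth.Agent.Lib.Helper45.AlmostCocont
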