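import Mathlib.CategoryTheory.Limits.FunctorCategory.Basic
import Mathlib.CategoryTheory.Limits.Types.Limits
import Mathlib.CategoryTheory.Limits.Types.Colimits
import Mathlib.CategoryTheory.FinCategory.Basic
import Mathlib.CategoryTheory.IsConnected
import Mathlib.Data.Finite.Sigma

set_option autoImplicit false
set_option backward.isDefEq.respectTransparency false
open CategoryTheory CategoryTheory.Limits
universe v

namespace Groth.Agent.Lib.Helper45.AlmostFiltered

variable {I : Type v} [SmallCategory I]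

section
variable (h1 : ∀ ⦃w x y : I⦄ (a : w ⟶ x) (b : w ⟶ y), ∃ (z : I) (c : x ⟶ z) (d : y ⟶ z), a ≫ c = b ≫ d)

include h1 in
lemma colimit_ι_eq_iff (F : I ⥤ Type v) {i i' : I} (x : F.obj i) (x' : F.obj i') :
    colimit.ι F i x = colimit.ι F i' x' ↔
      ∃ (k : I) (f : i ⟶ k) (g : i' ⟶ k), F.map f x = F.map g x' := by
  constructor
  · intro h
    have h' := Types.colimit_eq h
    let R : (Σ j, F.obj j) → (Σ j, F.obj j) → Prop := fun p q =>
      ∃ (k : I) (f : p.1 ⟶ k) (g : q.1 ⟶ k), F.map f p.2 = F.map g q.2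
    have hR : ∀ p q, Relation.EqvGen F.ColimitTypeRel p q → R p q := by
      intro p q hpq
      induction hpq with
      | rel p q hpq =>
        obtain ⟨f, hf⟩ := hpq
        refine ⟨q.1, f, 𝟙 _, ?_⟩
        rw [hf, CategoryTheory.Functor.map_id]
        rfl
      | refl p => exact ⟨p.1, 𝟙 _, 𝟙 _, rfl⟩
      | symm p q _ ih =>
        obtain ⟨k, f, g, hfg⟩ := ih
        exact ⟨k, g, f, hfg.symm⟩
      | trans p q r _ _ ih1 ih2 =>
        obtain ⟨k, f, g, hfg⟩ := ih1
        obtain ⟨k', f', g', hfg'⟩ := ih2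
        obtain ⟨z, c, d, hcd⟩ := h1 g f'
        refine ⟨z, f ≫ c, g' ≫ d, ?_⟩
        rw [Functor.map_comp, Functor.map_comp, comp_apply, comp_apply, hfg, ← hfg',
          ← comp_apply, ← comp_apply, ← Functor.map_comp, ← Functor.map_comp, hcd]
    exact hR _ _ h'
  · rintro ⟨k, f, g, hfg⟩
    exact Types.colimit_sound' f g hfg

include h1 in
lemma exists_common_finset {k : I} {Φ : Type*} (m : Φ → I) (h : ∀ u, k ⟶ m u) (S : Finset Φ) :
    ∃ (z : I) (g : k ⟶ z), ∀ u ∈ S, ∃ c : m u ⟶ z, h u ≫ c = g := by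
  classical
  induction S using Finset.induction_on with
  | empty => exact ⟨k, 𝟙 k, by simp⟩
  | insert a S ha ih =>
    obtain ⟨z, g, hg⟩ := ih
    obtain ⟨z', p, q, hpq⟩ := h1 g (h a)
    refine ⟨z', g ≫ p, ?_⟩
    intro u hu
    rcases Finset.mem_insert.1 hu with rfl | hu
    · exact ⟨q, hpq.symm⟩
    · obtain ⟨c, hc⟩ := hg u hu
      exact ⟨c ≫ p, by rw [← Category.assoc, hc]⟩

include h1 in
lemma exists_common {k : I} {Φ : Type*} [Finite Φ] (m : Φ → I) (h : ∀ u, k ⟶ m u) :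
    ∃ (z : I) (g : k ⟶ z) (c : ∀ u, m u ⟶ z), ∀ u, h u ≫ c u = g := by
  classical
  have := Fintype.ofFinite Φ
  obtain ⟨z, g, hg⟩ := exists_common_finset h1 m h Finset.univ
  choose c hc using fun u => hg u (Finset.mem_univ u)
  exact ⟨z, g, c, hc⟩

/-- two objects with a common target. -/
def Conn (i i' : I) : Prop := ∃ k : I, Nonempty (i ⟶ k) ∧ Nonempty (i' ⟶ k)

lemma conn_symm {i i' : I} (h : Conn i i') : Conn i' i := by
  obtain ⟨k, h1, h2⟩ := h
  exact ⟨k, h2, h1⟩

include h1 in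
lemma conn_trans {i i' i'' : I} (h : Conn i i') (h' : Conn i' i'') : Conn i i'' := by
  obtain ⟨k, ⟨f⟩, ⟨g⟩⟩ := h
  obtain ⟨k', ⟨f'⟩, ⟨g'⟩⟩ := h'
  obtain ⟨z, c, d, _⟩ := h1 g f'
  exact ⟨z, ⟨f ≫ c⟩, ⟨g' ≫ d⟩⟩

include h1 in
lemma exists_cocone_finset {Φ : Type*} (i : Φ → I) (i₀ : I) (hi : ∀ u, Conn (i u) i₀)
    (S : Finset Φ) : ∃ z : I, Nonempty (i₀ ⟶ z) ∧ ∀ u ∈ S, Nonempty (i u ⟶ z) := by
  classical
  induction S using Finset.induction_on with
  | empty => exact ⟨i₀, ⟨𝟙 _⟩, by simp⟩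
  | insert a S ha ih =>
    obtain ⟨z, ⟨g⟩, hg⟩ := ih
    obtain ⟨m, ⟨p⟩, ⟨q⟩⟩ := hi a
    obtain ⟨z', c, d, _⟩ := h1 g q
    refine ⟨z', ⟨g ≫ c⟩, ?_⟩
    intro u hu
    rcases Finset.mem_insert.1 hu with rfl | hu
    · exact ⟨p ≫ d⟩
    · obtain ⟨e⟩ := hg u hu
      exact ⟨e ≫ c⟩

include h1 in
lemma exists_cocone {Φ : Type*} [Finite Φ] (i : Φ → I) (i₀ : I) (hi : ∀ u, Conn (i u) i₀) :
    ∃ (z : I), ∀ u, Nonempty (i u ⟶ z) := by
  classical
  have := Fintype.ofFinite Φ
  obtain ⟨z, _, hz⟩ := exists_cocone_finset h1 i i₀ hi Finset.univ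
  exact ⟨z, fun u => hz u (Finset.mem_univ u)⟩

end

section
variable (h2 : ∀ ⦃x y : I⦄ (a b : x ⟶ y), ∃ (z : I) (c : y ⟶ z), a ≫ c = b ≫ c)

include h2 in
lemma exists_coeq_finset {x y : I} {Φ : Type*} (p : Φ → (x ⟶ y)) (u₀ : Φ) (S : Finset Φ) :
    ∃ (z : I) (e : y ⟶ z), ∀ u ∈ S, p u ≫ e = p u₀ ≫ e := by
  classical
  induction S using Finset.induction_on with
  | empty => exact ⟨y, 𝟙 y, by simp⟩
  | insert a S ha ih =>
    obtain ⟨z, e, he⟩ := ih
    obtain ⟨z', e', he'⟩ := h2 (p a ≫ e) (p u₀ ≫ e)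
    refine ⟨z', e ≫ e', ?_⟩
    intro u hu
    rcases Finset.mem_insert.1 hu with rfl | hu
    · simpa using he'
    · rw [← Category.assoc, he u hu, Category.assoc]

include h2 in
lemma exists_coeq {x y : I} {Φ : Type*} [Finite Φ] (p : Φ → (x ⟶ y)) (u₀ : Φ) :
    ∃ (z : I) (e : y ⟶ z), ∀ u, p u ≫ e = p u₀ ≫ e := by
  classical
  have := Fintype.ofFinite Φ
  obtain ⟨z, e, he⟩ := exists_coeq_finset h2 p u₀ Finset.univ
  exact ⟨z, e, fun u => he u (Finset.mem_univ u)⟩

end


section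
variable (h1 : ∀ ⦃w x y : I⦄ (a : w ⟶ x) (b : w ⟶ y), ∃ (z : I) (c : x ⟶ z) (d : y ⟶ z), a ≫ c = b ≫ d)
  (h2 : ∀ ⦃x y : I⦄ (a b : x ⟶ y), ∃ (z : I) (c : y ⟶ z), a ≫ c = b ≫ c)

include h1 h2 in
/-- a finite family of pairs of arrows has a common refinement. -/
lemma exists_common₂ {i i' : I} {Φ : Type*} [Finite Φ] [Nonempty Φ] (m : Φ → I)
    (f : ∀ u, i ⟶ m u) (g : ∀ u, i' ⟶ m u) :
    ∃ (z : I) (f' : i ⟶ z) (g' : i' ⟶ z) (c : ∀ u, m u ⟶ z),
      (∀ u, f u ≫ c u = f') ∧ ∀ u, g u ≫ c u = g' := by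
  obtain ⟨z₁, f₁, c, hc⟩ := exists_common h1 m f
  obtain ⟨z₂, e, he⟩ := exists_coeq h2 (fun u => g u ≫ c u) (Classical.arbitrary Φ)
  refine ⟨z₂, f₁ ≫ e, (g (Classical.arbitrary Φ) ≫ c (Classical.arbitrary Φ)) ≫ e,
    fun u => c u ≫ e, ?_, ?_⟩
  · intro u
    rw [← Category.assoc, hc]
  · intro u
    rw [← Category.assoc]
    exact he u

lemma colim_map_ι {F G : I ⥤ Type v} (α : F ⟶ G) (i : I) (x : F.obj i) :
    colim.map α (colimit.ι F i x) = colimit.ι G i (α.app i x) := by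
  exact ConcreteCategory.congr_hom (colimit.ι_map α i) x

lemma cone_w_apply {J : Type} [SmallCategory J] {K : J ⥤ I ⥤ Type v} (c : Cone K) {j j' : J}
    (u : j ⟶ j') (i : I) (w : c.pt.obj i) :
    (K.map u).app i ((c.π.app j).app i w) = (c.π.app j').app i w := by
  have := congrArg (fun t => t.app i) (c.w u)
  exact ConcreteCategory.congr_hom this w

include h1 h2 in
theorem preservesLimitsOfShape_colim (J : Type) [SmallCategory J] [FinCategory J] [IsConnected J] :
    PreservesLimitsOfShape J (colim : (I ⥤ Type v) ⥤ Type v) := by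
  constructor
  intro K
  constructor
  intro c hc
  have hev : ∀ i : I, ∀ s ∈ (K ⋙ (evaluation I (Type v)).obj i).sections,
      ∃! x : c.pt.obj i, ∀ j, (c.π.app j).app i x = s j := fun i =>
    (Types.isLimit_iff (((evaluation I (Type v)).obj i).mapCone c)).1
      ⟨isLimitOfPreserves ((evaluation I (Type v)).obj i) hc⟩
  rw [Types.isLimit_iff]
  intro s hs
  have hs' : ∀ {j j' : J} (u : j ⟶ j'), colim.map (K.map u) (s j) = s j' := fun u => hs u
  -- uniqueness statement
  have huniq : ∀ x x' : colimit c.pt, (∀ j, colim.map (c.π.app j) x = colim.map (c.π.app j) x') →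
      x = x' := by
    intro x x' hxx'
    obtain ⟨i, w, rfl⟩ := Types.jointly_surjective' x
    obtain ⟨i', w', rfl⟩ := Types.jointly_surjective' x'
    have h3 : ∀ j, ∃ (k : I) (f : i ⟶ k) (g : i' ⟶ k),
        (K.obj j).map f ((c.π.app j).app i w) = (K.obj j).map g ((c.π.app j).app i' w') := by
      intro j
      have e1 := colim_map_ι (F := c.pt) (G := K.obj j) (c.π.app j) i w
      have e2 := colim_map_ι (F := c.pt) (G := K.obj j) (c.π.app j) i' w'
      exact (colimit_ι_eq_iff h1 (K.obj j) _ _).1 (e1.symm.trans ((hxx' j).trans e2))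
    choose k f g hfg using h3
    obtain ⟨z, f', g', d, hf', hg'⟩ := exists_common₂ h1 h2 k f g
    have h4 : c.pt.map f' w = c.pt.map g' w' := by
      let t : ∀ j, (K ⋙ (evaluation I (Type v)).obj z).obj j := fun j =>
        (K.obj j).map f' ((c.π.app j).app i w)
      have ht : t ∈ (K ⋙ (evaluation I (Type v)).obj z).sections := by
        intro j j' u
        change (K.map u).app z ((K.obj j).map f' ((c.π.app j).app i w)) =
          (K.obj j').map f' ((c.π.app j').app i w)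
        rw [NatTrans.naturality_apply (K.map u) f', cone_w_apply]
      refine (hev z t ht).unique ?_ ?_
      · intro j
        exact NatTrans.naturality_apply (c.π.app j) f' w
      · intro j
        refine (NatTrans.naturality_apply (c.π.app j) g' w').trans ?_
        change _ = (K.obj j).map f' ((c.π.app j).app i w)
        rw [← hf' j, ← hg' j, Functor.map_comp, Functor.map_comp, comp_apply, comp_apply, hfg]
    exact Types.colimit_sound' f' g' h4
  -- existence
  have hex : ∃ x : colimit c.pt, ∀ j, colim.map (c.π.app j) x = s j := by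
    have h3 : ∀ j, ∃ (i : I) (x : (K.obj j).obj i), colimit.ι (K.obj j) i x = s j := fun j =>
      Types.jointly_surjective' (s j)
    choose i x hx using h3
    have hconn : ∀ {j j' : J} (u : j ⟶ j'), Conn (i j) (i j') := by
      intro j j' u
      have := hs' u
      rw [← hx j, ← hx j', colim_map_ι] at this
      obtain ⟨k, f, g, _⟩ := (colimit_ι_eq_iff h1 (K.obj j') _ _).1 this
      exact ⟨k, ⟨f⟩, ⟨g⟩⟩
    let j₀ : J := Classical.arbitrary J
    have hconn₀ : ∀ j, Conn (i j) (i j₀) := by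
      intro j
      refine induct_on_objects {j | Conn (i j) (i j₀)} (j₀ := j₀) ⟨i j₀, ⟨𝟙 _⟩, ⟨𝟙 _⟩⟩ ?_ j
      intro j₁ j₂ u
      constructor
      · intro h
        exact conn_trans h1 (conn_symm (hconn u)) h
      · intro h
        exact conn_trans h1 (hconn u) h
    obtain ⟨z₀, hz₀⟩ := exists_cocone h1 i (i j₀) hconn₀
    have a : ∀ j, i j ⟶ z₀ := fun j => (hz₀ j).some
    let y : ∀ j, (K.obj j).obj z₀ := fun j => (K.obj j).map (a j) (x j)
    have hy : ∀ j, colimit.ι (K.obj j) z₀ (y j) = s j := by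
      intro j
      rw [← hx j]
      exact colimit.w_apply (K.obj j) (a j) (x j)
    -- for each arrow of J an arrow out of z₀ making the images agree
    have h4 : ∀ (u : Σ j j' : J, j ⟶ j'), ∃ (m : I) (h : z₀ ⟶ m),
        (K.obj u.2.1).map h ((K.map u.2.2).app z₀ (y u.1)) = (K.obj u.2.1).map h (y u.2.1) := by
      rintro ⟨j, j', u⟩
      have := hs' u
      rw [← hy j, ← hy j', colim_map_ι] at this
      obtain ⟨k, f, g, hfg⟩ := (colimit_ι_eq_iff h1 (K.obj j') _ _).1 this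
      obtain ⟨m, e, he⟩ := h2 f g
      refine ⟨m, f ≫ e, ?_⟩
      change (K.obj j').map (f ≫ e) ((K.map u).app z₀ (y j)) = (K.obj j').map (f ≫ e) (y j')
      conv_rhs => rw [he]
      rw [Functor.map_comp, Functor.map_comp, comp_apply, comp_apply, hfg]
    choose m h hh using h4
    have hfin : Finite (Σ j j' : J, j ⟶ j') := by
      have : Finite J := @Finite.of_fintype _ FinCategory.fintypeObj
      have : ∀ j j' : J, Finite (j ⟶ j') := fun j j' =>
        @Finite.of_fintype _ (FinCategory.fintypeHom j j')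
      infer_instance
    obtain ⟨z, g, d, hd⟩ := exists_common h1 m h
    let t : ∀ j, (K ⋙ (evaluation I (Type v)).obj z).obj j := fun j => (K.obj j).map g (y j)
    have ht : t ∈ (K ⋙ (evaluation I (Type v)).obj z).sections := by
      intro j j' u
      change (K.map u).app z ((K.obj j).map g (y j)) = (K.obj j').map g (y j')
      rw [NatTrans.naturality_apply (K.map u) g]
      have := hh ⟨j, j', u⟩
      rw [← hd ⟨j, j', u⟩, Functor.map_comp, comp_apply, comp_apply]
      exact congrArg _ this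
    obtain ⟨w, hw, _⟩ := hev z t ht
    refine ⟨colimit.ι c.pt z w, ?_⟩
    intro j
    refine (colim_map_ι (F := c.pt) (G := K.obj j) (c.π.app j) z w).trans ?_
    refine (congrArg (colimit.ι (K.obj j) z) (hw j)).trans ?_
    rw [← hy j]
    exact colimit.w_apply (K.obj j) g (y j)
  obtain ⟨x, hx⟩ := hex
  exact ⟨x, hx, fun y hy => huniq _ _ (fun j => (hy j).trans (hx j).symm)⟩

end

end Groth.Agent.Lib.Helper45.AlmostFiltered
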