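import Mathlib

/-!
# M6 for helper92's S18636 (helper45): localisation plumbing

`exists_pi`: for primes `q ≤ p`, `a ∈ p \ q` generating `p` modulo `q` up to units of `R_p`
(`hgen`), the `R_p`-module `(R ⧸ q)_p` surjects onto the residue field `k(p)` with kernel
`a • (R ⧸ q)_p`, and `a` is a nonzerodivisor on `(R ⧸ q)_p`.
Auxiliary: `toRes`, `piMap`, `piMap_mk_eq_zero_iff`.
-/

set_option autoImplicit false
universe u
open CategoryTheory Abelian IsLocalRing

namespace Groth.Agent.Lib.Helper45.BassGrM6

section

variable {R : Type u} [CommRing R] (p q : Ideal R) [p.IsPrime]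

/-- The map `R ⧸ q → k(p)` for `q ≤ p`. -/
noncomputable def toRes (hqp : q ≤ p) : (R ⧸ q) →ₗ[R] ResidueField (Localization.AtPrime p) :=
  Submodule.liftQ q (Algebra.linearMap R (ResidueField (Localization.AtPrime p))) (by
    intro a ha
    rw [LinearMap.mem_ker, Algebra.linearMap_apply,
      IsScalarTower.algebraMap_apply R (Localization.AtPrime p)
        (ResidueField (Localization.AtPrime p)),
      ResidueField.algebraMap_eq, IsLocalRing.residue_eq_zero_iff,
      IsLocalization.AtPrime.to_map_mem_maximal_iff _ p]
    exact hqp ha)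

theorem toRes_mk (hqp : q ≤ p) (x : R) :
    toRes p q hqp (Ideal.Quotient.mk q x) =
      IsLocalRing.residue _ (algebraMap R (Localization.AtPrime p) x) := rfl

theorem toRes_mk_eq_zero_iff (hqp : q ≤ p) (x : R) :
    toRes p q hqp (Ideal.Quotient.mk q x) = 0 ↔ x ∈ p := by
  rw [toRes_mk, IsLocalRing.residue_eq_zero_iff,
    IsLocalization.AtPrime.to_map_mem_maximal_iff _ p]

theorem units_res (s : p.primeCompl) :
    IsUnit (algebraMap R (Module.End R (ResidueField (Localization.AtPrime p))) s) :=
  (isLocalizedModule_id p.primeCompl (ResidueField (Localization.AtPrime p))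
    (Localization.AtPrime p)).map_units s

/-- the map `(R ⧸ q)_p → k(p)` -/
noncomputable def piMap (hqp : q ≤ p) :
    LocalizedModule p.primeCompl (R ⧸ q) →ₗ[Localization.AtPrime p]
      ResidueField (Localization.AtPrime p) :=
  LinearMap.extendScalarsOfIsLocalization p.primeCompl (Localization.AtPrime p)
    (LocalizedModule.lift p.primeCompl (toRes p q hqp) (units_res p))

theorem piMap_mk_eq_zero_iff (hqp : q ≤ p) (x : R) (s : p.primeCompl) :
    piMap p q hqp (LocalizedModule.mk (Ideal.Quotient.mk q x) s) = 0 ↔ x ∈ p := by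
  change LocalizedModule.lift p.primeCompl (toRes p q hqp) (units_res p)
    (LocalizedModule.mk (Ideal.Quotient.mk q x) s) = 0 ↔ _
  rw [LocalizedModule.lift_mk, Module.End.algebraMap_isUnit_inv_apply_eq_iff, smul_zero,
    toRes_mk_eq_zero_iff]

end

theorem exists_pi {R : Type u} [CommRing R] (p q : Ideal R) [p.IsPrime] [q.IsPrime] (hqp : q ≤ p)
    (a : R) (ha : a ∈ p) (haq : a ∉ q)
    (hgen : ∀ b ∈ p, ∃ h c : R, h ∉ p ∧ h * b - c * a ∈ q) :
    ∃ π : LocalizedModule p.primeCompl (R ⧸ q) →ₗ[Localization.AtPrime p]
        ResidueField (Localization.AtPrime p),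
      Function.Surjective π ∧
      (∀ v, π v = 0 ↔ ∃ w, v = algebraMap R (Localization.AtPrime p) a • w) ∧
      (∀ v : LocalizedModule p.primeCompl (R ⧸ q),
        algebraMap R (Localization.AtPrime p) a • v = 0 → v = 0) := by
  refine ⟨piMap p q hqp, ?_, ?_, ?_⟩
  · intro y
    obtain ⟨z, rfl⟩ := IsLocalRing.residue_surjective y
    obtain ⟨r, s, rfl⟩ := IsLocalization.exists_mk'_eq p.primeCompl z
    refine ⟨LocalizedModule.mk (Ideal.Quotient.mk q r) s, ?_⟩
    change LocalizedModule.lift p.primeCompl (toRes p q hqp) (units_res p)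
      (LocalizedModule.mk (Ideal.Quotient.mk q r) s) = _
    rw [LocalizedModule.lift_mk, Module.End.algebraMap_isUnit_inv_apply_eq_iff, toRes_mk]
    have h1 : ((s : R) • IsLocalRing.residue (Localization.AtPrime p)
        (IsLocalization.mk' (Localization.AtPrime p) r s)) =
        IsLocalRing.residue (Localization.AtPrime p)
          (algebraMap R (Localization.AtPrime p) s * IsLocalization.mk' _ r s) := by
      rw [map_mul, Algebra.smul_def]
      rfl
    rw [h1, mul_comm, IsLocalization.mk'_spec]
  · intro v
    constructor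
    · intro hv
      induction v using LocalizedModule.induction_on with
      | h x s =>
        obtain ⟨x, rfl⟩ := Ideal.Quotient.mk_surjective x
        rw [piMap_mk_eq_zero_iff] at hv
        obtain ⟨h, c, hh, hc⟩ := hgen x hv
        refine ⟨LocalizedModule.mk (Ideal.Quotient.mk q c) (s * ⟨h, hh⟩), ?_⟩
        rw [algebraMap_smul, LocalizedModule.smul'_mk, LocalizedModule.mk_eq]
        refine ⟨1, ?_⟩
        simp only [one_smul, Submonoid.smul_def, Submonoid.coe_mul]
        rw [← sub_eq_zero]
        change ((s : R) * h) • (Ideal.Quotient.mk q x) - (s : R) • (a • Ideal.Quotient.mk q c) = 0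
        rw [mul_smul, ← smul_sub]
        have : h • (Ideal.Quotient.mk q x) - a • Ideal.Quotient.mk q c = 0 := by
          change Ideal.Quotient.mk q (h * x) - Ideal.Quotient.mk q (a * c) = 0
          rw [← map_sub, Ideal.Quotient.eq_zero_iff_mem, mul_comm a c]
          exact hc
        rw [this, smul_zero]
    · rintro ⟨w, rfl⟩
      rw [map_smul]
      have h0 : IsLocalRing.residue (Localization.AtPrime p)
          (algebraMap R (Localization.AtPrime p) a) = 0 := by
        rw [IsLocalRing.residue_eq_zero_iff, IsLocalization.AtPrime.to_map_mem_maximal_iff _ p]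
        exact ha
      rw [Algebra.smul_def]
      change IsLocalRing.residue _ (algebraMap R (Localization.AtPrime p) a) * _ = 0
      rw [h0, zero_mul]
  · intro v hv
    induction v using LocalizedModule.induction_on with
    | h x s =>
      obtain ⟨x, rfl⟩ := Ideal.Quotient.mk_surjective x
      rw [algebraMap_smul, LocalizedModule.smul'_mk, ← LocalizedModule.zero_mk s,
        LocalizedModule.mk_eq] at hv
      obtain ⟨t, ht⟩ := hv
      simp only [Submonoid.smul_def, smul_zero] at ht
      have h1 : (t : R) * ((s : R) * (a * x)) ∈ q := by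
        rw [← Ideal.Quotient.eq_zero_iff_mem]
        exact ht
      have htq : (t : R) ∉ q := fun h => t.2 (hqp h)
      have hsq : (s : R) ∉ q := fun h => s.2 (hqp h)
      have h2 := (Ideal.IsPrime.mem_or_mem inferInstance h1).resolve_left htq
      have h3 := (Ideal.IsPrime.mem_or_mem inferInstance h2).resolve_left hsq
      have h4 := (Ideal.IsPrime.mem_or_mem inferInstance h3).resolve_left haq
      have : Ideal.Quotient.mk q x = 0 := Ideal.Quotient.eq_zero_iff_mem.2 h4
      rw [this, LocalizedModule.zero_mk]

end Groth.Agent.Lib.Helper45.BassGrM6
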