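import Groth.Agent.Lib.Helper45.BigSiteTop3

/-!
# Sheaves for the topology generated by a class of morphisms: auxiliary lemmas
-/

set_option autoImplicit false
set_option linter.style.haveILetI false
set_option linter.unusedSectionVars false

universe v u

open CategoryTheory CategoryTheory.Limits AlgebraicGeometry

namespace Groth.Agent.Lib.Helper45.BigSiteTop

section abstract

variable {𝒞 : Type*} [Category 𝒞]

lemma mem_of_factor (J' : GrothendieckTopology 𝒞) {X E : 𝒞} (R : Sieve X) (p : E ⟶ X)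
    (hp : Sieve.generate (Presieve.singleton p) ∈ J' X)
    (hR : R.pullback p ∈ J' E) : R ∈ J' X := by
  apply J'.transitive hp
  rintro Y g ⟨W, h, _, ⟨⟩, rfl⟩
  rw [Sieve.pullback_comp]
  exact J'.pullback_stable h hR

lemma le_finestTopologySingle (K : GrothendieckTopology 𝒞) (F : 𝒞ᵒᵖ ⥤ Type v)
    (hF : Presieve.IsSheaf K F) : K ≤ Sheaf.finestTopologySingle F := by
  intro X R hR Y f
  exact hF _ (K.pullback_stable f hR)

lemma isSheaf_finestTopologySingle (F : 𝒞ᵒᵖ ⥤ Type v) :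
    Presieve.IsSheaf (Sheaf.finestTopologySingle F) F := by
  intro X R hR
  simpa using hR X (𝟙 X)

end abstract

variable {S : Scheme.{u}}

lemma overEquiv_left_iff {X : Over S} (R : Sieve X) {Z : Over S} (f : Z ⟶ X) :
    Sieve.overEquiv X R f.left ↔ R f := by
  have e : (Sieve.overEquiv X).symm (Sieve.overEquiv X R) = R :=
    (Sieve.overEquiv X).symm_apply_apply R
  conv_rhs => rw [← e]
  exact (Sieve.overEquiv_symm_iff _ _).symm

/-- A family of morphisms over `S` whose underlying family is Zariski covering generates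
a covering sieve for the big Zariski topology over `S`. -/
lemma generate_mem_zariski_over {X : Over S} {ι : Type*} (Y : ι → Over S) (g : ∀ i, Y i ⟶ X)
    (h : Sieve.ofArrows (fun i => (Y i).left) (fun i => (g i).left) ∈
      Scheme.zariskiTopology X.left) :
    Sieve.generate (Presieve.ofArrows Y g) ∈ (Scheme.zariskiTopology.over S) X := by
  rw [GrothendieckTopology.mem_over_iff]
  refine GrothendieckTopology.superset_covering _ ?_ h
  rw [Sieve.ofArrows, Sieve.generate_le_iff]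
  rintro _ _ ⟨i⟩
  exact (overEquiv_left_iff _ (g i)).2 (Sieve.le_generate _ _ _ (Presieve.ofArrows.mk i))

variable {C : MorphismProperty Scheme.{u}}

lemma FamA.of_mem
    (haff : ∀ (U : Scheme.{u}) [IsAffine U] (κ : Type u) [Finite κ] (V : κ → U.Opens),
      (∀ j, IsAffineOpen (V j)) → ⨆ j, V j = ⊤ → C (Limits.Sigma.desc fun j => (V j).ι))
    {X : Scheme.{u}} {R : Sieve X} {A : Scheme.{u}} [IsAffine A] (a : A ⟶ X) (ha : R a) :
    FamA C R a := by
  refine ⟨PUnit.{u + 1}, inferInstance, fun _ => ((⊤ : A.Opens) : Scheme.{u}),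
    fun _ => (⊤ : A.Opens).ι, fun _ => ?_, fun _ => R.downward_closed ha _, ?_⟩
  · exact isAffineOpen_top A
  · exact haff A PUnit.{u + 1} (fun _ => ⊤) (fun _ => isAffineOpen_top A) (by simp)

lemma exists_finite_affine_cover (Y : Scheme.{u}) [CompactSpace Y] :
    ∃ (κ : Type u) (_ : Finite κ) (A : κ → Y.Opens), (∀ l, IsAffineOpen (A l)) ∧ ⨆ l, A l = ⊤ := by
  have h : ∀ y : Y, ∃ U : Y.Opens, IsAffineOpen U ∧ y ∈ U := fun y => by
    obtain ⟨U, hU, hxU, -⟩ := exists_isAffineOpen_mem_and_subset (x := y) (U := ⊤) trivial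
    exact ⟨U, hU, hxU⟩
  choose U' hU' htU' using h
  obtain ⟨s, hs⟩ := isCompact_univ.elim_finite_subcover
    (fun t : Y => ((U' t : Y.Opens) : Set Y))
    (fun t => (U' t).isOpen) (fun t _ => Set.mem_iUnion.2 ⟨t, htU' t⟩)
  refine ⟨s, inferInstance, fun t => U' t.1, fun t => hU' t.1, ?_⟩
  rw [eq_top_iff]
  intro y _
  obtain ⟨t, ht⟩ := Set.mem_iUnion.1 (hs (Set.mem_univ y))
  obtain ⟨hts, hyt⟩ := Set.mem_iUnion.1 ht
  exact TopologicalSpace.Opens.mem_iSup.2 ⟨⟨t, hts⟩, hyt⟩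

variable [C.IsStableUnderComposition] [C.IsStableUnderBaseChange]

lemma zariski_le
    (hcoprod : ∀ (κ : Type u) [Finite κ] (A B : κ → Scheme.{u}) (f : ∀ j, A j ⟶ B j),
      (∀ j, C (f j)) → C (Limits.Sigma.map f))
    (haff : ∀ (U : Scheme.{u}) [IsAffine U] (κ : Type u) [Finite κ] (V : κ → U.Opens),
      (∀ j, IsAffineOpen (V j)) → ⨆ j, V j = ⊤ → C (Limits.Sigma.desc fun j => (V j).ι)) :
    Scheme.zariskiTopology ≤ topology hcoprod haff := by
  intro X R hR
  obtain ⟨𝒰, h𝒰⟩ := Scheme.mem_grothendieckTopology_iff.1 hR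
  intro x
  obtain ⟨i, y, rfl⟩ := 𝒰.exists_eq x
  haveI : IsOpenImmersion (𝒰.f i) := 𝒰.map_prop i
  obtain ⟨U, hU, hxU, hUle⟩ := exists_isAffineOpen_mem_and_subset (x := 𝒰.f i y)
    (U := (𝒰.f i).opensRange) ⟨y, rfl⟩
  haveI : IsAffine (U : Scheme.{u}) := hU
  have hRU : R U.ι := by
    have : U.ι = IsOpenImmersion.lift (𝒰.f i) U.ι (by simpa using hUle) ≫ 𝒰.f i :=
      (IsOpenImmersion.lift_fac _ _ _).symm
    rw [this]
    exact R.downward_closed (h𝒰 _ _ (Presieve.ofArrows.mk i)) _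
  exact ⟨U, hU, hxU, FamA.of_mem haff U.ι hRU⟩

lemma generate_singleton_mem
    (hqc : ∀ {A B : Scheme.{u}} (f : A ⟶ B), C f → QuasiCompact f)
    (hcoprod : ∀ (κ : Type u) [Finite κ] (A B : κ → Scheme.{u}) (f : ∀ j, A j ⟶ B j),
      (∀ j, C (f j)) → C (Limits.Sigma.map f))
    (haff : ∀ (U : Scheme.{u}) [IsAffine U] (κ : Type u) [Finite κ] (V : κ → U.Opens),
      (∀ j, IsAffineOpen (V j)) → ⨆ j, V j = ⊤ → C (Limits.Sigma.desc fun j => (V j).ι))
    (hres : ∀ (W X' : Scheme.{u}) [IsAffine W] (f : X' ⟶ W), C f →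
      ∀ (κ : Type u) [Finite κ] (A : κ → X'.Opens), (∀ l, IsAffineOpen (A l)) → ⨆ l, A l = ⊤ →
        C (Limits.Sigma.desc fun l => (A l).ι ≫ f))
    {X X' : Scheme.{u}} (f : X' ⟶ X) (hf : C f) :
    Sieve.generate (Presieve.singleton f) ∈ topology hcoprod haff X := by
  intro x
  obtain ⟨U, hU, hxU, -⟩ := exists_isAffineOpen_mem_and_subset (x := x) (U := ⊤) trivial
  haveI : IsAffine (U : Scheme.{u}) := hU
  refine ⟨U, hU, hxU, ?_⟩
  have hfU : C (f ∣_ U) := C.of_isPullback (isPullback_morphismRestrict f U).flip hf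
  haveI : QuasiCompact (f ∣_ U) := hqc _ hfU
  haveI : CompactSpace ((f ⁻¹ᵁ U : X'.Opens) : Scheme.{u}) :=
    (HasAffineProperty.iff_of_isAffine (P := @QuasiCompact)).1 this
  obtain ⟨κ, hκ, A, hA, hs⟩ := exists_finite_affine_cover ((f ⁻¹ᵁ U : X'.Opens) : Scheme.{u})
  haveI := hκ
  refine ⟨κ, hκ, fun l => A l, fun l => (A l).ι ≫ (f ∣_ U), fun l => hA l, fun l => ?_,
    hres U _ (f ∣_ U) hfU κ A hA hs⟩
  rw [Category.assoc, morphismRestrict_ι]
  exact ⟨_, (A l).ι ≫ (f ⁻¹ᵁ U).ι, f, ⟨⟩, by simp⟩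

end Groth.Agent.Lib.Helper45.BigSiteTop
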