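import Groth.Agent.Lib.Helper45.BigSiteSheaf

/-!
# Sheaves for the topology generated by a class of morphisms: characterisation
-/

set_option autoImplicit false
set_option linter.style.haveILetI false
set_option linter.unusedSectionVars false

universe v u

open CategoryTheory CategoryTheory.Limits AlgebraicGeometry

namespace Groth.Agent.Lib.Helper45.BigSiteTop

variable {S : Scheme.{u}} {C : MorphismProperty Scheme.{u}}
  [C.IsStableUnderComposition] [C.IsStableUnderBaseChange]

lemma mem_over_topology_iff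
    (hcoprod : ∀ (κ : Type u) [Finite κ] (A B : κ → Scheme.{u}) (f : ∀ j, A j ⟶ B j),
      (∀ j, C (f j)) → C (Limits.Sigma.map f))
    (haff : ∀ (U : Scheme.{u}) [IsAffine U] (κ : Type u) [Finite κ] (V : κ → U.Opens),
      (∀ j, IsAffineOpen (V j)) → ⨆ j, V j = ⊤ → C (Limits.Sigma.desc fun j => (V j).ι))
    (X : Over S) (R : Sieve X) : R ∈ ((topology hcoprod haff).over S) X ↔
      ∃ (ι : Type u) (U : ι → X.left.Opens), (∀ i, IsAffineOpen (U i)) ∧ ⨆ i, U i = ⊤ ∧
        ∀ i, ∃ (κ : Type u) (_ : Finite κ) (V : κ → Over S) (φ : ∀ j, V j ⟶ X)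
          (ψ : ∀ j, (V j).left ⟶ (U i : Scheme.{u})),
          (∀ j, IsAffine (V j).left) ∧ (∀ j, R.arrows (φ j)) ∧ (∀ j, ψ j ≫ (U i).ι = (φ j).left) ∧
            C (Limits.Sigma.desc ψ) := by
  rw [GrothendieckTopology.mem_over_iff, mem_topology]
  constructor
  · intro h
    choose U hU hxU HF using h
    refine ⟨X.left, U, hU, ?_, fun i => ?_⟩
    · rw [eq_top_iff]
      intro x _
      exact TopologicalSpace.Opens.mem_iSup.2 ⟨x, hxU x⟩
    · obtain ⟨κ, hκ, T, ψ, hT, hR, hC⟩ := HF i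
      refine ⟨κ, hκ, fun j => Over.mk ((ψ j ≫ (U i).ι) ≫ X.hom),
        fun j => Over.homMk (ψ j ≫ (U i).ι) rfl, ψ, hT, fun j => ?_, fun j => rfl, hC⟩
      exact (Sieve.overEquiv_iff R _).1 (hR j)
  · rintro ⟨ι, U, hU, hcov, h⟩ x
    have hx : x ∈ (⨆ i, U i : X.left.Opens) := by rw [hcov]; trivial
    obtain ⟨i, hi⟩ := TopologicalSpace.Opens.mem_iSup.1 hx
    obtain ⟨κ, hκ, V, φ, ψ, hV, hR, hψ, hC⟩ := h i
    refine ⟨U i, hU i, hi, κ, hκ, fun j => (V j).left, ψ, hV, fun j => ?_, hC⟩
    rw [hψ j]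
    exact (overEquiv_left_iff R (φ j)).2 (hR j)

omit [C.IsStableUnderComposition] in
lemma C_pullback_snd_left {X X' Y : Over S} (f : X' ⟶ X) (g : Y ⟶ X) (hf : C f.left) :
    C (pullback.snd f g).left := by
  have h := (IsPullback.of_hasPullback f g).map (Over.forget S)
  exact C.of_isPullback h hf

omit [C.IsStableUnderComposition] in
lemma generate_singleton_mem_finest (F : (Over S)ᵒᵖ ⥤ Type v)
    (hF : ∀ (X X' : Over S) (f : X' ⟶ X), C f.left → Presieve.IsSheafFor F (Presieve.singleton f))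
    {X X' : Over S} (f : X' ⟶ X) (hf : C f.left) :
    Sieve.generate (Presieve.singleton f) ∈ Sheaf.finestTopologySingle F X := by
  intro Y g
  rw [← Sieve.pullbackArrows_comm, Presieve.pullback_singleton,
    ← Presieve.isSheafFor_iff_generate]
  exact hF _ _ _ (C_pullback_snd_left f g hf)

theorem sheaf_iff (S : Scheme.{u})
    (C : MorphismProperty Scheme.{u}) [C.IsStableUnderComposition] [C.IsStableUnderBaseChange]
    (hqc : ∀ {A B : Scheme.{u}} (f : A ⟶ B), C f → QuasiCompact f)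
    (hcoprod : ∀ (κ : Type u) [Finite κ] (A B : κ → Scheme.{u}) (f : ∀ j, A j ⟶ B j),
      (∀ j, C (f j)) → C (Limits.Sigma.map f))
    (haff : ∀ (U : Scheme.{u}) [IsAffine U] (κ : Type u) [Finite κ] (V : κ → U.Opens),
      (∀ j, IsAffineOpen (V j)) → ⨆ j, V j = ⊤ → C (Limits.Sigma.desc fun j => (V j).ι))
    (hres : ∀ (W X' : Scheme.{u}) [IsAffine W] (f : X' ⟶ W), C f →
      ∀ (κ : Type u) [Finite κ] (A : κ → X'.Opens), (∀ l, IsAffineOpen (A l)) → ⨆ l, A l = ⊤ →
        C (Limits.Sigma.desc fun l => (A l).ι ≫ f))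
    (J : GrothendieckTopology (Over S))
    (hJ : ∀ (X : Over S) (R : Sieve X), R ∈ J X ↔
      ∃ (ι : Type u) (U : ι → X.left.Opens), (∀ i, IsAffineOpen (U i)) ∧ ⨆ i, U i = ⊤ ∧
        ∀ i, ∃ (κ : Type u) (_ : Finite κ) (V : κ → Over S) (φ : ∀ j, V j ⟶ X)
          (ψ : ∀ j, (V j).left ⟶ (U i : Scheme.{u})),
          (∀ j, IsAffine (V j).left) ∧ (∀ j, R.arrows (φ j)) ∧ (∀ j, ψ j ≫ (U i).ι = (φ j).left) ∧
            C (Limits.Sigma.desc ψ))
    (F : (Over S)ᵒᵖ ⥤ Type v) :
    Presieve.IsSheaf J F ↔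
      (Presieve.IsSheaf (Scheme.zariskiTopology.over S) F ∧
        ∀ (X X' : Over S) (f : X' ⟶ X), C f.left → Presieve.IsSheafFor F (Presieve.singleton f)) := by
  have hJeq : J = (topology hcoprod haff).over S :=
    le_antisymm (fun X R h => (mem_over_topology_iff hcoprod haff X R).2 ((hJ X R).1 h))
      (fun X R h => (hJ X R).2 ((mem_over_topology_iff hcoprod haff X R).1 h))
  constructor
  · intro hF
    refine ⟨Presieve.isSheaf_of_le _ ?_ hF, fun X X' f hf => ?_⟩
    · rw [hJeq]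
      intro X R hR
      rw [GrothendieckTopology.mem_over_iff] at hR ⊢
      exact zariski_le hcoprod haff _ hR
    · rw [Presieve.isSheafFor_iff_generate]
      apply hF
      rw [hJeq, GrothendieckTopology.mem_over_iff]
      refine GrothendieckTopology.superset_covering _ ?_
        (generate_singleton_mem hqc hcoprod haff hres f.left hf)
      rw [Sieve.generate_le_iff]
      rintro _ _ ⟨⟩
      exact (overEquiv_left_iff _ f).2 (Sieve.le_generate _ _ _ ⟨⟩)
  · rintro ⟨hZ, hC⟩
    refine Presieve.isSheaf_of_le _ ?_ (isSheaf_finestTopologySingle F)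
    intro X R hR
    obtain ⟨ι, U, hU, hcov, h⟩ := (hJ X R).1 hR
    have h1 : Scheme.zariskiTopology.over S ≤ Sheaf.finestTopologySingle F :=
      le_finestTopologySingle _ F hZ
    let Yo : ι → Over S := fun i => Over.mk ((U i).ι ≫ X.hom)
    let go : ∀ i, Yo i ⟶ X := fun i => Over.homMk (U i).ι
    have hZ1 : Sieve.generate (Presieve.ofArrows Yo go) ∈ Sheaf.finestTopologySingle F X :=
      h1 _ (generate_mem_zariski_over Yo go
        ((X.left.openCoverOfIsOpenCover U hcov).mem_grothendieckTopology))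
    apply (Sheaf.finestTopologySingle F).transitive hZ1
    rintro W k ⟨W', k', _, ⟨i⟩, rfl⟩
    rw [Sieve.pullback_comp]
    apply (Sheaf.finestTopologySingle F).pullback_stable
    obtain ⟨κ, hκ, V, φ, ψ, hV, hR, hψ, hCψ⟩ := h i
    haveI := hκ
    let E : Over S := Over.mk (Limits.Sigma.desc ψ ≫ (Yo i).hom)
    let p : E ⟶ Yo i := Over.homMk (Limits.Sigma.desc ψ)
    apply mem_of_factor (Sheaf.finestTopologySingle F) _ p
      (generate_singleton_mem_finest F hC p hCψ)
    have hw : ∀ j, Limits.Sigma.ι (fun j => (V j).left) j ≫ E.hom = (V j).hom := by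
      intro j
      rw [← Over.w (φ j), ← hψ j]
      simp [E, Yo]
    let e : ∀ j, V j ⟶ E := fun j => Over.homMk (Limits.Sigma.ι (fun j => (V j).left) j) (hw j)
    have hZ2 : Sieve.generate (Presieve.ofArrows V e) ∈ Sheaf.finestTopologySingle F E :=
      h1 _ (generate_mem_zariski_over V e
        (sigmaOpenCover (fun j => (V j).left)).mem_grothendieckTopology)
    refine (Sheaf.finestTopologySingle F).superset_covering ?_ hZ2
    rw [Sieve.generate_le_iff]
    rintro _ _ ⟨j⟩
    have he : e j ≫ p ≫ go i = φ j := by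
      ext
      simp [e, p, go, hψ j]
    simp only [Sieve.pullback_apply, Category.assoc, he]
    exact hR j

end Groth.Agent.Lib.Helper45.BigSiteTop
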