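import Mathlib

/-!
# A Grothendieck topology on schemes from a class `C` of quasi-compact morphisms:
affine-local finite `C`-coverings.
-/

set_option autoImplicit false
set_option linter.style.haveILetI false
set_option linter.unusedSectionVars false

universe u

open CategoryTheory CategoryTheory.Limits AlgebraicGeometry

namespace Groth.Agent.Lib.Helper45.BigSiteTop

variable (C : MorphismProperty Scheme.{u})

/-- A morphism `a : A ⟶ X` is finitely `C`-covered by members of the sieve `R`. -/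
def FamA {X : Scheme.{u}} (R : Sieve X) {A : Scheme.{u}} (a : A ⟶ X) : Prop :=
  ∃ (κ : Type u) (_ : Finite κ) (T : κ → Scheme.{u}) (ψ : ∀ j, T j ⟶ A),
    (∀ j, IsAffine (T j)) ∧ (∀ j, R (ψ j ≫ a)) ∧ C (Limits.Sigma.desc ψ)

variable {C}

lemma FamA.mono {X : Scheme.{u}} {R R' : Sieve X} (h : R ≤ R') {A : Scheme.{u}} {a : A ⟶ X}
    (H : FamA C R a) : FamA C R' a := by
  obtain ⟨κ, hκ, T, ψ, hT, hR, hC⟩ := H
  exact ⟨κ, hκ, T, ψ, hT, fun j => h _ (hR j), hC⟩

section

variable [C.IsStableUnderBaseChange]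

/-- Base change of a finite `C`-covering family along a morphism of affine schemes. -/
lemma FamA.baseChange {X : Scheme.{u}} {R : Sieve X} {A : Scheme.{u}} [IsAffine A] {a : A ⟶ X}
    (H : FamA C R a) {A' : Scheme.{u}} [IsAffine A'] (b : A' ⟶ A) : FamA C R (b ≫ a) := by
  obtain ⟨κ, hκ, T, ψ, hT, hR, hC⟩ := H
  haveI := hκ
  haveI := hT
  refine ⟨κ, hκ, fun j => pullback b (ψ j), fun j => pullback.fst b (ψ j), fun j => inferInstance,
    fun j => ?_, ?_⟩
  · have : pullback.fst b (ψ j) ≫ b ≫ a = pullback.snd b (ψ j) ≫ ψ j ≫ a := by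
      rw [← Category.assoc, pullback.condition, Category.assoc]
    rw [this]
    exact R.downward_closed (hR j) _
  · have H := IsUniversalColimit.isPullback_of_isColimit_left
      (X := T)
      (FinitaryPreExtensive.isUniversal_finiteCoproducts (coproductIsCoproduct _))
      ψ (Limits.Sigma.desc ψ) b _ _ (fun j ↦ IsPullback.of_hasPullback b (ψ j)) (coproductIsCoproduct _)
    exact MorphismProperty.of_isPullback H.flip hC

end

/-- The trivial family. -/
lemma FamA.top
    (haff : ∀ (U : Scheme.{u}) [IsAffine U] (κ : Type u) [Finite κ] (V : κ → U.Opens),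
      (∀ j, IsAffineOpen (V j)) → ⨆ j, V j = ⊤ → C (Limits.Sigma.desc fun j => (V j).ι))
    {X : Scheme.{u}} {A : Scheme.{u}} [IsAffine A] (a : A ⟶ X) : FamA C (⊤ : Sieve X) a := by
  refine ⟨PUnit.{u + 1}, inferInstance, fun _ => ((⊤ : A.Opens) : Scheme.{u}),
    fun _ => (⊤ : A.Opens).ι, fun _ => ?_, fun _ => trivial, ?_⟩
  · exact isAffineOpen_top A
  · exact haff A PUnit.{u + 1} (fun _ => ⊤) (fun _ => isAffineOpen_top A) (by simp)

section

variable [C.IsStableUnderComposition] [C.RespectsIso]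

/-- Composition of finite `C`-covering families. -/
lemma comp_family
    (hcoprod : ∀ (κ : Type u) [Finite κ] (A B : κ → Scheme.{u}) (f : ∀ j, A j ⟶ B j),
      (∀ j, C (f j)) → C (Limits.Sigma.map f))
    {A : Scheme.{u}} {κ : Type u} [Finite κ] {T : κ → Scheme.{u}} (ψ : ∀ j, T j ⟶ A)
    (hψ : C (Limits.Sigma.desc ψ)) {κ' : κ → Type u} [∀ j, Finite (κ' j)]
    {T' : ∀ j, κ' j → Scheme.{u}} (ψ' : ∀ j k, T' j k ⟶ T j)
    (hψ' : ∀ j, C (Limits.Sigma.desc (ψ' j))) :
    C (Limits.Sigma.desc (fun p : Σ j, κ' j => ψ' p.1 p.2 ≫ ψ p.1)) := by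
  have e : Limits.Sigma.desc (fun p : Σ j, κ' j => ψ' p.1 p.2 ≫ ψ p.1) =
      (sigmaSigmaIso κ' T').inv ≫ Limits.Sigma.map (fun j => Limits.Sigma.desc (ψ' j)) ≫ Limits.Sigma.desc ψ := by
    apply Limits.Sigma.hom_ext
    rintro ⟨j, k⟩
    simp [sigmaSigmaIso]
  rw [e]
  exact (MorphismProperty.cancel_left_of_respectsIso C _ _).2
    (C.comp_mem _ _ (hcoprod κ _ _ _ hψ') hψ)

end

end Groth.Agent.Lib.Helper45.BigSiteTop
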