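import Groth.Agent.Lib.Helper45.BigSiteTop

/-!
# The Grothendieck topology on schemes and on `Over S`
-/

set_option autoImplicit false
set_option linter.style.haveILetI false
set_option linter.unusedSectionVars false

universe u

open CategoryTheory CategoryTheory.Limits AlgebraicGeometry

namespace Groth.Agent.Lib.Helper45.BigSiteTop

variable (C : MorphismProperty Scheme.{u})

/-- Covering sieves. -/
def Cov (X : Scheme.{u}) (R : Sieve X) : Prop :=
  ∀ x : X, ∃ U : X.Opens, IsAffineOpen U ∧ x ∈ U ∧ FamA C R U.ι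

variable {C}

lemma FamA.pullback {X Y : Scheme.{u}} {R : Sieve X} (f : Y ⟶ X) {A : Scheme.{u}} {c : A ⟶ Y}
    (H : FamA C R (c ≫ f)) : FamA C (R.pullback f) c := by
  obtain ⟨κ, hκ, T, ψ, hT, hR, hC⟩ := H
  refine ⟨κ, hκ, T, ψ, hT, fun j => ?_, hC⟩
  rw [Sieve.pullback_apply, Category.assoc]
  exact hR j

variable [C.IsStableUnderComposition] [C.IsStableUnderBaseChange]

/-- The Grothendieck topology on schemes. -/
def topology
    (hcoprod : ∀ (κ : Type u) [Finite κ] (A B : κ → Scheme.{u}) (f : ∀ j, A j ⟶ B j),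
      (∀ j, C (f j)) → C (Limits.Sigma.map f))
    (haff : ∀ (U : Scheme.{u}) [IsAffine U] (κ : Type u) [Finite κ] (V : κ → U.Opens),
      (∀ j, IsAffineOpen (V j)) → ⨆ j, V j = ⊤ → C (Limits.Sigma.desc fun j => (V j).ι)) :
    GrothendieckTopology Scheme.{u} where
  sieves X := {R | Cov C X R}
  top_mem' X := by
    intro x
    obtain ⟨U, hU, hxU, -⟩ := exists_isAffineOpen_mem_and_subset (x := x) (U := ⊤) trivial
    haveI : IsAffine (U : Scheme.{u}) := hU
    exact ⟨U, hU, hxU, FamA.top haff U.ι⟩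
  pullback_stable' := by
    intro X Y S f hS y
    obtain ⟨U, hU, hxU, HF⟩ := hS (f y)
    obtain ⟨W, hW, hyW, hWU⟩ := exists_isAffineOpen_mem_and_subset (x := y) (U := f ⁻¹ᵁ U) hxU
    haveI : IsAffine (U : Scheme.{u}) := hU
    haveI : IsAffine (W : Scheme.{u}) := hW
    refine ⟨W, hW, hyW, FamA.pullback f ?_⟩
    have := HF.baseChange (f.resLE U W hWU)
    rwa [Scheme.Hom.resLE_comp_ι] at this
  transitive' := by
    intro X S hS R h x
    obtain ⟨U, hU, hxU, κ, hκ, T, ψ, hT, hS', hC⟩ := hS x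
    haveI := hκ
    haveI := hT
    have hj : ∀ j, Cov C (T j) (R.pullback (ψ j ≫ U.ι)) := fun j => h (hS' j)
    choose U' hU' htU' HF' using hj
    choose κ'' hκ'' T'' ψ'' hT'' hR'' hC'' using HF'
    have hfin : ∀ j, ∃ s : Finset (T j), (⨆ t : s, U' j t.1) = ⊤ := by
      intro j
      obtain ⟨s, hs⟩ := isCompact_univ.elim_finite_subcover
        (fun t : T j => ((U' j t : (T j).Opens) : Set (T j)))
        (fun t => (U' j t).isOpen) (fun t _ => Set.mem_iUnion.2 ⟨t, htU' j t⟩)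
      refine ⟨s, ?_⟩
      rw [eq_top_iff]
      intro y _
      obtain ⟨t, ht⟩ := Set.mem_iUnion.1 (hs (Set.mem_univ y))
      obtain ⟨hts, hyt⟩ := Set.mem_iUnion.1 ht
      exact TopologicalSpace.Opens.mem_iSup.2 ⟨⟨t, hts⟩, hyt⟩
    choose s hs using hfin
    haveI : ∀ j (t : s j), Finite (κ'' j t.1) := fun j t => hκ'' j t.1
    have h1 : C (Limits.Sigma.desc (fun p : Σ j, s j => (U' p.1 p.2.1).ι ≫ ψ p.1)) :=
      comp_family hcoprod ψ hC (κ' := fun j => s j) (T' := fun j t => ((U' j t.1 : (T j).Opens) : Scheme.{u}))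
        (fun j t => (U' j t.1).ι)
        (fun j => haff (T j) (s j) (fun t => U' j t.1) (fun t => hU' j t.1) (hs j))
    have h2 := comp_family hcoprod (fun p : Σ j, s j => (U' p.1 p.2.1).ι ≫ ψ p.1) h1
      (κ' := fun p => κ'' p.1 p.2.1) (T' := fun p l => T'' p.1 p.2.1 l)
      (fun p l => ψ'' p.1 p.2.1 l) (fun p => hC'' p.1 p.2.1)
    refine ⟨U, hU, hxU, (Σ p : (Σ j, s j), κ'' p.1 p.2.1), inferInstance,
      fun q => T'' q.1.1 q.1.2.1 q.2,
      fun q => ψ'' q.1.1 q.1.2.1 q.2 ≫ (U' q.1.1 q.1.2.1).ι ≫ ψ q.1.1,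
      fun q => hT'' _ _ _, fun q => ?_, h2⟩
    have := hR'' q.1.1 q.1.2.1 q.2
    rw [Sieve.pullback_apply] at this
    simpa only [Category.assoc] using this

lemma mem_topology
    (hcoprod : ∀ (κ : Type u) [Finite κ] (A B : κ → Scheme.{u}) (f : ∀ j, A j ⟶ B j),
      (∀ j, C (f j)) → C (Limits.Sigma.map f))
    (haff : ∀ (U : Scheme.{u}) [IsAffine U] (κ : Type u) [Finite κ] (V : κ → U.Opens),
      (∀ j, IsAffineOpen (V j)) → ⨆ j, V j = ⊤ → C (Limits.Sigma.desc fun j => (V j).ι))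
    (X : Scheme.{u}) (R : Sieve X) : R ∈ topology hcoprod haff X ↔ Cov C X R := Iff.rfl

end Groth.Agent.Lib.Helper45.BigSiteTop
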