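import Groth.Agent.Lib.Helper45.BigSiteTop2

/-!
# The topology on `Over S`
-/

set_option autoImplicit false
set_option linter.style.haveILetI false
set_option linter.unusedSectionVars false

universe u

open CategoryTheory CategoryTheory.Limits AlgebraicGeometry

namespace Groth.Agent.Lib.Helper45.BigSiteTop

theorem main (S : Scheme.{u})
    (C : MorphismProperty Scheme.{u}) [C.IsStableUnderComposition] [C.IsStableUnderBaseChange]
    (hcoprod : ∀ (κ : Type u) [Finite κ] (A B : κ → Scheme.{u}) (f : ∀ j, A j ⟶ B j),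
      (∀ j, C (f j)) → C (Limits.Sigma.map f))
    (haff : ∀ (U : Scheme.{u}) [IsAffine U] (κ : Type u) [Finite κ] (V : κ → U.Opens),
      (∀ j, IsAffineOpen (V j)) → ⨆ j, V j = ⊤ → C (Limits.Sigma.desc fun j => (V j).ι)) :
    ∃ J : GrothendieckTopology (Over S), ∀ (X : Over S) (R : Sieve X), R ∈ J X ↔
      ∃ (ι : Type u) (U : ι → X.left.Opens), (∀ i, IsAffineOpen (U i)) ∧ ⨆ i, U i = ⊤ ∧
        ∀ i, ∃ (κ : Type u) (_ : Finite κ) (V : κ → Over S) (φ : ∀ j, V j ⟶ X)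
          (ψ : ∀ j, (V j).left ⟶ (U i : Scheme.{u})),
          (∀ j, IsAffine (V j).left) ∧ (∀ j, R.arrows (φ j)) ∧ (∀ j, ψ j ≫ (U i).ι = (φ j).left) ∧
            C (Limits.Sigma.desc ψ) := by
  refine ⟨(topology hcoprod haff).over S, fun X R => ?_⟩
  rw [GrothendieckTopology.mem_over_iff, mem_topology]
  constructor
  · intro h
    choose U hU hxU HF using h
    refine ⟨X.left, U, hU, ?_, fun i => ?_⟩
    · rw [eq_top_iff]
      intro x _
      exact TopologicalSpace.Opens.mem_iSup.2 ⟨x, hxU x⟩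
    · obtain ⟨κ, hκ, T, ψ, hT, hR, hC⟩ := HF i
      refine ⟨κ, hκ, fun j => Over.mk ((ψ j ≫ (U i).ι) ≫ X.hom),
        fun j => Over.homMk (ψ j ≫ (U i).ι) rfl, ψ, hT, fun j => ?_, fun j => rfl, hC⟩
      exact (Sieve.overEquiv_iff R _).1 (hR j)
  · rintro ⟨ι, U, hU, hcov, h⟩ x
    have hx : x ∈ (⨆ i, U i : X.left.Opens) := by rw [hcov]; trivial
    obtain ⟨i, hi⟩ := TopologicalSpace.Opens.mem_iSup.1 hx
    obtain ⟨κ, hκ, V, φ, ψ, hV, hR, hψ, hC⟩ := h i
    refine ⟨U i, hU i, hi, κ, hκ, fun j => (V j).left, ψ, hV, fun j => ?_, hC⟩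
    rw [hψ j]
    have e : (Sieve.overEquiv X).symm (Sieve.overEquiv X R) = R :=
      (Sieve.overEquiv X).symm_apply_apply R
    have hR' := hR j
    rw [← e] at hR'
    exact (Sieve.overEquiv_symm_iff _ _).1 hR'

end Groth.Agent.Lib.Helper45.BigSiteTop
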