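import Groth.Agent.Lib.Helper45.CanSite1
import Mathlib.CategoryTheory.Sites.EffectiveEpimorphic
import Mathlib.CategoryTheory.Limits.Preserves.Shapes.Equalizers

/-!
# The canonical functor from a small site to its sheaf topos, part 2 (helper45)

Pushouts with equal legs versus coequalizers, base change of epimorphisms in the sheaf topos,
universally effective epimorphisms generate canonical covering sieves.
-/

set_option autoImplicit false
set_option backward.isDefEq.respectTransparency false
universe w w' v u

open CategoryTheory CategoryTheory.Limits Opposite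

namespace Groth.Agent.Lib.Helper45

section General

variable {T : Type v} [Category.{w} T]

/-- a square which is a pushout with both legs equal exhibits a coequalizer. -/
noncomputable def isColimitCoforkOfIsPushout {R X B : T} {p₁ p₂ : R ⟶ X} {π : X ⟶ B}
    (hpo : IsPushout p₁ p₂ π π) : IsColimit (Cofork.ofπ π hpo.w) :=
  Cofork.IsColimit.mk _ (fun s => hpo.desc s.π s.π s.condition)
    (fun s => hpo.inl_desc _ _ _)
    (fun s m hm => hpo.hom_ext (by rw [hpo.inl_desc]; exact hm) (by rw [hpo.inr_desc]; exact hm))

/-- conversely for reflexive pairs. -/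
lemma isPushout_of_isColimit_cofork {R X : T} {p₁ p₂ : R ⟶ X} (δ : X ⟶ R) (h1 : δ ≫ p₁ = 𝟙 X)
    (h2 : δ ≫ p₂ = 𝟙 X) (c : Cofork p₁ p₂) (hc : IsColimit c) : IsPushout p₁ p₂ c.π c.π := by
  have key : ∀ s : PushoutCocone p₁ p₂, s.inl = s.inr := by
    intro s
    have := congrArg (fun t => δ ≫ t) s.condition
    simpa [reassoc_of% h1, reassoc_of% h2] using this
  refine ⟨⟨c.condition⟩, ⟨PushoutCocone.IsColimit.mk _
    (fun s => Cofork.IsColimit.desc hc s.inl (by
      have := s.condition
      rw [← key s] at this
      exact this)) ?_ ?_ ?_⟩⟩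
  · intro s
    exact Cofork.IsColimit.π_desc' hc _ _
  · intro s
    exact (Cofork.IsColimit.π_desc' hc _ _).trans (key s)
  · intro s m hm _
    apply Cofork.IsColimit.hom_ext hc
    rw [Cofork.IsColimit.π_desc' hc]
    exact hm

end General

variable {C : Type u} [SmallCategory C] {J : GrothendieckTopology C}

lemma epi_epsF_map_of_generate_singleton_mem {X Y : C} (f : Y ⟶ X)
    (h : Sieve.generate (Presieve.singleton f) ∈ J X) : Epi ((epsF J).map f) := by
  rw [epsF_map]
  exact epi_epsMap_of_generate_singleton_mem f h

lemma isEquivRel_epsF_map [J.Subcanonical] {R X : C} {p₁ p₂ : R ⟶ X}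
    (hR : SGA4.IsEquivRel p₁ p₂) : SGA4.IsEquivRel ((epsF J).map p₁) ((epsF J).map p₂) := by
  rw [epsF_map, epsF_map]
  exact isEquivRel_epsMap hR

/-- epimorphisms of the sheaf topos are stable under base change. -/
lemma epi_of_isPullback_sheaf {P A B X : ToposFin.Sh J} {fst : P ⟶ A} {snd : P ⟶ B} {f : A ⟶ X}
    {g : B ⟶ X} (sq : IsPullback fst snd f g) [Epi f] : Epi snd :=
  epi_of_jEpi_punit.{0} _ ((jEpi_of_epi.{0} f).baseChange g (fun _ => fst) (fun _ => snd)
    (fun _ => sq))

/-- a universally effective epimorphism generates a covering sieve of the canonical topology. -/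
lemma generate_singleton_mem_canonical [HasPullbacks C] {X B : C} (π : X ⟶ B)
    (heff : ∀ (B' : C) (g : B' ⟶ B), EffectiveEpi (pullback.snd π g)) :
    Sieve.generate (Presieve.singleton π) ∈ Sheaf.canonicalTopology C B := by
  apply Sheaf.mem_finestTopology_of_forall_isSheafFor
  rintro P ⟨W, rfl⟩ Y f
  rw [← Sieve.pullbackArrows_comm, ← Presieve.isSheafFor_iff_generate, Presieve.pullback_singleton]
  have := heff Y f
  exact Presieve.IsSheafFor.singleton_of_isRepresentable_of_effectiveEpi _ _

end Groth.Agent.Lib.Helper45
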