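import Groth.Agent.Lib.Helper45.CanSite2

/-!
# Effective universal equivalence relations and the canonical topology (helper45)

For a small category with pullbacks: an equivalence relation with a coequalizer is effective and
universal iff the canonical functor to sheaves for the canonical topology preserves the
coequalizer.
-/

set_option autoImplicit false
set_option backward.isDefEq.respectTransparency false
universe w w' v u

open CategoryTheory CategoryTheory.Limits Opposite

namespace Groth.Agent.Lib.Helper45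

variable {C : Type u} [SmallCategory C] [HasPullbacks C]

theorem isColimit_epsF_mapCocone_of_effective {R X : C} (p₁ p₂ : R ⟶ X) (c : Cofork p₁ p₂)
    (hc : IsColimit c) (h : SGA4.IsEffectiveUniversalEquivRel p₁ p₂) :
    Nonempty (IsColimit ((epsF (Sheaf.canonicalTopology C)).mapCocone c)) := by
  obtain ⟨B, π, hpb, hpo, heff⟩ := h
  let F := epsF (Sheaf.canonicalTopology C)
  have hπ : IsColimit (Cofork.ofπ π hpb.w) := isColimitCoforkOfIsPushout hpo
  have e : c ≅ Cofork.ofπ π hpb.w := hc.uniqueUpToIso hπ
  have hepi : Epi (F.map π) :=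
    epi_epsF_map_of_generate_singleton_mem π (generate_singleton_mem_canonical π heff)
  have heffE : EffectiveEpi (F.map π) := effectiveEpi_of_epi_sheaf _
  have hpb' : IsPullback (F.map p₁) (F.map p₂) (F.map π) (F.map π) := hpb.map F
  have h1 : IsColimit (Cofork.ofπ (F.map π) hpb'.w) :=
    isColimitCoforkOfEffectiveEpi _ hpb'.cone hpb'.isLimit
  have h2 : IsColimit (F.mapCocone (Cofork.ofπ π hpb.w)) :=
    (isColimitMapCoconeCoforkEquiv F hpb.w).symm h1
  exact ⟨IsColimit.ofIsoColimit h2 ((Cocone.functoriality _ F).mapIso e.symm)⟩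


theorem isEffectiveUniversalEquivRel_of_isColimit_epsF_mapCocone {R X : C} (p₁ p₂ : R ⟶ X)
    (hR : SGA4.IsEquivRel p₁ p₂) (c : Cofork p₁ p₂) (hc : IsColimit c)
    (h : IsColimit ((epsF (Sheaf.canonicalTopology C)).mapCocone c)) :
    SGA4.IsEffectiveUniversalEquivRel p₁ p₂ := by
  let F := epsF (Sheaf.canonicalTopology C)
  have hR' : SGA4.IsEquivRel (F.map p₁) (F.map p₂) := isEquivRel_epsF_map hR
  have hw : F.map p₁ ≫ F.map c.π = F.map p₂ ≫ F.map c.π := by
    rw [← F.map_comp, ← F.map_comp, c.condition]
  have h1 : IsColimit (Cofork.ofπ (F.map c.π) hw) :=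
    isColimitMapCoconeCoforkEquiv F c.condition (IsColimit.ofIsoColimit h
      ((Cocone.functoriality _ F).mapIso (Cofork.isoCoforkOfπ c)))
  obtain ⟨Q, q, hpbQ, hpoQ, -⟩ := isEffectiveUniversalEquivRel_sheaf hR'
  have h2 : IsColimit (Cofork.ofπ q hpoQ.w) := isColimitCoforkOfIsPushout hpoQ
  let e : Q ≅ F.obj c.pt := h2.coconePointUniqueUpToIso h1
  have he : q ≫ e.hom = F.map c.π :=
    h2.comp_coconePointUniqueUpToIso_hom h1 WalkingParallelPair.one
  have hpbF : IsPullback (F.map p₁) (F.map p₂) (F.map c.π) (F.map c.π) :=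
    IsPullback.of_iso hpbQ (Iso.refl _) (Iso.refl _) (Iso.refl _) e (by simp) (by simp)
      (by simpa using he) (by simpa using he)
  have hpb : IsPullback p₁ p₂ c.π c.π := IsPullback.of_map F c.condition hpbF
  obtain ⟨δ, hδ1, hδ2⟩ := (hR X).2.refl (𝟙 X)
  have hpo : IsPushout p₁ p₂ c.π c.π := isPushout_of_isColimit_cofork δ hδ1 hδ2 c hc
  have hepi : Epi (F.map c.π) := epi_of_isColimit_cofork h1
  refine ⟨c.pt, c.π, hpb, hpo, fun B' g => ?_⟩
  -- base change of the quotient morphism
  have sq := IsPullback.of_hasPullback c.π g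
  have sqF : IsPullback (F.map (pullback.fst c.π g)) (F.map (pullback.snd c.π g)) (F.map c.π)
      (F.map g) := sq.map F
  have hepi' : Epi (F.map (pullback.snd c.π g)) := epi_of_isPullback_sheaf sqF
  have heff' : EffectiveEpi (F.map (pullback.snd c.π g)) := effectiveEpi_of_epi_sheaf _
  set s := pullback.snd c.π g with hs
  have ksq := IsPullback.of_hasPullback s s
  have ksqF : IsPullback (F.map (pullback.fst s s)) (F.map (pullback.snd s s)) (F.map s)
      (F.map s) := ksq.map F
  have h3 : IsColimit (Cofork.ofπ (F.map s) ksqF.w) :=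
    isColimitCoforkOfEffectiveEpi _ ksqF.cone ksqF.isLimit
  have h4 : IsColimit (F.mapCocone (Cofork.ofπ s pullback.condition)) :=
    (isColimitMapCoconeCoforkEquiv F pullback.condition).symm h3
  exact effectiveEpi_of_kernelPair s (isColimitOfReflects F h4)

end Groth.Agent.Lib.Helper45
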