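import Groth.Agent.Lib.Helper45.CanSite3
import Mathlib.CategoryTheory.Limits.Preserves.Shapes.Products
import Mathlib.CategoryTheory.Limits.VanKampen

/-!
# Disjoint universal coproducts and the canonical topology (helper45)

For a small category: a cofan all of whose base changes exist becomes a coproduct of sheaves for
the canonical topology iff it is a disjoint universal coproduct.
-/

set_option autoImplicit false
set_option backward.isDefEq.respectTransparency false
universe w w' v u

open CategoryTheory CategoryTheory.Limits Opposite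

namespace Groth.Agent.Lib.Helper45

section General

variable {T : Type v} [Category.{w} T] {ι : Type w'}

/-- a cocone over a discrete diagram is a colimit as soon as the associated cofan is. -/
def isColimitOfIsColimitCofanMk {F' : Discrete ι ⥤ T} (c' : Cocone F')
    (h : IsColimit (Cofan.mk c'.pt (fun i => c'.ι.app ⟨i⟩))) : IsColimit c' where
  desc s := Cofan.IsColimit.desc h (fun i => s.ι.app ⟨i⟩)
  fac s := by
    rintro ⟨i⟩
    exact Cofan.IsColimit.fac h _ i
  uniq s m hm := by
    apply Cofan.IsColimit.hom_ext h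
    intro i
    rw [Cofan.IsColimit.fac h]
    exact hm ⟨i⟩

end General

variable {C : Type u} [SmallCategory C] {J : GrothendieckTopology C}

/-- family form of universality of coproducts in the sheaf topos. -/
lemma nonempty_isColimit_cofan_of_isPullback {ι : Type u} {X Y : ι → ToposFin.Sh J} (c : Cofan X)
    (hc : IsColimit c) {P : ToposFin.Sh J} (f : P ⟶ c.pt) (m : ∀ i, Y i ⟶ P)
    (a : ∀ i, Y i ⟶ X i) (sq : ∀ i, IsPullback (m i) (a i) f (c.inj i)) :
    Nonempty (IsColimit (Cofan.mk P m)) := by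
  refine isUniversalColimit_cofan c hc (Cofan.mk P m) (Discrete.natTrans fun i => a i.as) f ?_
    (NatTrans.Equifibered.of_discrete _) ?_
  · apply NatTrans.ext
    funext ⟨i⟩
    exact (sq i).w.symm
  · rintro ⟨i⟩
    exact sq i

/-- a family of monomorphisms with pairwise empty intersections induces a monomorphism from the
coproduct. -/
lemma mono_sigma_desc_of_disjoint {ι : Type u} {Y : ι → ToposFin.Sh J} {P : ToposFin.Sh J}
    (m : ∀ i, Y i ⟶ P) (hmono : ∀ i, Mono (m i))
    (hdisj : ∀ (i j : ι), i ≠ j → ∀ {W : ToposFin.Sh J} (u : W ⟶ Y i) (v : W ⟶ Y j),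
      u ≫ m i = v ≫ m j → IsEmptyObj W) : Mono (Sigma.desc m) := by
  set d : ∐ Y ⟶ P := Sigma.desc m with hd'
  have hd : ∀ i, Sigma.ι Y i ≫ d = m i := fun i => by simp [d]
  refine ⟨fun {W} x y hxy => ?_⟩
  have key : ∀ {Q : ToposFin.Sh J} (r : Q ⟶ W) (i j : ι) (u : Q ⟶ Y i) (v : Q ⟶ Y j),
      r ≫ x = u ≫ Sigma.ι Y i → r ≫ y = v ≫ Sigma.ι Y j → r ≫ x = r ≫ y := by
    intro Q r i j u v h1 h2
    have h3 : u ≫ m i = v ≫ m j := by
      calc u ≫ m i = (u ≫ Sigma.ι Y i) ≫ d := by rw [Category.assoc, hd i]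
        _ = (r ≫ x) ≫ d := by rw [h1]
        _ = r ≫ y ≫ d := by rw [Category.assoc, hxy]
        _ = (v ≫ Sigma.ι Y j) ≫ d := by rw [← Category.assoc, h2]
        _ = v ≫ m j := by rw [Category.assoc, hd j]
    rw [h1, h2]
    by_cases hij : i = j
    · subst hij
      have := hmono i
      have : u = v := (cancel_mono (m i)).1 h3
      rw [this]
    · exact (hdisj i j hij u v h3) _ _
  have hJ1 : JEpi (fun i => pullback.snd (Sigma.ι Y i) x) :=
    (jEpi_cofan_inj _ (coproductIsCoproduct Y)).pullback_snd x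
  have hJ2 : ∀ i, JEpi (fun j => pullback.snd (Sigma.ι Y j)
      (pullback.snd (Sigma.ι Y i) x ≫ y)) := fun i =>
    (jEpi_cofan_inj _ (coproductIsCoproduct Y)).pullback_snd _
  refine (hJ1.comp _ hJ2) x y fun p => ?_
  obtain ⟨i, j⟩ := p
  refine key _ i j (pullback.snd (Sigma.ι Y j) (pullback.snd (Sigma.ι Y i) x ≫ y) ≫
    pullback.fst (Sigma.ι Y i) x) (pullback.fst (Sigma.ι Y j) _) ?_ ?_
  · simp only [Category.assoc]
    rw [pullback.condition]
  · simp only [Category.assoc]
    rw [pullback.condition]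

/-- a jointly epimorphic family of monomorphisms with pairwise empty intersections is a
coproduct cofan. -/
lemma nonempty_isColimit_cofan_of_jEpi_of_disjoint {ι : Type u} {Y : ι → ToposFin.Sh J}
    {P : ToposFin.Sh J} (m : ∀ i, Y i ⟶ P) (hm : JEpi m) (hmono : ∀ i, Mono (m i))
    (hdisj : ∀ (i j : ι), i ≠ j → ∀ {W : ToposFin.Sh J} (u : W ⟶ Y i) (v : W ⟶ Y j),
      u ≫ m i = v ≫ m j → IsEmptyObj W) : Nonempty (IsColimit (Cofan.mk P m)) := by
  have hepi : Epi (Sigma.desc m) := (epi_desc_iff m).2 hm
  have hmonod : Mono (Sigma.desc m) := mono_sigma_desc_of_disjoint m hmono hdisj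
  have hiso : IsIso (Sigma.desc m) := isIso_of_mono_of_epi _
  let e : ∐ Y ≅ P := asIso (Sigma.desc m)
  have he : ∀ i, Sigma.ι Y i ≫ e.hom = m i := fun i => by simp [e]
  refine ⟨Cofan.IsColimit.mk _ (fun s => e.inv ≫ Sigma.desc (fun i => s.inj i)) ?_ ?_⟩
  · intro s i
    have : (Cofan.mk P m).inj i = Sigma.ι Y i ≫ e.hom := (he i).symm
    rw [this]
    simp
  · intro s k hk
    rw [Iso.eq_inv_comp]
    refine Sigma.hom_ext _ _ fun i => ?_
    rw [← Category.assoc, he i, Sigma.ι_desc]
    exact hk i

section Forward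

variable {X : C} {ι : Type u} (Y : ι → C) (s : ∀ i, Y i ⟶ X)
  [∀ (i : ι) (Z : C) (g : Z ⟶ X), HasPullback (s i) g]

theorem disjoint_universal_of_isColimit_epsF
    (h : IsColimit (Cofan.mk ((epsF (Sheaf.canonicalTopology C)).obj X)
      (fun i => (epsF (Sheaf.canonicalTopology C)).map (s i)))) :
    Nonempty (IsColimit (Cofan.mk X s)) ∧ CoproductDisjoint Y ∧
      IsUniversalColimit (Cofan.mk X s) := by
  let F := epsF (Sheaf.canonicalTopology C)
  have hcol : IsColimit (Cofan.mk X s) := isColimitOfIsColimitCofanMkObj F Y s h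
  have hmono : ∀ i, Mono (s i) := fun i => by
    have : Mono (F.map (s i)) := mono_cofan_inj (Cofan.mk (F.obj X) (fun i => F.map (s i))) h i
    exact F.mono_of_mono_map this
  have hinit : ∀ {i j : ι}, i ≠ j → Nonempty (IsInitial (pullback (s i) (s j))) := by
    intro i j hij
    have hE : IsEmptyObj (F.obj (pullback (s i) (s j))) :=
      isEmptyObj_of_disjoint (Cofan.mk (F.obj X) (fun i => F.map (s i))) h hij
        (F.map (pullback.fst (s i) (s j))) (F.map (pullback.snd (s i) (s j))) (by
          change F.map _ ≫ F.map (s i) = F.map _ ≫ F.map (s j)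
          rw [← F.map_comp, ← F.map_comp, pullback.condition])
    obtain ⟨e⟩ := hE.nonempty_iso
    exact ⟨IsInitial.ofUniqueHom (fun W => F.preimage (e.hom ≫ initial.to (F.obj W)))
      (fun W m => F.map_injective (hE _ _))⟩
  refine ⟨⟨hcol⟩, ?_, ?_⟩
  · have : ∀ i, Mono ((Cofan.mk X s).inj i) := hmono
    exact CoproductDisjoint.of_cofan hcol (fun {i j} _ => pullback.cone (s i) (s j))
      (fun {i j} _ => pullback.isLimit (s i) (s j)) (fun {i j} hij => (hinit hij).some)
  · intro F' c' α f hα _ hpb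
    have hsq : ∀ i, IsPullback (F.map (c'.ι.app ⟨i⟩)) (F.map (α.app ⟨i⟩)) (F.map f)
        ((Cofan.mk (F.obj X) (fun i => F.map (s i))).inj i) := fun i => (hpb ⟨i⟩).map F
    obtain ⟨h1⟩ := nonempty_isColimit_cofan_of_isPullback
      (Cofan.mk (F.obj X) (fun i => F.map (s i))) h (F.map f) _ _ hsq
    have h2 : IsColimit (Cofan.mk c'.pt (fun i => c'.ι.app ⟨i⟩)) :=
      isColimitOfIsColimitCofanMkObj F _ _ h1
    exact ⟨isColimitOfIsColimitCofanMk c' h2⟩

end Forward

/-- the sheaf attached to an object covered by the empty sieve is empty. -/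
lemma isEmptyObj_eps_of_bot_mem {P0 : C} (h : (⊥ : Sieve P0) ∈ J P0) :
    IsEmptyObj (ToposFin.eps J P0) := by
  intro T a b
  apply eps_hom_ext
  apply (((isSheaf_iff_isSheaf_of_type _ _).1 T.2).isSeparated _ h).ext
  intro V g hg
  exact hg.elim

/-- an object all of whose generalized points are initial is covered by the empty sieve for the
canonical topology. -/
lemma bot_mem_canonical_of_strict {P0 : C}
    (hstrict : ∀ {Z : C} (_ : Z ⟶ P0), Nonempty (IsInitial Z)) :
    (⊥ : Sieve P0) ∈ Sheaf.canonicalTopology C P0 := by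
  apply Sheaf.mem_finestTopology_of_forall_isSheafFor
  rintro P ⟨W, rfl⟩ Z f
  obtain ⟨hZ⟩ := hstrict f
  intro x hx
  refine ⟨hZ.to W, ?_, fun t _ => hZ.hom_ext _ _⟩
  intro V g hg
  exact hg.elim

section Backward

variable {X : C} {ι : Type u} (Y : ι → C) (s : ∀ i, Y i ⟶ X)
  [∀ (i : ι) (Z : C) (g : Z ⟶ X), HasPullback (s i) g]
  (huniv : IsUniversalColimit (Cofan.mk X s))

include huniv

lemma nonempty_isColimit_baseChange {Z : C} (f : Z ⟶ X) :
    Nonempty (IsColimit (Cofan.mk Z (fun l => pullback.snd (s l) f))) := by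
  refine huniv (Cofan.mk Z (fun l => pullback.snd (s l) f))
    (Discrete.natTrans fun l => pullback.fst (s l.as) f) f ?_
    (NatTrans.Equifibered.of_discrete _) ?_
  · apply NatTrans.ext
    funext ⟨l⟩
    exact pullback.condition
  · rintro ⟨l⟩
    exact (IsPullback.of_hasPullback (s l) f).flip

lemma ofArrows_mem_canonical : Sieve.ofArrows Y s ∈ Sheaf.canonicalTopology C X := by
  apply Sheaf.mem_finestTopology_of_forall_isSheafFor
  rintro P ⟨W, rfl⟩ Z f
  rw [← Sieve.pullbackArrows_comm, ← Presieve.isSheafFor_iff_generate,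
    ← Presieve.ofArrows_pullback, Presieve.isSheafFor_arrows_iff]
  intro x _
  obtain ⟨hZ⟩ := nonempty_isColimit_baseChange Y s huniv f
  refine ⟨Cofan.IsColimit.desc hZ x, fun l => Cofan.IsColimit.fac hZ x l, fun t ht =>
    Cofan.IsColimit.hom_ext hZ _ _ fun l => ?_⟩
  rw [Cofan.IsColimit.fac]
  exact ht l

lemma nonempty_isInitial_of_hom_pullback {i j : ι} (hij : i ≠ j) {Z : C}
    (z : Z ⟶ pullback (s i) (s j)) (h0 : IsInitial (pullback (s i) (s j))) :
    Nonempty (IsInitial Z) := by
  classical
  let f : Z ⟶ X := z ≫ pullback.fst (s i) (s j) ≫ s i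
  obtain ⟨hZ⟩ := nonempty_isColimit_baseChange Y s huniv f
  let σi : Z ⟶ pullback (s i) f :=
    pullback.lift (z ≫ pullback.fst (s i) (s j)) (𝟙 Z) (by simp [f])
  let σj : Z ⟶ pullback (s j) f :=
    pullback.lift (z ≫ pullback.snd (s i) (s j)) (𝟙 Z) (by simp [f, pullback.condition])
  have hσi : σi ≫ pullback.snd (s i) f = 𝟙 Z := pullback.lift_snd _ _ _
  have hσj : σj ≫ pullback.snd (s j) f = 𝟙 Z := pullback.lift_snd _ _ _
  refine ⟨IsInitial.ofUniqueHom (fun W => z ≫ h0.to W) (fun W a => ?_)⟩
  set b := z ≫ h0.to W with hb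
  let t : Z ⟶ W := Cofan.IsColimit.desc hZ
    (fun l => if l = i then pullback.snd (s l) f ≫ a else pullback.snd (s l) f ≫ b)
  have h1 : pullback.snd (s i) f ≫ t = pullback.snd (s i) f ≫ a := by
    have := Cofan.IsColimit.fac hZ
      (fun l => if l = i then pullback.snd (s l) f ≫ a else pullback.snd (s l) f ≫ b) i
    simpa using this
  have h2 : pullback.snd (s j) f ≫ t = pullback.snd (s j) f ≫ b := by
    have := Cofan.IsColimit.fac hZ
      (fun l => if l = i then pullback.snd (s l) f ≫ a else pullback.snd (s l) f ≫ b) j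
    simpa [Ne.symm hij] using this
  have e1 : t = a := by
    have := congrArg (fun k => σi ≫ k) h1
    simpa [reassoc_of% hσi] using this
  have e2 : t = b := by
    have := congrArg (fun k => σj ≫ k) h2
    simpa [reassoc_of% hσj] using this
  exact e1.symm.trans e2

variable (hcol : IsColimit (Cofan.mk X s)) (hdisj : CoproductDisjoint Y)

include hcol hdisj in
theorem nonempty_isColimit_epsF_of_disjoint_universal :
    Nonempty (IsColimit (Cofan.mk ((epsF (Sheaf.canonicalTopology C)).obj X)
      (fun i => (epsF (Sheaf.canonicalTopology C)).map (s i)))) := by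
  let F := epsF (Sheaf.canonicalTopology C)
  apply nonempty_isColimit_cofan_of_jEpi_of_disjoint
  · have := jEpi_epsMap_of_ofArrows_mem s (ofArrows_mem_canonical Y s huniv)
    intro Z a b hab
    refine this a b fun i => ?_
    have := hab i
    simp only [epsF_map] at this
    exact this
  · intro i
    have : Mono (s i) := hdisj.mono_inj hcol i
    infer_instance
  · intro i j hij W u v huv
    have sq : IsPullback (F.map (pullback.fst (s i) (s j))) (F.map (pullback.snd (s i) (s j)))
        (F.map (s i)) (F.map (s j)) := (IsPullback.of_hasPullback (s i) (s j)).map F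
    obtain ⟨h0⟩ := hdisj.nonempty_isInitial_of_ne hcol hij (pullback.cone (s i) (s j))
      (pullback.isLimit (s i) (s j))
    have hE : IsEmptyObj (F.obj (pullback (s i) (s j))) :=
      isEmptyObj_eps_of_bot_mem (bot_mem_canonical_of_strict
        (fun z => nonempty_isInitial_of_hom_pullback Y s huniv hij z h0))
    exact hE.of_hom (sq.lift u v huv)

end Backward

end Groth.Agent.Lib.Helper45
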