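import Groth.Agent.Lib.Helper45.ToposGiraud3
import Mathlib.CategoryTheory.Sites.Canonical

/-!
# The canonical topology of a sheaf topos, part 1 (helper45)

`epiTop J`: the topology on `Sh J` whose covering sieves are the jointly epimorphic ones
(`mem_epiTop_iff_jEpi`, `ofArrows_mem_epiTop`, `jEpi_of_ofArrows_mem_epiTop`), defined via
`secSieve S x`.
-/

set_option autoImplicit false
set_option backward.isDefEq.respectTransparency false
universe w w' v u

open CategoryTheory CategoryTheory.Limits Opposite

namespace Groth.Agent.Lib.Helper45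

variable {C : Type u} [SmallCategory C] {J : GrothendieckTopology C}

lemma epsMap_comp_secMap {X : ToposFin.Sh J} {U V : C} (f : V ⟶ U) (x : X.obj.obj (op U)) :
    epsMap J f ≫ secMap x = secMap (X.obj.map f.op x) := by
  apply eps_hom_ext
  rw [secMap_app_etaSec]
  change (secMap x).hom.app (op V) ((epsMap J f).hom.app (op V) (etaSec J V)) = _
  rw [epsMap_app_etaSec, map_app_restrict, secMap_app_etaSec]

/-- the sieve on `U` of arrows along which the section `x` comes from `S`. -/
def secSieve {X : ToposFin.Sh J} (S : Sieve X) {U : C} (x : X.obj.obj (op U)) : Sieve U where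
  arrows V f := S (secMap (X.obj.map f.op x))
  downward_closed := by
    intro V W f hf g
    have : secMap (X.obj.map (g ≫ f).op x) = epsMap J g ≫ secMap (X.obj.map f.op x) := by
      rw [epsMap_comp_secMap, restrict_restrict]
    rw [this]
    exact S.downward_closed hf _

lemma secSieve_apply {X : ToposFin.Sh J} (S : Sieve X) {U V : C} (x : X.obj.obj (op U))
    (f : V ⟶ U) : secSieve S x f ↔ S (secMap (X.obj.map f.op x)) := Iff.rfl

lemma secSieve_pullback {X : ToposFin.Sh J} (S : Sieve X) {U V : C} (x : X.obj.obj (op U))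
    (f : V ⟶ U) : (secSieve S x).pullback f = secSieve S (X.obj.map f.op x) := by
  ext W g
  rw [Sieve.pullback_apply, secSieve_apply, secSieve_apply, restrict_restrict]

lemma secSieve_pullback_sieve {X Y : ToposFin.Sh J} (S : Sieve X) (h : Y ⟶ X) {U : C}
    (y : Y.obj.obj (op U)) : secSieve (S.pullback h) y = secSieve S (h.hom.app (op U) y) := by
  ext V f
  rw [secSieve_apply, secSieve_apply, Sieve.pullback_apply, secMap_comp, map_app_restrict]

variable (J) in
/-- the topology of jointly epimorphic sieves on the sheaf topos. -/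
def epiTop : GrothendieckTopology (ToposFin.Sh J) where
  sieves X := {S | ∀ (U : C) (x : X.obj.obj (op U)), secSieve S x ∈ J U}
  top_mem' X U x := by
    convert J.top_mem U
    ext V f
    simp [secSieve_apply]
  pullback_stable' X Y S h hS U y := by
    rw [secSieve_pullback_sieve]
    exact hS U _
  transitive' X S hS R hR U x := by
    refine J.transitive (hS U x) _ fun V f hf => ?_
    have h1 := hR hf V (etaSec J V)
    rw [secSieve_pullback_sieve, secMap_app_etaSec] at h1
    rw [secSieve_pullback]
    exact h1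

lemma mem_epiTop_iff {X : ToposFin.Sh J} (S : Sieve X) :
    S ∈ epiTop J X ↔ ∀ (U : C) (x : X.obj.obj (op U)), secSieve S x ∈ J U := Iff.rfl


lemma mem_epiTop_iff_jEpi {X : ToposFin.Sh J} (S : Sieve X) :
    S ∈ epiTop J X ↔
      JEpi (fun p : Σ A : ToposFin.Sh J, {g : A ⟶ X // S g} => p.2.1) := by
  rw [jEpi_iff_ljs]
  constructor
  · intro h U x
    refine ⟨_, h U x, fun V f hf => ?_⟩
    exact ⟨⟨_, secMap (X.obj.map f.op x), hf⟩, etaSec J V, secMap_app_etaSec _⟩
  · intro h U x
    obtain ⟨R, hR, hRx⟩ := h U x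
    refine J.superset_covering ?_ hR
    intro V f hf
    obtain ⟨⟨A, g, hg⟩, y, hy⟩ := hRx f hf
    rw [secSieve_apply]
    have : secMap (X.obj.map f.op x) = secMap y ≫ g := by
      rw [secMap_comp]
      exact congrArg secMap hy.symm
    rw [this]
    exact S.downward_closed hg _

lemma ofArrows_mem_epiTop {ι : Type w} {X : ToposFin.Sh J} {F : ι → ToposFin.Sh J}
    (π : ∀ i, F i ⟶ X) (h : JEpi π) : Sieve.ofArrows F π ∈ epiTop J X := by
  rw [jEpi_iff_ljs] at h
  intro U x
  obtain ⟨R, hR, hRx⟩ := h U x
  refine J.superset_covering ?_ hR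
  intro V f hf
  obtain ⟨i, y, hy⟩ := hRx f hf
  rw [secSieve_apply]
  have : secMap (X.obj.map f.op x) = secMap y ≫ π i := by
    rw [secMap_comp]
    exact congrArg secMap hy.symm
  rw [this]
  exact (Sieve.ofArrows F π).downward_closed (Sieve.ofArrows_mk F π i) _

lemma jEpi_of_ofArrows_mem_epiTop {ι : Type w} {X : ToposFin.Sh J} {F : ι → ToposFin.Sh J}
    (π : ∀ i, F i ⟶ X) (h : Sieve.ofArrows F π ∈ epiTop J X) : JEpi π := by
  rw [jEpi_iff_ljs]
  intro U x
  refine ⟨_, h U x, fun V f hf => ?_⟩
  rw [secSieve_apply, Sieve.mem_ofArrows_iff] at hf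
  obtain ⟨i, a, ha⟩ := hf
  refine ⟨i, a.hom.app (op V) (etaSec J V), ?_⟩
  have := congrArg (fun t => t.hom.app (op V) (etaSec J V)) ha
  simp only [secMap_app_etaSec] at this
  exact this.symm

end Groth.Agent.Lib.Helper45
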