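import Groth.Agent.Lib.Helper45.CanTop2
import Mathlib.CategoryTheory.Limits.Opposites
import Mathlib.CategoryTheory.Limits.Types.Limits
import Mathlib.CategoryTheory.Limits.Preserves.Ulift

/-!
# The canonical topology of a sheaf topos, part 3 (helper45)

Presheaves on the sheaf topos which turn small colimits into limits: separatedness (`eq_of_jEpi`)
and gluing (`exists_of_jEpi`) along small jointly epimorphic families.
-/

set_option autoImplicit false
set_option backward.isDefEq.respectTransparency false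
universe w w' v u k₁ k₂

open CategoryTheory CategoryTheory.Limits Opposite

namespace Groth.Agent.Lib.Helper45

variable {C : Type u} [SmallCategory C] {J : GrothendieckTopology C}

section PresLim

variable {T : Type v} [Category.{u} T] (G : Tᵒᵖ ⥤ Type w)

/-- a limit-preserving presheaf turns a colimit cocone into a bijection onto compatible families. -/
lemma existsUnique_of_isColimit {K : Type k₁} [Category.{k₂} K] [PreservesLimitsOfShape Kᵒᵖ G]
    {D : K ⥤ T} (c : Cocone D) (hc : IsColimit c)
    (σ : ∀ k : K, G.obj (op (D.obj k)))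
    (hσ : ∀ ⦃k k' : K⦄ (f : k ⟶ k'), G.map (D.map f).op (σ k') = σ k) :
    ∃! s : G.obj (op c.pt), ∀ k, G.map (c.ι.app k).op s = σ k := by
  have hl : IsLimit (G.mapCone c.op) := isLimitOfPreserves G hc.op
  have h := (Types.isLimit_iff (G.mapCone c.op)).1 ⟨hl⟩ (fun k => σ k.unop) (by
    intro k k' f
    exact hσ f.unop)
  obtain ⟨s, hs, hu⟩ := h
  refine ⟨s, fun k => hs (op k), fun s' hs' => hu s' fun k => hs' k.unop⟩

/-- products. -/
lemma existsUnique_of_isColimit_cofan [PreservesLimitsOfSize.{u, u} G] {I : Type u} {A : I → T}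
    (c : Cofan A) (hc : IsColimit c) (σ : ∀ i, G.obj (op (A i))) :
    ∃! s : G.obj (op c.pt), ∀ i, G.map (c.inj i).op s = σ i := by
  have := existsUnique_of_isColimit G c hc (fun k => σ k.as) (by
    rintro ⟨i⟩ ⟨j⟩ f
    obtain rfl : i = j := Discrete.eq_of_hom f
    have : f = 𝟙 _ := Subsingleton.elim _ _
    subst this
    simp)
  obtain ⟨s, hs, hu⟩ := this
  exact ⟨s, fun i => hs ⟨i⟩, fun s' hs' => hu s' fun k => hs' k.as⟩

/-- coequalizers. -/
lemma existsUnique_of_isColimit_cofork [PreservesLimitsOfSize.{u, u} G] {W P : T} {a b : W ⟶ P}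
    (c : Cofork a b) (hc : IsColimit c) (σ : G.obj (op P))
    (hσ : G.map a.op σ = G.map b.op σ) :
    ∃! s : G.obj (op c.pt), G.map c.π.op s = σ := by
  have : PreservesLimitsOfSize.{0, 0} G := preservesLimitsOfSize_shrink.{0, u, 0, u} G
  have := existsUnique_of_isColimit G c hc
    (fun k => match k with
      | WalkingParallelPair.zero => G.map a.op σ
      | WalkingParallelPair.one => σ) (by
    intro k k' f
    cases f
    · rfl
    · exact hσ.symm
    · simp)
  obtain ⟨s, hs, hu⟩ := this
  refine ⟨s, hs WalkingParallelPair.one, fun s' hs' => hu s' fun k => ?_⟩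
  cases k
  · have e : c.ι.app WalkingParallelPair.zero = a ≫ c.π := (c.w WalkingParallelPairHom.left).symm
    rw [e, op_comp, G.map_comp]
    change G.map a.op (G.map c.π.op s') = _
    rw [hs']
  · exact hs'

end PresLim

section Sep

variable (G : (ToposFin.Sh J)ᵒᵖ ⥤ Type w)

lemma map_op_comp_apply {A B D : ToposFin.Sh J} (f : A ⟶ B) (g : B ⟶ D) (s : G.obj (op D)) :
    G.map f.op (G.map g.op s) = G.map (f ≫ g).op s := by
  rw [op_comp, G.map_comp]
  rfl

variable [PreservesLimitsOfSize.{u, u} G]

lemma injective_map_of_epi {P W : ToposFin.Sh J} (π : P ⟶ W) [Epi π] :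
    Function.Injective (G.map π.op) := by
  intro s s' h
  have : EffectiveEpi π := effectiveEpi_of_epi_sheaf π
  have hc := isColimitCoforkOfEffectiveEpi π (pullback.cone π π) (pullback.isLimit π π)
  have hσ : G.map (pullback.cone π π).fst.op (G.map π.op s) =
      G.map (pullback.cone π π).snd.op (G.map π.op s) := by
    rw [map_op_comp_apply, map_op_comp_apply, (pullback.cone π π).condition]
  obtain ⟨s₀, -, hu⟩ := existsUnique_of_isColimit_cofork G _ hc (G.map π.op s) hσ
  exact (hu s rfl).trans (hu s' h.symm).symm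

/-- a limit-preserving presheaf is separated for small jointly epimorphic families. -/
lemma eq_of_jEpi {I : Type u} {W : ToposFin.Sh J} {A : I → ToposFin.Sh J} (g : ∀ i, A i ⟶ W)
    (hg : JEpi g) (s s' : G.obj (op W)) (h : ∀ i, G.map (g i).op s = G.map (g i).op s') :
    s = s' := by
  have : Epi (Sigma.desc g) := (epi_desc_iff g).2 hg
  apply injective_map_of_epi G (Sigma.desc g)
  obtain ⟨τ, -, hu⟩ := existsUnique_of_isColimit_cofan G _ (coproductIsCoproduct A)
    (fun i => G.map (g i).op s)
  have h1 : ∀ t : G.obj (op W), (∀ i, G.map (g i).op t = G.map (g i).op s) →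
      G.map (Sigma.desc g).op t = τ := by
    intro t ht
    apply hu
    intro i
    change G.map (Sigma.ι A i).op (G.map (Sigma.desc g).op t) = _
    rw [map_op_comp_apply, Sigma.ι_desc, ht]
  exact (h1 s fun _ => rfl).trans (h1 s' fun i => (h i).symm).symm

/-- gluing for small jointly epimorphic families: compatibility only needs to be tested on
representable sheaves. -/
lemma exists_of_jEpi {I : Type u} {X : ToposFin.Sh J} {A : I → ToposFin.Sh J} (g : ∀ i, A i ⟶ X)
    (hg : JEpi g) (σ : ∀ i, G.obj (op (A i)))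
    (hσ : ∀ (V : C) (i j : I) (k : ToposFin.eps J V ⟶ A i) (k' : ToposFin.eps J V ⟶ A j),
      k ≫ g i = k' ≫ g j → G.map k.op (σ i) = G.map k'.op (σ j)) :
    ∃ s : G.obj (op X), ∀ i, G.map (g i).op s = σ i := by
  have hepi : Epi (Sigma.desc g) := (epi_desc_iff g).2 hg
  have heff : EffectiveEpi (Sigma.desc g) := effectiveEpi_of_epi_sheaf _
  set π := Sigma.desc g with hπ
  have hc := isColimitCoforkOfEffectiveEpi π (pullback.cone π π) (pullback.isLimit π π)
  obtain ⟨τ, hτ, -⟩ := existsUnique_of_isColimit_cofan G _ (coproductIsCoproduct A) σ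
  have hτ' : ∀ i, G.map (Sigma.ι A i).op τ = σ i := hτ
  -- the two restrictions of `τ` to the kernel pair agree
  have key : G.map (pullback.fst π π).op τ = G.map (pullback.snd π π).op τ := by
    let M := Σ (V : C) (i j : I) (k : ToposFin.eps J V ⟶ A i) (k' : ToposFin.eps J V ⟶ A j),
      PLift (k ≫ g i = k' ≫ g j)
    let B : M → ToposFin.Sh J := fun m => ToposFin.eps J m.1
    have hm : ∀ m : M, (m.2.2.2.1 ≫ Sigma.ι A m.2.1) ≫ π = (m.2.2.2.2.1 ≫ Sigma.ι A m.2.2.1) ≫ π := by
      rintro ⟨V, i, j, k, k', ⟨h⟩⟩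
      simp only [Category.assoc, hπ, Sigma.ι_desc]
      exact h
    let h : ∀ m : M, B m ⟶ pullback π π := fun m =>
      pullback.lift (m.2.2.2.1 ≫ Sigma.ι A m.2.1) (m.2.2.2.2.1 ≫ Sigma.ι A m.2.2.1) (hm m)
    have hh : JEpi h := by
      rw [jEpi_iff_ljs]
      intro U x
      obtain ⟨S₁, hS₁, h₁⟩ := (jEpi_iff_ljs _).1 (jEpi_cofan_inj _ (coproductIsCoproduct A)) U
        ((pullback.fst π π).hom.app (op U) x)
      obtain ⟨S₂, hS₂, h₂⟩ := (jEpi_iff_ljs _).1 (jEpi_cofan_inj _ (coproductIsCoproduct A)) U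
        ((pullback.snd π π).hom.app (op U) x)
      refine ⟨S₁ ⊓ S₂, J.intersection_covering hS₁ hS₂, ?_⟩
      rintro V f ⟨hf₁, hf₂⟩
      obtain ⟨i, y, hy⟩ := h₁ f hf₁
      obtain ⟨j, y', hy'⟩ := h₂ f hf₂
      have hy1 : secMap y ≫ Sigma.ι A i =
          secMap ((pullback π π).obj.map f.op x) ≫ pullback.fst π π := by
        rw [secMap_comp, secMap_comp, map_app_restrict]
        exact congrArg secMap hy
      have hy2 : secMap y' ≫ Sigma.ι A j =
          secMap ((pullback π π).obj.map f.op x) ≫ pullback.snd π π := by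
        rw [secMap_comp, secMap_comp, map_app_restrict]
        exact congrArg secMap hy'
      have e : secMap y ≫ g i = secMap y' ≫ g j := by
        have e1 : secMap y ≫ g i = (secMap y ≫ Sigma.ι A i) ≫ π := by
          simp [hπ]
        have e2 : secMap y' ≫ g j = (secMap y' ≫ Sigma.ι A j) ≫ π := by
          simp [hπ]
        rw [e1, e2, hy1, hy2, Category.assoc, Category.assoc, pullback.condition]
      refine ⟨⟨V, i, j, secMap y, secMap y', ⟨e⟩⟩, etaSec J V, ?_⟩
      have : h ⟨V, i, j, secMap y, secMap y', ⟨e⟩⟩ = secMap ((pullback π π).obj.map f.op x) := by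
        apply pullback.hom_ext
        · rw [pullback.lift_fst]
          exact hy1
        · rw [pullback.lift_snd]
          exact hy2
      rw [this, secMap_app_etaSec]
    apply eq_of_jEpi G h hh
    rintro ⟨V, i, j, k, k', ⟨e⟩⟩
    rw [map_op_comp_apply, map_op_comp_apply]
    simp only [h, pullback.lift_fst, pullback.lift_snd]
    rw [← map_op_comp_apply, ← map_op_comp_apply, hτ', hτ']
    exact hσ V i j k k' e
  obtain ⟨s, hs, -⟩ := existsUnique_of_isColimit_cofork G _ hc τ key
  refine ⟨s, fun i => ?_⟩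
  have hs' : G.map π.op s = τ := hs
  rw [← hτ' i, ← hs', map_op_comp_apply]
  simp [hπ]

end Sep

end Groth.Agent.Lib.Helper45
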