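import Groth.Agent.Lib.Helper45.CanTop3
import Mathlib.CategoryTheory.Limits.Types.Colimits

/-!
# The canonical topology of a sheaf topos, part 4 (helper45)

For a presheaf of types `G` on the sheaf topos `Sh J`:
`isSheaf_epiTop_of_preservesLimits` (turning small colimits into limits implies the sheaf
property for jointly epimorphic sieves) and `preservesLimitsOfSize_of_isSheaf_epiTop` (converse).
Also `exists_covering_eqvGen`: sections identified in a colimit of sheaves are locally connected
by a zigzag.
-/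

set_option autoImplicit false
set_option backward.isDefEq.respectTransparency false
universe w w' v u k₁ k₂

open CategoryTheory CategoryTheory.Limits Opposite

namespace Groth.Agent.Lib.Helper45

variable {C : Type u} [SmallCategory C] {J : GrothendieckTopology C}

lemma fam_congr {T : Type v} [Category.{u} T] {G : Tᵒᵖ ⥤ Type w} {X : T} {S : Sieve X}
    (x : Presieve.FamilyOfElements G S.arrows) {A : T} {f f' : A ⟶ X} (h : f = f') (hf : S f)
    (hf' : S f') : x f hf = x f' hf' := by
  subst h
  rfl

/-- the small family of representable sections in a sieve of the sheaf topos. -/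
lemma jEpi_secMap_of_mem_epiTop {X : ToposFin.Sh J} (S : Sieve X) (hS : S ∈ epiTop J X) :
    JEpi (fun i : Σ U : C, {ξ : X.obj.obj (op U) // S (secMap ξ)} => secMap i.2.1) := by
  rw [jEpi_iff_ljs]
  intro U x
  refine ⟨_, hS U x, fun V f hf => ?_⟩
  exact ⟨⟨V, X.obj.map f.op x, hf⟩, etaSec J V, secMap_app_etaSec _⟩

/-- a presheaf on the sheaf topos turning small colimits into limits is a sheaf for the
topology of jointly epimorphic sieves. -/
theorem isSheaf_epiTop_of_preservesLimits (G : (ToposFin.Sh J)ᵒᵖ ⥤ Type w)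
    [PreservesLimitsOfSize.{u, u} G] : Presieve.IsSheaf (epiTop J) G := by
  intro X S hS x hx
  rw [Presieve.compatible_iff_sieveCompatible] at hx
  let I := Σ U : C, {ξ : X.obj.obj (op U) // S (secMap ξ)}
  let A : I → ToposFin.Sh J := fun i => ToposFin.eps J i.1
  let g : ∀ i, A i ⟶ X := fun i => secMap i.2.1
  have hg : JEpi g := jEpi_secMap_of_mem_epiTop S hS
  have hgS : ∀ i, S (g i) := fun i => i.2.2
  obtain ⟨s, hs⟩ := exists_of_jEpi G g hg (fun i => x (g i) (hgS i)) (by
    intro V i j k k' e
    rw [← hx (g i) k (hgS i), ← hx (g j) k' (hgS j)]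
    exact fam_congr x e _ _)
  refine ⟨s, ?_, ?_⟩
  · intro A' f hf
    apply eq_of_jEpi G (fun p : Σ V : C, A'.obj.obj (op V) => secMap p.2) (jEpi_secMap A')
    rintro ⟨V, η⟩
    change G.map (secMap η).op (G.map f.op s) = G.map (secMap η).op (x f hf)
    rw [map_op_comp_apply, ← hx f (secMap η) hf]
    have e : secMap η ≫ f = g ⟨V, f.hom.app (op V) η, by
        rw [← secMap_comp]; exact S.downward_closed hf _⟩ := secMap_comp η f
    rw [fam_congr x e _ (hgS _)]
    rw [← hs]
    exact congrArg (fun t => G.map (Quiver.Hom.op t) s) e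
  · intro s' hs'
    apply eq_of_jEpi G g hg
    intro i
    rw [hs i]
    exact hs' (g i) (hgS i)


lemma eqvGen_of_isColimit_types {K : Type k₁} [Category.{k₂} K] {F : K ⥤ Type u} (t : Cocone F)
    (ht : IsColimit t) {j j' : K} (x : F.obj j) (x' : F.obj j')
    (h : t.ι.app j x = t.ι.app j' x') :
    Relation.EqvGen F.ColimitTypeRel ⟨j, x⟩ ⟨j', x'⟩ := by
  have := (Types.isColimit_iff_coconeTypesIsColimit t).1 ⟨ht⟩
  rw [← Functor.ιColimitType_eq_iff]
  apply this.bijective.1
  exact h

/-- sections of a diagram of sheaves over `V`, as a diagram of types. -/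
abbrev secDiag {K : Type k₁} [Category.{k₂} K] (D : K ⥤ ToposFin.Sh J) (V : C) : K ⥤ Type u :=
  D ⋙ sheafToPresheaf J (Type u) ⋙ (evaluation Cᵒᵖ (Type u)).obj (op V)

/-- two sections identified in a colimit of sheaves are locally connected by a zigzag. -/
lemma exists_covering_eqvGen {K : Type u} [Category.{u} K] (D : K ⥤ ToposFin.Sh J) (c : Cocone D)
    (hc : IsColimit c) {U : C} {k k' : K} (y : (D.obj k).obj.obj (op U))
    (y' : (D.obj k').obj.obj (op U))
    (h : (c.ι.app k).hom.app (op U) y = (c.ι.app k').hom.app (op U) y') :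
    ∃ R ∈ J U, ∀ ⦃V : C⦄ (f : V ⟶ U), R f →
      Relation.EqvGen (secDiag D V).ColimitTypeRel ⟨k, (D.obj k).obj.map f.op y⟩
        ⟨k', (D.obj k').obj.map f.op y'⟩ := by
  let D' : K ⥤ Cᵒᵖ ⥤ Type u := D ⋙ sheafToPresheaf J (Type u)
  let c₀ := colimit.cocone D'
  have hc₀ : IsColimit c₀ := colimit.isColimit D'
  let Q : ToposFin.Sh J := (presheafToSheaf J (Type u)).obj c₀.pt
  let c' : Cocone D :=
    { pt := Q
      ι :=
        { app := fun k => ObjectProperty.homMk (c₀.ι.app k ≫ toSheafify J c₀.pt)
          naturality := by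
            intro k k' φ
            apply Sheaf.hom_ext
            have := c₀.w φ
            simp only [Functor.const_obj_obj, Functor.const_obj_map, Category.comp_id]
            change (D.map φ).hom ≫ c₀.ι.app k' ≫ toSheafify J c₀.pt = c₀.ι.app k ≫ toSheafify J c₀.pt
            rw [← Category.assoc]
            congr 1 } }
  let d := hc.desc c'
  have hd : ∀ k, c.ι.app k ≫ d = c'.ι.app k := fun k => hc.fac c' k
  have h1 : (toSheafify J c₀.pt).app (op U) ((c₀.ι.app k).app (op U) y) =
      (toSheafify J c₀.pt).app (op U) ((c₀.ι.app k').app (op U) y') := by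
    have e1 := congrArg (fun t => t.hom.app (op U) y) (hd k)
    have e2 := congrArg (fun t => t.hom.app (op U) y') (hd k')
    change d.hom.app (op U) ((c.ι.app k).hom.app (op U) y) = _ at e1
    change d.hom.app (op U) ((c.ι.app k').hom.app (op U) y') = _ at e2
    rw [h] at e1
    exact e1.symm.trans e2
  have hcov := Presheaf.equalizerSieve_mem (D := Type u) (FD := TypeCat.Fun) (CD := fun X => X)
    J (toSheafify J c₀.pt) (X := op U) _ _ h1
  refine ⟨_, hcov, fun V f hf => ?_⟩
  have hV : IsColimit (((evaluation Cᵒᵖ (Type u)).obj (op V)).mapCocone c₀) :=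
    isColimitOfPreserves _ hc₀
  apply eqvGen_of_isColimit_types _ hV
  have hf' : c₀.pt.map f.op ((c₀.ι.app k).app (op U) y) =
      c₀.pt.map f.op ((c₀.ι.app k').app (op U) y') := hf
  have n1 := ConcreteCategory.congr_hom ((c₀.ι.app k).naturality f.op) y
  have n2 := ConcreteCategory.congr_hom ((c₀.ι.app k').naturality f.op) y'
  simp only [types_comp_apply] at n1 n2
  change (c₀.ι.app k).app (op V) ((D.obj k).obj.map f.op y) =
    (c₀.ι.app k').app (op V) ((D.obj k').obj.map f.op y')
  exact n1.trans (hf'.trans n2.symm)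


section SheafToLim

variable (G : (ToposFin.Sh J)ᵒᵖ ⥤ Type w) (hG : Presieve.IsSheaf (epiTop J) G)

include hG in
/-- a sheaf for the topology of jointly epimorphic sieves is separated for all jointly
epimorphic families. -/
lemma eq_of_jEpi_of_isSheaf {I : Type w'} {W : ToposFin.Sh J} {A : I → ToposFin.Sh J}
    (g : ∀ i, A i ⟶ W) (hg : JEpi g) (s s' : G.obj (op W))
    (h : ∀ i, G.map (g i).op s = G.map (g i).op s') : s = s' := by
  apply ((hG _ (ofArrows_mem_epiTop g hg)).isSeparatedFor).ext
  intro B f hf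
  obtain ⟨i, a, rfl⟩ := (Sieve.mem_ofArrows_iff A g f).1 hf
  rw [← map_op_comp_apply, ← map_op_comp_apply, h i]

variable {K : Type u} [Category.{u} K] (D : K ⥤ ToposFin.Sh J)
  (σ : ∀ k, G.obj (op (D.obj k)))
  (hσ : ∀ ⦃k k' : K⦄ (φ : k ⟶ k'), G.map (D.map φ).op (σ k') = σ k)

include hσ in
omit hG in
lemma secMap_eq_of_eqvGen (V : C) (p p' : Σ k, (D.obj k).obj.obj (op V))
    (h : Relation.EqvGen (secDiag D V).ColimitTypeRel p p') :
    G.map (secMap p.2).op (σ p.1) = G.map (secMap p'.2).op (σ p'.1) := by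
  induction h with
  | rel p p' hr =>
    obtain ⟨φ, hφ⟩ := hr
    have e : secMap p'.2 = secMap p.2 ≫ D.map φ := by
      rw [secMap_comp]
      exact congrArg secMap hφ
    rw [e, ← map_op_comp_apply, hσ φ]
  | refl p => rfl
  | symm p p' _ ih => exact ih.symm
  | trans p p' p'' _ _ ih1 ih2 => exact ih1.trans ih2

include hG hσ in
lemma arrows_compatible_of_isSheaf (c : Cocone D) (hc : IsColimit c) :
    Presieve.Arrows.Compatible G (fun k => c.ι.app k) σ := by
  intro k k' Z a b hab
  apply eq_of_jEpi_of_isSheaf G hG (fun p : Σ V : C, Z.obj.obj (op V) => secMap p.2) (jEpi_secMap Z)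
  rintro ⟨U, z⟩
  change G.map (secMap z).op (G.map a.op (σ k)) = G.map (secMap z).op (G.map b.op (σ k'))
  rw [map_op_comp_apply, map_op_comp_apply, secMap_comp, secMap_comp]
  have h : (c.ι.app k).hom.app (op U) (a.hom.app (op U) z) =
      (c.ι.app k').hom.app (op U) (b.hom.app (op U) z) := by
    have := congrArg (fun t => t.hom.app (op U) z) hab
    exact this
  obtain ⟨R, hR, hRx⟩ := exists_covering_eqvGen D c hc _ _ h
  apply eq_of_jEpi_of_isSheaf G hG _ (jEpi_epsMap_of_covering R hR)
  rintro ⟨V, f, hf⟩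
  change G.map (epsMap J f).op _ = G.map (epsMap J f).op _
  rw [map_op_comp_apply, map_op_comp_apply, epsMap_comp_secMap, epsMap_comp_secMap]
  exact secMap_eq_of_eqvGen G D σ hσ V ⟨k, _⟩ ⟨k', _⟩ (hRx f hf)

include hG hσ in
/-- a sheaf for the topology of jointly epimorphic sieves turns colimit cocones into
bijections onto compatible families. -/
lemma existsUnique_of_isSheaf (c : Cocone D) (hc : IsColimit c) :
    ∃! s : G.obj (op c.pt), ∀ k, G.map (c.ι.app k).op s = σ k := by
  have hj : JEpi (fun k => c.ι.app k) := fun Z a b hab => hc.hom_ext hab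
  have h1 := hG _ (ofArrows_mem_epiTop _ hj)
  rw [← Presieve.isSheafFor_iff_generate, Presieve.isSheafFor_arrows_iff] at h1
  exact h1 σ (arrows_compatible_of_isSheaf G hG D σ hσ c hc)

include hG in
theorem preservesLimitsOfSize_of_isSheaf_epiTop : PreservesLimitsOfSize.{u, u} G := by
  constructor
  intro K' _
  constructor
  intro F
  have hc := colimit.isColimit F.leftOp
  apply preservesLimit_of_preserves_limit_cone (isLimitConeOfCoconeLeftOp F hc)
  apply Nonempty.some
  rw [Types.isLimit_iff]
  intro σ hσ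
  obtain ⟨s, hs, hu⟩ := existsUnique_of_isSheaf G hG F.leftOp (fun k => σ k.unop) (by
    intro k k' φ
    exact hσ φ.unop) _ hc
  exact ⟨s, fun k => hs (op k), fun s' hs' => hu s' fun k => hs' k.unop⟩

end SheafToLim

end Groth.Agent.Lib.Helper45
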