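import Groth.Agent.Lib.Helper45.CanTop4
import Mathlib.CategoryTheory.Limits.Yoneda
import Mathlib.CategoryTheory.Limits.Preserves.Opposites

/-!
# The canonical topology of a sheaf topos, part 5 (helper45)

`preservesColimitsOfSize_of_isSheaf_yoneda`: a functor `f` out of `Sh J` preserves small colimits
as soon as every `Hom(f -, Z)` is a sheaf for the topology of jointly epimorphic sieves.
-/

set_option autoImplicit false
set_option backward.isDefEq.respectTransparency false
universe w w' v u k₁ k₂

open CategoryTheory CategoryTheory.Limits Opposite

namespace Groth.Agent.Lib.Helper45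

variable {C D : Type u} [SmallCategory C] [SmallCategory D] {J : GrothendieckTopology C}
  {K : GrothendieckTopology D}

/-- a functor out of the sheaf topos preserves small colimits as soon as all `Hom(f -, Z)` are
sheaves for the topology of jointly epimorphic sieves. -/
theorem preservesColimitsOfSize_of_isSheaf_yoneda {T : Type v} [Category.{w} T]
    (f : ToposFin.Sh J ⥤ T)
    (h : ∀ Z : T, Presieve.IsSheaf (epiTop J) (f.op ⋙ yoneda.obj Z)) :
    PreservesColimitsOfSize.{u, u} f := by
  have h' : ∀ Z : T, PreservesLimitsOfSize.{u, u} (f.op ⋙ yoneda.obj Z) :=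
    fun Z => preservesLimitsOfSize_of_isSheaf_epiTop _ (h Z)
  constructor
  intro K' _
  constructor
  intro F
  constructor
  intro c hc
  refine ⟨(Cocone.isColimitYonedaEquiv _).symm fun Z => ?_⟩
  have := isLimitOfPreserves (f.op ⋙ yoneda.obj Z) hc.op
  exact this

end Groth.Agent.Lib.Helper45
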