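import Groth.Agent.Lib.Helper45.CanTop5
import Mathlib.CategoryTheory.Limits.Presheaf
import Mathlib.CategoryTheory.Sites.Localization
import Mathlib.CategoryTheory.Adjunction.Restrict

/-!
# The canonical topology of a sheaf topos, part 6 (helper45)

`isSheaf_yoneda_comp_of_lex`: for `f : Sh J ⥤ Sh K` preserving pullbacks and small jointly
epimorphic families, every `Hom(f -, Z)` is a sheaf for the topology of jointly epimorphic sieves.
`isLeftAdjoint_of_preservesColimits_sheaf`: a small-colimit-preserving functor from `Sh J` to a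
cocomplete category is a left adjoint.
-/

set_option autoImplicit false
set_option backward.isDefEq.respectTransparency false
universe w w' v u k₁ k₂

open CategoryTheory CategoryTheory.Limits Opposite

namespace Groth.Agent.Lib.Helper45

variable {C D : Type u} [SmallCategory C] [SmallCategory D] {J : GrothendieckTopology C}
  {K : GrothendieckTopology D}

/-- if `f` preserves pullbacks and small jointly epimorphic families, then every `Hom(f -, Z)` is
a sheaf for the topology of jointly epimorphic sieves. -/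
theorem isSheaf_yoneda_comp_of_lex (f : ToposFin.Sh J ⥤ ToposFin.Sh K)
    [PreservesLimitsOfShape WalkingCospan f]
    (hf : ∀ (ι : Type u) (H : ToposFin.Sh J) (G : ι → ToposFin.Sh J) (g : ∀ i, G i ⟶ H),
      JEpi g → JEpi fun i => f.map (g i))
    (Z : ToposFin.Sh K) : Presieve.IsSheaf (epiTop J) (f.op ⋙ yoneda.obj Z) := by
  intro X S hS t ht
  rw [Presieve.compatible_iff_sieveCompatible] at ht
  have ht' : ∀ ⦃Y Y' : ToposFin.Sh J⦄ (g : Y ⟶ X) (k : Y' ⟶ Y) (hg : S g),
      t (k ≫ g) (S.downward_closed hg k) = f.map k ≫ t g hg := fun Y Y' g k hg => ht g k hg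
  let I := Σ U : C, {ξ : X.obj.obj (op U) // S (secMap ξ)}
  let A : I → ToposFin.Sh J := fun i => ToposFin.eps J i.1
  let g : ∀ i, A i ⟶ X := fun i => secMap i.2.1
  have hg : JEpi g := jEpi_secMap_of_mem_epiTop S hS
  have hgS : ∀ i, S (g i) := fun i => i.2.2
  have hfg : JEpi (fun i => f.map (g i)) := hf _ _ _ _ hg
  have h1 := isSheaf_yoneda_epiTop Z _ (ofArrows_mem_epiTop _ hfg)
  rw [← Presieve.isSheafFor_iff_generate, Presieve.isSheafFor_arrows_iff] at h1
  obtain ⟨τ, hτ, hu⟩ := h1 (fun i => t (g i) (hgS i)) (by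
    intro i j W a b hab
    change a ≫ t (g i) (hgS i) = b ≫ t (g j) (hgS j)
    have sq := (IsPullback.of_hasPullback (g i) (g j)).map f
    obtain ⟨c, e1, e2⟩ : ∃ c, c ≫ f.map (pullback.fst (g i) (g j)) = a ∧
        c ≫ f.map (pullback.snd (g i) (g j)) = b :=
      ⟨sq.lift a b hab, sq.lift_fst _ _ _, sq.lift_snd _ _ _⟩
    clear hab
    subst e1 e2
    rw [Category.assoc, Category.assoc, ← ht', ← ht']
    congr 1
    exact fam_congr t pullback.condition _ _)
  have hτ' : ∀ i, f.map (g i) ≫ τ = t (g i) (hgS i) := hτ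
  refine ⟨τ, ?_, ?_⟩
  · intro A' g' hg'
    change f.map g' ≫ τ = t g' hg'
    have hA' : JEpi (fun p : Σ V : C, A'.obj.obj (op V) => f.map (secMap p.2)) :=
      hf _ _ _ _ (jEpi_secMap A')
    apply hA'
    rintro ⟨V, η⟩
    change f.map (secMap η) ≫ f.map g' ≫ τ = f.map (secMap η) ≫ t g' hg'
    rw [← ht' g' (secMap η) hg', ← Category.assoc, ← f.map_comp]
    have e : secMap η ≫ g' = g ⟨V, g'.hom.app (op V) η, by
        rw [← secMap_comp]; exact S.downward_closed hg' _⟩ := secMap_comp η g'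
    rw [fam_congr t e _ (hgS _), ← hτ']
    exact congrArg (fun k => f.map k ≫ τ) e
  · intro τ' hτ'
    apply hu
    intro i
    exact hτ' (g i) (hgS i)


/-- the right adjoint of a functor inverting `J.W` takes values in sheaves. -/
lemma isSheaf_rightAdjoint_obj {T : Type v} [Category.{w} T] {L : (Cᵒᵖ ⥤ Type u) ⥤ T}
    {R' : T ⥤ (Cᵒᵖ ⥤ Type u)} (adj : L ⊣ R')
    (hL : ∀ ⦃P Q : Cᵒᵖ ⥤ Type u⦄ (φ : P ⟶ Q), J.W φ → IsIso (L.map φ)) (Z : T) :
    Presieve.IsSheaf J (R'.obj Z) := by
  intro X S hS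
  rw [Presieve.isSheafFor_iff_bijective_shrinkFunctor_ι_comp, ← adj.map_comp_bijective_iff]
  have := hL _ (Sieve.W_shrinkFunctor_ι_of_mem J S hS)
  exact ⟨fun a b h => (cancel_epi _).1 h,
    fun g => ⟨inv (L.map (Sieve.shrinkFunctor.{u} S).ι) ≫ g, by simp⟩⟩

/-- a functor out of the sheaf topos which preserves small colimits is a left adjoint, as soon
as the target has small colimits. -/
theorem isLeftAdjoint_of_preservesColimits_sheaf {T : Type (u + 1)} [Category.{u} T]
    [HasColimitsOfSize.{u, u} T] (f : ToposFin.Sh J ⥤ T) [PreservesColimitsOfSize.{u, u} f] :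
    f.IsLeftAdjoint := by
  let L : (Cᵒᵖ ⥤ Type u) ⥤ T := presheafToSheaf J (Type u) ⋙ f
  have hLadj : L.IsLeftAdjoint := Presheaf.isLeftAdjoint_of_preservesColimits.{u} L
  let R' := L.rightAdjoint
  let adj : L ⊣ R' := Adjunction.ofIsLeftAdjoint L
  have hL : ∀ ⦃P Q : Cᵒᵖ ⥤ Type u⦄ (φ : P ⟶ Q), J.W φ → IsIso (L.map φ) := by
    intro P Q φ hφ
    have : IsIso ((presheafToSheaf J (Type u)).map φ) := (J.W_iff φ).1 hφ
    change IsIso (f.map ((presheafToSheaf J (Type u)).map φ))
    infer_instance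
  let R : T ⥤ ToposFin.Sh J := ObjectProperty.lift _ R'
    (fun Z => (isSheaf_iff_isSheaf_of_type _ _).2 (isSheaf_rightAdjoint_obj adj hL Z))
  have comm1 : sheafToPresheaf J (Type u) ⋙ L ≅ f ⋙ 𝟭 T :=
    (Functor.associator _ _ _).symm ≪≫
      Functor.isoWhiskerRight (asIso (sheafificationAdjunction J (Type u)).counit) f ≪≫
      Functor.leftUnitor f ≪≫ (Functor.rightUnitor f).symm
  have comm2 : 𝟭 T ⋙ R' ≅ R ⋙ sheafToPresheaf J (Type u) := Functor.leftUnitor R'
  exact ⟨R, ⟨adj.restrictFullyFaithful (fullyFaithfulSheafToPresheaf J (Type u))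
    (Functor.FullyFaithful.id T) comm1 comm2⟩⟩

end Groth.Agent.Lib.Helper45
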