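import Mathlib.CategoryTheory.Sites.SheafCohomology.Cech
import Mathlib.CategoryTheory.Sites.IsSheafFor
import Mathlib.CategoryTheory.Sites.Sheaf
import Mathlib.Algebra.Category.Grp.Limits
import Mathlib.CategoryTheory.Limits.Types.Limits

/-!
# Čech complexes of a family and of a single object covering it "disjointly"

* `bijective_of_disjoint_cover`: for a sheaf of types, a covering family of monomorphisms whose
  pairwise intersections are covered by the empty sieve induces a bijection
  `P(W) ≃ ∏ P(W i)`.
* `nonempty_cechComplex_iso`: if for every `n` restriction along the maps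
  `∏ (Uf ∘ i) ⟶ ∏ V` is such a bijection, the Čech complexes of the family `Uf` and of the single
  object `V` are isomorphic.
-/

set_option autoImplicit false
set_option linter.style.haveILetI false
set_option linter.unusedSectionVars false
set_option backward.isDefEq.respectTransparency false

open CategoryTheory Opposite Limits

namespace Groth.Agent.Lib.Helper45.CechDisj

universe w v u

section Site

variable {C : Type u} [Category.{v} C] {J : GrothendieckTopology C}

theorem bijective_of_disjoint_cover (P : Cᵒᵖ ⥤ Type w) (hP : Presieve.IsSheaf J P)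
    {W : C} {I : Type*} (Wf : I → C) (m : ∀ i, Wf i ⟶ W)
    (hcov : Sieve.ofArrows Wf m ∈ J W) (hmono : ∀ i, Mono (m i))
    (hdisj : ∀ i j, i ≠ j → ∀ {T : C} (a : T ⟶ Wf i) (b : T ⟶ Wf j), a ≫ m i = b ≫ m j →
      (⊥ : Sieve T) ∈ J T) :
    Function.Bijective (fun (s : P.obj (op W)) (i : I) => P.map (m i).op s) := by
  have hS : (Presieve.ofArrows Wf m).IsSheafFor P :=
    (Presieve.isSheafFor_iff_generate _).2 (hP _ hcov)
  rw [Presieve.isSheafFor_arrows_iff] at hS
  have hcomp : ∀ x : (i : I) → P.obj (op (Wf i)), Presieve.Arrows.Compatible P m x := by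
    intro x i j Z gi gj h
    by_cases hij : i = j
    · subst hij
      have := (cancel_mono (m i)).1 h
      subst this
      rfl
    · exact ((hP _ (hdisj i j hij gi gj h)).isSeparatedFor).ext (fun _ _ hf => hf.elim)
  constructor
  · intro s s' h
    obtain ⟨t, -, ht⟩ := hS (fun i => P.map (m i).op s) (hcomp _)
    rw [ht s (fun i => rfl), ht s' (fun i => (congrFun h i).symm)]
  · intro x
    obtain ⟨t, ht, -⟩ := hS x (hcomp x)
    exact ⟨t, funext ht⟩

end Site

theorem isLimit_fan_of_bijective {ι : Type w} {B : AddCommGrpCat.{w}} {Af : ι → AddCommGrpCat.{w}}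
    (g : ∀ i, B ⟶ Af i) (h : Function.Bijective (fun (x : B) (i : ι) => g i x)) :
    Nonempty (IsLimit (Fan.mk B g)) := by
  refine ⟨isLimitOfReflects (forget AddCommGrpCat.{w}) (Nonempty.some ((Types.isLimit_iff _).2 ?_))⟩
  intro s hs
  obtain ⟨x, hx⟩ := h.2 (fun i => s ⟨i⟩)
  refine ⟨x, fun ⟨i⟩ => congrFun hx i, fun y hy => h.1 (funext fun i => ?_)⟩
  exact (hy ⟨i⟩).trans (congrFun hx i).symm

section Cech

variable {C : Type u} [Category.{v} C] [HasFiniteProducts C] {ι : Type w} (Uf : ι → C) (V : C)
  (incl : ∀ i, Uf i ⟶ V) (P : Cᵒᵖ ⥤ AddCommGrpCat.{w})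

/-- The morphism of formal coproducts from the family to the single object. -/
def famHom : FormalCoproduct.mk ι Uf ⟶ FormalCoproduct.mk PUnit.{w + 1} (fun _ => V) where
  f := fun _ => PUnit.unit
  φ := incl

theorem nonempty_cechComplex_iso
    (h : ∀ n : SimplexCategory, Function.Bijective
      (fun (s : P.obj (op (∏ᶜ fun _ : ToType n => V))) (i : ToType n → ι) =>
        P.map (Limits.Pi.map (fun a => incl (i a))).op s)) :
    Nonempty ((cechComplexFunctor Uf).obj P ≅
      (cechComplexFunctor (fun _ : PUnit.{w + 1} => V)).obj P) := by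
  let ψ := FormalCoproduct.cechFunctor.map (famHom Uf V incl)
  let θ : (FormalCoproduct.cosimplicialObjectFunctor
        (FormalCoproduct.mk PUnit.{w + 1} (fun _ => V)).cech).obj P ⟶
      (FormalCoproduct.cosimplicialObjectFunctor (FormalCoproduct.mk ι Uf).cech).obj P :=
    Functor.whiskerRight (NatTrans.rightOp ψ) ((FormalCoproduct.evalOp C AddCommGrpCat.{w}).obj P)
  have hθ : ∀ n, IsIso (θ.app n) := by
    intro n
    obtain ⟨hl⟩ := isLimit_fan_of_bijective _ (h n)
    let j₀ : ToType n → PUnit.{w + 1} := fun _ => PUnit.unit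
    let B : AddCommGrpCat.{w} := P.obj (op (∏ᶜ fun _ : ToType n => V))
    let e₁ : (∏ᶜ fun _ : ToType n → PUnit.{w + 1} => B) ≅ B :=
      { hom := Pi.π _ j₀
        inv := Pi.lift (fun _ => 𝟙 B)
        hom_inv_id := by
          apply Pi.hom_ext
          intro j
          simp only [Category.assoc, limit.lift_π, Fan.mk_pt, Fan.mk_π_app, Category.comp_id,
            Category.id_comp]
          rfl
        inv_hom_id := by simp }
    let e₂ := hl.conePointUniqueUpToIso (productIsProduct _)
    have : θ.app n = e₁.hom ≫ e₂.hom := by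
      apply Pi.hom_ext
      intro i
      have h2 : e₂.hom ≫ Pi.π _ i = P.map (Limits.Pi.map (fun a => incl (i a))).op :=
        hl.conePointUniqueUpToIso_hom_comp (productIsProduct _) ⟨i⟩
      refine Eq.trans ?_ (((Category.assoc _ _ _).trans (congrArg (e₁.hom ≫ ·) h2)).symm)
      have h3 : θ.app n ≫ Pi.π _ i = Pi.π _ j₀ ≫ P.map (Limits.Pi.map (fun a => incl (i a))).op := by
        change Pi.lift (fun i' : ToType n → ι => Pi.π (fun _ : ToType n → PUnit.{w + 1} => B) j₀ ≫
          P.map (Limits.Pi.map (fun a => incl (i' a))).op) ≫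
            Pi.π (fun i : ToType n → ι => P.obj (op (∏ᶜ fun a => Uf (i a)))) i = _
        exact Pi.lift_π _ i
      exact h3
    rw [this]
    exact Iso.isIso_hom (e₁ ≪≫ e₂)
  haveI : IsIso θ := NatIso.isIso_of_isIso_app θ
  exact ⟨(asIso ((AlgebraicTopology.alternatingCofaceMapComplex AddCommGrpCat.{w}).map θ)).symm⟩

end Cech

end Groth.Agent.Lib.Helper45.CechDisj
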