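import Groth.Agent.Lib.Helper45.Godement3
import Groth.Agent.Lib.Helper45.CechDisj1
import Mathlib.AlgebraicGeometry.Limits

/-!
# Disjoint unions in the small étale site and products over `U`

For étale `X`-schemes `Uf i` over `U` whose disjoint union is `V`, the products
`∏ (Uf ∘ i) ⟶ ∏ V` in `Over U` form a covering family of monomorphisms with empty pairwise
intersections (checked on geometric points), so an étale sheaf turns it into a product.
-/

set_option autoImplicit false
set_option linter.style.haveILetI false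
set_option linter.unusedSectionVars false
set_option backward.isDefEq.respectTransparency false

open CategoryTheory Opposite Limits AlgebraicGeometry

namespace Groth.Agent.Lib.Helper45.CechDisj

universe u

variable {X : Scheme.{u}} {U : X.Etale} {ι : Type (u + 1)} [Finite ι]
  (Uf : ι → Over U) (V : Over U) (incl : ∀ i, Uf i ⟶ V)
  (hV : IsColimit (Cofan.mk V.left.left fun i => (incl i).left.left))

/-- The underlying schemes of the family. -/
abbrev sch (i : ι) : Scheme.{u} := (Uf i).left.left

/-- The disjoint union is the coproduct. -/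
noncomputable def eIso : ∐ (sch Uf) ≅ V.left.left :=
  (coproductIsCoproduct (sch Uf)).coconePointUniqueUpToIso hV

lemma ι_eIso (i : ι) : Sigma.ι (sch Uf) i ≫ (eIso Uf V incl hV).hom = (incl i).left.left :=
  (coproductIsCoproduct (sch Uf)).comp_coconePointUniqueUpToIso_hom hV ⟨i⟩

include hV in
lemma isOpenImmersion_incl (i : ι) : IsOpenImmersion (incl i).left.left := by
  rw [← ι_eIso Uf V incl hV i]
  infer_instance

include hV in
lemma mono_incl (i : ι) : Mono (incl i) := by
  haveI := isOpenImmersion_incl Uf V incl hV i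
  have h : Mono ((Over.forget U ⋙ Scheme.Etale.forget X ⋙ Over.forget X).map (incl i)) :=
    inferInstanceAs (Mono (incl i).left.left)
  exact Functor.mono_of_mono_map _ h

include hV in
lemma exists_incl_eq (v : V.left.left) : ∃ i y, (incl i).left.left y = v := by
  obtain ⟨i, y, hy⟩ := (sigmaOpenCover (sch Uf)).exists_eq ((eIso Uf V incl hV).inv v)
  refine ⟨i, y, ?_⟩
  rw [← ι_eIso Uf V incl hV i]
  have : (Sigma.ι (sch Uf) i) y = (eIso Uf V incl hV).inv v := hy
  rw [Scheme.Hom.comp_apply, this, ← Scheme.Hom.comp_apply, Iso.inv_hom_id]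
  rfl

include hV in
lemma isEmpty_of_ne {i j : ι} (hij : i ≠ j) {Z : Scheme.{u}} (a : Z ⟶ sch Uf i)
    (b : Z ⟶ sch Uf j) (h : a ≫ (incl i).left.left = b ≫ (incl j).left.left) : IsEmpty Z := by
  rw [← ι_eIso Uf V incl hV, ← ι_eIso Uf V incl hV, ← Category.assoc, ← Category.assoc,
    cancel_mono] at h
  exact isEmpty_of_commSq_sigmaι_of_ne (g := sch Uf) (a := a) (b := b) ⟨h⟩ hij

lemma bot_mem (T : Over U) (hT : IsEmpty T.left.left) :
    (⊥ : Sieve T) ∈ (X.smallEtaleTopology.over U) T := by
  rw [GrothendieckTopology.mem_over_iff, map_bot]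
  apply Godement.geomPt_cov
  intro x w
  exact (hT.false ((CommaMorphism.left w)
    (default : Spec (.of (SeparableClosure (X.residueField x)))))).elim

include hV in
lemma cov_incl : Sieve.ofArrows Uf incl ∈ (X.smallEtaleTopology.over U) V := by
  rw [GrothendieckTopology.mem_over_iff, Sieve.overEquiv_ofArrows,
    Scheme.ofArrows_mem_smallEtaleTopology_iff]
  ext v
  simp only [Set.mem_iUnion, Set.mem_range, Set.mem_univ, iff_true]
  exact exists_incl_eq Uf V incl hV v

variable [HasFiniteProducts (Over U)]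

lemma sections_discrete {α : Type} {D : Type*} [Category D] (G : D ⥤ Type u) (f : α → D)
    (s : ∀ a, G.obj (f a)) :
    (fun j : Discrete α => s j.as) ∈ (Discrete.functor f ⋙ G).sections := by
  rintro ⟨a⟩ ⟨b⟩ g
  obtain rfl : a = b := Discrete.eq_of_hom g
  obtain rfl : g = 𝟙 _ := Subsingleton.elim _ _
  simp

include hV in
theorem cov_prod (n : SimplexCategory) :
    Sieve.ofArrows (fun i : ToType n → ι => ∏ᶜ fun a => Uf (i a))
      (fun i => Limits.Pi.map (fun a => incl (i a))) ∈
      (X.smallEtaleTopology.over U) (∏ᶜ fun _ : ToType n => V) := by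
  rw [GrothendieckTopology.mem_over_iff, Sieve.overEquiv_ofArrows]
  apply Godement.geomPt_cov
  intro x w
  let W : Over U := ∏ᶜ fun _ : ToType n => V
  let Φ := Godement.geomPt X x
  let ū := Φ.fiber.map W.hom w
  let Ψ := Φ.over ū
  let w' : Ψ.fiber.obj W := ⟨w, (FunctorToTypes.mem_fromOverSubfunctor_iff _ _ _).2 rfl⟩
  have hsec : ∀ a : ToType n, ∃ (i : ι) (y : Ψ.fiber.obj (Uf i)),
      Ψ.fiber.map (incl i) y = Ψ.fiber.map (Pi.π (fun _ : ToType n => V) a) w' := by
    intro a
    obtain ⟨Y, f, ⟨Z, h, _, ⟨i⟩, rfl⟩, y, hy⟩ := Ψ.jointly_surjective _ (cov_incl Uf V incl hV)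
      (Ψ.fiber.map (Pi.π (fun _ : ToType n => V) a) w')
    exact ⟨i, Ψ.fiber.map h y, by rw [← Functor.map_comp_apply]; exact hy⟩
  choose i y hy using hsec
  have hlim := isLimitOfPreserves Ψ.fiber (productIsProduct (fun a => Uf (i a)))
  obtain ⟨z, hz, -⟩ := (Types.isLimit_iff _).1 ⟨hlim⟩ _
    (sections_discrete Ψ.fiber (fun a => Uf (i a)) y)
  have hz' : ∀ a, Ψ.fiber.map (Pi.π (fun a => Uf (i a)) a) z = y a := fun a => hz ⟨a⟩
  have hlimV := isLimitOfPreserves Ψ.fiber (productIsProduct (fun _ : ToType n => V))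
  obtain ⟨x0, -, huniq⟩ := (Types.isLimit_iff _).1 ⟨hlimV⟩ _
    (sections_discrete Ψ.fiber (fun _ : ToType n => V)
      (fun a => Ψ.fiber.map (Pi.π (fun _ : ToType n => V) a) w'))
  have e1 := huniq w' (fun j => rfl)
  have e2 := huniq (Ψ.fiber.map (Limits.Pi.map (fun a => incl (i a))) z) (fun ⟨a⟩ => by
    change Ψ.fiber.map (Pi.π (fun _ : ToType n => V) a)
      (Ψ.fiber.map (Limits.Pi.map (fun a => incl (i a))) z) =
        Ψ.fiber.map (Pi.π (fun _ : ToType n => V) a) w'
    rw [← Functor.map_comp_apply, Pi.map_π, Functor.map_comp_apply, hz', hy])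
  have e3 : Ψ.fiber.map (Limits.Pi.map (fun a => incl (i a))) z = w' := e2.trans e1.symm
  exact ⟨_, (Limits.Pi.map (fun a => incl (i a))).left, Sieve.ofArrows_mk _ _ i, z.1,
    congrArg Subtype.val e3⟩

include hV in
theorem disj_prod (n : SimplexCategory) (i j : ToType n → ι) (hij : i ≠ j) {T : Over U}
    (a : T ⟶ ∏ᶜ fun k => Uf (i k)) (b : T ⟶ ∏ᶜ fun k => Uf (j k))
    (h : a ≫ Limits.Pi.map (fun k => incl (i k)) = b ≫ Limits.Pi.map (fun k => incl (j k))) :
    (⊥ : Sieve T) ∈ (X.smallEtaleTopology.over U) T := by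
  obtain ⟨k, hk⟩ := Function.ne_iff.1 hij
  apply bot_mem
  have h' : (a ≫ Pi.π _ k) ≫ incl (i k) = (b ≫ Pi.π _ k) ≫ incl (j k) := by
    simpa using congrArg (· ≫ Pi.π _ k) h
  exact isEmpty_of_ne Uf V incl hV hk (a ≫ Pi.π _ k).left.left (b ≫ Pi.π _ k).left.left
    (congrArg (fun t => t.left.left) h')

include hV in
theorem bijective_restrict (F : Sheaf X.smallEtaleTopology AddCommGrpCat.{u + 1})
    (n : SimplexCategory) :
    Function.Bijective
      (fun (s : ((Over.forget U).op ⋙ F.obj).obj (op (∏ᶜ fun _ : ToType n => V)))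
        (i : ToType n → ι) =>
        ((Over.forget U).op ⋙ F.obj).map (Limits.Pi.map (fun a => incl (i a))).op s) := by
  have hsheaf : Presieve.IsSheaf (X.smallEtaleTopology.over U)
      (((Over.forget U).op ⋙ F.obj) ⋙ forget AddCommGrpCat.{u + 1}) :=
    (isSheaf_iff_isSheaf_of_type _ _).1
      ((Presheaf.isSheaf_iff_isSheaf_forget _ _ (forget AddCommGrpCat.{u + 1})).1
        (F.over U).property)
  haveI : ∀ i : ToType n → ι, Mono (Limits.Pi.map (fun a => incl (i a))) := by
    intro i
    haveI := fun a => mono_incl Uf V incl hV (i a)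
    infer_instance
  exact bijective_of_disjoint_cover _ hsheaf _ _ (cov_prod Uf V incl hV n) inferInstance
    (fun i j hij T a b h => disj_prod Uf V incl hV n i j hij a b h)

end Groth.Agent.Lib.Helper45.CechDisj
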