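import Groth.Agent.Lib.Helper45.FTDict8

/-!
# Modules on a site with the chaotic topology, I
`IsChaotic K` (only maximal sieves cover); the forgetful functor to presheaves of modules is an
equivalence, evaluation `evS`/`evC` preserves colimits and finite limits; the base change map
`bc M g : M(V) ⊗_{O(V)} O(U) ⟶ M(U)` as a natural transformation `beta`; it is an isomorphism
on the unit, on free modules, on cokernels (`isIso_bc_of_isColimit`) and on modules with a
global presentation (`isIso_bc_of_presentation`).
-/

set_option autoImplicit false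
set_option linter.style.haveILetI false
set_option linter.unusedSectionVars false

universe u

open CategoryTheory CategoryTheory.Limits Opposite ModSite

namespace Groth.Agent.Lib.Helper45.Chaotic

open Groth.Agent.Lib.Helper45.QcSum Groth.Agent.Lib.Helper45.FTDict

section Alg
open TensorProduct

open ChangeOfRings in
lemma bc_tmul {R S : Type u} [CommRing R] [CommRing S] (f : R →+* S)
    {X : ModuleCat.{u} R} {Y : ModuleCat.{u} S}
    (φ : X ⟶ (ModuleCat.restrictScalars f).obj Y) (s : S) (x : X) :
    (((ModuleCat.extendRestrictScalarsAdj f).homEquiv X Y).symm φ).hom (s ⊗ₜ[R,f] x) =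
      s • (φ.hom x : Y) := by
  rfl

open ChangeOfRings in
lemma exists_tmul_one {R S : Type u} [CommRing R] [CommRing S] (f : R →+* S)
    (z : (ModuleCat.extendScalars f).obj (ModuleCat.of R R)) :
    ∃ s : S, z = s ⊗ₜ[R,f] (1 : R) := by
  letI : Module R S := Module.compHom S f
  induction z using TensorProduct.induction_on with
  | zero => exact ⟨0, (TensorProduct.zero_tmul _ _).symm⟩
  | tmul s r =>
    refine ⟨(r • s : ↑((ModuleCat.restrictScalars f).obj (ModuleCat.of S S))), ?_⟩
    refine ((TensorProduct.smul_tmul r s (1 : R)).trans ?_).symm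
    congr 1
    exact mul_one r
  | add z z' h h' =>
    obtain ⟨s, rfl⟩ := h
    obtain ⟨s', rfl⟩ := h'
    exact ⟨s + s', (TensorProduct.add_tmul _ _ _).symm⟩

open ChangeOfRings in
lemma isIso_bc_self {R S : Type u} [CommRing R] [CommRing S] (f : R →+* S)
    (φ : ModuleCat.of R R ⟶ (ModuleCat.restrictScalars f).obj (ModuleCat.of S S))
    (hφ : ∀ r : R, φ.hom r = f r) :
    IsIso (((ModuleCat.extendRestrictScalarsAdj f).homEquiv (ModuleCat.of R R)
      (ModuleCat.of S S)).symm φ) := by
  rw [ConcreteCategory.isIso_iff_bijective]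
  have key : ∀ s : S, (((ModuleCat.extendRestrictScalarsAdj f).homEquiv (ModuleCat.of R R)
      (ModuleCat.of S S)).symm φ).hom (s ⊗ₜ[R,f] (1 : R)) = s := by
    intro s
    rw [bc_tmul, hφ, map_one]
    exact mul_one s
  constructor
  · intro z z' h
    obtain ⟨s, rfl⟩ := exists_tmul_one f z
    obtain ⟨s', rfl⟩ := exists_tmul_one f z'
    have h' : (((ModuleCat.extendRestrictScalarsAdj f).homEquiv (ModuleCat.of R R)
      (ModuleCat.of S S)).symm φ).hom (s ⊗ₜ[R,f] (1 : R)) =
      (((ModuleCat.extendRestrictScalarsAdj f).homEquiv (ModuleCat.of R R)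
      (ModuleCat.of S S)).symm φ).hom (s' ⊗ₜ[R,f] (1 : R)) := h
    rw [key, key] at h'
    rw [h']
  · intro s
    exact ⟨s ⊗ₜ[R,f] (1 : R), key s⟩

end Alg

variable {D : Type u} [SmallCategory D] {K : GrothendieckTopology D}

/-- a topology is chaotic if the only covering sieves are the maximal ones. -/
def IsChaotic (K : GrothendieckTopology D) : Prop := ∀ (X : D) (S : Sieve X), S ∈ K X → S = ⊤

lemma isSheaf_of_chaotic (hK : IsChaotic K) {A : Type*} [Category A] (P : Dᵒᵖ ⥤ A) :
    Presheaf.IsSheaf K P := by
  intro E X S hS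
  rw [hK X S hS]
  exact Presieve.isSheafFor_top _

variable (O : Sheaf K CommRingCat.{u})

lemma essSurj_forget (hK : IsChaotic K) : (SheafOfModules.forget.{u} (ringSh O)).EssSurj where
  mem_essImage M := ⟨⟨M, isSheaf_of_chaotic hK _⟩, ⟨Iso.refl _⟩⟩

lemma isEquivalence_forget (hK : IsChaotic K) :
    (SheafOfModules.forget.{u} (ringSh O)).IsEquivalence := by
  haveI := essSurj_forget O hK
  exact { }

/-- evaluation of sheaves of modules at an object. -/
noncomputable abbrev evS (W : D) : Mod O ⥤ ModuleCat.{u} ((ringSh O).obj.obj (op W)) :=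
  SheafOfModules.evaluation (ringSh O) (op W)

lemma preservesColimits_evS (hK : IsChaotic K) (W : D) :
    PreservesColimitsOfSize.{u, u} (evS O W) := by
  haveI := isEquivalence_forget O hK
  haveI h1 : PreservesColimitsOfSize.{u, u} (SheafOfModules.forget.{u} (ringSh O)) := inferInstance
  haveI h2 : PreservesColimitsOfSize.{u, u}
    (PresheafOfModules.evaluation (ringSh O).obj (op W) :
      PresheafOfModules.{u} (ringSh O).obj ⥤ _) := inferInstance
  exact comp_preservesColimits _ _

lemma preservesFiniteLimits_evS (W : D) : PreservesFiniteLimits (evS O W) := by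
  haveI h1 : PreservesFiniteLimits (SheafOfModules.forget.{u} (ringSh O)) := inferInstance
  haveI h2 : PreservesFiniteLimits
    (PresheafOfModules.evaluation (ringSh O).obj (op W) :
      PresheafOfModules.{u} (ringSh O).obj ⥤ _) := inferInstance
  exact comp_preservesFiniteLimits _ _

lemma preservesFiniteColimits_evS (hK : IsChaotic K) (W : D) :
    PreservesFiniteColimits (evS O W) := by
  haveI := preservesColimits_evS O hK W
  exact PreservesColimitsOfSize.preservesFiniteColimits _


section BC
variable {O}

/-- the base change map `M(V) ⊗_{O(V)} O(U) ⟶ M(U)`, literally as in S9122. -/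
noncomputable def bc (M : Mod O) {U V : D} (g : U ⟶ V) :
    (ModuleCat.extendScalars (O.obj.map g.op).hom).obj
        (M.val.obj (op V) : ModuleCat.{u} (O.obj.obj (op V))) ⟶
      (M.val.obj (op U) : ModuleCat.{u} (O.obj.obj (op U))) :=
  ((ModuleCat.extendRestrictScalarsAdj (O.obj.map g.op).hom).homEquiv
    (M.val.obj (op V) : ModuleCat.{u} (O.obj.obj (op V)))
    (M.val.obj (op U) : ModuleCat.{u} (O.obj.obj (op U)))).symm (M.val.map g.op)

variable (O) in
/-- evaluation with values in modules over the commutative ring. -/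
noncomputable def evC (W : D) : Mod O ⥤ ModuleCat.{u} (O.obj.obj (op W)) := evS O W

variable (O) in
lemma preservesColimits_evC (hK : IsChaotic K) (W : D) :
    PreservesColimitsOfSize.{u, u} (evC O W) := preservesColimits_evS O hK W

variable (O) in
lemma preservesFiniteLimits_evC (W : D) : PreservesFiniteLimits (evC O W) :=
  preservesFiniteLimits_evS O W

variable (O) in
lemma preservesFiniteColimits_evC (hK : IsChaotic K) (W : D) :
    PreservesFiniteColimits (evC O W) := preservesFiniteColimits_evS O hK W

variable (O) in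
/-- `M ↦ M(V) ⊗_{O(V)} O(U)`. -/
noncomputable def L₁ {U V : D} (g : U ⟶ V) : Mod O ⥤ ModuleCat.{u} (O.obj.obj (op U)) :=
  evC O V ⋙ ModuleCat.extendScalars (O.obj.map g.op).hom

variable (O) in
/-- `M ↦ M(U)`. -/
noncomputable def L₂ (U : D) : Mod O ⥤ ModuleCat.{u} (O.obj.obj (op U)) := evC O U

variable (O) in
/-- the base change natural transformation. -/
noncomputable def beta {U V : D} (g : U ⟶ V) : L₁ O g ⟶ L₂ O U where
  app M := bc M g
  naturality M N φ := by
    unfold bc
    change (ModuleCat.extendScalars (O.obj.map g.op).hom).map (φ.val.app (op V)) ≫ _ =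
      _ ≫ φ.val.app (op U)
    refine ((Adjunction.homEquiv_naturality_left_symm
      (ModuleCat.extendRestrictScalarsAdj (O.obj.map g.op).hom) _ _).symm.trans ?_).trans
      (Adjunction.homEquiv_naturality_right_symm
        (ModuleCat.extendRestrictScalarsAdj (O.obj.map g.op).hom) _ _)
    exact congrArg _ (φ.val.naturality g.op).symm

lemma beta_app (M : Mod O) {U V : D} (g : U ⟶ V) : (beta O g).app M = bc M g := rfl

end BC


section Pres
variable {O}

lemma isIso_bc_unit {U V : D} (g : U ⟶ V) : IsIso (bc (ModSite.unit O) g) :=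
  isIso_bc_self (O.obj.map g.op).hom ((ModSite.unit O).val.map g.op) (fun _ => rfl)

variable (O) in
lemma preservesColimits_L₁ (hK : IsChaotic K) {U V : D} (g : U ⟶ V) :
    PreservesColimitsOfSize.{u, u} (L₁ O g) := by
  haveI := preservesColimits_evC O hK V
  unfold L₁
  infer_instance

lemma isIso_bc_free (hK : IsChaotic K) (I : Type u) {U V : D} (g : U ⟶ V) :
    IsIso (bc (SheafOfModules.free (R := ringSh O) I) g) := by
  haveI := preservesColimits_L₁ O hK g
  haveI : PreservesColimitsOfSize.{u, u} (L₂ O U) := preservesColimits_evC O hK U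
  let Kd : Discrete I ⥤ Mod O := Discrete.functor (fun _ : I => ModSite.unit O)
  haveI : IsIso (Functor.whiskerLeft Kd (beta O g)) := by
    haveI : ∀ j, IsIso ((Functor.whiskerLeft Kd (beta O g)).app j) := fun j => by
      change IsIso (bc (ModSite.unit O) g)
      exact isIso_bc_unit g
    exact NatIso.isIso_of_isIso_app _
  exact isIso_app_coconePt_of_preservesColimit Kd (beta O g) (colimit.cocone Kd)
    (colimit.isColimit Kd)

lemma isIso_bc_of_isColimit (hK : IsChaotic K) {A B M : Mod O} (f : A ⟶ B) (p : B ⟶ M)
    (w : f ≫ p = 0) (hcol : IsColimit (CokernelCofork.ofπ p w))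
    {U V : D} (g : U ⟶ V) (hA : IsIso (bc A g)) (hB : IsIso (bc B g)) : IsIso (bc M g) := by
  haveI := preservesColimits_L₁ O hK g
  haveI : PreservesColimitsOfSize.{u, u} (L₂ O U) := preservesColimits_evC O hK U
  haveI : PreservesColimitsOfSize.{0, 0} (L₁ O g) := preservesColimitsOfSize_shrink _
  haveI : PreservesColimitsOfSize.{0, 0} (L₂ O U) := preservesColimitsOfSize_shrink _
  have hA' : IsIso ((beta O g).app A) := hA
  have hB' : IsIso ((beta O g).app B) := hB
  haveI : IsIso (Functor.whiskerLeft (parallelPair f 0) (beta O g)) := by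
    haveI : ∀ j, IsIso ((Functor.whiskerLeft (parallelPair f 0) (beta O g)).app j) := fun j => by
      cases j
      · exact hA'
      · exact hB'
    exact NatIso.isIso_of_isIso_app _
  have := isIso_app_coconePt_of_preservesColimit (parallelPair f 0) (beta O g) _ hcol
  exact this

lemma isIso_bc_of_presentation (hK : IsChaotic K) (M : Mod O) (P : M.Presentation)
    {U V : D} (g : U ⟶ V) : IsIso (bc M g) :=
  isIso_bc_of_isColimit hK _ _ _ P.isColimit g (isIso_bc_free hK P.relations.I g)
    (isIso_bc_free hK P.generators.I g)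

end Pres

end Groth.Agent.Lib.Helper45.Chaotic
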