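import Groth.Agent.Lib.Helper45.Chaotic1

/-!
# Modules on a site with the chaotic topology, II
Sections of free modules are finite combinations of basis sections (`exists_finsupp_basis`);
on a chaotic site with terminal object `t`, a module all of whose base change maps from `t`
are isomorphisms has a global presentation (`nonempty_presentation_of_bc`).
-/

set_option autoImplicit false
set_option linter.style.haveILetI false
set_option linter.unusedSectionVars false

universe u

open CategoryTheory CategoryTheory.Limits Opposite ModSite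

namespace Groth.Agent.Lib.Helper45.Chaotic

open Groth.Agent.Lib.Helper45.QcSum Groth.Agent.Lib.Helper45.FTDict

section Alg2

lemma iSup_range_inj_eq_top {R : Type u} [Ring R] {I : Type u} {X : I → ModuleCat.{u} R}
    (c : Cofan X) (hc : IsColimit c) : ⨆ i, LinearMap.range (c.inj i).hom = ⊤ := by
  set P := ⨆ i, LinearMap.range (c.inj i).hom with hP
  have h : ModuleCat.ofHom P.mkQ = (0 : c.pt ⟶ ModuleCat.of R (c.pt ⧸ P)) := by
    apply Cofan.IsColimit.hom_ext hc
    intro i
    ext x
    have hx : (c.inj i).hom x ∈ P := by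
      rw [hP]
      exact Submodule.mem_iSup_of_mem i ⟨x, rfl⟩
    have : P.mkQ ((c.inj i).hom x) = 0 := (Submodule.Quotient.mk_eq_zero P).2 hx
    simpa using this
  have h2 : P.mkQ = 0 := congrArg ModuleCat.Hom.hom h
  rw [← Submodule.ker_mkQ P]
  exact LinearMap.ker_eq_top.2 h2

end Alg2

variable {D : Type u} [SmallCategory D] {K : GrothendieckTopology D}
variable (O : Sheaf K CommRingCat.{u})

lemma iota_app_eq (I : Type u) (n : I) (W : D) (a : (ringSh O).obj.obj (op W)) :
    (SheafOfModules.ιFree (R := ringSh O) n).val.app (op W) a = a • basis O n W := by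
  have h : a = a • (oneSec (ringSh O) W) := (mul_one a).symm
  conv_lhs => rw [h]
  exact app_smul O _ W a _

lemma span_basis_eq_top (hK : IsChaotic K) (I : Type u) (W : D) :
    Submodule.span ((ringSh O).obj.obj (op W)) (Set.range (fun n : I => basis O n W)) = ⊤ := by
  haveI := preservesColimits_evS O hK W
  have hc : IsColimit ((evS O W).mapCocone
      (Cofan.mk (SheafOfModules.free (R := ringSh O) I) (fun n => SheafOfModules.ιFree n))) :=
    isColimitOfPreserves (evS O W) (coproductIsCoproduct (fun _ : I => ModSite.unit O))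
  have h := iSup_range_inj_eq_top (R := (ringSh O).obj.obj (op W))
    (Cofan.mk _ (fun n : I => (evS O W).map (SheafOfModules.ιFree (R := ringSh O) n)))
    (hc.ofIsoColimit (Cocone.ext (Iso.refl _) (by rintro ⟨j⟩; simp [Cofan.mk])))
  rw [eq_top_iff]
  refine le_trans (le_of_eq h.symm) ?_
  apply iSup_le
  rintro n _ ⟨a, rfl⟩
  have : ((SheafOfModules.ιFree (R := ringSh O) n).val.app (op W)) a = a • basis O n W :=
    iota_app_eq O I n W a
  refine (show _ = a • basis O n W from this) ▸ ?_
  exact Submodule.smul_mem _ _ (Submodule.subset_span ⟨n, rfl⟩)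

lemma exists_finsupp_basis (hK : IsChaotic K) (I : Type u) (W : D)
    (x : (SheafOfModules.free (R := ringSh O) I).val.obj (op W)) :
    ∃ c : I →₀ (ringSh O).obj.obj (op W), (c.sum fun n a => a • basis O n W) = x := by
  have hx : x ∈ Submodule.span ((ringSh O).obj.obj (op W))
      (Set.range (fun n : I => basis O n W)) := by
    rw [span_basis_eq_top O hK I W]; trivial
  exact (Finsupp.mem_span_range_iff_exists_finsupp).1 hx


lemma mono_of_inj' {F G : Mod O} (φ : F ⟶ G)
    (h : ∀ (V : D) (x : F.val.obj (op V)), φ.val.app (op V) x = 0 → x = 0) : Mono φ := by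
  apply Preadditive.mono_of_cancel_zero
  intro T ψ hψ
  apply hom_ext_app O
  intro Z t
  have h1 : φ.val.app (op Z) (ψ.val.app (op Z) t) = 0 :=
    congrArg (fun θ => θ.val.app (op Z) t) hψ
  exact h Z _ h1

lemma res_id' (F : Mod O) (U : D) (s : F.val.obj (op U)) : res O F (𝟙 U) s = s := by
  unfold res
  rw [op_id, PresheafOfModules.map_id]
  rfl

section Term
variable (hK : IsChaotic K) (t : D) (ht : IsTerminal t)

/-- the global section given by an element over the terminal object. -/
noncomputable def termSec (F : Mod O) (m : F.val.obj (op t)) : F.sections :=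
  PresheafOfModules.sectionsMk (fun Y => res O F (ht.from Y.unop) m) (by
    intro Y Z f
    change res O F f.unop (res O F (ht.from Y.unop) m) = _
    rw [← res_comp]
    congr 1
    exact ht.hom_ext _ _)

lemma eval_termSec (F : Mod O) (m : F.val.obj (op t)) (W : D) :
    PresheafOfModules.sections.eval (termSec O t ht F m) (op W) = res O F (ht.from W) m := rfl

variable (M : Mod O)

/-- the canonical epimorphism from the free module on the sections over the terminal object. -/
noncomputable def piT : SheafOfModules.free (R := ringSh O) (M.val.obj (op t)) ⟶ M :=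
  M.freeHomEquiv.symm (fun n => termSec O t ht M n)

lemma piT_basis (n : M.val.obj (op t)) (W : D) :
    (piT O t ht M).val.app (op W) (basis O n W) = res O M (ht.from W) n := by
  unfold piT
  rw [app_basis]
  rfl

/-- linear combination of basis sections over the terminal object. -/
noncomputable def xT (c : M.val.obj (op t) →₀ (ringSh O).obj.obj (op t)) :
    (SheafOfModules.free (R := ringSh O) (M.val.obj (op t))).val.obj (op t) :=
  c.sum fun n a => a • basis O n t

lemma piT_xT (c : M.val.obj (op t) →₀ (ringSh O).obj.obj (op t)) :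
    (piT O t ht M).val.app (op t) (xT O t M c) = c.sum fun n a => a • n := by
  unfold xT
  rw [map_finsuppSum]
  refine Finsupp.sum_congr (fun n _ => ?_)
  rw [app_smul, piT_basis]
  have : ht.from t = 𝟙 t := ht.hom_ext _ _
  rw [this, res_id']

/-- the type of relations. -/
abbrev RelT : Type u :=
  {c : M.val.obj (op t) →₀ (ringSh O).obj.obj (op t) // (c.sum fun n a => a • n) = 0}

/-- the relations morphism. -/
noncomputable def rhoT : SheafOfModules.free (R := ringSh O) (RelT O t M) ⟶
    SheafOfModules.free (R := ringSh O) (M.val.obj (op t)) :=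
  (SheafOfModules.free (R := ringSh O) (M.val.obj (op t))).freeHomEquiv.symm
    (fun r => termSec O t ht _ (xT O t M r.1))

lemma rhoT_basis (r : RelT O t M) (W : D) :
    (rhoT O t ht M).val.app (op W) (basis O r W) = res O _ (ht.from W) (xT O t M r.1) := by
  unfold rhoT
  rw [app_basis]
  rfl

include hK in
lemma rhoT_piT : rhoT O t ht M ≫ piT O t ht M = 0 := by
  apply hom_ext_app O
  intro W x
  have key : ∀ x, (piT O t ht M).val.app (op W) ((rhoT O t ht M).val.app (op W) x) = 0 := by
    intro x
    obtain ⟨c, hc⟩ := exists_finsupp_basis O hK _ W x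
    rw [← hc, map_finsuppSum, map_finsuppSum]
    refine Finset.sum_eq_zero (fun r _ => ?_)
    beta_reduce
    rw [app_smul, app_smul, rhoT_basis, app_res, piT_xT, r.2, res_zero, smul_zero]
  exact key x

/-- the cokernel of the relations. -/
noncomputable def QT : Mod O := cokernel (rhoT O t ht M)

/-- the comparison morphism. -/
noncomputable def thetaT : QT O t ht M ⟶ M :=
  cokernel.desc (rhoT O t ht M) (piT O t ht M) (rhoT_piT O hK t ht M)

/-- the presentation of the cokernel. -/
noncomputable def presQT : (QT O t ht M).Presentation :=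
  SheafOfModules.presentationOfIsCokernelFree (rhoT O t ht M) (cokernel.π (rhoT O t ht M))
    (cokernel.condition _) (cokernelIsCokernel (rhoT O t ht M))

lemma pi_thetaT (W : D) (x : (SheafOfModules.free (R := ringSh O) (M.val.obj (op t))).val.obj (op W)) :
    (thetaT O hK t ht M).val.app (op W) ((cokernel.π (rhoT O t ht M)).val.app (op W) x) =
      (piT O t ht M).val.app (op W) x := by
  have h : cokernel.π (rhoT O t ht M) ≫ thetaT O hK t ht M = piT O t ht M :=
    cokernel.π_desc _ _ _
  exact congrArg (fun φ => φ.val.app (op W) x) h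

lemma thetaT_surjective_t (n : M.val.obj (op t)) :
    ∃ q, (thetaT O hK t ht M).val.app (op t) q = n := by
  refine ⟨(cokernel.π (rhoT O t ht M)).val.app (op t) (basis O n t), ?_⟩
  rw [pi_thetaT, piT_basis]
  have : ht.from t = 𝟙 t := ht.hom_ext _ _
  rw [this, res_id']

lemma thetaT_injective_t (q : (QT O t ht M).val.obj (op t))
    (hq : (thetaT O hK t ht M).val.app (op t) q = 0) : q = 0 := by
  obtain ⟨S, hS, hS'⟩ := exists_local_lift O (cokernel.π (rhoT O t ht M)) q
  rw [hK t S hS] at hS'
  obtain ⟨x, hx⟩ := hS' t (𝟙 t) trivial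
  rw [res_id'] at hx
  obtain ⟨c, hc⟩ := exists_finsupp_basis O hK _ t x
  have h1 : (piT O t ht M).val.app (op t) x = 0 := by
    rw [← pi_thetaT O hK, hx, hq]
  have hc' : xT O t M c = x := hc
  rw [← hc', piT_xT] at h1
  let r : RelT O t M := ⟨c, h1⟩
  have h2 : (rhoT O t ht M).val.app (op t) (basis O r t) = x := by
    rw [rhoT_basis]
    have : ht.from t = 𝟙 t := ht.hom_ext _ _
    rw [this, res_id']
    exact hc'
  rw [← hx, ← h2]
  have h3 : rhoT O t ht M ≫ cokernel.π (rhoT O t ht M) = 0 := cokernel.condition _
  exact congrArg (fun φ => φ.val.app (op t) (basis O r t)) h3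

lemma isIso_thetaT_app_t : IsIso ((thetaT O hK t ht M).val.app (op t)) := by
  rw [ConcreteCategory.isIso_iff_bijective]
  constructor
  · intro q q' h
    have h0 : (thetaT O hK t ht M).val.app (op t) (q - q') = 0 := by
      rw [map_sub]
      exact sub_eq_zero.2 h
    exact sub_eq_zero.1 (thetaT_injective_t O hK t ht M _ h0)
  · intro n
    exact thetaT_surjective_t O hK t ht M n

lemma isIso_thetaT_app (h : ∀ (W : D), IsIso (bc M (ht.from W))) (W : D) :
    IsIso ((thetaT O hK t ht M).val.app (op W)) := by
  have hnat := (beta O (ht.from W)).naturality (thetaT O hK t ht M)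
  haveI h1 : IsIso ((L₁ O (ht.from W)).map (thetaT O hK t ht M)) := by
    have h0 := isIso_thetaT_app_t O hK t ht M
    let e : ((QT O t ht M).val.obj (op t) : ModuleCat.{u} (O.obj.obj (op t))) ≅
        (M.val.obj (op t) : ModuleCat.{u} (O.obj.obj (op t))) :=
      @asIso _ _ _ _ ((thetaT O hK t ht M).val.app (op t)) h0
    exact ((ModuleCat.extendScalars (O.obj.map (ht.from W).op).hom).mapIso e).isIso_hom
  haveI h2 : IsIso ((beta O (ht.from W)).app M) := h W
  haveI h3 : IsIso ((beta O (ht.from W)).app (QT O t ht M)) :=
    isIso_bc_of_presentation hK _ (presQT O t ht M) (ht.from W)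
  haveI h4 : IsIso ((beta O (ht.from W)).app (QT O t ht M) ≫
      (L₂ O W).map (thetaT O hK t ht M)) := by
    rw [← hnat]; infer_instance
  exact IsIso.of_isIso_comp_left ((beta O (ht.from W)).app (QT O t ht M))
    ((L₂ O W).map (thetaT O hK t ht M))

lemma isIso_thetaT (h : ∀ (W : D), IsIso (bc M (ht.from W))) : IsIso (thetaT O hK t ht M) := by
  have hb : ∀ W : D, Function.Bijective ((thetaT O hK t ht M).val.app (op W)) := fun W =>
    (ConcreteCategory.isIso_iff_bijective _).1 (isIso_thetaT_app O hK t ht M h W)
  haveI : Mono (thetaT O hK t ht M) := by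
    apply mono_of_inj' O
    intro V x hx
    apply (hb V).1
    rw [hx, map_zero]
  haveI : Epi (thetaT O hK t ht M) := by
    apply epi_of_local_lift O
    intro Y y
    refine ⟨⊤, K.top_mem _, fun Z f _ => ?_⟩
    exact (hb Z).2 _
  exact isIso_of_mono_of_epi _

include hK in
theorem nonempty_presentation_of_bc (h : ∀ (W : D), IsIso (bc M (ht.from W))) :
    Nonempty M.Presentation := by
  haveI := isIso_thetaT O hK t ht M h
  exact ⟨(presQT O t ht M).ofIsIso (thetaT O hK t ht M)⟩

end Term

end Groth.Agent.Lib.Helper45.Chaotic
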