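import Groth.Agent.Lib.Helper45.Chaotic2

/-!
# Modules on a site with the chaotic topology, III
Quasi-coherent modules for the chaotic topology `⊥` on a small category: `F` is quasi-coherent
iff all base change maps `F(V) ⊗_{O(V)} O(U) ⟶ F(U)` are isomorphisms (`isQuasicoherent_iff_bc`).
-/

set_option autoImplicit false
set_option linter.style.haveILetI false
set_option linter.unusedSectionVars false

universe u

open CategoryTheory CategoryTheory.Limits Opposite ModSite

namespace Groth.Agent.Lib.Helper45.Chaotic

open Groth.Agent.Lib.Helper45.QcSum Groth.Agent.Lib.Helper45.FTDict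

variable {C : Type u} [SmallCategory C]

lemma isChaotic_bot : IsChaotic (⊥ : GrothendieckTopology C) := by
  intro X S hS
  exact (GrothendieckTopology.bot_covering.1 hS)

lemma isChaotic_over (X : C) : IsChaotic ((⊥ : GrothendieckTopology C).over X) := by
  intro Y S hS
  rw [GrothendieckTopology.mem_over_iff] at hS
  have h := GrothendieckTopology.bot_covering.1 hS
  exact (Sieve.overEquiv Y).injective (h.trans (OrderIso.map_top _).symm)


theorem isIso_bc_of_isQuasicoherent (O : Sheaf (⊥ : GrothendieckTopology C) CommRingCat.{u})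
    (F : Mod O) (hF : SheafOfModules.IsQuasicoherent (R := ringSh O) F) {U V : C} (g : U ⟶ V) :
    IsIso (bc F g) := by
  obtain ⟨q⟩ := hF.nonempty_quasicoherentData
  have h1 := q.coversTop V
  have h2 := GrothendieckTopology.bot_covering.1 h1
  have h3 : (Sieve.ofObjects q.X V) (𝟙 V) := by rw [h2]; trivial
  obtain ⟨i, ⟨v⟩⟩ := h3
  have h4 := isIso_bc_of_presentation (O := O.over (q.X i)) (isChaotic_over (q.X i))
    (F.over (q.X i)) (q.presentation i) (Over.homMk g : Over.mk (g ≫ v) ⟶ Over.mk v)
  exact h4


theorem isQuasicoherent_of_bc (O : Sheaf (⊥ : GrothendieckTopology C) CommRingCat.{u})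
    (F : Mod O) (h : ∀ (U V : C) (g : U ⟶ V), IsIso (bc F g)) :
    SheafOfModules.IsQuasicoherent (R := ringSh O) F := by
  have hp : ∀ V : C, Nonempty ((F.over V).Presentation) := fun V =>
    nonempty_presentation_of_bc (O.over V) (isChaotic_over V) (Over.mk (𝟙 V)) Over.mkIdTerminal
      (F.over V) (fun W => h W.left V (Over.mkIdTerminal.from W).left)
  exact { nonempty_quasicoherentData := ⟨{
    I := C
    X := id
    coversTop := fun W => by
      rw [GrothendieckTopology.bot_covering]
      exact (Sieve.id_mem_iff_eq_top).1 ⟨W, ⟨𝟙 W⟩⟩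
    presentation := fun V => (hp V).some }⟩ }

theorem isQuasicoherent_iff_bc (O : Sheaf (⊥ : GrothendieckTopology C) CommRingCat.{u})
    (F : Mod O) :
    SheafOfModules.IsQuasicoherent (R := ringSh O) F ↔
      ∀ (U V : C) (g : U ⟶ V), IsIso (bc F g) :=
  ⟨fun hF _ _ g => isIso_bc_of_isQuasicoherent O F hF g, isQuasicoherent_of_bc O F⟩

end Groth.Agent.Lib.Helper45.Chaotic
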