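import Groth.Agent.Lib.Helper45.Chaotic3
import Mathlib.Algebra.Homology.ShortComplex.ModuleCat
import Mathlib.Algebra.Category.ModuleCat.Descent

/-!
# Modules on a site with the chaotic topology, IV
With flat restriction maps, quasi-coherent modules for the chaotic topology form a weak Serre
subcategory (`main9123`): 2-out-of-3 for the base change isomorphisms in short exact sequences.
-/

set_option autoImplicit false
set_option linter.style.haveILetI false
set_option linter.unusedSectionVars false

universe u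

open CategoryTheory CategoryTheory.Limits Opposite ModSite

namespace Groth.Agent.Lib.Helper45.Chaotic

open Groth.Agent.Lib.Helper45.QcSum Groth.Agent.Lib.Helper45.FTDict

section Alg3

/-- in a map of short exact sequences of modules, if the middle and right maps are bijective,
so is the left one. -/
lemma isIso_τ₁_of_shortExact {R : Type u} [Ring R] {S₁ S₂ : ShortComplex (ModuleCat.{u} R)}
    (φ : S₁ ⟶ S₂) (h₁ : S₁.ShortExact) (h₂ : S₂.ShortExact) (h2 : IsIso φ.τ₂) (h3 : IsIso φ.τ₃) :
    IsIso φ.τ₁ := by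
  have b2 := (ConcreteCategory.isIso_iff_bijective _).1 h2
  have b3 := (ConcreteCategory.isIso_iff_bijective _).1 h3
  have m1 : Function.Injective S₁.f := (ModuleCat.mono_iff_injective _).1 h₁.mono_f
  have m2 : Function.Injective S₂.f := (ModuleCat.mono_iff_injective _).1 h₂.mono_f
  have e1 := (ShortComplex.moduleCat_exact_iff (S := S₁)).1 h₁.exact
  have c1 : ∀ x, S₂.f (φ.τ₁ x) = φ.τ₂ (S₁.f x) := fun x =>
    (congrArg (fun ψ => ψ x) φ.comm₁₂)
  have c2 : ∀ x, S₂.g (φ.τ₂ x) = φ.τ₃ (S₁.g x) := fun x =>
    (congrArg (fun ψ => ψ x) φ.comm₂₃)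
  have z2 : ∀ y, S₂.g (S₂.f y) = 0 := fun y => congrArg (fun ψ => ψ y) S₂.zero
  rw [ConcreteCategory.isIso_iff_bijective]
  constructor
  · intro x x' hx
    apply m1
    apply b2.1
    rw [← c1, ← c1, hx]
  · intro y
    obtain ⟨x₂, hx₂⟩ := b2.2 (S₂.f y)
    have h0 : S₁.g x₂ = 0 := by
      apply b3.1
      rw [← c2, hx₂, z2, map_zero]
    obtain ⟨x₁, hx₁⟩ := e1 x₂ h0
    refine ⟨x₁, ?_⟩
    apply m2
    rw [c1, hx₁, hx₂]

end Alg3


section Serre
variable {D : Type u} [SmallCategory D] {K : GrothendieckTopology D} (hK : IsChaotic K)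
variable (O : Sheaf K CommRingCat.{u}) {U V : D} (g : U ⟶ V)

lemma preservesFiniteLimits_L₁ (hg : (O.obj.map g.op).hom.Flat) :
    PreservesFiniteLimits (L₁ O g) := by
  haveI := preservesFiniteLimits_evC O V
  haveI := ModuleCat.preservesFiniteLimits_extendScalars_of_flat.{u} hg
  unfold L₁
  exact comp_preservesFiniteLimits _ _

include hK in
lemma preservesFiniteColimits_L₁ : PreservesFiniteColimits (L₁ O g) := by
  haveI := preservesColimits_L₁ O hK g
  exact PreservesColimitsOfSize.preservesFiniteColimits _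

include hK in
lemma shortExact_map_L₁ (hg : (O.obj.map g.op).hom.Flat) (S : ShortComplex (Mod O))
    (hS : S.ShortExact) :
    haveI := preservesFiniteLimits_L₁ O g hg
    (S.map (L₁ O g)).ShortExact := by
  haveI := preservesFiniteLimits_L₁ O g hg
  haveI := preservesFiniteColimits_L₁ hK O g
  exact hS.map_of_exact (L₁ O g)

include hK in
lemma shortExact_map_L₂ (W : D) (S : ShortComplex (Mod O)) (hS : S.ShortExact) :
    haveI : PreservesFiniteLimits (L₂ O W) := preservesFiniteLimits_evC O W
    (S.map (L₂ O W)).ShortExact := by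
  haveI : PreservesFiniteLimits (L₂ O W) := preservesFiniteLimits_evC O W
  haveI : PreservesFiniteColimits (L₂ O W) := preservesFiniteColimits_evC O hK W
  exact hS.map_of_exact (L₂ O W)

include hK in
lemma isIso_bc_X₂ (hg : (O.obj.map g.op).hom.Flat) (S : ShortComplex (Mod O))
    (hS : S.ShortExact) (h1 : IsIso (bc S.X₁ g)) (h3 : IsIso (bc S.X₃ g)) :
    IsIso (bc S.X₂ g) := by
  haveI := preservesFiniteLimits_L₁ O g hg
  haveI : PreservesFiniteLimits (L₂ O U) := preservesFiniteLimits_evC O U
  have e1 := shortExact_map_L₁ hK O g hg S hS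
  have e2 := shortExact_map_L₂ hK O U S hS
  exact ShortComplex.isIso₂_of_shortExact_of_isIso₁₃' (S.mapNatTrans (beta O g)) e1 e2 h1 h3

include hK in
lemma isIso_bc_X₁ (hg : (O.obj.map g.op).hom.Flat) (S : ShortComplex (Mod O))
    (hS : S.ShortExact) (h2 : IsIso (bc S.X₂ g)) (h3 : IsIso (bc S.X₃ g)) :
    IsIso (bc S.X₁ g) := by
  haveI := preservesFiniteLimits_L₁ O g hg
  haveI : PreservesFiniteLimits (L₂ O U) := preservesFiniteLimits_evC O U
  have e1 := shortExact_map_L₁ hK O g hg S hS
  have e2 := shortExact_map_L₂ hK O U S hS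
  exact isIso_τ₁_of_shortExact (S.mapNatTrans (beta O g)) e1 e2 h2 h3

end Serre


section Ab
variable {A : Type*} [Category A] [Abelian A] {F G : A} (α : F ⟶ G)

lemma shortExact_image_coker :
    (ShortComplex.mk (kernel.ι (cokernel.π α)) (cokernel.π α) (kernel.condition _)).ShortExact :=
  ShortComplex.ShortExact.mk' (ShortComplex.exact_of_f_is_kernel _ (kernelIsKernel _))
    (inferInstanceAs (Mono (kernel.ι (cokernel.π α)))) (inferInstanceAs (Epi (cokernel.π α)))

lemma kernel_ι_factorThruImage : kernel.ι α ≫ Abelian.factorThruImage α = 0 := by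
  rw [← cancel_mono (Abelian.image.ι α), Category.assoc, Abelian.image.fac, kernel.condition,
    zero_comp]

lemma shortExact_kernel_image :
    (ShortComplex.mk (kernel.ι α) (Abelian.factorThruImage α)
      (kernel_ι_factorThruImage α)).ShortExact :=
  ShortComplex.ShortExact.mk' (ShortComplex.exact_of_f_is_kernel _
    (isKernelOfComp (Abelian.image.ι α) α (kernelIsKernel α) (kernel_ι_factorThruImage α)
      (Abelian.image.fac α)))
    (inferInstanceAs (Mono (kernel.ι α))) (inferInstanceAs (Epi (Abelian.factorThruImage α)))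

end Ab

section Main
variable {C : Type u} [SmallCategory C]

lemma isIso_bc_cokernel {D : Type u} [SmallCategory D] {K : GrothendieckTopology D}
    (hK : IsChaotic K) (O : Sheaf K CommRingCat.{u}) {F G : Mod O} (α : F ⟶ G) {U V : D}
    (g : U ⟶ V) (hF : IsIso (bc F g)) (hG : IsIso (bc G g)) : IsIso (bc (cokernel α) g) := by
  have hcol : IsColimit (CokernelCofork.ofπ (cokernel.π α) (cokernel.condition α)) :=
    cokernelIsCokernel α
  exact isIso_bc_of_isColimit hK α (cokernel.π α) (cokernel.condition α) hcol g hF hG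

theorem main9123 (O : Sheaf (⊥ : GrothendieckTopology C) CommRingCat.{u})
    (hO : ∀ (U V : C) (g : U ⟶ V), (O.obj.map g.op).hom.Flat) :
    (∀ (F G : ModSite.Mod O) (α : F ⟶ G),
        SheafOfModules.IsQuasicoherent (R := ModSite.ringSh O) F →
        SheafOfModules.IsQuasicoherent (R := ModSite.ringSh O) G →
        SheafOfModules.IsQuasicoherent (R := ModSite.ringSh O) (kernel α) ∧
          SheafOfModules.IsQuasicoherent (R := ModSite.ringSh O) (cokernel α)) ∧
    (∀ (S : ShortComplex (ModSite.Mod O)), S.ShortExact →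
        SheafOfModules.IsQuasicoherent (R := ModSite.ringSh O) S.X₁ →
        SheafOfModules.IsQuasicoherent (R := ModSite.ringSh O) S.X₃ →
        SheafOfModules.IsQuasicoherent (R := ModSite.ringSh O) S.X₂) := by
  have hK : IsChaotic (⊥ : GrothendieckTopology C) := isChaotic_bot
  constructor
  · intro F G α hF hG
    rw [isQuasicoherent_iff_bc] at hF hG
    have hcok : ∀ (U V : C) (g : U ⟶ V), IsIso (bc (cokernel α) g) := fun U V g =>
      isIso_bc_cokernel hK O α g (hF U V g) (hG U V g)
    have him : ∀ (U V : C) (g : U ⟶ V), IsIso (bc (kernel (cokernel.π α)) g) := fun U V g =>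
      isIso_bc_X₁ hK O g (hO U V g)
        (ShortComplex.mk (kernel.ι (cokernel.π α)) (cokernel.π α) (kernel.condition _))
        (shortExact_image_coker α) (hG U V g) (hcok U V g)
    have hker : ∀ (U V : C) (g : U ⟶ V), IsIso (bc (kernel α) g) := fun U V g =>
      isIso_bc_X₁ hK O g (hO U V g)
        (ShortComplex.mk (kernel.ι α) (Abelian.factorThruImage α) (kernel_ι_factorThruImage α))
        (shortExact_kernel_image α) (hF U V g) (him U V g)
    exact ⟨(isQuasicoherent_iff_bc O _).2 hker, (isQuasicoherent_iff_bc O _).2 hcok⟩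
  · intro S hS h1 h3
    rw [isQuasicoherent_iff_bc] at h1 h3 ⊢
    intro U V g
    exact isIso_bc_X₂ hK O g (hO U V g) S hS (h1 U V g) (h3 U V g)

end Main

end Groth.Agent.Lib.Helper45.Chaotic
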