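import Groth.Agent.Lib.Helper45.FTDict8

/-!
# Pushforward along a closed embedding with surjective comorphism: finite type is preserved
and detected (`isFiniteType_push_iff`); sections interface `toP`/`ofP` for `RMor.ofFlat … push`.
-/

set_option autoImplicit false
set_option linter.style.haveILetI false
set_option linter.unusedSectionVars false

universe u

open CategoryTheory CategoryTheory.Limits Opposite ModSite TopologicalSpace

namespace Groth.Agent.Lib.Helper45.ClosedImm

open Groth.Agent.Lib.Helper45.QcSum Groth.Agent.Lib.Helper45.FTDict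

section Sep
variable {C : Type u} [SmallCategory C] {J : GrothendieckTopology C} (O : Sheaf J CommRingCat.{u})

lemma eq_of_local (F : Mod O) {V : C} (t t' : F.val.obj (op V)) (S : Sieve V) (hS : S ∈ J V)
    (h : ∀ (W : C) (f : W ⟶ V), S f → res O F f t = res O F f t') : t = t' := by
  let Tsh := (SheafOfModules.toSheaf (ringSh O)).obj F
  have h1 : Presieve.IsSheaf J (Tsh.obj ⋙ forget AddCommGrpCat.{u}) :=
    (isSheaf_iff_isSheaf_of_type _ _).1 ((sheafCompose J (forget AddCommGrpCat.{u})).obj Tsh).property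
  exact (h1 S hS).isSeparatedFor.ext (fun W f hf => h W f hf)

end Sep

variable {Z X : TopCat.{u}} (i : Z ⟶ X)
    (O_Z : TopCat.Sheaf CommRingCat.{u} Z) (O_X : TopCat.Sheaf CommRingCat.{u} X)
    (c : O_X ⟶ ((TopologicalSpace.Opens.map i).sheafPushforwardContinuous CommRingCat.{u}
      (Opens.grothendieckTopology X) (Opens.grothendieckTopology Z)).obj O_Z)
    (F : ModSite.Mod O_Z)

/-- the pushforward module. -/
noncomputable abbrev pF : ModSite.Mod O_X :=
  (ModSite.RMor.ofFlat (TopologicalSpace.Opens.map i) c).push.obj F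

/-- a section of `F` over `i⁻¹ U` seen as a section of `i_* F` over `U`. -/
def toP (U : Opens X) (x : F.val.obj (op ((Opens.map i).obj U))) :
    (pF i O_Z O_X c F).val.obj (op U) := x

/-- a section of `i_* F` over `U` seen as a section of `F` over `i⁻¹ U`. -/
def ofP (U : Opens X) (x : (pF i O_Z O_X c F).val.obj (op U)) :
    F.val.obj (op ((Opens.map i).obj U)) := x

lemma toP_ofP (U : Opens X) (x : (pF i O_Z O_X c F).val.obj (op U)) :
    toP i O_Z O_X c F U (ofP i O_Z O_X c F U x) = x := rfl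

lemma ofP_toP (U : Opens X) (x : F.val.obj (op ((Opens.map i).obj U))) :
    ofP i O_Z O_X c F U (toP i O_Z O_X c F U x) = x := rfl

lemma res_toP {V U : Opens X} (g : V ⟶ U) (x : F.val.obj (op ((Opens.map i).obj U))) :
    res O_X (pF i O_Z O_X c F) g (toP i O_Z O_X c F U x) =
      toP i O_Z O_X c F V (res O_Z F ((Opens.map i).map g) x) := rfl

/-- the comorphism on sections. -/
noncomputable def cApp (U : Opens X) (a : (ringSh O_X).obj.obj (op U)) :
    (ringSh O_Z).obj.obj (op ((Opens.map i).obj U)) := c.hom.app (op U) a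

lemma smul_toP (U : Opens X) (a : (ringSh O_X).obj.obj (op U))
    (x : F.val.obj (op ((Opens.map i).obj U))) :
    a • toP i O_Z O_X c F U x = toP i O_Z O_X c F U (cApp i O_Z O_X c U a • x) := rfl

lemma toP_sum (U : Opens X) {ι : Type} (t : Finset ι)
    (x : ι → F.val.obj (op ((Opens.map i).obj U))) :
    toP i O_Z O_X c F U (∑ k ∈ t, x k) = ∑ k ∈ t, toP i O_Z O_X c F U (x k) := rfl

lemma cApp_res {V U : Opens X} (g : V ⟶ U) (a : (ringSh O_X).obj.obj (op U)) :
    (ringSh O_Z).obj.map ((Opens.map i).map g).op (cApp i O_Z O_X c U a) =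
      cApp i O_Z O_X c V ((ringSh O_X).obj.map g.op a) := by
  have h := c.hom.naturality g.op
  have h2 := congrArg (fun φ => φ.hom a) h
  exact h2.symm

omit O_Z O_X c F in
lemma exists_opens_preimage (hi : Topology.IsInducing i) (U : Opens X) (V' : Opens Z)
    (h : V' ≤ (Opens.map i).obj U) :
    ∃ V : Opens X, V ≤ U ∧ (Opens.map i).obj V = V' := by
  obtain ⟨t, ht, hts⟩ := hi.isOpen_iff.1 V'.2
  refine ⟨⟨t, ht⟩ ⊓ U, inf_le_right, ?_⟩
  ext z
  constructor
  · rintro ⟨hz1, -⟩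
    have : z ∈ i ⁻¹' t := hz1
    rw [hts] at this
    exact this
  · intro hz
    refine ⟨?_, h hz⟩
    have : z ∈ i ⁻¹' t := by rw [hts]; exact hz
    exact this

lemma subsingleton_of_empty (V' : Opens Z) (h : ∀ z, z ∉ V') :
    Subsingleton (F.val.obj (op V')) := by
  constructor
  intro a b
  refine eq_of_local O_Z F a b ⊥ ?_ ?_
  · intro z hz
    exact absurd hz (h z)
  · intro W f hf
    exact absurd hf (by simp)

lemma locGen_of_push (hi : Topology.IsInducing i) (U : Opens X) {n : ℕ}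
    (s : Fin n → F.val.obj (op ((Opens.map i).obj U)))
    (hs : LocGen O_X (pF i O_Z O_X c F) U (fun k => toP i O_Z O_X c F U (s k))) :
    LocGen O_Z F ((Opens.map i).obj U) s := by
  intro V' g t
  obtain ⟨V, hVU, rfl⟩ := exists_opens_preimage i hi U V' (leOfHom g)
  obtain ⟨T, hT, hT'⟩ := hs V (homOfLE hVU) (toP i O_Z O_X c F V t)
  let T' : Sieve ((Opens.map i).obj V) :=
    { arrows := fun W' _ => ∃ (W : Opens X) (h : W ⟶ V), T h ∧ W' ≤ (Opens.map i).obj W
      downward_closed := by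
        rintro W₁ W₂ f ⟨W, h, hh, hle⟩ k
        exact ⟨W, h, hh, (leOfHom k).trans hle⟩ }
  refine ⟨T', ?_, ?_⟩
  · intro z hz
    obtain ⟨W, h, hh, hzW⟩ := hT (i z) hz
    exact ⟨(Opens.map i).obj W, (Opens.map i).map h, ⟨W, h, hh, le_rfl⟩, hzW⟩
  · rintro W' f ⟨W, h, hh, hle⟩
    obtain ⟨a, ha⟩ := hT' W h hh
    let e : W' ⟶ (Opens.map i).obj W := homOfLE hle
    refine ⟨fun k => (ringSh O_Z).obj.map e.op (cApp i O_Z O_X c W (a k)), ?_⟩
    have hf : f = e ≫ (Opens.map i).map h := Subsingleton.elim _ _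
    rw [hf, res_comp]
    have h1 : res O_Z F ((Opens.map i).map h) t = ∑ k, cApp i O_Z O_X c W (a k) •
        res O_Z F ((Opens.map i).map (h ≫ homOfLE hVU)) (s k) := ha
    rw [h1, res_sum]
    refine Finset.sum_congr rfl (fun k _ => ?_)
    rw [res_smul, ← res_comp]
    congr 2

omit O_Z O_X c F in
lemma not_mem_preimage_compl (hi : Topology.IsClosedEmbedding i) (V : Opens X) (z : Z) :
    z ∉ (Opens.map i).obj (V ⊓ ⟨(Set.range i)ᶜ, hi.isClosed_range.isOpen_compl⟩) := by
  rintro ⟨-, h2⟩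
  exact h2 ⟨z, rfl⟩

lemma locGen_push (hi : Topology.IsClosedEmbedding i) (hc : Sheaf.IsLocallySurjective c)
    (U : Opens X) {n : ℕ} (s : Fin n → F.val.obj (op ((Opens.map i).obj U)))
    (hs : LocGen O_Z F ((Opens.map i).obj U) s) :
    LocGen O_X (pF i O_Z O_X c F) U (fun k => toP i O_Z O_X c F U (s k)) := by
  classical
  intro V g t
  obtain ⟨T', hT', hT''⟩ := hs ((Opens.map i).obj V) ((Opens.map i).map g) (ofP i O_Z O_X c F V t)
  let T : Sieve V :=
    { arrows := fun W h => ∃ a : Fin n → (ringSh O_X).obj.obj (op W),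
        res O_X (pF i O_Z O_X c F) h t =
          ∑ k, a k • res O_X (pF i O_Z O_X c F) (h ≫ g) (toP i O_Z O_X c F U (s k))
      downward_closed := by
        rintro W₁ W₂ h ⟨a, ha⟩ k
        refine ⟨fun l => (ringSh O_X).obj.map k.op (a l), ?_⟩
        rw [res_comp, ha, res_sum]
        refine Finset.sum_congr rfl (fun l _ => ?_)
        rw [res_smul, ← res_comp, Category.assoc] }
  refine ⟨T, ?_, fun W h hh => hh⟩
  intro x hx
  by_cases hxr : x ∈ Set.range i
  · obtain ⟨z, rfl⟩ := hxr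
    obtain ⟨W', h', hh', hzW'⟩ := hT' z hx
    obtain ⟨b, hb⟩ := hT'' W' h' hh'
    obtain ⟨W₂, hW₂V, rfl⟩ := exists_opens_preimage i hi.isInducing V W' (leOfHom h')
    have hcov : Finset.univ.inf (fun k => Presheaf.imageSieve c.hom (b k)) ∈
        Opens.grothendieckTopology X W₂ :=
      finset_inf_mem _ _ (fun k => hc.imageSieve_mem (b k))
    obtain ⟨W, h, hh, hxW⟩ := hcov (i z) hzW'
    have hall : ∀ k, Presheaf.imageSieve c.hom (b k) h := fun k =>
      (finset_inf_apply _ _ h).1 hh k (Finset.mem_univ k)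
    choose a ha using hall
    refine ⟨W, h ≫ homOfLE hW₂V, ⟨a, ?_⟩, hxW⟩
    have hb2 := congrArg (res O_Z F ((Opens.map i).map h)) hb
    rw [← res_comp, res_sum] at hb2
    have key : res O_Z F ((Opens.map i).map (h ≫ homOfLE hW₂V)) (ofP i O_Z O_X c F V t) =
        ∑ k, cApp i O_Z O_X c W (a k) •
          res O_Z F ((Opens.map i).map ((h ≫ homOfLE hW₂V) ≫ g)) (s k) := by
      have e1 : (Opens.map i).map (h ≫ homOfLE hW₂V) = (Opens.map i).map h ≫ h' :=
        Subsingleton.elim _ _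
      rw [e1, hb2]
      refine Finset.sum_congr rfl (fun k _ => ?_)
      rw [res_smul, ← res_comp]
      congr 1
      exact (ha k).symm
    exact key
  · have hsub : Subsingleton (F.val.obj (op ((Opens.map i).obj
        (V ⊓ ⟨(Set.range i)ᶜ, hi.isClosed_range.isOpen_compl⟩)))) :=
      subsingleton_of_empty O_Z F _ (not_mem_preimage_compl i hi V)
    exact ⟨V ⊓ ⟨(Set.range i)ᶜ, hi.isClosed_range.isOpen_compl⟩, homOfLE inf_le_left,
      ⟨fun _ => 0, hsub.elim _ _⟩, ⟨hx, hxr⟩⟩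

theorem ft_of_ft_push (hi : Topology.IsInducing i) (hP : FT O_X (pF i O_Z O_X c F)) :
    FT O_Z F := by
  intro W₀'
  obtain ⟨W₀, -, rfl⟩ := exists_opens_preimage i hi ⊤ W₀' le_top
  obtain ⟨S, hS, hS'⟩ := hP W₀
  let S' : Sieve ((Opens.map i).obj W₀) :=
    { arrows := fun V' _ => ∃ (U : Opens X) (g : U ⟶ W₀), S g ∧ V' ≤ (Opens.map i).obj U
      downward_closed := by
        rintro W₁ W₂ f ⟨U, g, hg, hle⟩ k
        exact ⟨U, g, hg, (leOfHom k).trans hle⟩ }
  refine ⟨S', ?_, ?_⟩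
  · intro z hz
    obtain ⟨U, g, hg, hzU⟩ := hS (i z) hz
    exact ⟨(Opens.map i).obj U, (Opens.map i).map g, ⟨U, g, hg, le_rfl⟩, hzU⟩
  · rintro V' f ⟨U, g, hg, hle⟩
    obtain ⟨n, s, hs⟩ := hS' U g hg
    have h1 := locGen_of_push i O_Z O_X c F hi U (fun k => ofP i O_Z O_X c F U (s k)) hs
    exact ⟨n, _, h1.restrict O_Z (homOfLE hle)⟩

theorem ft_push_of_ft (hi : Topology.IsClosedEmbedding i) (hc : Sheaf.IsLocallySurjective c)
    (hF : FT O_Z F) : FT O_X (pF i O_Z O_X c F) := by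
  intro W₀
  let S : Sieve W₀ :=
    { arrows := fun U _ => ∃ (n : ℕ) (s : Fin n → (pF i O_Z O_X c F).val.obj (op U)),
        LocGen O_X (pF i O_Z O_X c F) U s
      downward_closed := by
        rintro U U' g ⟨n, s, hs⟩ k
        exact ⟨n, _, hs.restrict O_X k⟩ }
  refine ⟨S, ?_, fun U g hg => hg⟩
  intro x hx
  by_cases hxr : x ∈ Set.range i
  · obtain ⟨z, rfl⟩ := hxr
    obtain ⟨S', hS', hS''⟩ := hF ((Opens.map i).obj W₀)
    obtain ⟨V', f, hf, hzV'⟩ := hS' z hx
    obtain ⟨n, s, hs⟩ := hS'' V' f hf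
    obtain ⟨U, hUW, rfl⟩ := exists_opens_preimage i hi.isInducing W₀ V' (leOfHom f)
    exact ⟨U, homOfLE hUW, ⟨n, _, locGen_push i O_Z O_X c F hi hc U s hs⟩, hzV'⟩
  · refine ⟨W₀ ⊓ ⟨(Set.range i)ᶜ, hi.isClosed_range.isOpen_compl⟩, homOfLE inf_le_left,
      ⟨0, Fin.elim0, ?_⟩, ⟨hx, hxr⟩⟩
    intro V g t
    refine ⟨⊤, (Opens.grothendieckTopology X).top_mem _, fun W h _ => ⟨Fin.elim0, ?_⟩⟩
    have hsub : Subsingleton (F.val.obj (op ((Opens.map i).obj W))) := by
      apply subsingleton_of_empty O_Z F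
      intro z hz
      have hz' : i z ∈ W₀ ⊓ ⟨(Set.range i)ᶜ, hi.isClosed_range.isOpen_compl⟩ :=
        leOfHom (h ≫ g) hz
      exact hz'.2 ⟨z, rfl⟩
    exact hsub.elim _ _

theorem isFiniteType_push_iff (hi : Topology.IsClosedEmbedding i)
    (hc : Sheaf.IsLocallySurjective c) :
    SheafOfModules.IsFiniteType (R := ModSite.ringSh O_X)
        ((ModSite.RMor.ofFlat (TopologicalSpace.Opens.map i) c).push.obj F) ↔
      SheafOfModules.IsFiniteType (R := ModSite.ringSh O_Z) F := by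
  constructor
  · intro h
    exact isFiniteType_of_ft O_Z F
      (ft_of_ft_push i O_Z O_X c F hi.isInducing (ft_of_isFiniteType O_X _))
  · intro h
    exact isFiniteType_of_ft O_X _ (ft_push_of_ft i O_Z O_X c F hi hc (ft_of_isFiniteType O_Z F))

end Groth.Agent.Lib.Helper45.ClosedImm
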