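import Groth.Agent.Lib.Helper45.ClosedImm1

/-!
# Pushforward along a closed embedding with locally surjective comorphism, II:
`i_*` preserves epimorphisms and finite colimits, is faithful and full.
`sig i W` is the largest open of `X` with preimage `W`.
-/

set_option autoImplicit false
set_option linter.style.haveILetI false
set_option linter.unusedSectionVars false

universe u

open CategoryTheory CategoryTheory.Limits Opposite ModSite TopologicalSpace

namespace Groth.Agent.Lib.Helper45.ClosedImm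

open Groth.Agent.Lib.Helper45.QcSum Groth.Agent.Lib.Helper45.FTDict

section Gen
variable {C : Type u} [SmallCategory C] {J : GrothendieckTopology C} (O : Sheaf J CommRingCat.{u})

lemma res_id (F : Mod O) (U : C) (s : F.val.obj (op U)) : res O F (𝟙 U) s = s := by
  unfold res
  rw [op_id, PresheafOfModules.map_id]
  rfl

end Gen

variable {Z X : TopCat.{u}} (i : Z ⟶ X)

/-- the largest open of `X` with preimage inside `W`. -/
def sig (W : Opens Z) : Opens X := sSup {U | (Opens.map i).obj U ≤ W}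

lemma le_sig_iff (W : Opens Z) (U : Opens X) : U ≤ sig i W ↔ (Opens.map i).obj U ≤ W := by
  constructor
  · intro h z hz
    have h1 : i z ∈ sig i W := h hz
    obtain ⟨U', hU', hz'⟩ := Opens.mem_sSup.1 h1
    exact hU' hz'
  · intro h
    exact le_sSup h

lemma sig_mono {V W : Opens Z} (h : V ≤ W) : sig i V ≤ sig i W :=
  (le_sig_iff i W _).2 (((le_sig_iff i V _).1 le_rfl).trans h)

lemma map_sig_le (W : Opens Z) : (Opens.map i).obj (sig i W) ≤ W := (le_sig_iff i W _).1 le_rfl

lemma le_map_sig (hi : Topology.IsInducing i) (W : Opens Z) : W ≤ (Opens.map i).obj (sig i W) := by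
  obtain ⟨U, -, hU⟩ := exists_opens_preimage i hi ⊤ W le_top
  have h1 : U ≤ sig i W := (le_sig_iff i W U).2 hU.le
  intro z hz
  have : z ∈ (Opens.map i).obj U := by rw [hU]; exact hz
  exact h1 this

lemma le_sig_map (U : Opens X) : U ≤ sig i ((Opens.map i).obj U) := (le_sig_iff i _ U).2 le_rfl

variable
    (O_Z : TopCat.Sheaf CommRingCat.{u} Z) (O_X : TopCat.Sheaf CommRingCat.{u} X)
    (c : O_X ⟶ ((TopologicalSpace.Opens.map i).sheafPushforwardContinuous CommRingCat.{u}
      (Opens.grothendieckTopology X) (Opens.grothendieckTopology Z)).obj O_Z)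

/-- the pushforward functor. -/
noncomputable abbrev pushF : Mod O_Z ⥤ Mod O_X :=
  (ModSite.RMor.ofFlat (TopologicalSpace.Opens.map i) c).push

lemma pushF_map_app {F₁ F₂ : Mod O_Z} (f : F₁ ⟶ F₂) (U : Opens X)
    (x : F₁.val.obj (op ((Opens.map i).obj U))) :
    ((pushF i O_Z O_X c).map f).val.app (op U) (toP i O_Z O_X c F₁ U x) =
      toP i O_Z O_X c F₂ U (f.val.app (op ((Opens.map i).obj U)) x) := rfl

theorem epi_push (hi : Topology.IsClosedEmbedding i) {F₁ F₂ : Mod O_Z} (f : F₁ ⟶ F₂) [Epi f] :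
    Epi ((pushF i O_Z O_X c).map f) := by
  apply epi_of_local_lift O_X
  intro U t
  obtain ⟨S', hS', hS''⟩ := exists_local_lift O_Z f (ofP i O_Z O_X c F₂ U t)
  let S : Sieve U :=
    { arrows := fun V g => ∃ y : (pF i O_Z O_X c F₁).val.obj (op V),
        ((pushF i O_Z O_X c).map f).val.app (op V) y = res O_X (pF i O_Z O_X c F₂) g t
      downward_closed := by
        rintro V V' g ⟨y, hy⟩ k
        refine ⟨res O_X (pF i O_Z O_X c F₁) k y, ?_⟩
        rw [app_res, hy, ← res_comp] }
  refine ⟨S, ?_, fun V g hg => hg⟩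
  intro x hx
  by_cases hxr : x ∈ Set.range i
  · obtain ⟨z, rfl⟩ := hxr
    obtain ⟨W', h', hh', hzW'⟩ := hS' z hx
    obtain ⟨y, hy⟩ := hS'' W' h' hh'
    obtain ⟨V, hVU, rfl⟩ := exists_opens_preimage i hi.isInducing U W' (leOfHom h')
    refine ⟨V, homOfLE hVU, ⟨toP i O_Z O_X c F₁ V y, ?_⟩, hzW'⟩
    rw [pushF_map_app, hy]
    have e1 : h' = (Opens.map i).map (homOfLE hVU) := Subsingleton.elim _ _
    rw [e1]
    rfl
  · have hsub : Subsingleton (F₂.val.obj (op ((Opens.map i).obj
        (U ⊓ ⟨(Set.range i)ᶜ, hi.isClosed_range.isOpen_compl⟩)))) :=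
      subsingleton_of_empty O_Z F₂ _ (not_mem_preimage_compl i hi U)
    exact ⟨U ⊓ ⟨(Set.range i)ᶜ, hi.isClosed_range.isOpen_compl⟩, homOfLE inf_le_left,
      ⟨0, hsub.elim _ _⟩, ⟨hx, hxr⟩⟩

theorem preservesFiniteColimits_push (hi : Topology.IsClosedEmbedding i) :
    PreservesFiniteColimits (pushF i O_Z O_X c) := by
  haveI : PreservesFiniteLimits (pushF i O_Z O_X c) := by
    haveI : (pushF i O_Z O_X c).IsRightAdjoint := ModSite.RMor.isRightAdjoint_push _
    infer_instance
  rw [Functor.preservesFiniteColimits_iff_forall_exact_map_and_epi]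
  intro S hS
  refine ⟨?_, ?_⟩
  · exact (((Functor.preservesFiniteLimits_iff_forall_exact_map_and_mono (pushF i O_Z O_X c)).1
      inferInstance) S hS).1
  · haveI := hS.epi_g
    exact epi_push i O_Z O_X c hi S.g

theorem faithful_push (hi : Topology.IsInducing i) : (pushF i O_Z O_X c).Faithful := by
  constructor
  intro F₁ F₂ f g hfg
  apply hom_ext_app O_Z
  intro W t
  obtain ⟨U, -, rfl⟩ := exists_opens_preimage i hi ⊤ W le_top
  have h1 := congrArg (fun θ => θ.val.app (op U) (toP i O_Z O_X c F₁ U t)) hfg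
  exact h1

section Full
variable {F₁ F₂ : Mod O_Z} (φ : (pushF i O_Z O_X c).obj F₁ ⟶ (pushF i O_Z O_X c).obj F₂)
variable (hi : Topology.IsInducing i)

/-- the candidate preimage on sections. -/
noncomputable def psiFun (W : Opens Z) (s : F₁.val.obj (op W)) : F₂.val.obj (op W) :=
  res O_Z F₂ (homOfLE (le_map_sig i hi W))
    (ofP i O_Z O_X c F₂ (sig i W)
      (φ.val.app (op (sig i W))
        (toP i O_Z O_X c F₁ (sig i W) (res O_Z F₁ (homOfLE (map_sig_le i W)) s))))

lemma psiFun_add (W : Opens Z) (s t : F₁.val.obj (op W)) :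
    psiFun i O_Z O_X c φ hi W (s + t) =
      psiFun i O_Z O_X c φ hi W s + psiFun i O_Z O_X c φ hi W t := by
  unfold psiFun
  rw [res_add]
  have : toP i O_Z O_X c F₁ (sig i W) (res O_Z F₁ (homOfLE (map_sig_le i W)) s +
      res O_Z F₁ (homOfLE (map_sig_le i W)) t) =
      toP i O_Z O_X c F₁ (sig i W) (res O_Z F₁ (homOfLE (map_sig_le i W)) s) +
      toP i O_Z O_X c F₁ (sig i W) (res O_Z F₁ (homOfLE (map_sig_le i W)) t) := rfl
  rw [this, map_add]
  exact res_add O_Z F₂ _ _ _

lemma ofP_res {F : Mod O_Z} {V U : Opens X} (g : V ⟶ U) (y : (pF i O_Z O_X c F).val.obj (op U)) :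
    ofP i O_Z O_X c F V (res O_X (pF i O_Z O_X c F) g y) =
      res O_Z F ((Opens.map i).map g) (ofP i O_Z O_X c F U y) := rfl

/-- key: on opens of the form `i⁻¹ U`, `psiFun` is `φ`. -/
lemma psiFun_map (U : Opens X) (s : F₁.val.obj (op ((Opens.map i).obj U))) :
    psiFun i O_Z O_X c φ hi ((Opens.map i).obj U) s =
      ofP i O_Z O_X c F₂ U (φ.val.app (op U) (toP i O_Z O_X c F₁ U s)) := by
  unfold psiFun
  let k : U ⟶ sig i ((Opens.map i).obj U) := homOfLE (le_sig_map i U)
  have h1 : res O_X (pF i O_Z O_X c F₁) k (toP i O_Z O_X c F₁ (sig i ((Opens.map i).obj U))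
      (res O_Z F₁ (homOfLE (map_sig_le i ((Opens.map i).obj U))) s)) =
      toP i O_Z O_X c F₁ U s := by
    rw [res_toP, ← res_comp]
    have : ((Opens.map i).map k ≫ homOfLE (map_sig_le i ((Opens.map i).obj U))) = 𝟙 _ :=
      Subsingleton.elim _ _
    rw [this, res_id]
  rw [← h1, app_res, ofP_res]
  have e : homOfLE (le_map_sig i hi ((Opens.map i).obj U)) = (Opens.map i).map k :=
    Subsingleton.elim _ _
  rw [e]

lemma psiFun_res {V W : Opens Z} (g : V ⟶ W) (s : F₁.val.obj (op W)) :
    res O_Z F₂ g (psiFun i O_Z O_X c φ hi W s) =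
      psiFun i O_Z O_X c φ hi V (res O_Z F₁ g s) := by
  unfold psiFun
  let k : sig i V ⟶ sig i W := homOfLE (sig_mono i (leOfHom g))
  have h1 : res O_Z F₁ (homOfLE (map_sig_le i V)) (res O_Z F₁ g s) =
      res O_Z F₁ ((Opens.map i).map k) (res O_Z F₁ (homOfLE (map_sig_le i W)) s) := by
    rw [← res_comp, ← res_comp]
    congr 1
  rw [h1, ← res_toP, app_res, ofP_res, ← res_comp, ← res_comp]
  congr 1

variable (hc : Sheaf.IsLocallySurjective c)

include hc in
lemma psiFun_smul (W : Opens Z) (a : (ringSh O_Z).obj.obj (op W)) (s : F₁.val.obj (op W)) :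
    psiFun i O_Z O_X c φ hi W (a • s) = a • psiFun i O_Z O_X c φ hi W s := by
  let e₁ : (Opens.map i).obj (sig i W) ⟶ W := homOfLE (map_sig_le i W)
  let a' : (ringSh O_Z).obj.obj (op ((Opens.map i).obj (sig i W))) :=
    (ringSh O_Z).obj.map e₁.op a
  have hT : Presheaf.imageSieve c.hom a' ∈ Opens.grothendieckTopology X (sig i W) :=
    hc.imageSieve_mem a'
  let S : Sieve W :=
    { arrows := fun W' _ => ∃ (U' : Opens X) (g : U' ⟶ sig i W),
        Presheaf.imageSieve c.hom a' g ∧ W' ≤ (Opens.map i).obj U'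
      downward_closed := by
        rintro W₁ W₂ f ⟨U', g, hg, hle⟩ k
        exact ⟨U', g, hg, (leOfHom k).trans hle⟩ }
  refine eq_of_local O_Z F₂ _ _ S ?_ ?_
  · intro z hz
    have hz' : i z ∈ sig i W := le_map_sig i hi W hz
    obtain ⟨U', g, hg, hzU'⟩ := hT (i z) hz'
    exact ⟨(Opens.map i).obj U', (Opens.map i).map g ≫ e₁, ⟨U', g, hg, le_rfl⟩, hzU'⟩
  · rintro W' f ⟨U', g, ⟨b, hb⟩, hle⟩
    have f₁ : W' ⟶ (Opens.map i).obj U' := homOfLE hle
    have f₂ : (Opens.map i).obj U' ⟶ W := (Opens.map i).map g ≫ e₁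
    have hf : f = f₁ ≫ f₂ := Subsingleton.elim _ _
    rw [hf, res_comp, res_comp]
    refine congrArg (res O_Z F₂ f₁) ?_
    rw [psiFun_res, res_smul, res_smul, psiFun_res]
    have ha : (ringSh O_Z).obj.map f₂.op a = cApp i O_Z O_X c U' b := by
      have h1 : (ringSh O_Z).obj.map f₂.op a =
          (ringSh O_Z).obj.map ((Opens.map i).map g).op a' := by
        change _ = (ringSh O_Z).obj.map ((Opens.map i).map g).op ((ringSh O_Z).obj.map e₁.op a)
        rw [← RingCat.comp_apply, ← Functor.map_comp]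
        have : f₂.op = e₁.op ≫ ((Opens.map i).map g).op := Subsingleton.elim _ _
        rw [this]
      rw [h1]
      exact hb.symm
    rw [ha, psiFun_map, psiFun_map, ← smul_toP, app_smul]
    rfl

/-- the preimage morphism. -/
noncomputable def psi : F₁ ⟶ F₂ where
  val :=
    { app := fun W => ModuleCat.ofHom
        { toFun := psiFun i O_Z O_X c φ hi W.unop
          map_add' := psiFun_add i O_Z O_X c φ hi W.unop
          map_smul' := psiFun_smul i O_Z O_X c φ hi hc W.unop }
      naturality := fun {W V} f => by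
        ext x
        exact (psiFun_res i O_Z O_X c φ hi f.unop x).symm }

lemma push_psi : (pushF i O_Z O_X c).map (psi i O_Z O_X c φ hi hc) = φ := by
  apply hom_ext_app O_X
  intro U t
  exact psiFun_map i O_Z O_X c φ hi U t

end Full

theorem full_push (hi : Topology.IsInducing i) (hc : Sheaf.IsLocallySurjective c) :
    (pushF i O_Z O_X c).Full := by
  constructor
  intro F₁ F₂ φ
  exact ⟨psi i O_Z O_X c φ hi hc, push_psi i O_Z O_X c φ hi hc⟩


end Groth.Agent.Lib.Helper45.ClosedImm
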