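import Groth.Agent.Lib.Helper45.ClosedImm2

/-!
# Pushforward along a closed embedding with locally surjective comorphism, III:
for an `O_X`-module `G` killed by the kernel of `c` (`Killed`), the action of `O_Z(W)` on
`G(sig W)` by local lifts (`act`, `actModule`), the presheaf of modules `FPre` and the sheaf
`FSh` on `Z`; relational gluing `exists_glue`.
-/

set_option autoImplicit false
set_option linter.style.haveILetI false
set_option linter.unusedSectionVars false

universe u

open CategoryTheory CategoryTheory.Limits Opposite ModSite TopologicalSpace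

namespace Groth.Agent.Lib.Helper45.ClosedImm

open Groth.Agent.Lib.Helper45.QcSum Groth.Agent.Lib.Helper45.FTDict

section Glue
variable {C : Type u} [SmallCategory C] {J : GrothendieckTopology C} (O : Sheaf J CommRingCat.{u})

/-- relational gluing of sections of a sheaf of modules. -/
lemma exists_glue (F : Mod O) {U : C} (T : Sieve U) (hT : T ∈ J U)
    (R : ∀ (V : C), (V ⟶ U) → F.val.obj (op V) → Prop)
    (hex : ∀ (V : C) (g : V ⟶ U), T g → ∃ y, R V g y)
    (huniq : ∀ (V : C) (g : V ⟶ U), T g → ∀ y y', R V g y → R V g y' → y = y')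
    (hres : ∀ (V V' : C) (g : V ⟶ U) (h : V' ⟶ V), T g → ∀ y, R V g y →
      R V' (h ≫ g) (res O F h y)) :
    ∃ t : F.val.obj (op U), ∀ (V : C) (g : V ⟶ U), T g → R V g (res O F g t) := by
  classical
  let Tsh := (SheafOfModules.toSheaf (ringSh O)).obj F
  have h1 : Presieve.IsSheaf J (Tsh.obj ⋙ forget AddCommGrpCat.{u}) :=
    (isSheaf_iff_isSheaf_of_type _ _).1
      ((sheafCompose J (forget AddCommGrpCat.{u})).obj Tsh).property
  let x : Presieve.FamilyOfElements (Tsh.obj ⋙ forget AddCommGrpCat.{u}) T.arrows :=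
    fun V g hg => (Classical.choose (hex V g hg) : F.val.obj (op V))
  have hx : x.Compatible := by
    rw [Presieve.compatible_iff_sieveCompatible]
    intro V V' g h hg
    change Classical.choose (hex V' (h ≫ g) (T.downward_closed hg h)) =
      res O F h (Classical.choose (hex V g hg))
    exact huniq V' (h ≫ g) (T.downward_closed hg h) _ _
      (Classical.choose_spec (hex V' (h ≫ g) (T.downward_closed hg h)))
      (hres V V' g h hg _ (Classical.choose_spec (hex V g hg)))
  refine ⟨(h1 _ hT).amalgamate x hx, fun V g hg => ?_⟩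
  have h2 := (h1 _ hT).valid_glue hx g hg
  have h3 : res O F g ((h1 _ hT).amalgamate x hx) = Classical.choose (hex V g hg) := h2
  rw [h3]
  exact Classical.choose_spec (hex V g hg)

end Glue

variable {Z X : TopCat.{u}} (i : Z ⟶ X)
    (O_Z : TopCat.Sheaf CommRingCat.{u} Z) (O_X : TopCat.Sheaf CommRingCat.{u} X)
    (c : O_X ⟶ ((TopologicalSpace.Opens.map i).sheafPushforwardContinuous CommRingCat.{u}
      (Opens.grothendieckTopology X) (Opens.grothendieckTopology Z)).obj O_Z)

lemma cApp_add (U : Opens X) (a b : (ringSh O_X).obj.obj (op U)) :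
    cApp i O_Z O_X c U (a + b) = cApp i O_Z O_X c U a + cApp i O_Z O_X c U b :=
  map_add (c.hom.app (op U)).hom a b

lemma cApp_mul (U : Opens X) (a b : (ringSh O_X).obj.obj (op U)) :
    cApp i O_Z O_X c U (a * b) = cApp i O_Z O_X c U a * cApp i O_Z O_X c U b :=
  map_mul (c.hom.app (op U)).hom a b

lemma cApp_sub (U : Opens X) (a b : (ringSh O_X).obj.obj (op U)) :
    cApp i O_Z O_X c U (a - b) = cApp i O_Z O_X c U a - cApp i O_Z O_X c U b :=
  map_sub (c.hom.app (op U)).hom a b

lemma cApp_one (U : Opens X) : cApp i O_Z O_X c U 1 = 1 :=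
  map_one (c.hom.app (op U)).hom

lemma cApp_zero (U : Opens X) : cApp i O_Z O_X c U 0 = 0 :=
  map_zero (c.hom.app (op U)).hom

/-- the sections of the structure sheaf of `Z` over an open with empty underlying set vanish. -/
lemma ring_subsingleton_of_empty (V' : Opens Z) (h : ∀ z, z ∉ V') :
    Subsingleton ((ringSh O_Z).obj.obj (op V')) :=
  subsingleton_of_empty O_Z (ModSite.unit O_Z) V' h

variable (G : Mod O_X)

/-- `G` is killed by the kernel of the comorphism. -/
def Killed : Prop :=
  ∀ (U : Opens X) (a : (ringSh O_X).obj.obj (op U)), cApp i O_Z O_X c U a = 0 →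
    ∀ s : G.val.obj (op U), a • s = 0

variable {G}

lemma Killed.smul_eq (hG : Killed i O_Z O_X c G) (U : Opens X) (a b : (ringSh O_X).obj.obj (op U))
    (h : cApp i O_Z O_X c U a = cApp i O_Z O_X c U b) (s : G.val.obj (op U)) :
    a • s = b • s := by
  have h1 : cApp i O_Z O_X c U (a - b) = 0 := by rw [cApp_sub, h, sub_self]
  have h2 := hG U (a - b) h1 s
  rw [sub_smul, sub_eq_zero] at h2
  exact h2

lemma Killed.subsingleton (hG : Killed i O_Z O_X c G) (U : Opens X) (h : ∀ z, i z ∉ U) :
    Subsingleton (G.val.obj (op U)) := by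
  have hs := ring_subsingleton_of_empty O_Z ((Opens.map i).obj U) (fun z hz => h z hz)
  constructor
  intro s t
  have h1 : ∀ s : G.val.obj (op U), s = 0 := by
    intro s
    have := hG U 1 (hs.elim _ _) s
    rwa [one_smul] at this
  rw [h1 s, h1 t]


section Act

/-- restriction of a section of `O_Z` over `W` to the preimage of an open `V ≤ sig W`. -/
noncomputable def rhoZ {W : Opens Z} {V : Opens X} (g : V ⟶ sig i W)
    (a : (ringSh O_Z).obj.obj (op W)) : (ringSh O_Z).obj.obj (op ((Opens.map i).obj V)) :=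
  (ringSh O_Z).obj.map (homOfLE ((le_sig_iff i W V).1 (leOfHom g))).op a

lemma rhoZ_add {W : Opens Z} {V : Opens X} (g : V ⟶ sig i W) (a b : (ringSh O_Z).obj.obj (op W)) :
    rhoZ i O_Z g (a + b) = rhoZ i O_Z g a + rhoZ i O_Z g b :=
  map_add ((ringSh O_Z).obj.map (homOfLE ((le_sig_iff i W V).1 (leOfHom g))).op).hom a b

lemma rhoZ_mul {W : Opens Z} {V : Opens X} (g : V ⟶ sig i W) (a b : (ringSh O_Z).obj.obj (op W)) :
    rhoZ i O_Z g (a * b) = rhoZ i O_Z g a * rhoZ i O_Z g b :=
  map_mul ((ringSh O_Z).obj.map (homOfLE ((le_sig_iff i W V).1 (leOfHom g))).op).hom a b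

lemma rhoZ_one {W : Opens Z} {V : Opens X} (g : V ⟶ sig i W) :
    rhoZ i O_Z g (1 : (ringSh O_Z).obj.obj (op W)) = 1 :=
  map_one ((ringSh O_Z).obj.map (homOfLE ((le_sig_iff i W V).1 (leOfHom g))).op).hom

lemma rhoZ_zero {W : Opens Z} {V : Opens X} (g : V ⟶ sig i W) :
    rhoZ i O_Z g (0 : (ringSh O_Z).obj.obj (op W)) = 0 :=
  map_zero ((ringSh O_Z).obj.map (homOfLE ((le_sig_iff i W V).1 (leOfHom g))).op).hom

lemma rhoZ_comp {W : Opens Z} {V V' : Opens X} (h : V' ⟶ V) (g : V ⟶ sig i W)
    (a : (ringSh O_Z).obj.obj (op W)) :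
    rhoZ i O_Z (h ≫ g) a = (ringSh O_Z).obj.map ((Opens.map i).map h).op (rhoZ i O_Z g a) := by
  unfold rhoZ
  rw [← RingCat.comp_apply, ← Functor.map_comp]
  congr 1

/-- restriction along `sig` of a restriction. -/
lemma rhoZ_sig {W W' : Opens Z} (f : W' ⟶ W) {V : Opens X} (g : V ⟶ sig i W')
    (a : (ringSh O_Z).obj.obj (op W)) :
    rhoZ i O_Z g ((ringSh O_Z).obj.map f.op a) =
      rhoZ i O_Z (g ≫ homOfLE (sig_mono i (leOfHom f))) a := by
  unfold rhoZ
  rw [← RingCat.comp_apply, ← Functor.map_comp]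
  congr 1

/-- the sieve of opens over which `a` lifts to `O_X`. -/
noncomputable def liftSieve (W : Opens Z) (a : (ringSh O_Z).obj.obj (op W)) : Sieve (sig i W) where
  arrows V g := ∃ b : (ringSh O_X).obj.obj (op V), cApp i O_Z O_X c V b = rhoZ i O_Z g a
  downward_closed := by
    rintro V V' g ⟨b, hb⟩ h
    refine ⟨(ringSh O_X).obj.map h.op b, ?_⟩
    rw [← cApp_res, hb, rhoZ_comp]

lemma liftSieve_mem (hc : Sheaf.IsLocallySurjective c) (W : Opens Z)
    (a : (ringSh O_Z).obj.obj (op W)) :
    liftSieve i O_Z O_X c W a ∈ Opens.grothendieckTopology X (sig i W) := by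
  have hT : Presheaf.imageSieve c.hom (rhoZ i O_Z (𝟙 (sig i W)) a) ∈
      Opens.grothendieckTopology X (sig i W) := hc.imageSieve_mem _
  refine (Opens.grothendieckTopology X).superset_covering ?_ hT
  rintro V g ⟨b, hb⟩
  refine ⟨b, ?_⟩
  have h1 := rhoZ_comp i O_Z g (𝟙 (sig i W)) a
  rw [Category.comp_id] at h1
  rw [h1]
  exact hb

variable (G) in
/-- `t` is a candidate for `a • s`. -/
def IsAct (W : Opens Z) (a : (ringSh O_Z).obj.obj (op W)) (s t : G.val.obj (op (sig i W))) : Prop :=
  ∀ (V : Opens X) (g : V ⟶ sig i W) (b : (ringSh O_X).obj.obj (op V)),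
    cApp i O_Z O_X c V b = rhoZ i O_Z g a → res O_X G g t = b • res O_X G g s

lemma isAct_unique (hc : Sheaf.IsLocallySurjective c) (W : Opens Z)
    (a : (ringSh O_Z).obj.obj (op W)) (s t t' : G.val.obj (op (sig i W)))
    (h : IsAct i O_Z O_X c G W a s t) (h' : IsAct i O_Z O_X c G W a s t') : t = t' := by
  refine eq_of_local O_X G t t' _ (liftSieve_mem i O_Z O_X c hc W a) ?_
  rintro V g ⟨b, hb⟩
  rw [h V g b hb, h' V g b hb]

lemma exists_isAct (hc : Sheaf.IsLocallySurjective c) (hG : Killed i O_Z O_X c G) (W : Opens Z)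
    (a : (ringSh O_Z).obj.obj (op W)) (s : G.val.obj (op (sig i W))) :
    ∃ t, IsAct i O_Z O_X c G W a s t := by
  classical
  let Tsh := (SheafOfModules.toSheaf (ringSh O_X)).obj G
  have h1 : Presieve.IsSheaf (Opens.grothendieckTopology X)
      (Tsh.obj ⋙ forget AddCommGrpCat.{u}) :=
    (isSheaf_iff_isSheaf_of_type _ _).1
      ((sheafCompose (Opens.grothendieckTopology X) (forget AddCommGrpCat.{u})).obj Tsh).property
  have hS := liftSieve_mem i O_Z O_X c hc W a
  let x : Presieve.FamilyOfElements (Tsh.obj ⋙ forget AddCommGrpCat.{u})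
      (liftSieve i O_Z O_X c W a).arrows :=
    fun V g hg => (Classical.choose hg • res O_X G g s : G.val.obj (op V))
  have hx : x.Compatible := by
    rw [Presieve.compatible_iff_sieveCompatible]
    intro V V' g h hg
    change (Classical.choose ((liftSieve i O_Z O_X c W a).downward_closed hg h)) •
      res O_X G (h ≫ g) s = res O_X G h (Classical.choose hg • res O_X G g s)
    rw [res_smul, ← res_comp]
    apply hG.smul_eq
    rw [Classical.choose_spec ((liftSieve i O_Z O_X c W a).downward_closed hg h), ← cApp_res,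
      Classical.choose_spec hg, rhoZ_comp]
  refine ⟨(h1 _ hS).amalgamate x hx, fun V g b hb => ?_⟩
  have hg : (liftSieve i O_Z O_X c W a) g := ⟨b, hb⟩
  have h2 := (h1 _ hS).valid_glue hx g hg
  refine Eq.trans h2 ?_
  change Classical.choose hg • res O_X G g s = b • res O_X G g s
  apply hG.smul_eq
  rw [Classical.choose_spec hg, hb]

/-- the action of `O_Z(W)` on `G(sig W)`. -/
noncomputable def act (hc : Sheaf.IsLocallySurjective c) (hG : Killed i O_Z O_X c G) (W : Opens Z)
    (a : (ringSh O_Z).obj.obj (op W)) (s : G.val.obj (op (sig i W))) : G.val.obj (op (sig i W)) :=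
  Classical.choose (exists_isAct i O_Z O_X c hc hG W a s)

lemma act_spec (hc : Sheaf.IsLocallySurjective c) (hG : Killed i O_Z O_X c G) (W : Opens Z)
    (a : (ringSh O_Z).obj.obj (op W)) (s : G.val.obj (op (sig i W))) :
    IsAct i O_Z O_X c G W a s (act i O_Z O_X c hc hG W a s) :=
  Classical.choose_spec (exists_isAct i O_Z O_X c hc hG W a s)

end Act


section ModStr
variable (hc : Sheaf.IsLocallySurjective c) (hG : Killed i O_Z O_X c G) (W : Opens Z)

lemma act_eq_of_isAct (a : (ringSh O_Z).obj.obj (op W)) (s t : G.val.obj (op (sig i W)))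
    (h : IsAct i O_Z O_X c G W a s t) : act i O_Z O_X c hc hG W a s = t :=
  isAct_unique i O_Z O_X c hc W a s _ _ (act_spec i O_Z O_X c hc hG W a s) h

lemma act_one (s : G.val.obj (op (sig i W))) : act i O_Z O_X c hc hG W 1 s = s := by
  apply act_eq_of_isAct
  intro V g b hb
  rw [rhoZ_one] at hb
  have := hG.smul_eq i O_Z O_X c V b 1 (by rw [hb, cApp_one]) (res O_X G g s)
  rw [this, one_smul]

lemma act_zero_left (s : G.val.obj (op (sig i W))) : act i O_Z O_X c hc hG W 0 s = 0 := by
  apply act_eq_of_isAct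
  intro V g b hb
  rw [rhoZ_zero] at hb
  rw [res_zero, hG V b hb]

lemma act_zero_right (a : (ringSh O_Z).obj.obj (op W)) :
    act i O_Z O_X c hc hG W a (0 : G.val.obj (op (sig i W))) = 0 := by
  apply act_eq_of_isAct
  intro V g b hb
  rw [res_zero, smul_zero]

lemma act_add_right (a : (ringSh O_Z).obj.obj (op W)) (s s' : G.val.obj (op (sig i W))) :
    act i O_Z O_X c hc hG W a (s + s') =
      act i O_Z O_X c hc hG W a s + act i O_Z O_X c hc hG W a s' := by
  apply act_eq_of_isAct
  intro V g b hb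
  rw [res_add, res_add, act_spec i O_Z O_X c hc hG W a s V g b hb,
    act_spec i O_Z O_X c hc hG W a s' V g b hb, smul_add]

lemma act_add_left (a a' : (ringSh O_Z).obj.obj (op W)) (s : G.val.obj (op (sig i W))) :
    act i O_Z O_X c hc hG W (a + a') s =
      act i O_Z O_X c hc hG W a s + act i O_Z O_X c hc hG W a' s := by
  refine eq_of_local O_X G _ _ _ ((Opens.grothendieckTopology X).intersection_covering
    (liftSieve_mem i O_Z O_X c hc W a) (liftSieve_mem i O_Z O_X c hc W a')) ?_
  rintro V g ⟨⟨b, hb⟩, ⟨b', hb'⟩⟩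
  rw [res_add, act_spec i O_Z O_X c hc hG W a s V g b hb,
    act_spec i O_Z O_X c hc hG W a' s V g b' hb',
    act_spec i O_Z O_X c hc hG W (a + a') s V g (b + b') (by rw [cApp_add, hb, hb', rhoZ_add]),
    add_smul]

lemma act_mul (a a' : (ringSh O_Z).obj.obj (op W)) (s : G.val.obj (op (sig i W))) :
    act i O_Z O_X c hc hG W (a * a') s =
      act i O_Z O_X c hc hG W a (act i O_Z O_X c hc hG W a' s) := by
  refine eq_of_local O_X G _ _ _ ((Opens.grothendieckTopology X).intersection_covering
    (liftSieve_mem i O_Z O_X c hc W a) (liftSieve_mem i O_Z O_X c hc W a')) ?_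
  rintro V g ⟨⟨b, hb⟩, ⟨b', hb'⟩⟩
  rw [act_spec i O_Z O_X c hc hG W a _ V g b hb,
    act_spec i O_Z O_X c hc hG W a' s V g b' hb',
    act_spec i O_Z O_X c hc hG W (a * a') s V g (b * b') (by rw [cApp_mul, hb, hb', rhoZ_mul]),
    mul_smul]

/-- the `O_Z(W)`-module structure on `G(sig W)`. -/
@[instance_reducible]
noncomputable def actModule : Module ((ringSh O_Z).obj.obj (op W)) (G.val.obj (op (sig i W))) where
  smul a s := act i O_Z O_X c hc hG W a s
  one_smul := act_one i O_Z O_X c hc hG W
  mul_smul := act_mul i O_Z O_X c hc hG W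
  smul_zero := act_zero_right i O_Z O_X c hc hG W
  smul_add := act_add_right i O_Z O_X c hc hG W
  add_smul := act_add_left i O_Z O_X c hc hG W
  zero_smul := act_zero_left i O_Z O_X c hc hG W

/-- compatibility of the action with restriction. -/
lemma act_res {W' : Opens Z} (f : W' ⟶ W) (a : (ringSh O_Z).obj.obj (op W))
    (s : G.val.obj (op (sig i W))) :
    res O_X G (homOfLE (sig_mono i (leOfHom f))) (act i O_Z O_X c hc hG W a s) =
      act i O_Z O_X c hc hG W' ((ringSh O_Z).obj.map f.op a)
        (res O_X G (homOfLE (sig_mono i (leOfHom f))) s) := by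
  symm
  apply act_eq_of_isAct
  intro V g b hb
  rw [rhoZ_sig] at hb
  rw [← res_comp, ← res_comp]
  exact act_spec i O_Z O_X c hc hG W a s V _ b hb

end ModStr


section Pre
variable (hi : Topology.IsClosedEmbedding i)
variable (hc : Sheaf.IsLocallySurjective c) (hG : Killed i O_Z O_X c G)

/-- `sig` as a functor. -/
def sigF : Opens Z ⥤ Opens X := Monotone.functor (f := sig i) (fun _ _ h => sig_mono i h)

variable (G) in
/-- the abelian presheaf `W ↦ G(sig W)` on `Z`. -/
noncomputable def sigPre : (Opens Z)ᵒᵖ ⥤ Ab.{u} := (sigF i).op ⋙ G.val.presheaf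

/-- the presheaf of `O_Z`-modules `W ↦ G(sig W)`. -/
noncomputable def FPre : PresheafOfModules.{u} (ringSh O_Z).obj :=
  letI : ∀ W : (Opens Z)ᵒᵖ, Module ((ringSh O_Z).obj.obj W) ((sigPre i O_X G).obj W) :=
    fun W => actModule i O_Z O_X c hc hG W.unop
  PresheafOfModules.ofPresheaf (sigPre i O_X G)
    (fun W _ f r m => act_res i O_Z O_X c hc hG W.unop f.unop r m)

include hi hG in
lemma isSheaf_sigPre : Presheaf.IsSheaf (Opens.grothendieckTopology Z) (sigPre i O_X G) := by
  rw [Presheaf.isSheaf_iff_isSheaf_forget (Opens.grothendieckTopology Z) (sigPre i O_X G)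
    (forget AddCommGrpCat.{u}), isSheaf_iff_isSheaf_of_type]
  intro W S hS x hx
  rw [Presieve.compatible_iff_sieveCompatible] at hx
  -- `x f hf : G(sig V)` for `f : V ⟶ W` in `S`
  have hle : ∀ {U' : Opens X} (g : U' ⟶ sig i W), (Opens.map i).obj U' ≤ W :=
    fun {U'} g => (le_sig_iff i W U').1 (leOfHom g)
  let T : Sieve (sig i W) :=
    { arrows := fun U' g => S (homOfLE (hle g)) ∨ ∀ z, i z ∉ U'
      downward_closed := by
        rintro U' U'' g (h | h) k
        · left
          have := S.downward_closed h ((Opens.map i).map k)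
          exact this
        · right
          intro z hz
          exact h z (leOfHom k hz) }
  have hT : T ∈ Opens.grothendieckTopology X (sig i W) := by
    intro y hy
    by_cases hyr : y ∈ Set.range i
    · obtain ⟨z, rfl⟩ := hyr
      have hzW : z ∈ W := map_sig_le i W hy
      obtain ⟨V, f, hf, hzV⟩ := hS z hzW
      refine ⟨sig i V, homOfLE (sig_mono i (leOfHom f)), Or.inl ?_, le_map_sig i hi.isInducing V hzV⟩
      have := S.downward_closed hf (homOfLE (map_sig_le i V))
      exact this
    · exact ⟨sig i W ⊓ ⟨(Set.range i)ᶜ, hi.isClosed_range.isOpen_compl⟩, homOfLE inf_le_left,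
        Or.inr (fun z hz => hz.2 ⟨z, rfl⟩), ⟨hy, hyr⟩⟩
  -- the sections of `x` as elements of `G`
  let xs : ∀ (V : Opens Z) (f : V ⟶ W), S f → G.val.obj (op (sig i V)) := fun V f hf => x f hf
  have hxs : ∀ (V V' : Opens Z) (f : V ⟶ W) (k : V' ⟶ V) (hf : S f),
      xs V' (k ≫ f) (S.downward_closed hf k) =
        res O_X G (homOfLE (sig_mono i (leOfHom k))) (xs V f hf) := fun V V' f k hf => hx f k hf
  let R : ∀ (U' : Opens X), (U' ⟶ sig i W) → G.val.obj (op U') → Prop := fun U' g y =>
    ∀ h : S (homOfLE (hle g)), y = res O_X G (homOfLE (le_sig_map i U')) (xs _ _ h)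
  have hsub : ∀ (U' : Opens X), (∀ z, i z ∉ U') → Subsingleton (G.val.obj (op U')) :=
    fun U' h => hG.subsingleton i O_Z O_X c U' h
  obtain ⟨t, ht⟩ := exists_glue O_X G T hT R
    (by
      rintro U' g hg
      by_cases h : S (homOfLE (hle g))
      · exact ⟨res O_X G (homOfLE (le_sig_map i U')) (xs _ _ h), fun _ => rfl⟩
      · exact ⟨0, fun h' => absurd h' h⟩)
    (by
      rintro U' g (h | h) y y' hy hy'
      · rw [hy h, hy' h]
      · exact (hsub U' h).elim _ _)
    (by
      rintro U' U'' g k hg y hy h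
      have h' : S (homOfLE (hle g)) ∨ ∀ z, i z ∉ U' := hg
      rcases h' with h' | h'
      · rw [hy h']
        have e : (homOfLE (hle (k ≫ g)) : (Opens.map i).obj U'' ⟶ W) =
            (Opens.map i).map k ≫ homOfLE (hle g) := Subsingleton.elim _ _
        have h2 := hxs _ _ (homOfLE (hle g)) ((Opens.map i).map k) h'
        have h3 : xs _ (homOfLE (hle (k ≫ g))) h = xs _ ((Opens.map i).map k ≫ homOfLE (hle g))
            (S.downward_closed h' _) := rfl
        rw [h3, h2, ← res_comp, ← res_comp]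
        congr 1
      · exact (hsub U'' (fun z hz => h' z (leOfHom k hz))).elim _ _)
  refine ⟨t, ?_, ?_⟩
  · intro V f hf
    have hTg : T (homOfLE (sig_mono i (leOfHom f))) := Or.inl
      (by have := S.downward_closed hf (homOfLE (map_sig_le i V)); exact this)
    have h1 := ht _ _ hTg (by have := S.downward_closed hf (homOfLE (map_sig_le i V)); exact this)
    have h2 := hxs V _ f (homOfLE (map_sig_le i V)) hf
    change res O_X G (homOfLE (sig_mono i (leOfHom f))) t = xs V f hf
    rw [h1]
    have h3 : xs _ (homOfLE (hle (homOfLE (sig_mono i (leOfHom f))))) _ =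
        xs _ (homOfLE (map_sig_le i V) ≫ f) (S.downward_closed hf _) := rfl
    rw [h3, h2, ← res_comp]
    have e : (homOfLE (le_sig_map i (sig i V)) ≫
        homOfLE (sig_mono i (leOfHom (homOfLE (map_sig_le i V))))) = 𝟙 (sig i V) :=
      Subsingleton.elim _ _
    rw [e, res_id]
  · intro t' ht'
    have ht'' : ∀ (V : Opens Z) (f : V ⟶ W) (hf : S f),
        res O_X G (homOfLE (sig_mono i (leOfHom f))) t' = xs V f hf := fun V f hf => ht' f hf
    refine (eq_of_local O_X G t t' T hT ?_).symm
    rintro U' g (h | h)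
    · have h1 := ht _ g (Or.inl h) h
      rw [h1, ← ht'' _ _ h, ← res_comp]
      congr 1
    · exact (hsub U' h).elim _ _

/-- the sheaf of `O_Z`-modules `W ↦ G(sig W)`. -/
noncomputable def FSh : Mod O_Z where
  val := FPre i O_Z O_X c hc hG
  isSheaf := isSheaf_sigPre i O_Z O_X c hi hG

end Pre

end Groth.Agent.Lib.Helper45.ClosedImm
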