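import Groth.Agent.Lib.Helper45.ClosedImm3

/-!
# Pushforward along a closed embedding with locally surjective comorphism, IV:
the comparison isomorphism `theta : i_* (FSh G) ≅ G` for `G` killed by the kernel of `c`,
the essential image of `i_*`, and `main6847`.
-/

set_option autoImplicit false
set_option linter.style.haveILetI false
set_option linter.unusedSectionVars false

universe u

open CategoryTheory CategoryTheory.Limits Opposite ModSite TopologicalSpace

namespace Groth.Agent.Lib.Helper45.ClosedImm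

open Groth.Agent.Lib.Helper45.QcSum Groth.Agent.Lib.Helper45.FTDict

variable {Z X : TopCat.{u}} (i : Z ⟶ X)
    (O_Z : TopCat.Sheaf CommRingCat.{u} Z) (O_X : TopCat.Sheaf CommRingCat.{u} X)
    (c : O_X ⟶ ((TopologicalSpace.Opens.map i).sheafPushforwardContinuous CommRingCat.{u}
      (Opens.grothendieckTopology X) (Opens.grothendieckTopology Z)).obj O_Z)
    {G : Mod O_X}
variable (hi : Topology.IsClosedEmbedding i)
variable (hc : Sheaf.IsLocallySurjective c) (hG : Killed i O_Z O_X c G)

lemma rhoZ_self (U : Opens X) (g : U ⟶ sig i ((Opens.map i).obj U))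
    (a : (ringSh O_Z).obj.obj (op ((Opens.map i).obj U))) : rhoZ i O_Z g a = a := by
  unfold rhoZ
  have : (homOfLE ((le_sig_iff i ((Opens.map i).obj U) U).1 (leOfHom g))) = 𝟙 _ :=
    Subsingleton.elim _ _
  rw [this, op_id, CategoryTheory.Functor.map_id]
  rfl

lemma smul_pF_FSh (U : Opens X) (a : (ringSh O_X).obj.obj (op U))
    (m : (pF i O_Z O_X c (FSh i O_Z O_X c hi hc hG)).val.obj (op U)) :
    a • m = act i O_Z O_X c hc hG ((Opens.map i).obj U) (cApp i O_Z O_X c U a) m := rfl

/-- the covering sieve `{V ≤ U} ∪ {V ∩ Z = ∅}` of `sig (i⁻¹ U)`. -/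
def covSieve (U : Opens X) : Sieve (sig i ((Opens.map i).obj U)) where
  arrows V _ := V ≤ U ∨ ∀ z, i z ∉ V
  downward_closed := by
    rintro V V' g (h | h) k
    · exact Or.inl ((leOfHom k).trans h)
    · exact Or.inr (fun z hz => h z (leOfHom k hz))

include hi in
lemma covSieve_mem (U : Opens X) :
    covSieve i U ∈ Opens.grothendieckTopology X (sig i ((Opens.map i).obj U)) := by
  intro y hy
  by_cases hyr : y ∈ Set.range i
  · obtain ⟨z, rfl⟩ := hyr
    have hz : z ∈ (Opens.map i).obj U := map_sig_le i _ hy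
    exact ⟨U, homOfLE (le_sig_map i U), Or.inl le_rfl, hz⟩
  · exact ⟨sig i ((Opens.map i).obj U) ⊓ ⟨(Set.range i)ᶜ, hi.isClosed_range.isOpen_compl⟩,
      homOfLE inf_le_left, Or.inr (fun z hz => hz.2 ⟨z, rfl⟩), ⟨hy, hyr⟩⟩

include hi hG in
lemma res_injective (U : Opens X) (m : G.val.obj (op (sig i ((Opens.map i).obj U))))
    (h : res O_X G (homOfLE (le_sig_map i U)) m = 0) : m = 0 := by
  refine eq_of_local O_X G m 0 _ (covSieve_mem i hi U) ?_
  rintro V g (hV | hV)
  · have e : g = homOfLE hV ≫ homOfLE (le_sig_map i U) := Subsingleton.elim _ _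
    rw [e, res_comp, h, res_zero, res_zero]
  · exact (hG.subsingleton i O_Z O_X c V hV).elim _ _

include hi hG in
lemma res_surjective (U : Opens X) (s : G.val.obj (op U)) :
    ∃ m : G.val.obj (op (sig i ((Opens.map i).obj U))),
      res O_X G (homOfLE (le_sig_map i U)) m = s := by
  obtain ⟨t, ht⟩ := exists_glue O_X G (covSieve i U) (covSieve_mem i hi U)
    (fun V _ y => ∀ h : V ≤ U, y = res O_X G (homOfLE h) s)
    (by
      rintro V g hg
      by_cases h : V ≤ U
      · exact ⟨res O_X G (homOfLE h) s, fun _ => rfl⟩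
      · exact ⟨0, fun h' => absurd h' h⟩)
    (by
      rintro V g (h | h) y y' hy hy'
      · rw [hy h, hy' h]
      · exact (hG.subsingleton i O_Z O_X c V h).elim _ _)
    (by
      rintro V V' g k hg y hy h
      have hg' : V ≤ U ∨ ∀ z, i z ∉ V := hg
      rcases hg' with h' | h'
      · rw [hy h', ← res_comp]
        congr 1
      · exact (hG.subsingleton i O_Z O_X c V' (fun z hz => h' z (leOfHom k hz))).elim _ _)
  refine ⟨t, ?_⟩
  have h1 := ht U (homOfLE (le_sig_map i U)) (Or.inl le_rfl) le_rfl
  rw [h1]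
  exact res_id O_X G U s

/-- the comparison map on sections, as a linear map. -/
noncomputable def thetaLin (U : Opens X) :
    (pF i O_Z O_X c (FSh i O_Z O_X c hi hc hG)).val.obj (op U) →ₗ[(ringSh O_X).obj.obj (op U)]
      G.val.obj (op U) where
  toFun m := res O_X G (homOfLE (le_sig_map i U))
    (m : G.val.obj (op (sig i ((Opens.map i).obj U))))
  map_add' := fun m m' => res_add O_X G _ _ _
  map_smul' := fun a m => by
    have h2 := act_spec i O_Z O_X c hc hG ((Opens.map i).obj U)
      (cApp i O_Z O_X c U a) m U (homOfLE (le_sig_map i U)) a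
      (rhoZ_self i O_Z U _ _).symm
    exact h2

/-- the comparison morphism `i_* F ⟶ G`. -/
noncomputable def theta : pF i O_Z O_X c (FSh i O_Z O_X c hi hc hG) ⟶ G where
  val :=
    { app := fun U => (ModuleCat.ofHom (thetaLin i O_Z O_X c hi hc hG U.unop) : _)
      naturality := fun {U V} f => by
        ext m
        change res O_X G (homOfLE (le_sig_map i V.unop))
            (res O_X G (homOfLE (sig_mono i (leOfHom ((Opens.map i).map f.unop)))) m) =
          res O_X G f.unop (res O_X G (homOfLE (le_sig_map i U.unop)) m)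
        rw [← res_comp, ← res_comp]
        congr 1 }

lemma theta_app (U : Opens X) (m : (pF i O_Z O_X c (FSh i O_Z O_X c hi hc hG)).val.obj (op U)) :
    (theta i O_Z O_X c hi hc hG).val.app (op U) m =
      res O_X G (homOfLE (le_sig_map i U)) (m : G.val.obj (op (sig i ((Opens.map i).obj U)))) :=
  rfl

omit hi hc hG in
lemma mono_of_inj {F G : Mod O_X} (φ : F ⟶ G)
    (h : ∀ (V : Opens X) (x : F.val.obj (op V)), φ.val.app (op V) x = 0 → x = 0) : Mono φ := by
  apply Preadditive.mono_of_cancel_zero
  intro T ψ hψ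
  apply hom_ext_app O_X
  intro Z t
  have h1 : φ.val.app (op Z) (ψ.val.app (op Z) t) = 0 :=
    congrArg (fun θ => θ.val.app (op Z) t) hψ
  exact h Z _ h1

instance mono_theta : Mono (theta i O_Z O_X c hi hc hG) := by
  apply mono_of_inj O_X
  intro V x hx
  rw [theta_app] at hx
  exact res_injective i O_Z O_X c hi hG V x hx

instance epi_theta : Epi (theta i O_Z O_X c hi hc hG) := by
  apply epi_of_local_lift O_X
  intro U t
  refine ⟨⊤, (Opens.grothendieckTopology X).top_mem _, fun V f _ => ?_⟩
  obtain ⟨m, hm⟩ := res_surjective i O_Z O_X c hi hG V (res O_X G f t)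
  exact ⟨m, hm⟩

instance isIso_theta : IsIso (theta i O_Z O_X c hi hc hG) :=
  isIso_of_mono_of_epi _

include hi hc hG in
theorem essImage_of_killed : (pushF i O_Z O_X c).essImage G :=
  ⟨FSh i O_Z O_X c hi hc hG, ⟨asIso (theta i O_Z O_X c hi hc hG)⟩⟩

omit hi hc hG in
theorem killed_of_essImage (h : (pushF i O_Z O_X c).essImage G) : Killed i O_Z O_X c G := by
  obtain ⟨F, ⟨e⟩⟩ := h
  intro U a ha s
  have hs : s = e.hom.val.app (op U) (e.inv.val.app (op U) s) := by
    have := congrArg (fun θ => θ.val.app (op U) s) e.inv_hom_id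
    exact this.symm
  rw [hs, ← app_smul]
  have h1 : a • (e.inv.val.app (op U) s) = 0 := by
    have := smul_toP i O_Z O_X c F U a (ofP i O_Z O_X c F U (e.inv.val.app (op U) s))
    rw [ha, zero_smul] at this
    exact this
  rw [h1, map_zero]

theorem main6847 (hi : Topology.IsClosedEmbedding i) (hc : Sheaf.IsLocallySurjective c) :
    PreservesFiniteColimits (pushF i O_Z O_X c) ∧ (pushF i O_Z O_X c).Full ∧
      (pushF i O_Z O_X c).Faithful ∧
      ∀ G : Mod O_X, (pushF i O_Z O_X c).essImage G ↔ Killed i O_Z O_X c G :=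
  ⟨preservesFiniteColimits_push i O_Z O_X c hi, full_push i O_Z O_X c hi.isInducing hc,
    faithful_push i O_Z O_X c hi.isInducing,
    fun _ => ⟨killed_of_essImage i O_Z O_X c, fun hG => essImage_of_killed i O_Z O_X c hi hc hG⟩⟩

end Groth.Agent.Lib.Helper45.ClosedImm
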