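import Groth.Agent.Lib.Helper45.FPTensor3

/-!
# Natural transformations between right exact functors on f.p. modules are determined by
their value at `A`.
-/

set_option autoImplicit false
set_option linter.style.haveILetI false
set_option linter.unusedSectionVars false

universe u v' u'

open CategoryTheory CategoryTheory.Limits

namespace Groth.Agent.Lib.Helper45.FPTensor

variable {A : Type u} [CommRing A] {B : Type u'} [Category.{v'} B] [Preadditive B]
  [HasFiniteBiproducts B]

lemma additive_of_rightExact (F : FPMod A ⥤ B) [PreservesFiniteColimits F] : F.Additive := by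
  haveI : HasZeroObject B := hasZeroObject_of_hasFiniteBiproducts B
  exact (additiveFunctor_iff F).1
    ((rightExactFunctor_le_additiveFunctor (FPMod A) B) F ((rightExactFunctor_iff F).2 inferInstance))

variable (F F' : FPMod A ⥤ B) [PreservesFiniteColimits F] [PreservesFiniteColimits F']

theorem natTrans_ext (t t' : F ⟶ F') (h : t.app unitObj = t'.app unitObj) : t = t' := by
  haveI := additive_of_rightExact F
  ext M
  apply (isUniv_uCan F M).hom_ext
  apply LinearMap.ext
  intro m
  change F.map (toSpan m) ≫ t.app M = F.map (toSpan m) ≫ t'.app M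
  rw [t.naturality, t'.naturality, h]

theorem exists_natTrans (φ : F.obj unitObj ⟶ F'.obj unitObj)
    (hφ : ∀ a : A, F.map (mulHom a) ≫ φ = φ ≫ F'.map (mulHom a)) :
    ∃ t : F ⟶ F', t.app unitObj = φ := by
  haveI := additive_of_rightExact F
  haveI := additive_of_rightExact F'
  let ψ : ∀ M : FPMod A, M.obj →ₗ[A] HomK (actF F) (F'.obj M) := fun M =>
    { toFun := fun m => HomK.mk _ (φ ≫ F'.map (toSpan m))
      map_add' := fun m m' => by
        change φ ≫ F'.map (toSpan (m + m')) = φ ≫ F'.map (toSpan m) + φ ≫ F'.map (toSpan m')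
        rw [toSpan_add, F'.map_add, Preadditive.comp_add]
      map_smul' := fun a m => by
        change φ ≫ F'.map (toSpan (a • m)) = F.map (mulHom a) ≫ φ ≫ F'.map (toSpan m)
        rw [toSpan_smul, F'.map_comp, ← Category.assoc, ← hφ a, Category.assoc] }
  have hψ : ∀ (M : FPMod A) (m : M.obj),
      F.map (toSpan m) ≫ (isUniv_uCan F M).desc (ψ M) = φ ≫ F'.map (toSpan m) := fun M m =>
    LinearMap.congr_fun ((isUniv_uCan F M).fac (ψ M)) m
  refine ⟨{ app := fun M => (isUniv_uCan F M).desc (ψ M), naturality := ?_ }, ?_⟩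
  · intro M N f
    apply (isUniv_uCan F M).hom_ext
    apply LinearMap.ext
    intro m
    change F.map (toSpan m) ≫ F.map f ≫ (isUniv_uCan F N).desc (ψ N) =
      F.map (toSpan m) ≫ (isUniv_uCan F M).desc (ψ M) ≫ F'.map f
    rw [← Category.assoc, ← F.map_comp, ← toSpan_comp, hψ, ← Category.assoc, hψ, Category.assoc,
      ← F'.map_comp, ← toSpan_comp]
  · change (isUniv_uCan F unitObj).desc (ψ unitObj) = φ
    apply (isUniv_uCan F unitObj).desc_eq
    apply LinearMap.ext
    intro (a : A)
    change F.map (toSpan (M := unitObj) a) ≫ φ = φ ≫ F'.map (toSpan (M := unitObj) a)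
    rw [toSpan_unit]
    exact hφ a

end Groth.Agent.Lib.Helper45.FPTensor
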