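import Mathlib
import Groth.Agent.Lib.Helper45.FPTensor4

/-!
# Sections of constant sheaves of modules: exactness and linearity in the module.
-/

set_option autoImplicit false
set_option linter.style.haveILetI false
set_option linter.unusedSectionVars false

universe u

open CategoryTheory CategoryTheory.Limits Opposite

namespace Groth.Agent.Lib.Helper45.ConstTensor

variable {C : Type u} [SmallCategory C] (J : GrothendieckTopology C) (Λ : Type u) [CommRing Λ] (U : C)

instance : PreservesFiniteLimits (constantSheaf J (ModuleCat.{u} Λ)) := by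
  unfold constantSheaf; infer_instance

instance : (constantSheaf J (ModuleCat.{u} Λ)).Additive :=
  Functor.additive_of_preserves_binary_products _

/-- Sections over `U` of the constant sheaf. -/
noncomputable def T : ModuleCat.{u} Λ ⥤ ModuleCat.{u} Λ :=
  constantSheaf J (ModuleCat.{u} Λ) ⋙ sheafToPresheaf J _ ⋙ (evaluation _ _).obj (op U)

instance : PreservesFiniteLimits (T J Λ U) := by
  unfold T; infer_instance

instance : (T J Λ U).Additive := by
  unfold T; infer_instance

lemma exists_set_section {B' C' : ModuleCat.{u} Λ} (p : B' ⟶ C')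
    (hp : Function.Surjective p) :
    ∃ ρ : (sheafCompose J (forget (ModuleCat.{u} Λ))).obj ((constantSheaf J (ModuleCat.{u} Λ)).obj C') ⟶
        (sheafCompose J (forget (ModuleCat.{u} Λ))).obj ((constantSheaf J (ModuleCat.{u} Λ)).obj B'),
      ρ ≫ (sheafCompose J (forget (ModuleCat.{u} Λ))).map
        ((constantSheaf J (ModuleCat.{u} Λ)).map p) = 𝟙 _ := by
  let Fg := forget (ModuleCat.{u} Λ)
  let κ := constantCommuteCompose J Fg
  let σ : Fg.obj C' ⟶ Fg.obj B' := TypeCat.ofHom (Function.surjInv hp)
  have hσ : σ ≫ Fg.map p = 𝟙 _ := by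
    ext c
    exact Function.surjInv_eq hp c
  refine ⟨κ.hom.app C' ≫ (constantSheaf J (Type u)).map σ ≫ κ.inv.app B', ?_⟩
  have hnat := κ.inv.naturality p
  simp only [Functor.comp_map] at hnat
  rw [Category.assoc, Category.assoc, ← hnat, ← Category.assoc ((constantSheaf J (Type u)).map σ),
    ← Functor.map_comp, hσ, CategoryTheory.Functor.map_id, Category.id_comp]
  exact κ.hom_inv_id_app C'

lemma T_map_surjective {B' C' : ModuleCat.{u} Λ} (p : B' ⟶ C')
    (hp : Function.Surjective p) : Function.Surjective ((T J Λ U).map p) := by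
  obtain ⟨ρ, hρ⟩ := exists_set_section J Λ p hp
  intro c
  have h1 := congrArg (fun φ => φ.hom.app (op U)) hρ
  have h2 := congrArg (fun φ => φ c) h1
  exact ⟨ρ.hom.app (op U) c, h2⟩

instance : (T J Λ U).PreservesEpimorphisms where
  preserves {X Y} f hf := by
    rw [ModuleCat.epi_iff_surjective] at hf ⊢
    exact T_map_surjective J Λ U f hf

instance : PreservesFiniteColimits (T J Λ U) := by
  rw [Functor.preservesFiniteColimits_iff_forall_exact_map_and_epi]
  intro S hS
  have := hS.epi_g
  exact ⟨((Functor.preservesFiniteLimits_iff_forall_exact_map_and_mono (T J Λ U)).1 inferInstance S hS).1,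
    inferInstance⟩

/-- Linearity of `T`. -/
lemma T_map_smul {M N : ModuleCat.{u} Λ} (a : Λ) (f : M ⟶ N) :
    (T J Λ U).map (a • f) = a • (T J Λ U).map f := by
  have key : sheafifyMap J ((Functor.const Cᵒᵖ).map (a • f)) =
      a • sheafifyMap J ((Functor.const Cᵒᵖ).map f) := by
    apply sheafify_hom_ext J _ _ ((presheafToSheaf J _).obj _).property
    rw [← toSheafify_naturality, Linear.comp_smul, ← toSheafify_naturality, ← Linear.smul_comp]
    congr 1
  exact congrArg (fun φ => φ.app (op U)) key

end Groth.Agent.Lib.Helper45.ConstTensor
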