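import Groth.Agent.Lib.Helper45.ConstTensor1

/-!
# Sections of constant sheaves commute with tensoring by finitely presented modules.
-/

set_option autoImplicit false
set_option linter.style.haveILetI false
set_option linter.unusedSectionVars false

universe u

open CategoryTheory CategoryTheory.Limits Opposite MonoidalCategory

namespace Groth.Agent.Lib.Helper45.ConstTensor

open Groth.Agent.Lib.Helper45.FPTensor

variable {C : Type u} [SmallCategory C] (J : GrothendieckTopology C) (Λ : Type u) [CommRing Λ] (U : C)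

section Incl

variable {A : Type u} [CommRing A]

instance incl_additive : (ObjectProperty.ι (fun M : ModuleCat.{u} A => Module.FinitePresentation A M)).Additive where
  map_add := rfl

instance {M N : FPMod A} (f : M ⟶ N) : PreservesColimit (parallelPair f 0)
    (ObjectProperty.ι (fun M : ModuleCat.{u} A => Module.FinitePresentation A M)) := by
  apply preservesColimit_of_preserves_colimit_cocone (isColimitCoker f)
  exact (isColimitMapCoconeCoforkEquiv' _ (coker_condition f)).symm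
    (ModuleCat.cokernelIsColimit f.hom)

instance : PreservesFiniteColimits
    (ObjectProperty.ι (fun M : ModuleCat.{u} A => Module.FinitePresentation A M)) :=
  Functor.preservesFiniteColimits_of_preservesCokernels _

end Incl


variable (M : ModuleCat.{u} Λ)

/-- `Q ↦ T(M) ⊗ Q`. -/
noncomputable def F₁ : FPMod Λ ⥤ ModuleCat.{u} Λ :=
  ObjectProperty.ι _ ⋙ tensorLeft ((T J Λ U).obj M)

/-- `Q ↦ T(M ⊗ Q)`. -/
noncomputable def F₂ : FPMod Λ ⥤ ModuleCat.{u} Λ :=
  ObjectProperty.ι _ ⋙ tensorLeft M ⋙ T J Λ U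

instance : PreservesFiniteColimits (F₁ J Λ U M) := by
  unfold F₁; infer_instance

instance : PreservesFiniteColimits (F₂ J Λ U M) := by
  unfold F₂; infer_instance

/-- The map `m ↦ m ⊗ q`. -/
def tmulRight (Q : ModuleCat.{u} Λ) (q : Q) : M ⟶ M ⊗ Q :=
  ModuleCat.ofHom ((TensorProduct.mk Λ M Q).flip q)

lemma tmulRight_add (Q : ModuleCat.{u} Λ) (q q' : Q) :
    tmulRight Λ M Q (q + q') = tmulRight Λ M Q q + tmulRight Λ M Q q' := by
  apply ModuleCat.hom_ext
  apply LinearMap.ext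
  intro m
  exact TensorProduct.tmul_add m q q'

lemma tmulRight_smul (Q : ModuleCat.{u} Λ) (a : Λ) (q : Q) :
    tmulRight Λ M Q (a • q) = a • tmulRight Λ M Q q := by
  apply ModuleCat.hom_ext
  apply LinearMap.ext
  intro m
  exact TensorProduct.tmul_smul a m q

lemma tmulRight_comp {Q Q' : ModuleCat.{u} Λ} (g : Q ⟶ Q') (q : Q) :
    tmulRight Λ M Q q ≫ M ◁ g = tmulRight Λ M Q' (g q) := by
  apply ModuleCat.hom_ext
  apply LinearMap.ext
  intro m
  rfl

/-- The bilinear map underlying the comparison. -/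
noncomputable def muBil (Q : ModuleCat.{u} Λ) :
    Q →ₗ[Λ] ((T J Λ U).obj M →ₗ[Λ] (T J Λ U).obj (M ⊗ Q)) where
  toFun q := ((T J Λ U).map (tmulRight Λ M Q q)).hom
  map_add' q q' := by
    rw [tmulRight_add, Functor.map_add]; rfl
  map_smul' a q := by
    rw [tmulRight_smul, T_map_smul]; rfl

/-- The comparison map `T(M) ⊗ Q ⟶ T(M ⊗ Q)`. -/
noncomputable def mu (Q : ModuleCat.{u} Λ) : (T J Λ U).obj M ⊗ Q ⟶ (T J Λ U).obj (M ⊗ Q) :=
  ModuleCat.ofHom (TensorProduct.lift (muBil J Λ U M Q).flip)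

lemma mu_tmul (Q : ModuleCat.{u} Λ) (s : (T J Λ U).obj M) (q : Q) :
    (mu J Λ U M Q).hom (TensorProduct.tmul Λ s q) = ((T J Λ U).map (tmulRight Λ M Q q)).hom s := rfl

lemma mu_naturality {Q Q' : ModuleCat.{u} Λ} (g : Q ⟶ Q') :
    (T J Λ U).obj M ◁ g ≫ mu J Λ U M Q' = mu J Λ U M Q ≫ (T J Λ U).map (M ◁ g) := by
  apply ModuleCat.MonoidalCategory.tensor_ext
  intro s q
  change (mu J Λ U M Q').hom (TensorProduct.tmul Λ s (g q)) =
    ((T J Λ U).map (M ◁ g)).hom ((mu J Λ U M Q).hom (TensorProduct.tmul Λ s q))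
  rw [mu_tmul, mu_tmul, ← tmulRight_comp, Functor.map_comp]
  rfl


/-- The comparison as a natural transformation. -/
noncomputable def muNat : F₁ J Λ U M ⟶ F₂ J Λ U M where
  app Q := mu J Λ U M Q.obj
  naturality {_ _} g := mu_naturality J Λ U M g.hom

lemma tmulRight_unit (a : Λ) :
    tmulRight Λ M (𝟙_ (ModuleCat.{u} Λ)) a = a • (ρ_ M).inv := by
  apply ModuleCat.hom_ext
  apply LinearMap.ext
  intro m
  change TensorProduct.tmul Λ m a = a • TensorProduct.tmul Λ m (1 : Λ)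
  rw [← TensorProduct.tmul_smul, smul_eq_mul, mul_one]

lemma mu_unit : mu J Λ U M (𝟙_ (ModuleCat.{u} Λ)) =
    (ρ_ ((T J Λ U).obj M)).hom ≫ (T J Λ U).map (ρ_ M).inv := by
  apply ModuleCat.MonoidalCategory.tensor_ext
  intro s a
  change (mu J Λ U M (𝟙_ (ModuleCat.{u} Λ))).hom (TensorProduct.tmul Λ s a) =
    ((T J Λ U).map (ρ_ M).inv).hom ((ρ_ ((T J Λ U).obj M)).hom.hom (TensorProduct.tmul Λ s a))
  rw [mu_tmul, tmulRight_unit, T_map_smul]
  change a • ((T J Λ U).map (ρ_ M).inv).hom s = ((T J Λ U).map (ρ_ M).inv).hom (a • s)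
  rw [map_smul]

instance : IsIso (mu J Λ U M (𝟙_ (ModuleCat.{u} Λ))) := by
  rw [mu_unit]; infer_instance

instance : IsIso ((muNat J Λ U M).app unitObj) :=
  inferInstanceAs (IsIso (mu J Λ U M (𝟙_ (ModuleCat.{u} Λ))))

theorem isIso_muNat : IsIso (muNat J Λ U M) := by
  obtain ⟨ν, hν⟩ := exists_natTrans (F₂ J Λ U M) (F₁ J Λ U M) (inv ((muNat J Λ U M).app unitObj))
    (fun a => by
      rw [IsIso.comp_inv_eq, Category.assoc, IsIso.eq_inv_comp]
      exact ((muNat J Λ U M).naturality (mulHom a)).symm)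
  refine ⟨ν, ?_, ?_⟩
  · apply natTrans_ext
    rw [NatTrans.comp_app, hν, IsIso.hom_inv_id]; rfl
  · apply natTrans_ext
    rw [NatTrans.comp_app, hν, IsIso.inv_hom_id]; rfl

theorem main9118 (M Q : Type u) [AddCommGroup M] [Module Λ M] [AddCommGroup Q] [Module Λ Q]
    [Module.FinitePresentation Λ Q] :
    ∃ e : ModuleCat.of Λ (TensorProduct Λ (((constantSheaf J (ModuleCat.{u} Λ)).obj (ModuleCat.of Λ M)).obj.obj (op U)) Q) ≅
        ((constantSheaf J (ModuleCat.{u} Λ)).obj (ModuleCat.of Λ (TensorProduct Λ M Q))).obj.obj (op U),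
      ∀ (s : ((constantSheaf J (ModuleCat.{u} Λ)).obj (ModuleCat.of Λ M)).obj.obj (op U)) (q : Q),
        e.hom.hom (TensorProduct.tmul Λ s q) =
          (((constantSheaf J (ModuleCat.{u} Λ)).map (ModuleCat.ofHom ((TensorProduct.mk Λ M Q).flip q))).hom.app (op U)).hom s := by
  haveI := isIso_muNat J Λ U (ModuleCat.of Λ M)
  let Qo : FPMod Λ := ⟨ModuleCat.of Λ Q, inferInstanceAs (Module.FinitePresentation Λ Q)⟩
  haveI : IsIso (mu J Λ U (ModuleCat.of Λ M) (ModuleCat.of Λ Q)) :=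
    inferInstanceAs (IsIso ((muNat J Λ U (ModuleCat.of Λ M)).app Qo))
  let e := asIso (mu J Λ U (ModuleCat.of Λ M) (ModuleCat.of Λ Q))
  exact ⟨e, fun s q => rfl⟩

end Groth.Agent.Lib.Helper45.ConstTensor
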