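import Groth.Agent.Lib.Helper45.ConstTensor2

/-!
# Sections of constant sheaves on flat modules over a coherent ring are flat.
-/

set_option autoImplicit false
set_option linter.style.haveILetI false
set_option linter.unusedSectionVars false

universe u

open CategoryTheory CategoryTheory.Limits Opposite MonoidalCategory

namespace Groth.Agent.Lib.Helper45.ConstTensor

open Groth.Agent.Lib.Helper45.FPTensor

variable {C : Type u} [SmallCategory C] (J : GrothendieckTopology C) (Λ : Type u) [CommRing Λ] (U : C)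

lemma isIso_mu (M Q : ModuleCat.{u} Λ) [hQ : Module.FinitePresentation Λ Q] :
    IsIso (mu J Λ U M Q) := by
  haveI := isIso_muNat J Λ U M
  let Qo : FPMod Λ := ⟨Q, hQ⟩
  exact inferInstanceAs (IsIso ((muNat J Λ U M).app Qo))

theorem main9119 (hΛ : ∀ I : Ideal Λ, I.FG → Module.FinitePresentation Λ I)
    (M : Type u) [AddCommGroup M] [Module Λ M] [Module.Flat Λ M] :
    Module.Flat Λ (((constantSheaf J (ModuleCat.{u} Λ)).obj (ModuleCat.of Λ M)).obj.obj (op U)) := by
  rw [Module.Flat.iff_lTensor_injective]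
  intro I hI
  haveI : Module.FinitePresentation Λ (ModuleCat.of Λ I) := hΛ I hI
  haveI := isIso_mu J Λ U (ModuleCat.of Λ M) (ModuleCat.of Λ I)
  let g : ModuleCat.of Λ I ⟶ ModuleCat.of Λ Λ := ModuleCat.ofHom I.subtype
  have hnat := mu_naturality J Λ U (ModuleCat.of Λ M) g
  haveI : Mono (ModuleCat.of Λ M ◁ g) := by
    rw [ModuleCat.mono_iff_injective]
    exact Module.Flat.lTensor_preserves_injective_linearMap (M := M) I.subtype
      (Submodule.injective_subtype I)
  haveI : Mono ((T J Λ U).map (ModuleCat.of Λ M ◁ g)) := inferInstance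
  haveI : Mono (mu J Λ U (ModuleCat.of Λ M) (ModuleCat.of Λ I) ≫
    (T J Λ U).map (ModuleCat.of Λ M ◁ g)) := mono_comp _ _
  haveI : Mono ((T J Λ U).obj (ModuleCat.of Λ M) ◁ g ≫
      mu J Λ U (ModuleCat.of Λ M) (ModuleCat.of Λ Λ)) := by
    rw [hnat]; infer_instance
  have hm : Mono ((T J Λ U).obj (ModuleCat.of Λ M) ◁ g) := mono_of_mono _ (mu J Λ U (ModuleCat.of Λ M) (ModuleCat.of Λ Λ))
  rw [ModuleCat.mono_iff_injective] at hm
  exact hm

end Groth.Agent.Lib.Helper45.ConstTensor
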