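import Mathlib

/-!
# INT for S7909: the scheme-theoretic image of an integral scheme under a quasi-compact morphism
is integral.
-/

set_option autoImplicit false
set_option linter.style.haveILetI false

universe u

open CategoryTheory CategoryTheory.Limits AlgebraicGeometry

namespace Groth.Agent.Lib.Helper45.ContrINT

theorem irreducibleSpace_of_denseRange {α β : Type*} [TopologicalSpace α] [TopologicalSpace β]
    [IrreducibleSpace α] {f : α → β} (hf : Continuous f) (hd : DenseRange f) :
    IrreducibleSpace β := by
  have h1 : IsIrreducible (Set.univ : Set α) := IrreducibleSpace.isIrreducible_univ α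
  have h2 : IsIrreducible (closure (f '' Set.univ)) := (h1.image f hf.continuousOn).closure
  rw [Set.image_univ, hd.closure_range] at h2
  exact (irreducibleSpace_def β).2 h2

theorem isIntegral_image {X P : Scheme.{u}} [IsIntegral X] (h : X ⟶ P) [QuasiCompact h] :
    IsIntegral h.image := by
  haveI : IrreducibleSpace h.image :=
    irreducibleSpace_of_denseRange h.toImage.continuous h.toImage.denseRange
  haveI : IsReduced h.image := by
    let 𝒰 : h.image.OpenCover := h.image.openCoverOfIsOpenCover
      (fun U : P.affineOpens => h.imageι ⁻¹ᵁ U.1) (by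
        have h1 := AlgebraicGeometry.iSup_affineOpens_eq_top P
        show (⨆ U : P.affineOpens, h.imageι ⁻¹ᵁ U.1) = ⊤
        rw [← Scheme.Hom.preimage_iSup, h1]
        rfl)
    haveI : ∀ i, IsReduced (𝒰.X i) := by
      intro U
      show IsReduced ((h.imageι ⁻¹ᵁ U.1 : h.image.Opens) : Scheme)
      have haff : IsAffineOpen (h.imageι ⁻¹ᵁ U.1) := U.2.preimage h.imageι
      haveI : IsAffine ((h.imageι ⁻¹ᵁ U.1 : h.image.Opens) : Scheme) := haff
      haveI : _root_.IsReduced Γ(h.image, h.imageι ⁻¹ᵁ U.1) :=
        isReduced_of_injective (h.toImage.app (h.imageι ⁻¹ᵁ U.1)).hom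
          (h.toImage_app_injective U)
      haveI : _root_.IsReduced Γ(((h.imageι ⁻¹ᵁ U.1 : h.image.Opens) : Scheme), ⊤) :=
        isReduced_of_injective (Scheme.Opens.topIso (h.imageι ⁻¹ᵁ U.1)).hom.hom
          (Scheme.Opens.topIso (h.imageι ⁻¹ᵁ U.1)).commRingCatIsoToRingEquiv.injective
      exact isReduced_of_isAffine_isReduced _
    exact IsReduced.of_openCover _ 𝒰
  exact isIntegral_of_irreducibleSpace_of_isReduced _

end Groth.Agent.Lib.Helper45.ContrINT
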