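import Mathlib

/-!
# Q5 for helper90's S1940/S1856 (helper45): local finiteness of the pulled-back family

* `finite_maximal_points`: a Noetherian sober space has finitely many points without proper
  generizations.
* `locallyFinite_pullback_family`: if `ξ : ι → X` is a locally finite family of points (closures)
  and `p : X' ⟶ X` with `X'` locally Noetherian, then the family of maximal points of the fibres
  `p⁻¹(ξ i)` is locally finite on `X'`.
-/

set_option autoImplicit false
set_option linter.style.haveILetI false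
universe u
open AlgebraicGeometry CategoryTheory IsLocalRing TopologicalSpace

namespace Groth.Agent.Lib.Helper45.Cyc1940Q5

/-- In a Noetherian sober space there are finitely many points without proper generizations. -/
theorem finite_maximal_points (Z : Type*) [TopologicalSpace Z] [NoetherianSpace Z] [T0Space Z]
    [QuasiSober Z] : {z : Z | ∀ y : Z, y ⤳ z → y = z}.Finite := by
  refine (genericPoints.finite (α := Z) NoetherianSpace.finite_irreducibleComponents).subset ?_
  intro z hz
  change closure {z} ∈ irreducibleComponents Z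
  have hW := irreducibleComponent_mem_irreducibleComponents z
  have hirr : IsIrreducible (irreducibleComponent z) := isIrreducible_irreducibleComponent
  have hcl : IsClosed (irreducibleComponent z) := isClosed_irreducibleComponent
  have hgen := hirr.isGenericPoint_genericPoint hcl
  have h1 : hirr.genericPoint ⤳ z := hgen.specializes mem_irreducibleComponent
  have h2 : hirr.genericPoint = z := hz _ h1
  rw [h2] at hgen
  rw [hgen.def]
  exact hW

theorem locallyFinite_pullback_family {X X' : Scheme.{u}} [IsLocallyNoetherian X'] (p : X' ⟶ X)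
    {ι : Type u} (ξ : ι → X)
    (hlf : ∀ x : X, ∃ U : Set X, IsOpen U ∧ x ∈ U ∧ {i | (closure {ξ i} ∩ U).Nonempty}.Finite) :
    ∀ x' : X', ∃ U : Set X', IsOpen U ∧ x' ∈ U ∧
      {j : Σ i, {ξ' : X' // p ξ' = ξ i ∧ ∀ y, p y = p ξ' → y ⤳ ξ' → y = ξ'} |
        (closure {j.2.1} ∩ U).Nonempty}.Finite := by
  intro x'
  obtain ⟨U0, hU0, hxU0, hfin⟩ := hlf (p x')
  have hopen : IsOpen (p ⁻¹' U0) := hU0.preimage p.continuous
  obtain ⟨_, ⟨V, hV, rfl⟩, hxV, hVU⟩ :=
    X'.isBasis_affineOpens.exists_subset_of_mem_open (show x' ∈ p ⁻¹' U0 from hxU0) hopen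
  refine ⟨V, V.2, hxV, ?_⟩
  haveI : IsNoetherianRing Γ(X', V) := IsLocallyNoetherian.component_noetherian ⟨V, hV⟩
  haveI : NoetherianSpace ((V : Set X') : Type u) := noetherianSpace_of_isAffineOpen V hV
  haveI : QuasiSober ((V : Set X') : Type u) := V.2.isOpenEmbedding_subtypeVal.quasiSober
  -- for each `i`, finitely many maximal points of the fibre over `ξ i` lie in `V`
  have hfin_i : ∀ i : ι, {ξ' : X' | ξ' ∈ V ∧ p ξ' = ξ i ∧
      ∀ y, p y = p ξ' → y ⤳ ξ' → y = ξ'}.Finite := by
    intro i
    have hclosed : IsClosed (p ⁻¹' closure {ξ i}) := isClosed_closure.preimage p.continuous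
    let Zs : Set X' := (V : Set X') ∩ p ⁻¹' closure {ξ i}
    haveI : QuasiSober Zs := QuasiSober.inter_of_isClosed_of_quasiSober_left (V : Set X') hclosed
    haveI : NoetherianSpace Zs :=
      (Topology.IsEmbedding.inclusion (Set.inter_subset_left : Zs ⊆ (V : Set X'))).isInducing.noetherianSpace
    have hM := finite_maximal_points Zs
    refine (hM.image (Subtype.val : Zs → X')).subset ?_
    rintro ξ' ⟨hξV, hξi, hmax⟩
    have hmem : ξ' ∈ Zs := ⟨hξV, by
      change p ξ' ∈ closure {ξ i}
      rw [hξi]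
      exact subset_closure rfl⟩
    refine ⟨⟨ξ', hmem⟩, ?_, rfl⟩
    intro y hy
    have hy1 : (y : X') ⤳ ξ' := hy.map continuous_subtype_val
    have hy2 : p (y : X') ⤳ ξ i := by
      have := hy1.map p.continuous
      rwa [hξi] at this
    have hy3 : ξ i ⤳ p (y : X') := specializes_iff_mem_closure.2 y.2.2
    have hy4 : p (y : X') = ξ i := (hy2.antisymm hy3).eq
    have hy5 : (y : X') = ξ' := hmax _ (by rw [hy4, hξi]) hy1
    exact Subtype.ext hy5
  -- assemble
  have hfin_i' : ∀ i : ι, {s : {ξ' : X' // p ξ' = ξ i ∧ ∀ y, p y = p ξ' → y ⤳ ξ' → y = ξ'} |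
      (s : X') ∈ V}.Finite := by
    intro i
    refine ((hfin_i i).preimage (Subtype.val_injective.injOn)).subset ?_
    intro s hs
    exact ⟨hs, s.2.1, s.2.2⟩
  refine (hfin.biUnion (fun i _ => (hfin_i' i).image (Sigma.mk i))).subset ?_
  rintro ⟨i, s⟩ ⟨y, hy1, hy2⟩
  have hsV : (s : X') ∈ V := by
    obtain ⟨w, hw1, hw2⟩ := mem_closure_iff.1 hy1 V V.2 hy2
    rw [Set.mem_singleton_iff] at hw2
    rw [← hw2]
    exact hw1
  have hi : i ∈ {i | (closure {ξ i} ∩ U0).Nonempty} := by
    refine ⟨ξ i, subset_closure rfl, ?_⟩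
    rw [← s.2.1]
    exact hVU hsV
  exact Set.mem_biUnion hi ⟨s, hsV, rfl⟩

end Groth.Agent.Lib.Helper45.Cyc1940Q5
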