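import Mathlib

/-!
# Deligne's completeness theorem, part 1: one refinement step

Abstract setting: a small category `D` with finite limits, a Grothendieck topology `K` all of whose
covering sieves contain a finite covering family, and a predicate `Pr` on objects ("proper") which
is inherited along morphisms `a' ⟶ a` (from the source to the target) and such that every covering
sieve of a proper object has a member with proper source.

A *system* is a codirected preorder `N` with a functor `p : N ⥤ D` all of whose values are proper.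
-/

set_option autoImplicit false
set_option linter.style.haveILetI false
set_option linter.unusedSectionVars false
universe u
open CategoryTheory CategoryTheory.Limits Opposite

namespace Groth.Agent.Lib.Helper45.Deligne

variable {D : Type u} [SmallCategory D] [HasFiniteLimits D] (K : GrothendieckTopology D)
  (Pr : D → Prop)

/-- finite-refinement property of a topology. -/
def FinRef : Prop := ∀ (a : D) (T : Sieve a), T ∈ K a →
  ∃ (n : ℕ) (V : Fin n → D) (g : ∀ k, V k ⟶ a), (∀ k, T (g k)) ∧ Sieve.ofArrows V g ∈ K a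

/-- properness is inherited by targets of morphisms. -/
def Inh : Prop := ∀ {a' a : D} (_ : a' ⟶ a), Pr a' → Pr a

/-- every covering sieve of a proper object has a member with proper source. -/
def Loc : Prop := ∀ (a : D) (T : Sieve a), T ∈ K a → Pr a → ∃ (a' : D) (g : a' ⟶ a), T g ∧ Pr a'

/-- A system: a codirected diagram of proper objects. -/
structure Sys where
  N : Type u
  [pre : Preorder N]
  [dir : IsDirected N (· ≥ ·)]
  [ne : Nonempty N]
  p : N ⥤ D
  proper : ∀ b, Pr (p.obj b)

attribute [instance] Sys.pre Sys.dir Sys.ne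

variable {K Pr}

/-- a problem of a system: a stage and a covering sieve of its object. -/
structure Prob (σ : Sys Pr) where
  b : σ.N
  T : Sieve (σ.p.obj b)
  hT : T ∈ K (σ.p.obj b)

variable (hK : FinRef K)
include hK

section Chosen
variable {σ : Sys Pr} (π : Prob (K := K) σ)

/-- the size of the chosen finite cover. -/
noncomputable def cn : ℕ := (hK _ π.T π.hT).choose
/-- the objects of the chosen finite cover. -/
noncomputable def cV : Fin (cn hK π) → D := (hK _ π.T π.hT).choose_spec.choose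
/-- the arrows of the chosen finite cover. -/
noncomputable def cg (k : Fin (cn hK π)) : cV hK π k ⟶ σ.p.obj π.b :=
  (hK _ π.T π.hT).choose_spec.choose_spec.choose k
theorem cg_mem (k : Fin (cn hK π)) : π.T (cg hK π k) :=
  (hK _ π.T π.hT).choose_spec.choose_spec.choose_spec.1 k
theorem cg_cov : Sieve.ofArrows (cV hK π) (cg hK π) ∈ K (σ.p.obj π.b) :=
  (hK _ π.T π.hT).choose_spec.choose_spec.choose_spec.2

end Chosen

/-- admissible pairs: a stage `c` and a finite set of problems at stages above `c`. -/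
def Adm (σ : Sys Pr) : Type u :=
  {x : σ.N × (Finset (Prob (K := K) σ))ᵒᵈ // ∀ π ∈ OrderDual.ofDual x.2, x.1 ≤ π.b}

omit hK in
instance (σ : Sys Pr) : Preorder (Adm (K := K) σ) := inferInstanceAs (Preorder (Subtype _))

namespace Adm
variable {σ : Sys Pr}

omit hK in
/-- the stage. -/
abbrev c (x : Adm (K := K) σ) : σ.N := x.1.1
omit hK in
/-- the finite set of problems. -/
abbrev A (x : Adm (K := K) σ) : Finset (Prob (K := K) σ) := OrderDual.ofDual x.1.2
omit hK in
theorem c_le (x : Adm (K := K) σ) {π : Prob (K := K) σ} (h : π ∈ x.A) : x.c ≤ π.b := x.2 π h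
omit hK in
theorem le_iff (x y : Adm (K := K) σ) : x ≤ y ↔ x.c ≤ y.c ∧ y.A ⊆ x.A := Iff.rfl

omit hK in
/-- the transition map `p c ⟶ p π.b`. -/
abbrev t (x : Adm (K := K) σ) (π : ↥x.A) : σ.p.obj x.c ⟶ σ.p.obj π.1.b :=
  σ.p.map (homOfLE (x.c_le π.2))

/-- restricted choice functions. -/
abbrev RCh (x : Adm (K := K) σ) : Type u := ∀ π : ↥x.A, Fin (cn hK π.1)

variable (x : Adm (K := K) σ) (ρ : RCh hK x)

/-- the legs of the wide pullback. -/
noncomputable abbrev legArrow (π : ↥x.A) : pullback (cg hK π.1 (ρ π)) (x.t π) ⟶ σ.p.obj x.c :=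
  pullback.snd _ _

/-- the object of the refined system at `x` for the choice `ρ`. -/
noncomputable def X : D :=
  widePullback (σ.p.obj x.c) (fun π : ↥x.A => pullback (cg hK π.1 (ρ π)) (x.t π))
    (legArrow hK x ρ)

/-- the base map. -/
noncomputable def base : X hK x ρ ⟶ σ.p.obj x.c := WidePullback.base (legArrow hK x ρ)

/-- the projections. -/
noncomputable def proj (π : ↥x.A) : X hK x ρ ⟶ cV hK π.1 (ρ π) :=
  WidePullback.π (legArrow hK x ρ) π ≫ pullback.fst _ _

theorem proj_comp (π : ↥x.A) : proj hK x ρ π ≫ cg hK π.1 (ρ π) = base hK x ρ ≫ x.t π := by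
  have h := WidePullback.π_arrow (legArrow hK x ρ) π
  change (WidePullback.π (legArrow hK x ρ) π ≫ pullback.fst _ _) ≫ cg hK π.1 (ρ π) =
    WidePullback.base (legArrow hK x ρ) ≫ x.t π
  rw [Category.assoc, pullback.condition, ← Category.assoc]
  exact congrArg (· ≫ x.t π) h

/-- the universal property. -/
noncomputable def lift {W : D} (w : W ⟶ σ.p.obj x.c) (wπ : ∀ π : ↥x.A, W ⟶ cV hK π.1 (ρ π))
    (hw : ∀ π, wπ π ≫ cg hK π.1 (ρ π) = w ≫ x.t π) : W ⟶ X hK x ρ :=
  WidePullback.lift (arrows := legArrow hK x ρ) w (fun π => pullback.lift (wπ π) w (hw π))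
    (fun π => pullback.lift_snd _ _ _)

theorem lift_base {W : D} (w : W ⟶ σ.p.obj x.c) (wπ : ∀ π : ↥x.A, W ⟶ cV hK π.1 (ρ π))
    (hw : ∀ π, wπ π ≫ cg hK π.1 (ρ π) = w ≫ x.t π) :
    lift hK x ρ w wπ hw ≫ base hK x ρ = w :=
  WidePullback.lift_base (arrows := legArrow hK x ρ) w _ _

theorem lift_proj {W : D} (w : W ⟶ σ.p.obj x.c) (wπ : ∀ π : ↥x.A, W ⟶ cV hK π.1 (ρ π))
    (hw : ∀ π, wπ π ≫ cg hK π.1 (ρ π) = w ≫ x.t π) (π : ↥x.A) :
    lift hK x ρ w wπ hw ≫ proj hK x ρ π = wπ π := by
  have h := WidePullback.lift_π (arrows := legArrow hK x ρ) w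
    (fun π => pullback.lift (wπ π) w (hw π)) (fun π => pullback.lift_snd _ _ _) π
  change WidePullback.lift (arrows := legArrow hK x ρ) w _ _ ≫
    (WidePullback.π (legArrow hK x ρ) π ≫ pullback.fst _ _) = wπ π
  rw [← Category.assoc, h, pullback.lift_fst]

theorem hom_ext {W : D} (f g : W ⟶ X hK x ρ) (h1 : f ≫ base hK x ρ = g ≫ base hK x ρ)
    (h2 : ∀ π, f ≫ proj hK x ρ π = g ≫ proj hK x ρ π) : f = g := by
  refine WidePullback.hom_ext (legArrow hK x ρ) f g (fun π => ?_) h1
  refine pullback.hom_ext ?_ ?_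
  · exact (Category.assoc _ _ _).trans ((h2 π).trans (Category.assoc _ _ _).symm)
  · have h := WidePullback.π_arrow (legArrow hK x ρ) π
    have e : ∀ q : W ⟶ X hK x ρ, (q ≫ WidePullback.π (legArrow hK x ρ) π) ≫
        pullback.snd (cg hK π.1 (ρ π)) (x.t π) = q ≫ base hK x ρ := fun q => by
      rw [Category.assoc]
      exact congrArg (q ≫ ·) h
    exact (e f).trans (h1.trans (e g).symm)

end Adm

/-- total choice functions. -/
abbrev Ch (σ : Sys Pr) : Type u := ∀ π : Prob (K := K) σ, Fin (cn hK π)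

namespace Adm
variable {σ : Sys Pr} (κ : Ch hK σ)

/-- restriction of a total choice function. -/
abbrev res (x : Adm (K := K) σ) : RCh hK x := fun π => κ π.1

/-- the object at `x` for a total choice function. -/
noncomputable abbrev XX (x : Adm (K := K) σ) : D := X hK x (res hK κ x)

/-- the transition maps. -/
noncomputable def tr {y x : Adm (K := K) σ} (h : y ≤ x) : XX hK κ y ⟶ XX hK κ x :=
  lift hK x (res hK κ x) (base hK y (res hK κ y) ≫ σ.p.map (homOfLE h.1))
    (fun π => proj hK y (res hK κ y) ⟨π.1, h.2 π.2⟩) (fun π => by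
      rw [proj_comp, Category.assoc, ← Functor.map_comp]
      rfl)

theorem tr_base {y x : Adm (K := K) σ} (h : y ≤ x) :
    tr hK κ h ≫ base hK x (res hK κ x) = base hK y (res hK κ y) ≫ σ.p.map (homOfLE h.1) :=
  lift_base ..

theorem tr_proj {y x : Adm (K := K) σ} (h : y ≤ x) (π : ↥x.A) :
    tr hK κ h ≫ proj hK x (res hK κ x) π = proj hK y (res hK κ y) ⟨π.1, h.2 π.2⟩ :=
  lift_proj ..

theorem tr_refl (x : Adm (K := K) σ) : tr hK κ (le_refl x) = 𝟙 _ := by
  refine hom_ext hK x _ _ _ ?_ (fun π => ?_)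
  · rw [tr_base, Category.id_comp]
    have : homOfLE (le_refl x).1 = 𝟙 x.c := rfl
    rw [this, σ.p.map_id, Category.comp_id]
  · rw [tr_proj, Category.id_comp]

theorem tr_trans {z y x : Adm (K := K) σ} (h : z ≤ y) (h' : y ≤ x) :
    tr hK κ (h.trans h') = tr hK κ h ≫ tr hK κ h' := by
  refine hom_ext hK x _ _ _ ?_ (fun π => ?_)
  · rw [tr_base, Category.assoc, tr_base, ← Category.assoc, tr_base, Category.assoc,
      ← Functor.map_comp]
    rfl
  · rw [tr_proj, Category.assoc, tr_proj, tr_proj]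

/-- the functor of the refined system. -/
noncomputable def fn : Adm (K := K) σ ⥤ D where
  obj x := XX hK κ x
  map f := tr hK κ (leOfHom f)
  map_id x := tr_refl hK κ x
  map_comp f g := tr_trans hK κ (leOfHom f) (leOfHom g)

end Adm

omit hK [HasFiniteLimits D] in
theorem inf_mem {ι : Type*} (a : D) (s : Finset ι) (T : ι → Sieve a) (h : ∀ i ∈ s, T i ∈ K a) :
    s.inf T ∈ K a := by
  classical
  induction s using Finset.induction_on with
  | empty => simpa using K.top_mem a
  | insert i s hi ih =>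
    rw [Finset.inf_insert]
    exact K.intersection_covering (h i (Finset.mem_insert_self _ _))
      (ih fun j hj => h j (Finset.mem_insert_of_mem hj))

omit hK [HasFiniteLimits D] in
theorem inf_apply {ι : Type*} {a a' : D} (s : Finset ι) (T : ι → Sieve a) (g : a' ⟶ a) :
    (s.inf T) g ↔ ∀ i ∈ s, T i g := by
  classical
  induction s using Finset.induction_on with
  | empty => simp
  | insert i s hi ih =>
    rw [Finset.inf_insert, Sieve.inter_apply, ih]
    simp

variable (hInh : Inh Pr) (hLoc : Loc K Pr)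

include hLoc in
theorem nonempty_fin {σ : Sys Pr} (π : Prob (K := K) σ) : Nonempty (Fin (cn hK π)) := by
  obtain ⟨a', g, hg, _⟩ := hLoc _ _ (cg_cov hK π) (σ.proper π.b)
  obtain ⟨k, _⟩ := (Sieve.mem_ofArrows_iff _ _ _).mp hg
  exact ⟨k⟩

namespace Adm
variable {σ : Sys Pr}

/-- the good choice functions at `x`. -/
def Good (x : Adm (K := K) σ) : Set (Ch hK σ) := {κ | Pr (XX hK κ x)}

include hInh in
theorem good_mono {y x : Adm (K := K) σ} (h : y ≤ x) : Good hK y ⊆ Good hK x :=
  fun κ hκ => hInh (tr hK κ h) hκ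

include hInh hLoc in
theorem exists_rch (x : Adm (K := K) σ) : ∃ ρ : RCh hK x, Pr (X hK x ρ) := by
  classical
  let T : ↥x.A → Sieve (σ.p.obj x.c) := fun π =>
    Sieve.pullback (x.t π) (Sieve.ofArrows (cV hK π.1) (cg hK π.1))
  have hT : Finset.univ.inf T ∈ K (σ.p.obj x.c) :=
    inf_mem _ _ _ (fun π _ => K.pullback_stable _ (cg_cov hK π.1))
  obtain ⟨a', g, hg, ha'⟩ := hLoc _ _ hT (σ.proper x.c)
  rw [inf_apply] at hg
  have hg' : ∀ π : ↥x.A, ∃ (k : Fin (cn hK π.1)) (h : a' ⟶ cV hK π.1 k),
      g ≫ x.t π = h ≫ cg hK π.1 k := fun π =>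
    (Sieve.mem_ofArrows_iff _ _ _).mp (hg π (Finset.mem_univ _))
  choose k h hk using hg'
  exact ⟨k, hInh (lift hK x k g h (fun π => (hk π).symm)) ha'⟩

include hInh hLoc in
theorem good_nonempty (x : Adm (K := K) σ) : (Good hK x).Nonempty := by
  classical
  obtain ⟨ρ, hρ⟩ := exists_rch hK hInh hLoc x
  have hne := fun π : Prob (K := K) σ => nonempty_fin hK hLoc π
  let κ : Ch hK σ := fun π => if hπ : π ∈ x.A then ρ ⟨π, hπ⟩ else (hne π).some
  have hres : res hK κ x = ρ := by
    funext π
    change (if hπ : π.1 ∈ x.A then ρ ⟨π.1, hπ⟩ else (hne π.1).some) = ρ π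
    rw [dif_pos π.2]
  refine ⟨κ, ?_⟩
  change Pr (X hK x (res hK κ x))
  rw [hres]
  exact hρ

theorem good_closed (x : Adm (K := K) σ) : IsClosed (Good hK x) := by
  have hc : Continuous (fun κ : Ch hK σ => res hK κ x) :=
    continuous_pi fun π => continuous_apply π.1
  exact (isClosed_discrete {ρ : RCh hK x | Pr (X hK x ρ)}).preimage hc

omit hK in
instance : IsDirected (Adm (K := K) σ) (· ≥ ·) where
  directed x y := by
    classical
    obtain ⟨c0, h1, h2⟩ := directed_of (· ≥ ·) x.c y.c
    refine ⟨⟨(c0, OrderDual.toDual (x.A ∪ y.A)), fun π hπ => ?_⟩, ⟨h1, Finset.subset_union_left⟩,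
      ⟨h2, Finset.subset_union_right⟩⟩
    rcases Finset.mem_union.mp hπ with h | h
    · exact le_trans h1 (x.c_le h)
    · exact le_trans h2 (y.c_le h)

omit hK in
/-- the embedding of the old system. -/
def emb (c : σ.N) : Adm (K := K) σ := ⟨(c, OrderDual.toDual ∅), fun _ h => by simp at h⟩

omit hK in
instance : Nonempty (Adm (K := K) σ) := ⟨emb (Classical.arbitrary σ.N)⟩

include hInh hLoc in
theorem exists_good : ∃ κ : Ch hK σ, ∀ x : Adm (K := K) σ, Pr (XX hK κ x) := by
  have h := IsCompact.nonempty_iInter_of_directed_nonempty_isCompact_isClosed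
    (fun x : Adm (K := K) σ => Good hK x) ?_ (good_nonempty hK hInh hLoc)
    (fun x => (good_closed hK x).isCompact) (good_closed hK)
  · obtain ⟨κ, hκ⟩ := h
    exact ⟨κ, fun x => Set.mem_iInter.mp hκ x⟩
  · intro x y
    obtain ⟨z, h1, h2⟩ := directed_of (· ≥ ·) x y
    exact ⟨z, good_mono hK hInh h1, good_mono hK hInh h2⟩

end Adm

end Groth.Agent.Lib.Helper45.Deligne
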