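import Groth.Agent.Lib.Helper45.Deligne1

/-!
# Deligne's completeness theorem, part 2: iteration and the saturated left exact functor
-/

set_option autoImplicit false
set_option linter.style.haveILetI false
set_option linter.unusedSectionVars false
universe u
open CategoryTheory CategoryTheory.Limits Opposite

namespace Groth.Agent.Lib.Helper45.Deligne

variable {D : Type u} [SmallCategory D] [HasFiniteLimits D] {K : GrothendieckTopology D}
  {Pr : D → Prop}

section Psi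

omit [HasFiniteLimits D]

/-- the diagram of hom-sets of a system. -/
abbrev Sys.dg (σ : Sys Pr) : D ⥤ σ.Nᵒᵖ ⥤ Type u := (σ.p.op ⋙ coyoneda).flip

/-- the pro-representable functor of a system. -/
noncomputable def Sys.Ψ (σ : Sys Pr) : D ⥤ Type u := σ.dg ⋙ colim

instance (σ : Sys Pr) : IsCofiltered σ.N := inferInstance

variable (σ : Sys Pr)

/-- elements of `Ψ`. -/
noncomputable def Sys.el {a : D} (b : σ.N) (f : σ.p.obj b ⟶ a) : σ.Ψ.obj a :=
  colimit.ι (σ.dg.obj a) (op b) f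

theorem Sys.el_surj {a : D} (x : σ.Ψ.obj a) : ∃ (b : σ.N) (f : σ.p.obj b ⟶ a), σ.el b f = x := by
  obtain ⟨⟨b⟩, f, rfl⟩ := Types.jointly_surjective' (F := σ.dg.obj a) x
  exact ⟨b, f, rfl⟩

theorem Sys.map_el {a a' : D} (g : a ⟶ a') (b : σ.N) (f : σ.p.obj b ⟶ a) :
    σ.Ψ.map g (σ.el b f) = σ.el b (f ≫ g) :=
  ConcreteCategory.congr_hom (colimit.ι_map (σ.dg.map g) (op b)) f

theorem Sys.el_map {a : D} {b' b : σ.N} (h : b' ≤ b) (f : σ.p.obj b ⟶ a) :
    σ.el b' (σ.p.map (homOfLE h) ≫ f) = σ.el b f :=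
  ConcreteCategory.congr_hom (colimit.w (σ.dg.obj a) (homOfLE h).op) f

end Psi

instance (σ : Sys Pr) : PreservesFiniteLimits σ.Ψ := by
  unfold Sys.Ψ
  have : PreservesFiniteLimits σ.dg := by
    constructor
    intro J _ _
    constructor
    intro F
    apply preservesLimit_of_evaluation
    intro k
    show PreservesLimit F (coyoneda.obj (op (σ.p.obj k.unop)))
    infer_instance
  infer_instance

variable (hK : FinRef K) (hInh : Inh Pr) (hLoc : Loc K Pr)

/-- the chosen good choice function. -/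
noncomputable def kap (σ : Sys Pr) : Ch hK σ := (Adm.exists_good hK hInh hLoc (σ := σ)).choose

theorem kap_spec (σ : Sys Pr) (x : Adm (K := K) σ) : Pr (Adm.XX hK (kap hK hInh hLoc σ) x) :=
  (Adm.exists_good hK hInh hLoc (σ := σ)).choose_spec x

/-- the refined system. -/
noncomputable def step (σ : Sys Pr) : Sys Pr where
  N := Adm (K := K) σ
  p := Adm.fn hK (kap hK hInh hLoc σ)
  proper := kap_spec hK hInh hLoc σ

variable (σ : Sys Pr)

/-- the comparison cocone. -/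
noncomputable def etaCocone (a : D) : Cocone (σ.dg.obj a) where
  pt := (step hK hInh hLoc σ).Ψ.obj a
  ι :=
    { app := fun b => ↾(fun f => (step hK hInh hLoc σ).el (Adm.emb b.unop)
        (Adm.base hK (Adm.emb b.unop) (Adm.res hK (kap hK hInh hLoc σ) _) ≫ f))
      naturality := fun b b' h => by
        ext f
        have hle : (Adm.emb b'.unop : Adm (K := K) σ) ≤ Adm.emb b.unop :=
          ⟨leOfHom h.unop, Finset.Subset.refl _⟩
        have := (step hK hInh hLoc σ).el_map hle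
          (Adm.base hK (Adm.emb b.unop) (Adm.res hK (kap hK hInh hLoc σ) _) ≫ f)
        refine Eq.trans ?_ this
        change (step hK hInh hLoc σ).el (Adm.emb b'.unop)
            (Adm.base hK (Adm.emb b'.unop) (Adm.res hK (kap hK hInh hLoc σ) _) ≫
              σ.p.map h.unop ≫ f) =
          (step hK hInh hLoc σ).el (Adm.emb b'.unop)
            (Adm.tr hK (kap hK hInh hLoc σ) hle ≫
              Adm.base hK (Adm.emb b.unop) (Adm.res hK (kap hK hInh hLoc σ) _) ≫ f)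
        congr 1
        rw [← Category.assoc, ← Category.assoc]
        exact congrArg (· ≫ f) (Adm.tr_base hK _ hle).symm }

/-- the comparison map `Ψ σ ⟶ Ψ (step σ)`. -/
noncomputable def eta : σ.Ψ ⟶ (step hK hInh hLoc σ).Ψ where
  app a := colimit.desc (σ.dg.obj a) (etaCocone hK hInh hLoc σ a)
  naturality a a' g := by
    ext x
    obtain ⟨b, f, rfl⟩ := σ.el_surj x
    change colimit.desc (σ.dg.obj a') (etaCocone hK hInh hLoc σ a') (σ.Ψ.map g (σ.el b f)) =
      (step hK hInh hLoc σ).Ψ.map g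
        (colimit.desc (σ.dg.obj a) (etaCocone hK hInh hLoc σ a) (σ.el b f))
    rw [σ.map_el]
    have e1 : ∀ (a : D) (f : σ.p.obj b ⟶ a),
        colimit.desc (σ.dg.obj a) (etaCocone hK hInh hLoc σ a) (σ.el b f) =
        (step hK hInh hLoc σ).el (Adm.emb b)
          (Adm.base hK (Adm.emb b) (Adm.res hK (kap hK hInh hLoc σ) _) ≫ f) := fun a f =>
      (ConcreteCategory.congr_hom
        (colimit.ι_desc (etaCocone hK hInh hLoc σ a) (op b)) f : _)
    rw [e1, e1, (step hK hInh hLoc σ).map_el, Category.assoc]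
    rfl

theorem eta_el {a : D} (b : σ.N) (f : σ.p.obj b ⟶ a) :
    (eta hK hInh hLoc σ).app a (σ.el b f) = (step hK hInh hLoc σ).el (Adm.emb b)
      (Adm.base hK (Adm.emb b) (Adm.res hK (kap hK hInh hLoc σ) _) ≫ f) :=
  (ConcreteCategory.congr_hom (colimit.ι_desc (etaCocone hK hInh hLoc σ a) (op b)) f : _)

/-- every problem of `σ` is solved in `step σ`. -/
theorem solve {a : D} (b : σ.N) (f : σ.p.obj b ⟶ a) (T : Sieve a) (hT : T ∈ K a) :
    ∃ (a' : D) (g : a' ⟶ a), T g ∧ ∃ x' : (step hK hInh hLoc σ).Ψ.obj a',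
      (step hK hInh hLoc σ).Ψ.map g x' = (eta hK hInh hLoc σ).app a (σ.el b f) := by
  classical
  let π : Prob (K := K) σ := ⟨b, T.pullback f, K.pullback_stable f hT⟩
  let x : Adm (K := K) σ := ⟨(b, OrderDual.toDual {π}), fun π' h => by
    have : π' = π := Finset.mem_singleton.mp h
    rw [this]⟩
  let κ := kap hK hInh hLoc σ
  have hπ : π ∈ x.A := Finset.mem_singleton_self π
  have hle : x ≤ Adm.emb b := ⟨le_refl b, Finset.empty_subset _⟩
  refine ⟨cV hK π (κ π), cg hK π (κ π) ≫ f, cg_mem hK π (κ π),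
    (step hK hInh hLoc σ).el x (Adm.proj hK x (Adm.res hK κ x) ⟨π, hπ⟩), ?_⟩
  rw [(step hK hInh hLoc σ).map_el, eta_el, ← (step hK hInh hLoc σ).el_map hle]
  congr 1
  have h1 : (step hK hInh hLoc σ).p.map (homOfLE hle) = Adm.tr hK κ hle := rfl
  have h2 : x.t ⟨π, hπ⟩ = 𝟙 _ := σ.p.map_id b
  have h3 : σ.p.map (homOfLE hle.1) = 𝟙 _ := σ.p.map_id b
  have hpc : Adm.proj hK x (Adm.res hK κ x) ⟨π, hπ⟩ ≫ cg hK π (κ π) =
      Adm.base hK x (Adm.res hK κ x) :=
    (Adm.proj_comp hK x (Adm.res hK κ x) ⟨π, hπ⟩).trans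
      ((congrArg (Adm.base hK x (Adm.res hK κ x) ≫ ·) h2).trans (Category.comp_id _))
  have htb : Adm.tr hK κ hle ≫ Adm.base hK (Adm.emb b) (Adm.res hK κ (Adm.emb b)) =
      Adm.base hK x (Adm.res hK κ x) :=
    (Adm.tr_base hK κ hle).trans
      ((congrArg (Adm.base hK x (Adm.res hK κ x) ≫ ·) h3).trans (Category.comp_id _))
  rw [h1]
  calc Adm.proj hK x (Adm.res hK κ x) ⟨π, hπ⟩ ≫ cg hK π (κ π) ≫ f
      = (Adm.proj hK x (Adm.res hK κ x) ⟨π, hπ⟩ ≫ cg hK π (κ π)) ≫ f :=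
        (Category.assoc _ _ _).symm
    _ = Adm.base hK x (Adm.res hK κ x) ≫ f := congrArg (· ≫ f) hpc
    _ = (Adm.tr hK κ hle ≫ Adm.base hK (Adm.emb b) (Adm.res hK κ (Adm.emb b))) ≫ f :=
        congrArg (· ≫ f) htb.symm
    _ = _ := Category.assoc _ _ _

/-- the sequence of systems. -/
noncomputable def seq (σ₀ : Sys Pr) : ℕ → Sys Pr
  | 0 => σ₀
  | n + 1 => step hK hInh hLoc (seq σ₀ n)

/-- the sequence of functors. -/
noncomputable def seqF (σ₀ : Sys Pr) : ℕ ⥤ (D ⥤ Type u) :=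
  Functor.ofSequence (X := fun n => (seq hK hInh hLoc σ₀ n).Ψ)
    (fun n => eta hK hInh hLoc (seq hK hInh hLoc σ₀ n))

/-- the saturated functor. -/
noncomputable def PsiInf (σ₀ : Sys Pr) : D ⥤ Type u := (seqF hK hInh hLoc σ₀).flip ⋙ colim

instance (σ₀ : Sys Pr) : PreservesFiniteLimits (PsiInf hK hInh hLoc σ₀) := by
  unfold PsiInf
  have : PreservesFiniteLimits (seqF hK hInh hLoc σ₀).flip := by
    constructor
    intro J _ _
    constructor
    intro F
    apply preservesLimit_of_evaluation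
    intro n
    show PreservesLimit F ((seq hK hInh hLoc σ₀ n).Ψ)
    infer_instance
  infer_instance

variable (σ₀ : Sys Pr)

/-- elements of the saturated functor. -/
noncomputable def elInf {a : D} (n : ℕ) (x : (seq hK hInh hLoc σ₀ n).Ψ.obj a) :
    (PsiInf hK hInh hLoc σ₀).obj a :=
  colimit.ι ((seqF hK hInh hLoc σ₀).flip.obj a) n x

theorem elInf_surj {a : D} (x : (PsiInf hK hInh hLoc σ₀).obj a) :
    ∃ (n : ℕ) (y : (seq hK hInh hLoc σ₀ n).Ψ.obj a), elInf hK hInh hLoc σ₀ n y = x := by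
  obtain ⟨n, y, rfl⟩ := Types.jointly_surjective' (F := (seqF hK hInh hLoc σ₀).flip.obj a) x
  exact ⟨n, y, rfl⟩

theorem map_elInf {a a' : D} (g : a ⟶ a') (n : ℕ) (x : (seq hK hInh hLoc σ₀ n).Ψ.obj a) :
    (PsiInf hK hInh hLoc σ₀).map g (elInf hK hInh hLoc σ₀ n x) =
      elInf hK hInh hLoc σ₀ n ((seq hK hInh hLoc σ₀ n).Ψ.map g x) :=
  (ConcreteCategory.congr_hom (colimit.ι_map ((seqF hK hInh hLoc σ₀).flip.map g) n) x : _)

theorem elInf_succ {a : D} (n : ℕ) (x : (seq hK hInh hLoc σ₀ n).Ψ.obj a) :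
    elInf hK hInh hLoc σ₀ (n + 1)
      ((eta hK hInh hLoc (seq hK hInh hLoc σ₀ n)).app a x) = elInf hK hInh hLoc σ₀ n x := by
  have h := ConcreteCategory.congr_hom
    (colimit.w ((seqF hK hInh hLoc σ₀).flip.obj a) (homOfLE (Nat.le_succ n))) x
  refine Eq.trans ?_ h
  change elInf hK hInh hLoc σ₀ (n + 1) _ = elInf hK hInh hLoc σ₀ (n + 1) _
  congr 1
  have h2 : (seqF hK hInh hLoc σ₀).map (homOfLE (Nat.le_succ n)) =
      eta hK hInh hLoc (seq hK hInh hLoc σ₀ n) := Functor.ofSequence_map_homOfLE_succ _ n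
  change _ = ((seqF hK hInh hLoc σ₀).map (homOfLE (Nat.le_succ n))).app a x
  rw [h2]
  rfl

/-- saturation. -/
theorem psiInf_sat {a : D} (x : (PsiInf hK hInh hLoc σ₀).obj a) (T : Sieve a) (hT : T ∈ K a) :
    ∃ (a' : D) (g : a' ⟶ a), T g ∧ ∃ x' : (PsiInf hK hInh hLoc σ₀).obj a',
      (PsiInf hK hInh hLoc σ₀).map g x' = x := by
  obtain ⟨n, y, rfl⟩ := elInf_surj hK hInh hLoc σ₀ x
  obtain ⟨b, f, rfl⟩ := (seq hK hInh hLoc σ₀ n).el_surj y
  obtain ⟨a', g, hg, x', hx'⟩ := solve hK hInh hLoc (seq hK hInh hLoc σ₀ n) b f T hT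
  refine ⟨a', g, hg, elInf hK hInh hLoc σ₀ (n + 1) x', ?_⟩
  rw [map_elInf]
  exact (congrArg (elInf hK hInh hLoc σ₀ (n + 1)) hx').trans
    (elInf_succ hK hInh hLoc σ₀ n _)

include hInh in
/-- properness. -/
theorem psiInf_proper {a : D} (x : (PsiInf hK hInh hLoc σ₀).obj a) : Pr a := by
  obtain ⟨n, y, rfl⟩ := elInf_surj hK hInh hLoc σ₀ x
  obtain ⟨b, f, rfl⟩ := (seq hK hInh hLoc σ₀ n).el_surj y
  exact hInh f ((seq hK hInh hLoc σ₀ n).proper b)

/-- the trivial system on a proper object. -/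
def Sys.ofObj (t : D) (ht : Pr t) : Sys Pr where
  N := PUnit.{u + 1}
  p := (Functor.const _).obj t
  proper := fun _ => ht

include hK hInh hLoc in
/-- **Main abstract result**: existence of a saturated proper left exact functor. -/
theorem exists_sat (t : D) (ht : Pr t) :
    ∃ Ψ : D ⥤ Type u, PreservesFiniteLimits Ψ ∧
      (∀ {a : D} (x : Ψ.obj a) (T : Sieve a), T ∈ K a →
        ∃ (a' : D) (g : a' ⟶ a), T g ∧ ∃ x' : Ψ.obj a', Ψ.map g x' = x) ∧
      (∀ {a : D} (_ : Ψ.obj a), Pr a) :=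
  ⟨PsiInf hK hInh hLoc (Sys.ofObj t ht), inferInstance,
    fun x T hT => psiInf_sat hK hInh hLoc _ x T hT,
    fun x => psiInf_proper hK hInh hLoc _ x⟩

end Groth.Agent.Lib.Helper45.Deligne
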