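import Groth.Agent.Lib.Helper45.Deligne2

/-!
# Deligne's completeness theorem, part 3: enough points for a coherent site with finite limits
-/

set_option autoImplicit false
set_option linter.style.haveILetI false
set_option linter.unusedSectionVars false
universe u
open CategoryTheory CategoryTheory.Limits Opposite

namespace Groth.Agent.Lib.Helper45.Deligne

variable {C : Type u} [SmallCategory C] [HasFiniteLimits C] (J : GrothendieckTopology C)
  (hJ : FinRef J)

section Over
variable (X : C) (S : Sieve X)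

/-- properness of an object over `X` with respect to the sieve `S`. -/
def PrS (a : Over X) : Prop := S.pullback a.hom ∉ J a.left

include hJ in
theorem finRef_over : FinRef (J.over X) := by
  intro a T hT
  rw [GrothendieckTopology.mem_over_iff] at hT
  obtain ⟨n, V, g, hg, hcov⟩ := hJ _ _ hT
  refine ⟨n, fun k => Over.mk (g k ≫ a.hom), fun k => Over.homMk (g k), fun k => ?_, ?_⟩
  · exact (Sieve.overEquiv_iff T (g k)).mp (hg k)
  · rw [GrothendieckTopology.mem_over_iff, Sieve.overEquiv_ofArrows]
    exact hcov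

theorem inh_prS : Inh (PrS J X S) := by
  intro a' a f h hc
  apply h
  have : S.pullback a'.hom = (S.pullback a.hom).pullback f.left := by
    rw [← Sieve.pullback_comp, Over.w]
  rw [this]
  exact J.pullback_stable _ hc

theorem loc_prS : Loc (J.over X) (PrS J X S) := by
  intro a T hT ha
  by_contra hcon
  push Not at hcon
  apply ha
  rw [GrothendieckTopology.mem_over_iff] at hT
  refine J.transitive hT _ (fun Y f hf => ?_)
  have h1 := (Sieve.overEquiv_iff T f).mp hf
  have h2 := hcon _ _ h1
  unfold PrS at h2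
  rw [not_not] at h2
  rw [← Sieve.pullback_comp]
  exact h2

end Over

variable {J}

/-- the index type of the conservative family. -/
structure Idx (J : GrothendieckTopology C) where
  X : C
  S : Sieve X
  hS : S ∉ J X

variable (i : Idx J)

include hJ in
theorem exists_Psi : ∃ Ψ : Over i.X ⥤ Type u, PreservesFiniteLimits Ψ ∧
      (∀ {a : Over i.X} (x : Ψ.obj a) (T : Sieve a), T ∈ (J.over i.X) a →
        ∃ (a' : Over i.X) (g : a' ⟶ a), T g ∧ ∃ x' : Ψ.obj a', Ψ.map g x' = x) ∧
      (∀ {a : Over i.X} (_ : Ψ.obj a), PrS J i.X i.S a) := by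
  refine exists_sat (finRef_over J hJ i.X) (inh_prS J i.X i.S) (loc_prS J i.X i.S)
    (Over.mk (𝟙 i.X)) ?_
  unfold PrS
  intro h
  apply i.hS
  have : Sieve.pullback (Over.mk (𝟙 i.X)).hom i.S = i.S := by
    change Sieve.pullback (𝟙 i.X) i.S = i.S
    exact Sieve.pullback_id
  rwa [this] at h

/-- the chosen saturated functor. -/
noncomputable def PsiOf : Over i.X ⥤ Type u := (exists_Psi hJ i).choose

instance : PreservesFiniteLimits (PsiOf hJ i) := (exists_Psi hJ i).choose_spec.1

theorem psiOf_sat {a : Over i.X} (x : (PsiOf hJ i).obj a) (T : Sieve a)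
    (hT : T ∈ (J.over i.X) a) :
    ∃ (a' : Over i.X) (g : a' ⟶ a), T g ∧ ∃ x' : (PsiOf hJ i).obj a', (PsiOf hJ i).map g x' = x :=
  (exists_Psi hJ i).choose_spec.2.1 x T hT

theorem psiOf_proper {a : Over i.X} (x : (PsiOf hJ i).obj a) : PrS J i.X i.S a :=
  (exists_Psi hJ i).choose_spec.2.2 x

instance : IsCofiltered (PsiOf hJ i).Elements := Functor.isCofiltered_elements _

instance : InitiallySmall.{u} (PsiOf hJ i).Elements := by
  have : EssentiallySmall.{u} (PsiOf hJ i).Elements := inferInstance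
  exact initiallySmall_of_essentiallySmall _

/-- the diagram defining the point. -/
noncomputable abbrev dgm : (PsiOf hJ i).Elements ⥤ C :=
  CategoryOfElements.π (PsiOf hJ i) ⋙ Over.forget i.X

theorem lifting ⦃Z : C⦄ (R : Sieve Z) (hR : R ∈ J Z) ⦃U : (PsiOf hJ i).Elements⦄
    (f : (dgm hJ i).obj U ⟶ Z) :
    ∃ (Y : C) (g : Y ⟶ Z) (_ : R g) (V : (PsiOf hJ i).Elements) (q : V ⟶ U)
      (a : (dgm hJ i).obj V ⟶ Y), a ≫ g = (dgm hJ i).map q ≫ f := by
  obtain ⟨a, ψ⟩ := U
  let T : Sieve a := (Sieve.overEquiv a).symm (R.pullback f)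
  have hT : T ∈ (J.over i.X) a := by
    rw [GrothendieckTopology.mem_over_iff]
    simp only [T, OrderIso.apply_symm_apply]
    exact J.pullback_stable f hR
  obtain ⟨a', g, hg, x', hx'⟩ := psiOf_sat hJ i ψ T hT
  have hg' : (R.pullback f) g.left := by
    have h1 : (Sieve.overEquiv a T) g.left :=
      Sieve.image_mem_functorPushforward (Over.forget i.X) T hg
    have h2 : Sieve.overEquiv a T = R.pullback f :=
      (Sieve.overEquiv a).apply_symm_apply _
    rw [h2] at h1
    exact h1
  exact ⟨a'.left, g.left ≫ f, hg', ⟨a', x'⟩, CategoryOfElements.homMk _ _ g hx', 𝟙 _,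
    Category.id_comp _⟩

/-- the point attached to a non-covering sieve. -/
noncomputable def pt : GrothendieckTopology.Point.{u} J :=
  GrothendieckTopology.Point.ofIsCofiltered (dgm hJ i) (lifting hJ i)

open GrothendieckTopology.Point.ofIsCofiltered

/-- the base element of the category of elements. -/
noncomputable def b₀ : (PsiOf hJ i).Elements :=
  let e₀ : (PsiOf hJ i).Elements := Classical.choice IsCofiltered.nonempty
  ⟨Over.mk (𝟙 i.X), (PsiOf hJ i).map (Over.homMk e₀.1.hom : e₀.1 ⟶ Over.mk (𝟙 i.X)) e₀.2⟩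

/-- the distinguished element of the fibre at `X`. -/
noncomputable def x₀ : (pt hJ i).fiber.obj i.X :=
  fiberMk (p := dgm hJ i) (U := b₀ hJ i) (𝟙 i.X)

theorem not_mem : ¬ ∃ (Y : C) (g : Y ⟶ i.X) (_ : i.S g) (y : (pt hJ i).fiber.obj Y),
    (pt hJ i).fiber.map g y = x₀ hJ i := by
  rintro ⟨Y, g, hg, y, hy⟩
  obtain ⟨b, f, rfl⟩ := fiberMk_jointly_surjective (p := dgm hJ i) y
  have hy' : fiberMk (p := dgm hJ i) (f ≫ g) = fiberMk (p := dgm hJ i) (U := b₀ hJ i) (𝟙 i.X) :=
    (fiber_map_fiberMk (dgm hJ i) f g).symm.trans hy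
  let e := IsCofiltered.min b (b₀ hJ i)
  let l : e ⟶ b := IsCofiltered.minToLeft _ _
  let r : e ⟶ b₀ hJ i := IsCofiltered.minToRight _ _
  have h1 : fiberMk (p := dgm hJ i) ((dgm hJ i).map l ≫ f ≫ g) =
      fiberMk (p := dgm hJ i) ((dgm hJ i).map r ≫ 𝟙 i.X) := by
    rw [fiberMk_map_comp, fiberMk_map_comp]
    exact hy'
  obtain ⟨e', q, hq⟩ := exists_of_fiberMk_eq_fiberMk h1
  have h2 : (dgm hJ i).map q ≫ (dgm hJ i).map r ≫ 𝟙 i.X = e'.1.hom :=
    (Category.assoc _ _ _).symm.trans (Over.w (q ≫ r).1)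
  have h3 : i.S e'.1.hom := by
    rw [← h2, ← hq]
    rw [← Category.assoc, ← Category.assoc]
    exact i.S.downward_closed hg _
  apply psiOf_proper hJ i e'.2
  rw [Sieve.pullback_eq_top_of_mem _ h3]
  exact J.top_mem _

/-- the family of points. -/
noncomputable def family : ObjectProperty (GrothendieckTopology.Point.{u} J) :=
  ObjectProperty.ofObj (pt hJ)

instance : ObjectProperty.Small.{u} (family hJ) :=
  inferInstanceAs (ObjectProperty.Small.{u} (ObjectProperty.ofObj (pt hJ)))

theorem conservative : (family hJ).IsConservativeFamilyOfPoints := by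
  apply ObjectProperty.IsConservativeFamilyOfPoints.mk'
  intro X S hS
  by_contra hSJ
  let i : Idx J := ⟨X, S, hSJ⟩
  let Φ : (family hJ).FullSubcategory := ⟨pt hJ i, ⟨_⟩⟩
  obtain ⟨Y, g, hg, y, hy⟩ := hS Φ (x₀ hJ i)
  exact not_mem hJ i ⟨Y, g, hg, y, hy⟩

include hJ in
/-- **Deligne's completeness theorem** for a small site with finite limits whose covering sieves
contain finite covering families. -/
theorem hasEnoughPoints : GrothendieckTopology.HasEnoughPoints.{u} J :=
  ⟨⟨family hJ, inferInstance, conservative hJ⟩⟩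

end Groth.Agent.Lib.Helper45.Deligne
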