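import Groth.Agent.Lib.Helper45.StalkFree1
import Mathlib.RingTheory.LocalRing.Module

/-!
# A direct summand of a finite locally free module on a locally ringed space is finite
locally free.  Includes: comparison of the site-point stalk of `O` with the topological stalk,
`fpc_of_rightExact`, stalk bases from local bases, `fpc_of_locFree`.
-/

set_option autoImplicit false
set_option linter.style.haveILetI false
set_option linter.unusedSectionVars false
set_option linter.dupNamespace false

universe u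

open CategoryTheory CategoryTheory.Limits Opposite ModSite TopologicalSpace

namespace Groth.Agent.Lib.Helper45.DirSummand

open Groth.Agent.Lib.Helper45.QcSum Groth.Agent.Lib.Helper45.FTDict
  Groth.Agent.Lib.Helper45.ClosedImm Groth.Agent.Lib.Helper45.LocBasis
  Groth.Agent.Lib.Helper45.StalkFree Groth.Agent.Lib.Helper42.StalkFlat

section Compare

variable {X : TopCat.{u}} (O : TopCat.Sheaf CommRingCat.{u} X) (x : X)

/-- comparison of the stalk at the point of the site with the topological stalk. -/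
noncomputable def stalkCompare :
    stalkRing (Opens.pointGrothendieckTopology x) O ⟶ O.presheaf.stalk x :=
  (Opens.pointGrothendieckTopology x).presheafFiberDesc (P := O.obj)
    (fun U u => O.presheaf.germ U x u.down.down)
    (by
      intro U V f u
      exact O.presheaf.germ_res f x u.down.down)

lemma stalkCompare_germRing (U : Opens X) (u : (Opens.pointGrothendieckTopology x).fiber.obj U)
    (a : O.obj.obj (op U)) :
    (stalkCompare O x).hom (germRing (Opens.pointGrothendieckTopology x) U u a) =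
      O.presheaf.germ U x u.down.down a := by
  have h := (Opens.pointGrothendieckTopology x).toPresheafFiber_presheafFiberDesc (P := O.obj)
    (fun U u => O.presheaf.germ U x u.down.down)
    (by
      intro U V f u
      exact O.presheaf.germ_res f x u.down.down) U u
  exact congrArg (fun φ => φ.hom a) h

lemma stalkCompare_bijective : Function.Bijective (stalkCompare O x).hom := by
  constructor
  · intro a a' h
    obtain ⟨U, u, z₁, z₂, rfl, rfl⟩ :=
      (Opens.pointGrothendieckTopology x).toPresheafFiber_jointly_surjective₂ (P := O.obj) a a'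
    have h' : O.presheaf.germ U x u.down.down z₁ = O.presheaf.germ U x u.down.down z₂ := by
      rw [← stalkCompare_germRing, ← stalkCompare_germRing]
      exact h
    obtain ⟨W, mW, iU, iV, e⟩ := O.presheaf.germ_eq x u.down.down u.down.down z₁ z₂ h'
    refine ((Opens.pointGrothendieckTopology x).toPresheafFiber_eq_iff' (P := O.obj) U u z₁ z₂).2
      ⟨W, iU, ⟨⟨mW⟩⟩, Subsingleton.elim _ _, ?_⟩
    have : iV = iU := Subsingleton.elim _ _
    rw [this] at e
    exact e
  · intro t
    obtain ⟨U, m, s, rfl⟩ := O.presheaf.exists_germ_eq t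
    exact ⟨germRing (Opens.pointGrothendieckTopology x) U ⟨⟨m⟩⟩ s, stalkCompare_germRing O x U _ s⟩

lemma isLocalRing_stalkRing [IsLocalRing (O.presheaf.stalk x)] :
    IsLocalRing (stalkRing (Opens.pointGrothendieckTopology x) O) :=
  (RingEquiv.ofBijective (stalkCompare O x).hom (stalkCompare_bijective O x)).symm.isLocalRing

end Compare

section RightExact

variable {C : Type u} [SmallCategory C] {J : GrothendieckTopology C} (O : Sheaf J CommRingCat.{u})

theorem fpc_of_rightExact {G F Q : Mod O} (φ : G ⟶ F) (π : F ⟶ Q) [Epi π] (w : φ ≫ π = 0)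
    (hex : ∀ (V : C) (x : F.val.obj (op V)), π.val.app (op V) x = 0 →
      ∃ S ∈ J V, ∀ (W : C) (h : W ⟶ V), S h →
        ∃ y : G.val.obj (op W), φ.val.app (op W) y = res O F h x)
    (hG : FT O G) (hF : FPc O F) :
    FPc O Q := by
  classical
  apply fpc_of_local
  intro W₀
  obtain ⟨S₁, hS₁, h₁'⟩ := hG W₀
  obtain ⟨S₃, hS₃, h₃'⟩ := hF W₀
  refine ⟨S₁ ⊓ S₃, J.intersection_covering hS₁ hS₃, ?_⟩
  intro U g hg
  obtain ⟨p, t, ht⟩ := h₁' U g hg.1
  obtain ⟨n, s, m, r, hs, hr⟩ := h₃' U g hg.2
  choose Sa hSa hSa' using fun l => hs U (𝟙 U) (φ.val.app (op U) (t l))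
  refine ⟨Finset.univ.inf Sa, finset_inf_mem _ Sa hSa, ?_⟩
  intro V k hk
  have hka : ∀ l, Sa l k := fun l => (finset_inf_apply _ Sa k).1 hk l (Finset.mem_univ l)
  choose A hA using fun l => hSa' l V k (hka l)
  let tV : Fin p → G.val.obj (op V) := fun l => res O G k (t l)
  let sV : Fin n → F.val.obj (op V) := fun i => res O F k (s i)
  let rV : Fin m → Fin n → (ringSh O).obj.obj (op V) := fun j i => (ringSh O).obj.map k.op (r j i)
  have hrV : RelGen O F V sV rV := hr.restrict O k
  have hsV : LocGen O F V sV := hs.restrict O k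
  have htV : LocGen O G V tV := ht.restrict O k
  have hφt : ∀ l, φ.val.app (op V) (tV l) = ∑ i, A l i • sV i := by
    intro l
    simp only [tV, sV]
    rw [app_res, hA l]
    simp only [Category.comp_id]
  let s' : Fin n → Q.val.obj (op V) := fun i => π.val.app (op V) (sV i)
  let r' : Fin (m + p) → Fin n → (ringSh O).obj.obj (op V) := Fin.append rV A
  have hπφ : ∀ (Z : C) (y : G.val.obj (op Z)),
      π.val.app (op Z) (φ.val.app (op Z) y) = 0 := fun Z y =>
    congrArg (fun ψ => ψ.val.app (op Z) y) w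
  refine ⟨n, s', m + p, r', hsV.of_epi O π, ?_, ?_⟩
  · intro j
    have key : ∀ a : Fin n → (ringSh O).obj.obj (op V),
        ∑ i, a i • s' i = π.val.app (op V) (∑ i, a i • sV i) := by
      intro a
      rw [app_sum]
      exact Finset.sum_congr rfl (fun i _ => (app_smul O _ _ _ _).symm)
    rw [key]
    refine Fin.addCases (fun j => ?_) (fun l => ?_) j
    · simp only [r', Fin.append_left]
      rw [hrV.1 j, map_zero]
    · simp only [r', Fin.append_right]
      rw [← hφt l, hπφ]
  · intro V' g' c hc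
    let x : F.val.obj (op V') := ∑ i, c i • res O F g' (sV i)
    have hx : π.val.app (op V') x = 0 := by
      simp only [x]
      rw [app_sum, ← hc]
      refine Finset.sum_congr rfl (fun i _ => ?_)
      rw [app_smul, app_res]
    apply sieve_local
    obtain ⟨S, hS, hS'⟩ := hex V' x hx
    refine ⟨S, hS, fun W h hh => ?_⟩
    obtain ⟨y, hy⟩ := hS' W h hh
    apply sieve_local
    obtain ⟨T, hT, hT'⟩ := htV W (h ≫ g') y
    refine ⟨T, hT, fun W' h' hh' => ?_⟩
    obtain ⟨b, hb⟩ := hT' W' h' hh'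
    let e : Fin n → (ringSh O).obj.obj (op W') := fun i =>
      (ringSh O).obj.map (h' ≫ h).op (c i) -
        ∑ l, b l * (ringSh O).obj.map (h' ≫ h ≫ g').op (A l i)
    have he : ∑ i, e i • res O F (h' ≫ h ≫ g') (sV i) = 0 := by
      have e1 : ∑ i, (ringSh O).obj.map (h' ≫ h).op (c i) • res O F (h' ≫ h ≫ g') (sV i) =
          res O F (h' ≫ h) x := by
        have hres : ∀ i, res O F (h' ≫ h) (res O F g' (sV i)) =
            res O F (h' ≫ h ≫ g') (sV i) := fun i => by
          rw [← res_comp O F (h' ≫ h) g' (sV i), Category.assoc]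
        simp only [x]
        rw [res_sum]
        refine Finset.sum_congr rfl (fun i _ => ?_)
        rw [res_smul, hres]
      have e2 : ∑ i, (∑ l, b l * (ringSh O).obj.map (h' ≫ h ≫ g').op (A l i)) •
          res O F (h' ≫ h ≫ g') (sV i) = res O F (h' ≫ h) x := by
        rw [← alg_swap, res_comp, ← hy, ← app_res, hb, app_sum]
        refine Finset.sum_congr rfl (fun l _ => ?_)
        rw [app_smul, app_res, hφt, res_sum]
        congr 1
        exact Finset.sum_congr rfl (fun i _ => (res_smul O F _ _ _).symm)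
      simp only [e, sub_smul, Finset.sum_sub_distrib]
      rw [e1, e2, sub_self]
    obtain ⟨T', hT', hT''⟩ := hrV.2 W' (h' ≫ h ≫ g') e he
    refine ⟨T', hT', fun W'' h'' hh'' => ?_⟩
    obtain ⟨d, hd⟩ := hT'' W'' h'' hh''
    refine ⟨Fin.append d (fun l => (ringSh O).obj.map h''.op (b l)), fun i => ?_⟩
    rw [Fin.sum_univ_add]
    simp only [Fin.append_left, Fin.append_right, r']
    have h1 := hd i
    simp only [e] at h1
    rw [map_sub, map_sum, sub_eq_iff_eq_add] at h1
    simp only [Category.assoc]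
    rw [FTDict.Omap_comp O h'' (h' ≫ h), h1]
    congr 1
    refine Finset.sum_congr rfl (fun l _ => ?_)
    rw [map_mul, ← FTDict.Omap_comp]


lemma locGen_of_locBasis {F : Mod O} {W : C} {r : ℕ} {b : Fin r → F.val.obj (op W)}
    (h : LocBasis O F W b) : LocGen O F W b := by
  intro V f t
  refine ⟨⊤, J.top_mem V, fun W' g _ => ?_⟩
  obtain ⟨c, hc⟩ := (h W' (g ≫ f) (res O F g t)).exists
  exact ⟨c, hc⟩

lemma locIndep_of_locBasis {F : Mod O} {W : C} {r : ℕ} {b : Fin r → F.val.obj (op W)}
    (h : LocBasis O F W b) : LocIndep O F W b := by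
  intro V f c hc
  have h0 : (0 : F.val.obj (op V)) = ∑ k, (0 : Fin r → (ringSh O).obj.obj (op V)) k •
      res O F f (b k) := by simp
  exact (h V f 0).unique hc.symm h0

lemma relGen_of_locBasis {F : Mod O} {W : C} {r : ℕ} {b : Fin r → F.val.obj (op W)}
    (h : LocBasis O F W b) :
    RelGen O F W b (fun (j : Fin 0) (_ : Fin r) => Fin.elim0 j) := by
  refine ⟨fun j => Fin.elim0 j, ?_⟩
  intro V f c hc
  have hc0 := locIndep_of_locBasis O h V f c hc
  refine ⟨⊤, J.top_mem V, fun W' g _ => ⟨Fin.elim0, fun i => ?_⟩⟩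
  rw [hc0]
  simp

lemma ft_of_fpc {F : Mod O} (h : FPc O F) : FT O F := by
  intro W₀
  obtain ⟨S, hS, hS'⟩ := h W₀
  refine ⟨S, hS, fun U g hg => ?_⟩
  obtain ⟨n, s, m, r, hs, -⟩ := hS' U g hg
  exact ⟨n, s, hs⟩

end RightExact

section TopLF

variable {X : TopCat.{u}} (O : TopCat.Sheaf CommRingCat.{u} X)

theorem fpc_of_locFree {H : ModSite.Mod O}
    (hH : ∀ x : X, ∃ (U : Opens X) (n : ℕ), x ∈ U ∧
      Nonempty ((ModSite.restr O U).obj H ≅ SheafOfModules.free (ULift.{u} (Fin n)))) :
    FPc O H := by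
  intro W₀
  let S : Sieve W₀ :=
    { arrows := fun V _ => ∃ (U : Opens X) (n : ℕ) (_ : V ⟶ U),
        Nonempty ((ModSite.restr O U).obj H ≅ SheafOfModules.free (ULift.{u} (Fin n)))
      downward_closed := by
        rintro V₁ V₂ f ⟨U, n, g, h⟩ k
        exact ⟨U, n, k ≫ g, h⟩ }
  refine ⟨S, ?_, ?_⟩
  · intro y hy
    obtain ⟨U, n, hyU, h⟩ := hH y
    exact ⟨W₀ ⊓ U, homOfLE inf_le_left, ⟨U, n, homOfLE inf_le_right, h⟩, ⟨hy, hyU⟩⟩
  · rintro V f ⟨U, n, g, ⟨α⟩⟩
    obtain ⟨b, hb⟩ := locBasis_of_iso O H U α g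
    exact ⟨n, b, 0, _, locGen_of_locBasis O hb, relGen_of_locBasis O hb⟩

end TopLF

section StalkBasis

variable {C : Type u} [SmallCategory C] {J : GrothendieckTopology C} {O : Sheaf J CommRingCat.{u}}
  (p : GrothendieckTopology.Point.{u} J)

theorem stalk_gen_of_locBasis {H : Mod O} {W : C} {r : ℕ} {b : Fin r → H.val.obj (op W)}
    (hb : LocBasis O H W b) (w : p.fiber.obj W) (y : stalkAb p H) :
    ∃ a : Fin r → stalkRing p O, y = ∑ k, a k • germ p H W w (b k) := by
  obtain ⟨V, v, t, rfl⟩ := p.toPresheafFiber_jointly_surjective (P := (toAb H).obj) y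
  obtain ⟨⟨M1, M2⟩, ⟨⟨gV, hgV⟩⟩, ⟨⟨gW, hgW⟩⟩⟩ : ∃ M : p.fiber.Elements,
      Nonempty (M ⟶ Functor.elementsMk p.fiber V v) ∧
      Nonempty (M ⟶ Functor.elementsMk p.fiber W w) :=
    ⟨IsCofiltered.min _ _, ⟨IsCofiltered.minToLeft _ _⟩, ⟨IsCofiltered.minToRight _ _⟩⟩
  obtain ⟨c, hc⟩ := (hb M1 gW (res O H gV t)).exists
  let c' : Fin r → O.obj.obj (op M1) := c
  refine ⟨fun k => germRing p M1 M2 (c' k), ?_⟩
  have h1 : germ p H V v t = germ p H M1 M2 (res O H gV t) :=
    (germ_w' p H gV M2 v hgV t).symm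
  have h2 : ∀ k, germ p H W w (b k) = germ p H M1 M2 (res O H gW (b k)) := fun k =>
    (germ_w' p H gW M2 w hgW (b k)).symm
  change germ p H V v t = _
  rw [h1, hc]
  refine (germ_sum_smul p H M1 M2 c' _).trans ?_
  exact Finset.sum_congr rfl (fun k _ => by rw [h2 k])

theorem stalk_ind_of_locBasis {H : Mod O} {W : C} {r : ℕ} {b : Fin r → H.val.obj (op W)}
    (hb : LocBasis O H W b) (w : p.fiber.obj W) (a : Fin r → stalkRing p O)
    (ha : ∑ k, a k • germ p H W w (b k) = 0) : a = 0 := by
  obtain ⟨V, g, v, hv, A, -, hA, -⟩ := exists_reps' p H W w a (fun _ : Fin 0 => (0 : stalkAb p H))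
  have h1 : germ p H V v (∑ k, A k • res O H g (b k)) = germ p H V v 0 := by
    rw [germ_sum_smul, germ_zero, ← ha]
    refine Finset.sum_congr rfl (fun k _ => ?_)
    rw [hA k]
    congr 1
    exact germ_w' p H g v w hv (b k)
  obtain ⟨V', g', v', hv', hV'⟩ := (germ_eq_iff p H V v _ _).1 h1
  have h2 : ∑ k, (O.obj.map g'.op).hom (A k) • res O H (g' ≫ g) (b k) = 0 := by
    have h3 : rs H g' (∑ k, A k • res O H g (b k)) = rs H g' 0 := hV'
    rw [rs_sum_smul] at h3
    have h4 : rs H g' (0 : H.val.obj (op V)) = 0 := map_zero (H.val.map g'.op).hom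
    rw [h4] at h3
    rw [← h3]
    refine Finset.sum_congr rfl (fun k _ => ?_)
    congr 1
    exact res_comp O H g' g (b k)
  have h5 := locIndep_of_locBasis O hb V' (g' ≫ g) (fun k => (O.obj.map g'.op).hom (A k)) h2
  funext k
  have h6 : (O.obj.map g'.op).hom (A k) = 0 := congrFun h5 k
  rw [← hA k, ← germRing_w' p g' v' v hv' (A k), h6, germRing_zero]
  rfl

lemma stalkMap_comp_apply {F H G : Mod O} (f : F ⟶ H) (g : H ⟶ G) (y : stalkAb p F) :
    (stalkMap p g).hom ((stalkMap p f).hom y) = (stalkMap p (f ≫ g)).hom y := by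
  obtain ⟨V, v, t, rfl⟩ := p.toPresheafFiber_jointly_surjective (P := (toAb F).obj) y
  change (stalkMap p g).hom ((stalkMap p f).hom (germ p F V v t)) =
    (stalkMap p (f ≫ g)).hom (germ p F V v t)
  rw [stalkMap_germ, stalkMap_germ, stalkMap_germ]
  rfl

lemma stalkMap_id_apply {F : Mod O} (y : stalkAb p F) : (stalkMap p (𝟙 F)).hom y = y := by
  obtain ⟨V, v, t, rfl⟩ := p.toPresheafFiber_jointly_surjective (P := (toAb F).obj) y
  change (stalkMap p (𝟙 F)).hom (germ p F V v t) = germ p F V v t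
  rw [stalkMap_germ]
  rfl

end StalkBasis

lemma exists_basis_of_retract {R : Type u} [CommRing R] [IsLocalRing R] {M N : Type u}
    [AddCommGroup M] [Module R M] [AddCommGroup N] [Module R N]
    [Module.Free R N] [Module.Finite R N] (ι : M →ₗ[R] N) (π : N →ₗ[R] M)
    (h : π.comp ι = LinearMap.id) :
    ∃ (r : ℕ), Nonempty (Module.Basis (Fin r) R M) := by
  have h1 : Module.Projective R M := Module.Projective.of_split ι π h
  have hsurj : Function.Surjective π := fun y => ⟨ι y, by
    have := congrArg (fun φ => φ y) h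
    exact this⟩
  have h2 : Module.Finite R M := Module.Finite.of_surjective π hsurj
  have h3 : Module.Flat R M := inferInstance
  have h4 : Module.Free R M := Module.free_of_flat_of_isLocalRing
  exact ⟨_, ⟨Module.finBasis R M⟩⟩

theorem locallyFree_of_retract {X : TopCat.{u}} (O : TopCat.Sheaf CommRingCat.{u} X)
    (hO : ∀ x : X, IsLocalRing (O.presheaf.stalk x)) {F H : ModSite.Mod O}
    (hH : ∀ x : X, ∃ (U : Opens X) (n : ℕ), x ∈ U ∧
      Nonempty ((ModSite.restr O U).obj H ≅ SheafOfModules.free (ULift.{u} (Fin n))))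
    (i : F ⟶ H) (p : H ⟶ F) (hip : i ≫ p = 𝟙 F) (x : X) :
    ∃ (U : Opens X) (n : ℕ), x ∈ U ∧
      Nonempty ((ModSite.restr O U).obj F ≅ SheafOfModules.free (ULift.{u} (Fin n))) := by
  classical
  let pt := Opens.pointGrothendieckTopology x
  have := hO x
  have hloc : IsLocalRing (stalkRing pt O) := isLocalRing_stalkRing O x
  have hFPH : FPc O H := fpc_of_locFree O hH
  have hepi : Epi p := by
    have : IsSplitEpi p := IsSplitEpi.mk' ⟨i, hip⟩
    infer_instance
  have hFP : FPc O F := by
    refine fpc_of_rightExact O (𝟙 H - p ≫ i) p ?_ ?_ (ft_of_fpc O hFPH) hFPH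
    · rw [Preadditive.sub_comp, Category.id_comp, Category.assoc, hip, Category.comp_id, sub_self]
    · intro V y hy
      refine ⟨⊤, (Opens.grothendieckTopology X).top_mem V, fun W h _ => ⟨res O H h y, ?_⟩⟩
      have h1 : (𝟙 H - p ≫ i).val.app (op W) (res O H h y) =
          res O H h y - i.val.app (op W) (p.val.app (op W) (res O H h y)) := rfl
      rw [h1, app_res O p, hy, res_zero, map_zero, sub_zero]
  obtain ⟨U₁, n, hxU₁, ⟨α⟩⟩ := hH x
  obtain ⟨bH, hbH⟩ := locBasis_of_iso O H U₁ α (𝟙 U₁)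
  let w : pt.fiber.obj U₁ := ⟨⟨hxU₁⟩⟩
  let mH : Fin n → stalkAb pt H := fun k => germ pt H U₁ w (bH k)
  have hli : LinearIndependent (stalkRing pt O) mH :=
    Fintype.linearIndependent_iff.2 (fun a h k =>
      congrFun (stalk_ind_of_locBasis pt hbH w a h) k)
  have hsp : ⊤ ≤ Submodule.span (stalkRing pt O) (Set.range mH) := by
    intro y _
    obtain ⟨a, rfl⟩ := stalk_gen_of_locBasis pt hbH w y
    exact Submodule.sum_mem _ (fun k _ =>
      Submodule.smul_mem _ _ (Submodule.subset_span ⟨k, rfl⟩))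
  let BH : Module.Basis (Fin n) (stalkRing pt O) (stalkAb pt H) := Module.Basis.mk hli hsp
  have hfree : Module.Free (stalkRing pt O) (stalkAb pt H) := Module.Free.of_basis BH
  have hfin : Module.Finite (stalkRing pt O) (stalkAb pt H) := Module.Finite.of_basis BH
  obtain ⟨r, ⟨BF⟩⟩ := exists_basis_of_retract (R := stalkRing pt O) (M := stalkAb pt F)
    (N := stalkAb pt H) (stalkMap pt i).hom (stalkMap pt p).hom (by
      apply LinearMap.ext
      intro y
      change (stalkMap pt p).hom ((stalkMap pt i).hom y) = y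
      rw [stalkMap_comp_apply, hip, stalkMap_id_apply])
  let m : Fin r → stalkAb pt F := fun k => BF k
  have hgen : ∀ y : stalkAb pt F, ∃ a : Fin r → stalkRing pt O, y = ∑ k, a k • m k :=
    fun y => ⟨fun k => BF.repr y k, (BF.sum_repr y).symm⟩
  have hind : ∀ a : Fin r → stalkRing pt O, ∑ k, a k • m k = 0 → a = 0 := fun a h =>
    funext (Fintype.linearIndependent_iff.1 BF.linearIndependent a h)
  obtain ⟨U, u, b, hb, hi⟩ := exists_locBasis_of_stalk F hFP pt m hgen hind
  exact ⟨U, r, u.down.down, iso_of_locGen_locIndep O F U b hb hi⟩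

end Groth.Agent.Lib.Helper45.DirSummand
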