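import Mathlib.CategoryTheory.Monoidal.Rigid.Basic
import Mathlib.CategoryTheory.Idempotents.Basic
import Mathlib.CategoryTheory.Monoidal.Preadditive

/-!
# Duals of retracts in a monoidal category (helper45)

`Dual.exactPairingOfRetract`, `Dual.nonempty_hasRightDual_of_retract`.
-/

set_option autoImplicit false
open CategoryTheory CategoryTheory.Limits MonoidalCategory
universe v u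

namespace Groth.Agent.Lib.Helper45.Dual

variable {A : Type u} [Category.{v} A] [MonoidalCategory A]

open ExactPairing

/-- an exact pairing restricted to compatible retracts of both objects. -/
@[instance_reducible]
def exactPairingOfRetract {X Y X₁ Y₁ : A} [ExactPairing X Y] (i : X₁ ⟶ X) (p : X ⟶ X₁)
    (i' : Y₁ ⟶ Y) (p' : Y ⟶ Y₁) (h1 : i ≫ p = 𝟙 X₁) (h2 : i' ≫ p' = 𝟙 Y₁)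
    (h3 : η_ X Y ≫ X ◁ (p' ≫ i') = η_ X Y ≫ (p ≫ i) ▷ Y)
    (h4 : (p' ≫ i') ▷ X ≫ ε_ X Y = Y ◁ (p ≫ i) ≫ ε_ X Y) : ExactPairing X₁ Y₁ where
  coevaluation' := η_ X Y ≫ p ▷ Y ≫ X₁ ◁ p'
  evaluation' := i' ▷ X₁ ≫ Y ◁ i ≫ ε_ X Y
  evaluation_coevaluation' := by
    -- first simplify the evaluation part
    have e1 : p' ▷ X₁ ≫ i' ▷ X₁ ≫ Y ◁ i ≫ ε_ X Y = Y ◁ i ≫ ε_ X Y := by
      calc p' ▷ X₁ ≫ i' ▷ X₁ ≫ Y ◁ i ≫ ε_ X Y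
          = ((p' ≫ i') ▷ X₁ ≫ Y ◁ i) ≫ ε_ X Y := by simp
        _ = (Y ◁ i ≫ (p' ≫ i') ▷ X) ≫ ε_ X Y := by rw [whisker_exchange]
        _ = Y ◁ i ≫ Y ◁ (p ≫ i) ≫ ε_ X Y := by rw [Category.assoc, h4]
        _ = Y ◁ (i ≫ p ≫ i) ≫ ε_ X Y := by simp
        _ = Y ◁ i ≫ ε_ X Y := by rw [reassoc_of% h1]
    calc (η_ X Y ≫ p ▷ Y ≫ X₁ ◁ p') ▷ X₁ ≫ (α_ _ _ _).hom ≫ X₁ ◁ (i' ▷ X₁ ≫ Y ◁ i ≫ ε_ X Y)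
        = η_ X Y ▷ X₁ ⊗≫ p ▷ Y ▷ X₁ ⊗≫ X₁ ◁ (p' ▷ X₁ ≫ i' ▷ X₁ ≫ Y ◁ i ≫ ε_ X Y) := by
          monoidal
      _ = η_ X Y ▷ X₁ ⊗≫ (p ▷ (Y ⊗ X₁) ≫ X₁ ◁ (Y ◁ i)) ⊗≫ X₁ ◁ ε_ X Y := by
          rw [e1]; monoidal
      _ = 𝟙 _ ⊗≫ (η_ X Y ▷ X₁ ≫ (X ⊗ Y) ◁ i) ⊗≫ (p ▷ (Y ⊗ X) ≫ X₁ ◁ ε_ X Y) ⊗≫ 𝟙 _ := by
          rw [← whisker_exchange]; monoidal
      _ = 𝟙 _ ⊗≫ i ⊗≫ (η_ X Y ▷ X ⊗≫ X ◁ ε_ X Y) ⊗≫ p ⊗≫ 𝟙 _ := by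
          rw [← whisker_exchange, ← whisker_exchange]; monoidal
      _ = 𝟙 _ ⊗≫ (i ≫ p) ⊗≫ 𝟙 _ := by
          rw [evaluation_coevaluation'']; monoidal
      _ = (λ_ X₁).hom ≫ (ρ_ X₁).inv := by
          rw [h1]; monoidal
  coevaluation_evaluation' := by
    have e2 : η_ X Y ≫ p ▷ Y ≫ i ▷ Y = η_ X Y ≫ X ◁ (p' ≫ i') := by
      rw [h3]; simp
    -- the core zigzag on `Y`
    have core : Y ◁ (η_ X Y ≫ p ▷ Y ≫ i ▷ Y) ⊗≫ ε_ X Y ▷ Y = (ρ_ Y).hom ≫ (p' ≫ i') ≫ (λ_ Y).inv := by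
      calc Y ◁ (η_ X Y ≫ p ▷ Y ≫ i ▷ Y) ⊗≫ ε_ X Y ▷ Y
          = Y ◁ η_ X Y ⊗≫ ((Y ⊗ X) ◁ (p' ≫ i') ≫ ε_ X Y ▷ Y) := by
            rw [e2]; monoidal
        _ = (Y ◁ η_ X Y ⊗≫ ε_ X Y ▷ Y) ≫ 𝟙_ A ◁ (p' ≫ i') := by
            rw [whisker_exchange]; monoidal
        _ = _ := by
            rw [coevaluation_evaluation'']; monoidal
    calc Y₁ ◁ (η_ X Y ≫ p ▷ Y ≫ X₁ ◁ p') ≫ (α_ _ _ _).inv ≫ (i' ▷ X₁ ≫ Y ◁ i ≫ ε_ X Y) ▷ Y₁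
        = Y₁ ◁ (η_ X Y ≫ p ▷ Y) ⊗≫ ((Y₁ ⊗ X₁) ◁ p' ≫ (i' ▷ X₁ ≫ Y ◁ i ≫ ε_ X Y) ▷ Y₁) := by
          monoidal
      _ = (Y₁ ◁ (η_ X Y ≫ p ▷ Y) ≫ i' ▷ (X₁ ⊗ Y)) ⊗≫ (Y ◁ i ≫ ε_ X Y) ▷ Y ⊗≫ p' ⊗≫ 𝟙 _ := by
          rw [whisker_exchange]; monoidal
      _ = 𝟙 _ ⊗≫ i' ⊗≫ (Y ◁ (η_ X Y ≫ p ▷ Y ≫ i ▷ Y) ⊗≫ ε_ X Y ▷ Y) ⊗≫ p' ⊗≫ 𝟙 _ := by
          rw [whisker_exchange]; monoidal
      _ = 𝟙 _ ⊗≫ (i' ≫ p' ≫ i' ≫ p') ⊗≫ 𝟙 _ := by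
          rw [core]; monoidal
      _ = (ρ_ Y₁).hom ≫ (λ_ Y₁).inv := by
          rw [reassoc_of% h2, h2]; monoidal


/-- a retract of an object with a right dual has a right dual, when idempotents split. -/
theorem nonempty_hasRightDual_of_retract [IsIdempotentComplete A] {X X₁ : A} (i : X₁ ⟶ X)
    (p : X ⟶ X₁) (hip : i ≫ p = 𝟙 X₁) [HasRightDual X] : Nonempty (HasRightDual X₁) := by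
  have hidem : (p ≫ i)ᘁ ≫ (p ≫ i)ᘁ = (p ≫ i)ᘁ := by
    rw [← comp_rightAdjointMate]
    congr 1
    rw [Category.assoc, reassoc_of% hip]
  obtain ⟨Y₁, i', p', h2, h5⟩ := IsIdempotentComplete.idempotents_split (Xᘁ) ((p ≫ i)ᘁ) hidem
  have h3 : η_ X (Xᘁ) ≫ X ◁ (p' ≫ i') = η_ X (Xᘁ) ≫ (p ≫ i) ▷ (Xᘁ) := by
    rw [h5]
    exact coevaluation_comp_rightAdjointMate (p ≫ i)
  have h4 : (p' ≫ i') ▷ X ≫ ε_ X (Xᘁ) = (Xᘁ) ◁ (p ≫ i) ≫ ε_ X (Xᘁ) := by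
    rw [h5]
    exact rightAdjointMate_comp_evaluation (p ≫ i)
  exact ⟨{ rightDual := Y₁, exact := exactPairingOfRetract i p i' p' hip h2 h3 h4 }⟩

end Groth.Agent.Lib.Helper45.Dual
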