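import Mathlib

set_option autoImplicit false
set_option backward.isDefEq.respectTransparency false
universe w u
open CategoryTheory AlgebraicGeometry Limits

namespace Groth.Agent.Lib.Helper45.SmallEtSheaf

section general

variable {C : Type*} [Category C]

theorem mca (F : C ⥤ Type w) {X Y Z : C} (f : X ⟶ Y) (g : Y ⟶ Z) (a : F.obj X) :
    F.map (f ≫ g) a = F.map g (F.map f a) := by simp

/-- local-to-global principle for the sheaf condition with a presieve of "good" objects. -/
theorem isSheafFor_of_local (F : Cᵒᵖ ⥤ Type w) {U : C} (R₀ : Presieve U) (S : Sieve U)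
    (h1 : Presieve.IsSheafFor F (Sieve.generate R₀).arrows)
    (h2 : ∀ ⦃Y : C⦄ (g : Y ⟶ U), S g →
      Presieve.IsSeparatedFor F ((Sieve.generate R₀).pullback g).arrows)
    (h3 : ∀ ⦃Y : C⦄ (f : Y ⟶ U), R₀ f → Presieve.IsSheafFor F (S.pullback f).arrows)
    (h4 : ∀ ⦃Y : C⦄ (g : Y ⟶ U), Sieve.generate R₀ g →
      Presieve.IsSeparatedFor F (S.pullback g).arrows) :
    Presieve.IsSheafFor F S.arrows := by
  intro x hx
  -- local amalgamations
  have hloc : ∀ ⦃Y : C⦄ (f : Y ⟶ U) (hf : R₀ f), ∃ s : F.obj (Opposite.op Y),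
      (x.pullback f).IsAmalgamation s := fun Y f hf =>
    (h3 f hf (x.pullback f) (hx.pullback f)).exists
  choose s hs using hloc
  -- family on generate R₀
  have key : ∀ ⦃Y : C⦄ (g : Y ⟶ U) ⦃Z Z' : C⦄ (f : Z ⟶ U) (f' : Z' ⟶ U) (hf : R₀ f) (hf' : R₀ f')
      (h : Y ⟶ Z) (h' : Y ⟶ Z'), h ≫ f = g → h' ≫ f' = g →
      F.map h.op (s f hf) = F.map h'.op (s f' hf') := by
    intro Y g Z Z' f f' hf hf' h h' e e'
    have hg : Sieve.generate R₀ g := ⟨Z, h, f, hf, e⟩
    refine (h4 g hg).ext ?_
    intro W k hk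
    have hk1 : S (k ≫ h ≫ f) := by rw [e]; exact hk
    have hk2 : S (k ≫ h' ≫ f') := by rw [e']; exact hk
    have e1 := hs f hf (k ≫ h) (by simpa using hk1)
    have e2 := hs f' hf' (k ≫ h') (by simpa using hk2)
    simp only [Presieve.FamilyOfElements.pullback] at e1 e2
    rw [← mca, ← mca, ← op_comp, ← op_comp,
      e1, e2]
    congr 1
    simp [e, e']
  let y : Presieve.FamilyOfElements F (Sieve.generate R₀).arrows := fun Y g hg =>
    F.map (hg.choose_spec.choose).op (s hg.choose_spec.choose_spec.choose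
      hg.choose_spec.choose_spec.choose_spec.1)
  have hy : ∀ ⦃Y : C⦄ (g : Y ⟶ U) (hg : Sieve.generate R₀ g) ⦃Z : C⦄ (f : Z ⟶ U) (hf : R₀ f)
      (h : Y ⟶ Z), h ≫ f = g → y g hg = F.map h.op (s f hf) := by
    intro Y g hg Z f hf h e
    exact key g _ _ _ _ _ _ hg.choose_spec.choose_spec.choose_spec.2 e
  have hycomp : y.Compatible := by
    rw [Presieve.compatible_iff_sieveCompatible]
    intro Y Z g k hg
    obtain ⟨Z', h, f, hf, e⟩ := hg
    rw [hy g ⟨Z', h, f, hf, e⟩ f hf h e, hy (k ≫ g) _ f hf (k ≫ h) (by simp [e])]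
    simp
  obtain ⟨t, ht⟩ := (h1 y hycomp).exists
  have htam : x.IsAmalgamation t := by
    intro Y g hg
    refine (h2 g hg).ext ?_
    intro W k hk
    obtain ⟨Z', h, f, hf, e⟩ := hk
    rw [← mca, ← op_comp, ht (k ≫ g) ⟨Z', h, f, hf, e⟩,
      hy (k ≫ g) _ f hf h e]
    have e1 := hs f hf h (by show S (h ≫ f); rw [e]; exact S.downward_closed hg k)
    simp only [Presieve.FamilyOfElements.pullback] at e1
    rw [e1]
    have hx' := (Presieve.compatible_iff_sieveCompatible x).1 hx g k hg
    rw [← hx']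
    congr 1
  refine ⟨t, htam, ?_⟩
  intro t' ht'
  refine (h1.isSeparatedFor).ext ?_
  intro Y g hg
  refine (h4 g hg).ext ?_
  intro W k hk
  rw [← mca, ← mca, ← op_comp,
    ht' (k ≫ g) hk, htam (k ≫ g) hk]

end general

variable (X : Scheme.{u})


/-- the Zariski topology on the small etale site -/
abbrev zar : GrothendieckTopology X.Etale := X.smallGrothendieckTopology (P := @IsOpenImmersion)

theorem mem_zar_iff {U : X.Etale} (R : Sieve U) :
    R ∈ zar X U ↔ ∀ x : U.left, ∃ (Y : X.Etale) (f : Y ⟶ U) (y : Y.left),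
      R f ∧ IsOpenImmersion f.left ∧ f.left y = x := by
  have hle : (@IsOpenImmersion : MorphismProperty Scheme.{u}) ≤ @Etale := by
    intro A B f hf
    exact (inferInstance : Etale f)
  rw [zar, Scheme.smallGrothendieckTopology_eq_toGrothendieck_smallPretopology X hle]
  exact Scheme.mem_toGrothendieck_smallPretopology U R

theorem mem_et_iff {U : X.Etale} (R : Sieve U) :
    R ∈ X.smallEtaleTopology U ↔ ∀ x : U.left, ∃ (Y : X.Etale) (f : Y ⟶ U) (y : Y.left),
      R f ∧ f.left y = x := by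
  rw [Scheme.smallEtaleTopology,
    Scheme.smallGrothendieckTopology_eq_toGrothendieck_smallPretopology X le_rfl]
  refine (Scheme.mem_toGrothendieck_smallPretopology (P := @Etale) (Q := @Etale) U R).trans ?_
  constructor
  · intro h x
    obtain ⟨Y, f, y, h1, _, h3⟩ := h x
    exact ⟨Y, f, y, h1, h3⟩
  · intro h x
    obtain ⟨Y, f, y, h1, h3⟩ := h x
    exact ⟨Y, f, y, h1, inferInstance, h3⟩

/-- the object of the small etale site given by an open of an object -/
noncomputable def opn (U : X.Etale) (A : U.left.Opens) : X.Etale := Scheme.Etale.mk (A.ι ≫ U.hom)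

/-- the inclusion -/
noncomputable def opnι (U : X.Etale) (A : U.left.Opens) : opn X U A ⟶ U :=
  MorphismProperty.Over.homMk A.ι rfl

/-- the presieve of arrows with affine source -/
def affPresieve (U : X.Etale) : Presieve U := fun Y _ => IsAffine Y.left

theorem generate_affPresieve_mem (U : X.Etale) : Sieve.generate (affPresieve X U) ∈ zar X U := by
  rw [mem_zar_iff]
  intro x
  obtain ⟨A, hA, hxA, -⟩ := U.left.isBasis_affineOpens.exists_subset_of_mem_open
    (Set.mem_univ x) isOpen_univ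
  obtain ⟨A, rfl⟩ : ∃ A' : U.left.Opens, (A' : Set U.left) = A := by
    obtain ⟨A', hA', rfl⟩ := hA
    exact ⟨A', rfl⟩
  have hA' : IsAffineOpen A := by
    obtain ⟨A', hA', h⟩ := hA
    have : A' = A := SetLike.coe_injective h
    exact this ▸ hA'
  refine ⟨opn X U A, opnι X U A, ⟨x, hxA⟩, ?_, ?_, rfl⟩
  · refine Sieve.le_generate (affPresieve X U) _ _ ?_
    show IsAffine (A : Scheme)
    exact hA'
  · show IsOpenImmersion A.ι
    infer_instance

theorem exists_affine_refinement (U : X.Etale) [IsAffine U.left] (S : Sieve U)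
    (hS : S ∈ X.smallEtaleTopology U) :
    ∃ (V : X.Etale) (f : V ⟶ U), IsAffine V.left ∧ Surjective f.left ∧
      S.pullback f ∈ zar X V := by
  rw [mem_et_iff] at hS
  choose Y g y hSg hy using hS
  have hA : ∀ x : U.left, ∃ A : (Y x).left.Opens, IsAffineOpen A ∧ y x ∈ A := by
    intro x
    obtain ⟨A, hA, hxA, -⟩ := (Y x).left.isBasis_affineOpens.exists_subset_of_mem_open
      (Set.mem_univ (y x)) isOpen_univ
    obtain ⟨A', hA', rfl⟩ := hA
    exact ⟨A', hA', hxA⟩
  choose A hAaff hyA using hA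
  let W : U.left → Set U.left := fun x => Set.range ((A x).ι ≫ (g x).left)
  have hWopen : ∀ x, IsOpen (W x) := fun x => ((A x).ι ≫ (g x).left).isOpenMap.isOpen_range
  have hxW : ∀ x, x ∈ W x := fun x => ⟨⟨y x, hyA x⟩, by simp [hy]⟩
  obtain ⟨t, ht⟩ := isCompact_univ.elim_finite_subcover W hWopen
    (fun x _ => Set.mem_iUnion.2 ⟨x, hxW x⟩)
  let Vs : t → Scheme.{u} := fun x => (A x.1).toScheme
  have hVs : ∀ x, IsAffine (Vs x) := fun x => hAaff x.1
  let q : (∐ Vs) ⟶ X := Sigma.desc (fun x => (A x.1).ι ≫ (Y x.1).hom)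
  have hq : Etale q := IsZariskiLocalAtSource.sigmaDesc (fun x => inferInstance)
  let fL : (∐ Vs) ⟶ U.left := Sigma.desc (fun x => (A x.1).ι ≫ (g x.1).left)
  have hfq : fL ≫ U.hom = q := by
    refine Sigma.hom_ext _ _ (fun x => ?_)
    simp [fL, q]
  let V : X.Etale := Scheme.Etale.mk q
  let f : V ⟶ U := MorphismProperty.Over.homMk fL hfq
  refine ⟨V, f, ?_, ?_, ?_⟩
  · show IsAffine (∐ Vs)
    infer_instance
  · show Surjective fL
    refine Surjective.sigmaDesc_of_union_range_eq_univ ?_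
    apply Set.eq_univ_of_univ_subset
    intro u hu
    have := ht hu
    simp only [Set.mem_iUnion] at this
    obtain ⟨x, hx, hux⟩ := this
    exact Set.mem_iUnion.2 ⟨⟨x, hx⟩, hux⟩
  · rw [mem_zar_iff]
    intro v
    obtain ⟨⟨x, a⟩, rfl⟩ := (sigmaMk Vs).surjective v
    rw [sigmaMk_mk]
    let ι : opn X (Y x.1) (A x.1) ⟶ V :=
      MorphismProperty.Over.homMk (Sigma.ι Vs x) (by simp [V, q, opn])
    refine ⟨opn X (Y x.1) (A x.1), ι, a, ?_, ?_, rfl⟩
    · show S (ι ≫ f)
      have : ι ≫ f = opnι X (Y x.1) (A x.1) ≫ g x.1 := by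
        apply MorphismProperty.Over.Hom.ext
        rw [MorphismProperty.Comma.comp_left, MorphismProperty.Comma.comp_left]
        show Sigma.ι Vs x ≫ fL = (A x.1).ι ≫ (g x.1).left
        simp [fL]
      rw [this]
      exact S.downward_closed (hSg x.1) _
    · show IsOpenImmersion (Sigma.ι Vs x)
      infer_instance


theorem zar_le_et : zar X ≤ X.smallEtaleTopology := by
  intro U R hR
  rw [mem_zar_iff] at hR
  rw [mem_et_iff]
  intro x
  obtain ⟨Y, f, y, h1, _, h3⟩ := hR x
  exact ⟨Y, f, y, h1, h3⟩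

theorem generate_singleton_mem {U V : X.Etale} (f : V ⟶ U) [Surjective f.left] :
    Sieve.generate (Presieve.singleton f) ∈ X.smallEtaleTopology U := by
  rw [mem_et_iff]
  intro x
  obtain ⟨v, hv⟩ := f.left.surjective x
  exact ⟨V, f, v, Sieve.le_generate (Presieve.singleton f) _ _ (Presieve.singleton.mk), hv⟩

variable {X}

section main
variable (F : X.Etaleᵒᵖ ⥤ Type w)
  (hz : Presieve.IsSheaf (zar X) F)
  (hf : ∀ (U V : X.Etale) [IsAffine U.left] [IsAffine V.left] (f : V ⟶ U) [Surjective f.left],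
          Presieve.IsSheafFor F (Presieve.singleton f))
include hz hf

theorem isSeparatedFor_of_mem {U : X.Etale} (S : Sieve U) (hS : S ∈ X.smallEtaleTopology U) :
    Presieve.IsSeparatedFor F S.arrows := by
  intro x t₁ t₂ h₁ h₂
  let R : Sieve U :=
    { arrows := fun Y g => F.map g.op t₁ = F.map g.op t₂
      downward_closed := by
        intro Y Z g hg k
        show F.map (k ≫ g).op t₁ = F.map (k ≫ g).op t₂
        rw [op_comp, mca, mca, hg] }
  have hR : R ∈ zar X U := by
    refine (zar X).superset_covering ?_ (generate_affPresieve_mem X U)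
    rintro Y g ⟨W, h, f₀, hW, rfl⟩
    refine R.downward_closed ?_ h
    show F.map f₀.op t₁ = F.map f₀.op t₂
    have hW' : IsAffine W.left := hW
    obtain ⟨V, f, hVaff, hfsurj, hcov⟩ := exists_affine_refinement X W (S.pullback f₀)
      ((X.smallEtaleTopology).pullback_stable f₀ hS)
    refine (hf W V f).isSeparatedFor.ext ?_
    rintro _ _ ⟨⟩
    refine (hz _ hcov).isSeparatedFor.ext ?_
    intro Z k hk
    have hk' : S ((k ≫ f) ≫ f₀) := by simpa using hk
    rw [← mca, ← mca, ← mca, ← mca, ← op_comp, ← op_comp, h₁ _ hk', h₂ _ hk']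
  exact (hz R hR).isSeparatedFor.ext (fun Y g hg => hg)

theorem isSheafFor_of_mem_of_isAffine {U : X.Etale} [IsAffine U.left] (S : Sieve U)
    (hS : S ∈ X.smallEtaleTopology U) : Presieve.IsSheafFor F S.arrows := by
  obtain ⟨V, f, hVaff, hfsurj, hcov⟩ := exists_affine_refinement X U S hS
  refine Presieve.isSheafFor_trans F (Sieve.generate (Presieve.singleton f)) S ?_ ?_ ?_
  · exact (Presieve.isSheafFor_iff_generate _).1 (hf U V f)
  · intro Y g hg
    exact isSeparatedFor_of_mem F hz hf _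
      ((X.smallEtaleTopology).pullback_stable g (generate_singleton_mem X f))
  · rintro Y g ⟨W, h, _, ⟨⟩, rfl⟩
    rw [Sieve.pullback_comp]
    exact hz _ ((zar X).pullback_stable h hcov)

theorem isSheafFor_of_mem {U : X.Etale} (S : Sieve U)
    (hS : S ∈ X.smallEtaleTopology U) : Presieve.IsSheafFor F S.arrows := by
  refine isSheafFor_of_local F (affPresieve X U) S ?_ ?_ ?_ ?_
  · exact hz _ (generate_affPresieve_mem X U)
  · intro Y g hg
    exact (hz _ ((zar X).pullback_stable g (generate_affPresieve_mem X U))).isSeparatedFor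
  · intro Y f hY
    have hY' : IsAffine Y.left := hY
    exact isSheafFor_of_mem_of_isAffine F hz hf _ ((X.smallEtaleTopology).pullback_stable f hS)
  · intro Y g hg
    exact isSeparatedFor_of_mem F hz hf _ ((X.smallEtaleTopology).pullback_stable g hS)

end main

theorem main (X : Scheme.{u}) (F : X.Etaleᵒᵖ ⥤ Type w) :
    Presieve.IsSheaf X.smallEtaleTopology F ↔
      Presieve.IsSheaf (X.smallGrothendieckTopology (P := @IsOpenImmersion)) F ∧
        ∀ (U V : X.Etale) [IsAffine U.left] [IsAffine V.left] (f : V ⟶ U) [Surjective f.left],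
          Presieve.IsSheafFor F (Presieve.singleton f) := by
  constructor
  · intro h
    refine ⟨Presieve.isSheaf_of_le F (zar_le_et X) h, ?_⟩
    intro U V _ _ f _
    exact (Presieve.isSheafFor_iff_generate _).2 (h _ (generate_singleton_mem X f))
  · rintro ⟨hz, hf⟩ U S hS
    exact isSheafFor_of_mem F hz hf S hS

end Groth.Agent.Lib.Helper45.SmallEtSheaf
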