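import Groth.Prelude.Def_EtOpen
import Groth.Prelude.Def_EtShriek2
import Groth.Agent.Lib.Helper45.SmallEtSheaf

/-!
# Localization of the small étale site at a Zariski open: site-level facts (helper45)

For an open `U` of a scheme `X`: `L U = EtShriek.compEtale U.ι : U_et ⥤ X_et` is cocontinuous,
objects of `X_et` mapping to `ofOpen U` are in the essential image of `L U`, and having a map to
`ofOpen U` is local for the étale topology.
-/

set_option autoImplicit false
set_option linter.style.haveILetI false
set_option linter.unusedSectionVars false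
set_option backward.isDefEq.respectTransparency false
universe u
open CategoryTheory CategoryTheory.Limits AlgebraicGeometry Opposite

namespace Groth.Agent.Lib.Helper45.EtOpenLoc

open Groth.Agent.Lib.Helper45.SmallEtSheaf

variable {X : Scheme.{u}} (U : X.Opens)

/-- the functor `W ↦ (W → U → X)`. -/
noncomputable abbrev L : (U : Scheme.{u}).Etale ⥤ X.Etale := EtShriek.compEtale U.ι

/-- the canonical map `L W ⟶ ofOpen U`. -/
noncomputable def canon (W : (U : Scheme.{u}).Etale) : (L U).obj W ⟶ EtDesc.ofOpen U :=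
  MorphismProperty.Over.homMk W.hom rfl

theorem hom_ext_ofOpen {V : X.Etale} (g g' : V ⟶ EtDesc.ofOpen U) : g = g' := by
  apply MorphismProperty.Over.Hom.ext
  have h1 : g.left ≫ U.ι = V.hom := MorphismProperty.Over.w g
  have h2 : g'.left ≫ U.ι = V.hom := MorphismProperty.Over.w g'
  exact (cancel_mono U.ι).1 (h1.trans h2.symm)

/-- the object of `U_et` attached to a map `V ⟶ ofOpen U`. -/
noncomputable def liftObj {V : X.Etale} (g : V ⟶ EtDesc.ofOpen U) : (U : Scheme.{u}).Etale :=
  MorphismProperty.Over.mk ⊤ g.left (inferInstance : Etale g.left)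

noncomputable def liftIso {V : X.Etale} (g : V ⟶ EtDesc.ofOpen U) :
    (L U).obj (liftObj U g) ≅ V :=
  MorphismProperty.Over.isoMk (Iso.refl _) (by
    have h1 : g.left ≫ U.ι = V.hom := MorphismProperty.Over.w g
    change 𝟙 _ ≫ V.hom = g.left ≫ U.ι
    rw [Category.id_comp, h1])

theorem hom_of_cover {V : X.Etale} (S : Sieve V) (hS : S ∈ X.smallEtaleTopology V)
    (h : ∀ ⦃W : X.Etale⦄ (f : W ⟶ V), S f → Nonempty (W ⟶ EtDesc.ofOpen U)) :
    Nonempty (V ⟶ EtDesc.ofOpen U) := by
  have hrange : Set.range V.hom ⊆ Set.range U.ι := by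
    rintro _ ⟨x, rfl⟩
    obtain ⟨W, f, w, hf, rfl⟩ := (mem_et_iff X S).1 hS x
    obtain ⟨k⟩ := h f hf
    have h1 : k.left ≫ U.ι = W.hom := MorphismProperty.Over.w k
    have h2 : f.left ≫ V.hom = W.hom := MorphismProperty.Over.w f
    refine ⟨k.left w, ?_⟩
    have h3 : k.left ≫ U.ι = f.left ≫ V.hom := h1.trans h2.symm
    have h4 := congrArg (fun m : W.left ⟶ X => m w) h3
    simp only [Scheme.Hom.comp_apply] at h4
    exact h4
  exact ⟨MorphismProperty.Over.homMk (IsOpenImmersion.lift U.ι V.hom hrange)
    (IsOpenImmersion.lift_fac U.ι V.hom hrange)⟩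

instance isCocontinuous_L :
    (L U).IsCocontinuous (U : Scheme.{u}).smallEtaleTopology X.smallEtaleTopology where
  cover_lift {V' S} hS := by
    rw [mem_et_iff] at hS ⊢
    intro x
    obtain ⟨W, f, w, hf, hw⟩ := hS x
    have hf' : f.left ≫ V'.hom ≫ U.ι = W.hom := MorphismProperty.Over.w f
    let W' : (U : Scheme.{u}).Etale :=
      MorphismProperty.Over.mk ⊤ (f.left ≫ V'.hom) (by
        have : Etale ((f.left ≫ V'.hom) ≫ U.ι) := by
          rw [Category.assoc, hf']; exact W.prop
        exact MorphismProperty.of_postcomp (W := @Etale) (W' := @Etale) (f.left ≫ V'.hom) U.ι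
          inferInstance this)
    let f' : W' ⟶ V' := MorphismProperty.Over.homMk f.left rfl
    let e : (L U).obj W' ≅ W := MorphismProperty.Over.isoMk (Iso.refl _) (by
      change 𝟙 _ ≫ W.hom = (f.left ≫ V'.hom) ≫ U.ι
      rw [Category.id_comp, Category.assoc, hf'])
    refine ⟨W', f', w, ?_, hw⟩
    have h3 : (L U).map f' = e.hom ≫ f := by
      apply MorphismProperty.Over.Hom.ext
      change f.left = 𝟙 _ ≫ f.left
      rw [Category.id_comp]
    change S ((L U).map f')
    rw [h3]
    exact S.downward_closed hf _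

end Groth.Agent.Lib.Helper45.EtOpenLoc
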