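import Mathlib
set_option autoImplicit false
set_option backward.isDefEq.respectTransparency false
open CategoryTheory CategoryTheory.Limits Opposite
universe w w'

namespace Groth.Agent.Lib.Helper45.SheafPullbackFF

variable {C D : Type*} [Category C] [Category D] (G : C ⥤ D) [G.Full] [G.Faithful]
  (A : Type w) [Category.{w'} A]
  (J : GrothendieckTopology C) (K : GrothendieckTopology D)
  [G.IsContinuous J K] [G.IsCocontinuous J K]
  [∀ (F : Cᵒᵖ ⥤ A), G.op.HasPointwiseLeftKanExtension F]
  [∀ (F : Cᵒᵖ ⥤ A), G.op.HasPointwiseRightKanExtension F]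
  [HasWeakSheafify J A] [HasWeakSheafify K A]

/-- the composite pullback-then-restrict is the identity -/
noncomputable def compIso :
    G.sheafPullback A J K ⋙ G.sheafPushforwardContinuous A J K ≅ 𝟭 (Sheaf J A) :=
  Functor.isoWhiskerRight (Functor.sheafPullbackConstruction.sheafPullbackIso G A J K) _ ≪≫
    Functor.associator _ _ _ ≪≫
    Functor.isoWhiskerLeft _ (Functor.associator _ _ _) ≪≫
    Functor.isoWhiskerLeft _ (Functor.isoWhiskerLeft _
      (G.pushforwardContinuousSheafificationCompatibility A J K).symm) ≪≫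
    Functor.isoWhiskerLeft _ (Functor.associator _ _ _).symm ≪≫
    Functor.isoWhiskerLeft _ (Functor.isoWhiskerRight (asIso (G.op.lanAdjunction A).unit).symm _) ≪≫
    Functor.isoWhiskerLeft _ (Functor.leftUnitor _) ≪≫
    (sheafificationNatIso J A).symm

theorem isIso_unit : IsIso (G.sheafAdjunctionContinuous A J K).unit :=
  (G.sheafAdjunctionContinuous A J K).isIso_unit_of_iso (compIso G A J K)

end Groth.Agent.Lib.Helper45.SheafPullbackFF
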