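import Groth.Agent.Lib.Helper45.EtOpenLoc1
import Groth.Agent.Lib.Helper45.SheafPullbackFF
import Mathlib.CategoryTheory.Sites.LocallyBijective

/-!
# Localization of the small étale topos at a Zariski open (helper45)

For `U` open in `X`: `Sh(X_et)/h_U ≃ Sh(U_et)` via `(F → h_U) ↦ j^* F`.
-/

set_option autoImplicit false
set_option linter.style.haveILetI false
set_option linter.unusedSectionVars false
set_option backward.isDefEq.respectTransparency false
universe u
open CategoryTheory CategoryTheory.Limits AlgebraicGeometry Opposite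

namespace Groth.Agent.Lib.Helper45.EtOpenLoc

variable {X : Scheme.{u}} (U : X.Opens)

/-- the ulifted representable presheaf of `ofOpen U`. -/
noncomputable abbrev P : X.Etaleᵒᵖ ⥤ Type (u + 1) :=
  yoneda.obj (EtDesc.ofOpen U) ⋙ uliftFunctor.{u + 1, u}

/-- the sheaf `U~`. -/
noncomputable abbrev hU : EtDesc.Sh X := EtDesc.repSh (EtDesc.ofOpen U)

/-- the sheafification unit. -/
noncomputable abbrev η : P U ⟶ (hU U).obj := CategoryTheory.toSheafify X.smallEtaleTopology (P U)

theorem subsingleton_P (V : X.Etale) : Subsingleton ((P U).obj (op V)) :=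
  ⟨fun _ _ => ULift.ext _ _ (hom_ext_ofOpen U _ _)⟩

theorem subsingleton_hU (V : X.Etale) : Subsingleton ((hU U).obj.obj (op V)) := by
  constructor
  intro s t
  have hsh : Presieve.IsSheaf X.smallEtaleTopology (hU U).obj :=
    (isSheaf_iff_isSheaf_of_type _ _).1 (hU U).property
  let S := Presheaf.imageSieve (η U) s ⊓ Presheaf.imageSieve (η U) t
  have hS : S ∈ X.smallEtaleTopology V :=
    X.smallEtaleTopology.intersection_covering
      (Presheaf.imageSieve_mem X.smallEtaleTopology (η U) s)
      (Presheaf.imageSieve_mem X.smallEtaleTopology (η U) t)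
  refine (hsh S hS).isSeparatedFor.ext ?_
  intro W f hf
  obtain ⟨⟨p, hp⟩, ⟨q, hq⟩⟩ := hf
  have hpq := (subsingleton_P U W).elim p q
  exact hp.symm.trans ((congrArg _ hpq).trans hq)

theorem hom_of_section {V : X.Etale} (t : (hU U).obj.obj (op V)) :
    Nonempty (V ⟶ EtDesc.ofOpen U) := by
  refine hom_of_cover U (Presheaf.imageSieve (η U) t)
    (Presheaf.imageSieve_mem X.smallEtaleTopology (η U) t) ?_
  rintro W f ⟨p, _⟩
  exact ⟨p.down⟩

/-- the section of `U~` attached to a map to `U`. -/
noncomputable def sectionOfHom {V : X.Etale} (g : V ⟶ EtDesc.ofOpen U) :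
    (hU U).obj.obj (op V) :=
  (η U).app (op V) ⟨g⟩

theorem hom_ext_hU {F : EtDesc.Sh X} (a b : F ⟶ hU U) : a = b := by
  ext V s
  exact (subsingleton_hU U V.unop).elim _ _

/-- restriction to `U`. -/
noncomputable abbrev restr : EtDesc.Sh X ⥤ EtDesc.Sh (U : Scheme.{u}) :=
  (L U).sheafPushforwardContinuous (Type (u + 1)) (U : Scheme.{u}).smallEtaleTopology
    X.smallEtaleTopology

/-- extension by the empty set. -/
noncomputable abbrev shriek : EtDesc.Sh (U : Scheme.{u}) ⥤ EtDesc.Sh X :=
  (L U).sheafPullback (Type (u + 1)) (U : Scheme.{u}).smallEtaleTopology X.smallEtaleTopology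

/-- `j_! ⊣ j^*`. -/
noncomputable abbrev adj1 : shriek U ⊣ restr U :=
  (L U).sheafAdjunctionContinuous (Type (u + 1)) (U : Scheme.{u}).smallEtaleTopology
    X.smallEtaleTopology

instance isIso_unit : IsIso (adj1 U).unit :=
  SheafPullbackFF.isIso_unit (L U) (Type (u + 1)) (U : Scheme.{u}).smallEtaleTopology
    X.smallEtaleTopology

end Groth.Agent.Lib.Helper45.EtOpenLoc
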