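import Groth.Agent.Lib.Helper45.EtOpenLoc2
import Mathlib.CategoryTheory.Adjunction.Unique
import Mathlib.CategoryTheory.MorphismProperty.OverAdjunction

/-!
# Localization of the small étale topos at a Zariski open, part 2 (helper45)
-/

set_option autoImplicit false
set_option linter.style.haveILetI false
set_option linter.unusedSectionVars false
set_option backward.isDefEq.respectTransparency false
universe u
open CategoryTheory CategoryTheory.Limits AlgebraicGeometry Opposite

namespace Groth.Agent.Lib.Helper45.EtOpenLoc

variable {X : Scheme.{u}} (U : X.Opens)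

theorem isIso_of_isIso_restr {F' F : EtDesc.Sh X} (φ : F' ⟶ F) (a : F ⟶ hU U)
    [IsIso ((restr U).map φ)] : IsIso φ := by
  have key : ∀ V : X.Etaleᵒᵖ, IsIso (φ.hom.app V) := by
    intro V
    by_cases h : Nonempty (V.unop ⟶ EtDesc.ofOpen U)
    · obtain ⟨g⟩ := h
      let e := liftIso U g
      have h1 : IsIso (φ.hom.app (op ((L U).obj (liftObj U g)))) :=
        (sheafToPresheaf _ _ ⋙ (evaluation _ _).obj (op (liftObj U g))).map_isIso
          ((restr U).map φ)
      have nat := φ.hom.naturality e.inv.op
      have h2 : φ.hom.app V = F'.obj.map e.hom.op ≫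
          φ.hom.app (op ((L U).obj (liftObj U g))) ≫ F.obj.map e.inv.op := by
        rw [← nat, ← Category.assoc, ← Functor.map_comp, ← op_comp, e.inv_hom_id]
        simp
      rw [h2]
      infer_instance
    · rw [isIso_iff_bijective]
      have hF : IsEmpty (F.obj.obj V) := ⟨fun s => h (hom_of_section U (a.hom.app V s))⟩
      have hF' : IsEmpty (F'.obj.obj V) := ⟨fun s => hF.false (φ.hom.app V s)⟩
      exact ⟨fun x => (hF'.false x).elim, fun y => (hF.false y).elim⟩
  have h3 : IsIso ((sheafToPresheaf _ _).map φ) := by
    change IsIso φ.hom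
    exact NatIso.isIso_of_isIso_app _
  exact isIso_of_reflects_iso φ (sheafToPresheaf _ _)

theorem isIso_counit {F : EtDesc.Sh X} (a : F ⟶ hU U) : IsIso ((adj1 U).counit.app F) := by
  have h1 : (adj1 U).unit.app ((restr U).obj F) ≫ (restr U).map ((adj1 U).counit.app F) = 𝟙 _ :=
    (adj1 U).right_triangle_components F
  have h2 : IsIso ((adj1 U).unit.app ((restr U).obj F)) := inferInstance
  have h3 : IsIso ((adj1 U).unit.app ((restr U).obj F) ≫
      (restr U).map ((adj1 U).counit.app F)) := by
    rw [h1]; infer_instance
  have : IsIso ((restr U).map ((adj1 U).counit.app F)) :=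
    IsIso.of_isIso_comp_left ((adj1 U).unit.app ((restr U).obj F)) _
  exact isIso_of_isIso_restr U _ a

/-- the comparison functor with restriction. -/
noncomputable abbrev Φ' : Over (hU U) ⥤ EtDesc.Sh (U : Scheme.{u}) :=
  Over.forget (hU U) ⋙ restr U

instance faithful_Φ' : (Φ' U).Faithful where
  map_injective {A B} f g h := by
    have := isIso_counit U A.hom
    apply Over.OverMorphism.ext
    have e1 : (shriek U).map ((restr U).map f.left) ≫ (adj1 U).counit.app B.left =
        (adj1 U).counit.app A.left ≫ f.left := (adj1 U).counit.naturality f.left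
    have e2 : (shriek U).map ((restr U).map g.left) ≫ (adj1 U).counit.app B.left =
        (adj1 U).counit.app A.left ≫ g.left := (adj1 U).counit.naturality g.left
    have h' : (restr U).map f.left = (restr U).map g.left := h
    rw [← cancel_epi ((adj1 U).counit.app A.left), ← e1, ← e2, h']

instance full_Φ' : (Φ' U).Full where
  map_surjective {A B} γ := by
    have := isIso_counit U A.hom
    let φ : A.left ⟶ B.left :=
      inv ((adj1 U).counit.app A.left) ≫ (shriek U).map γ ≫ (adj1 U).counit.app B.left
    refine ⟨Over.homMk φ (hom_ext_hU U _ _), ?_⟩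
    change (restr U).map φ = γ
    have t1 : (adj1 U).unit.app ((restr U).obj A.left) ≫
        (restr U).map ((adj1 U).counit.app A.left) = 𝟙 _ :=
      (adj1 U).right_triangle_components A.left
    have t2 : (adj1 U).unit.app ((restr U).obj B.left) ≫
        (restr U).map ((adj1 U).counit.app B.left) = 𝟙 _ :=
      (adj1 U).right_triangle_components B.left
    have h1 : (restr U).map (inv ((adj1 U).counit.app A.left)) =
        (adj1 U).unit.app ((restr U).obj A.left) := by
      rw [Functor.map_inv]
      exact IsIso.inv_eq_of_inv_hom_id t1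
    have nat := (adj1 U).unit.naturality γ
    have nat' : (adj1 U).unit.app ((restr U).obj A.left) ≫ (restr U).map ((shriek U).map γ) =
        γ ≫ (adj1 U).unit.app ((restr U).obj B.left) := nat.symm
    rw [Functor.map_comp, Functor.map_comp, h1, ← Category.assoc, nat', Category.assoc, t2]
    exact Category.comp_id γ

/-- the canonical map `restr (hU)`-valued. -/
noncomputable def toHU (G : EtDesc.Sh (U : Scheme.{u})) : (shriek U).obj G ⟶ hU U :=
  ((adj1 U).homEquiv G (hU U)).symm (ObjectProperty.homMk
    { app := fun W => TypeCat.ofHom (fun _ => sectionOfHom U (canon U W.unop))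
      naturality := by
        intro W W' g
        ext s
        exact (subsingleton_hU U ((L U).obj W'.unop)).elim _ _ })

instance essSurj_Φ' : (Φ' U).EssSurj where
  mem_essImage G := ⟨Over.mk (toHU U G), ⟨(asIso ((adj1 U).unit.app G)).symm⟩⟩

instance isEquivalence_Φ' : (Φ' U).IsEquivalence where

/-- the site-level adjunction. -/
noncomputable def adjSite : L U ⊣ EtCoh.bc U.ι :=
  MorphismProperty.Over.mapPullbackAdj EtCoh.etaleMP.{u} ⊤ U.ι inferInstance trivial

/-- `restr ⊣ push`. -/
noncomputable def restrPushAdj : restr U ⊣ EtDesc.pushSh U.ι :=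
  (adjSite U).sheafPushforwardContinuous (E := Type (u + 1)) (U : Scheme.{u}).smallEtaleTopology
    X.smallEtaleTopology

/-- restriction is the inverse image. -/
noncomputable def restrIso : restr U ≅ EtDesc.pullSh U.ι :=
  (restrPushAdj U).leftAdjointUniq (EtDesc.adjSh U.ι)

theorem isEquivalence :
    (Over.forget (hU U) ⋙ EtDesc.pullSh U.ι).IsEquivalence :=
  Functor.isEquivalence_of_iso (Functor.isoWhiskerLeft (Over.forget (hU U)) (restrIso U))

end Groth.Agent.Lib.Helper45.EtOpenLoc
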