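import Mathlib

/-!
# Points of the small étale site, part 1: the scheme point of a neighbourhood

For a point `p` of the small étale site of `S` (a fibre functor) and an element
`x : p.fiber.obj U`, the opens `V ⊆ U` from which `x` comes form a completely prime
filter, hence are the open neighbourhoods of a unique point `pt p x : U.left`.
-/

set_option autoImplicit false
set_option linter.style.haveILetI false
set_option linter.unusedSectionVars false

open CategoryTheory AlgebraicGeometry Opposite Limits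
universe u
namespace Groth.Agent.Lib.Helper45.EtPt
variable {S : Scheme.{u}} (p : GrothendieckTopology.Point.{u} S.smallEtaleTopology)

lemma comp_left {A B C : S.Etale} (f : A ⟶ B) (g : B ⟶ C) :
    (f ≫ g).left = f.left ≫ g.left := rfl

lemma id_left (A : S.Etale) : (𝟙 A : A ⟶ A).left = 𝟙 A.left := rfl

lemma exists_common {U₁ U₂ : S.Etale} (x₁ : p.fiber.obj U₁) (x₂ : p.fiber.obj U₂) :
    ∃ (W : S.Etale) (w : p.fiber.obj W) (f₁ : W ⟶ U₁) (f₂ : W ⟶ U₂),
      p.fiber.map f₁ w = x₁ ∧ p.fiber.map f₂ w = x₂ := by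
  let a : p.fiber.Elements := ⟨U₁, x₁⟩
  let b : p.fiber.Elements := ⟨U₂, x₂⟩
  exact ⟨(IsCofiltered.min a b).1, (IsCofiltered.min a b).2, (IsCofiltered.minToLeft a b).1,
    (IsCofiltered.minToRight a b).1, (IsCofiltered.minToLeft a b).2, (IsCofiltered.minToRight a b).2⟩

lemma exists_equalize {U U' : S.Etale} (x : p.fiber.obj U) (f g : U ⟶ U')
    (h : p.fiber.map f x = p.fiber.map g x) :
    ∃ (W : S.Etale) (w : p.fiber.obj W) (e : W ⟶ U), p.fiber.map e w = x ∧ e ≫ f = e ≫ g := by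
  let a : p.fiber.Elements := ⟨U, x⟩
  let b : p.fiber.Elements := ⟨U', p.fiber.map f x⟩
  let f' : a ⟶ b := ⟨f, rfl⟩
  let g' : a ⟶ b := ⟨g, h.symm⟩
  refine ⟨(IsCofiltered.eq f' g').1, (IsCofiltered.eq f' g').2, (IsCofiltered.eqHom f' g').1,
    (IsCofiltered.eqHom f' g').2, ?_⟩
  exact congrArg Subtype.val (IsCofiltered.eq_condition f' g')

/-- An open of an étale `S`-scheme, as an object of the small étale site. -/
noncomputable def opn (U : S.Etale) (V : U.left.Opens) : S.Etale := Scheme.Etale.mk (V.ι ≫ U.hom)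

/-- The inclusion of an open. -/
noncomputable def opnι (U : S.Etale) (V : U.left.Opens) : opn U V ⟶ U :=
  MorphismProperty.Over.homMk V.ι rfl trivial

@[simp] lemma opnι_left (U : S.Etale) (V : U.left.Opens) : (opnι U V).left = V.ι := rfl

lemma exists_factor {W U : S.Etale} (f : W ⟶ U) (V : U.left.Opens)
    (h : Set.range f.left ⊆ (V : Set U.left)) : ∃ f' : W ⟶ opn U V, f' ≫ opnι U V = f := by
  have h' : Set.range f.left ⊆ Set.range V.ι := by simpa using h
  let l : W.left ⟶ (V : Scheme) := IsOpenImmersion.lift V.ι f.left h'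
  have hl : l ≫ V.ι = f.left := IsOpenImmersion.lift_fac V.ι f.left h'
  have hl' : l ≫ (opn U V).hom = W.hom := by
    show l ≫ V.ι ≫ U.hom = W.hom
    rw [← Category.assoc, hl]
    exact MorphismProperty.Over.w f
  refine ⟨MorphismProperty.Over.homMk (A := W) (B := opn U V) l hl' trivial, ?_⟩
  apply MorphismProperty.Over.Hom.ext
  exact hl

/-- `x` comes from the open `V`. -/
def InOpen {U : S.Etale} (x : p.fiber.obj U) (V : U.left.Opens) : Prop :=
  ∃ a : p.fiber.obj (opn U V), p.fiber.map (opnι U V) a = x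

variable {p}

lemma inOpen_of_factor {W U : S.Etale} (f : W ⟶ U) (w : p.fiber.obj W) (V : U.left.Opens)
    (h : Set.range f.left ⊆ (V : Set U.left)) : InOpen p (p.fiber.map f w) V := by
  obtain ⟨f', hf'⟩ := exists_factor f V h
  refine ⟨p.fiber.map f' w, ?_⟩
  rw [← hf']
  simp

lemma inOpen_mono {U : S.Etale} {x : p.fiber.obj U} {V V' : U.left.Opens} (hVV' : V ≤ V')
    (h : InOpen p x V) : InOpen p x V' := by
  obtain ⟨a, rfl⟩ := h
  apply inOpen_of_factor
  rw [opnι_left]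
  rintro _ ⟨z, rfl⟩
  exact hVV' z.2

lemma inOpen_top {U : S.Etale} (x : p.fiber.obj U) : InOpen p x ⊤ := by
  have : x = p.fiber.map (𝟙 U) x := by simp
  rw [this]
  apply inOpen_of_factor
  simp

lemma inOpen_inf {U : S.Etale} {x : p.fiber.obj U} {V₁ V₂ : U.left.Opens}
    (h₁ : InOpen p x V₁) (h₂ : InOpen p x V₂) : InOpen p x (V₁ ⊓ V₂) := by
  obtain ⟨a₁, ha₁⟩ := h₁
  obtain ⟨a₂, ha₂⟩ := h₂
  obtain ⟨W, w, f₁, f₂, hf₁, hf₂⟩ := exists_common p a₁ a₂
  have h : p.fiber.map (f₁ ≫ opnι U V₁) w = p.fiber.map (f₂ ≫ opnι U V₂) w := by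
    simp [hf₁, hf₂, ha₁, ha₂]
  obtain ⟨W', w', e, he, hee⟩ := exists_equalize p w _ _ h
  have hx : x = p.fiber.map (e ≫ f₁ ≫ opnι U V₁) w' := by
    simp [he, hf₁, ha₁]
  rw [hx]
  apply inOpen_of_factor
  rintro _ ⟨z, rfl⟩
  refine ⟨?_, ?_⟩
  · have : (e ≫ f₁ ≫ opnι U V₁).left z = V₁.ι ((e ≫ f₁).left z) := by
      rw [← Category.assoc, comp_left, opnι_left]
      rfl
    rw [this]
    exact ((e ≫ f₁).left z).2
  · rw [hee]
    have : (e ≫ f₂ ≫ opnι U V₂).left z = V₂.ι ((e ≫ f₂).left z) := by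
      rw [← Category.assoc, comp_left, opnι_left]
      rfl
    rw [this]
    exact ((e ≫ f₂).left z).2

lemma inOpen_iSup {U : S.Etale} {x : p.fiber.obj U} {ι : Type*} (V : ι → U.left.Opens)
    (h : InOpen p x (⨆ i, V i)) : ∃ i, InOpen p x (V i) := by
  obtain ⟨a, rfl⟩ := h
  have hle : ∀ i, Set.range (opnι U (V i)).left ⊆ ((⨆ i, V i : U.left.Opens) : Set U.left) := by
    intro i
    rw [opnι_left]
    rintro _ ⟨z, rfl⟩
    exact (le_iSup V i) z.2
  choose g hg using fun i => exists_factor (opnι U (V i)) (⨆ i, V i) (hle i)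
  have hcov : Sieve.ofArrows _ g ∈ S.smallEtaleTopology (opn U (⨆ i, V i)) := by
    rw [Scheme.ofArrows_mem_smallEtaleTopology_iff]
    ext z
    simp only [Set.mem_iUnion, Set.mem_range, Set.mem_univ, iff_true]
    have hz : (⨆ i, V i : U.left.Opens).ι z ∈ ((⨆ i, V i : U.left.Opens) : Set U.left) := z.2
    rw [TopologicalSpace.Opens.coe_iSup, Set.mem_iUnion] at hz
    obtain ⟨i, hi⟩ := hz
    refine ⟨i, ⟨_, hi⟩, ?_⟩
    apply (⨆ i, V i : U.left.Opens).ι.isOpenEmbedding.injective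
    have := congrArg (fun f => f.left) (hg i)
    simp only [comp_left, opnι_left] at this
    have h2 := congrArg (fun f : (V i : Scheme) ⟶ U.left => f ⟨_, hi⟩) this
    exact h2
  obtain ⟨Y, f, hf, y, hy⟩ := p.jointly_surjective _ hcov a
  rw [Sieve.mem_ofArrows_iff] at hf
  obtain ⟨i, b, rfl⟩ := hf
  refine ⟨i, ?_⟩
  rw [← hy]
  have : p.fiber.map (opnι U (⨆ i, V i)) (p.fiber.map (b ≫ g i) y) =
      p.fiber.map (b ≫ opnι U (V i)) y := by
    rw [← hg i]
    simp
  rw [this]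
  apply inOpen_of_factor
  rintro _ ⟨z, rfl⟩
  rw [comp_left, opnι_left]
  exact (b.left z).2

end Groth.Agent.Lib.Helper45.EtPt
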