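import Groth.Agent.Lib.Helper45.EtPt1

/-!
# Points of the small étale site, part 2: the centre `pt p x` and its functoriality
-/

set_option autoImplicit false
set_option linter.style.haveILetI false
set_option linter.unusedSectionVars false

open CategoryTheory AlgebraicGeometry Opposite Limits TopologicalSpace
universe u
namespace Groth.Agent.Lib.Helper45.EtPt
variable {S : Scheme.{u}} {p : GrothendieckTopology.Point.{u} S.smallEtaleTopology}

/-- The largest open which `x` does not come from. -/
noncomputable def badOpen {U : S.Etale} (x : p.fiber.obj U) : U.left.Opens :=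
  sSup {V | ¬ InOpen p x V}

lemma not_inOpen_badOpen {U : S.Etale} (x : p.fiber.obj U) : ¬ InOpen p x (badOpen x) := by
  intro h
  have h' : InOpen p x (⨆ V : {V : U.left.Opens // ¬ InOpen p x V}, V.1) := by
    have : badOpen x = ⨆ V : {V : U.left.Opens // ¬ InOpen p x V}, V.1 := by
      unfold badOpen
      rw [sSup_eq_iSup']
      rfl
    rwa [← this]
  obtain ⟨V, hV⟩ := inOpen_iSup _ h'
  exact V.2 hV

lemma inOpen_iff_not_le {U : S.Etale} (x : p.fiber.obj U) (V : U.left.Opens) :
    InOpen p x V ↔ ¬ V ≤ badOpen x := by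
  constructor
  · intro h hle
    exact not_inOpen_badOpen x (inOpen_mono hle h)
  · intro h
    by_contra hV
    exact h (le_sSup hV)

lemma isIrreducible_compl_badOpen {U : S.Etale} (x : p.fiber.obj U) :
    IsIrreducible ((badOpen x : Set U.left)ᶜ) := by
  constructor
  · by_contra h
    rw [Set.not_nonempty_iff_eq_empty, Set.compl_empty_iff] at h
    have : (⊤ : U.left.Opens) ≤ badOpen x := by
      intro z _
      show z ∈ (badOpen x : Set U.left)
      rw [h]
      trivial
    exact (inOpen_iff_not_le x ⊤).1 (inOpen_top x) this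
  · intro A B hA hB hAn hBn
    have hA' : InOpen p x ⟨A, hA⟩ := by
      rw [inOpen_iff_not_le]
      intro hle
      obtain ⟨z, hz, hzA⟩ := hAn
      exact hz (hle hzA)
    have hB' : InOpen p x ⟨B, hB⟩ := by
      rw [inOpen_iff_not_le]
      intro hle
      obtain ⟨z, hz, hzB⟩ := hBn
      exact hz (hle hzB)
    have hAB := inOpen_inf hA' hB'
    rw [inOpen_iff_not_le] at hAB
    by_contra hne
    apply hAB
    intro z hz
    by_contra hzb
    exact hne ⟨z, hzb, hz⟩

/-- The centre of `x : p.fiber.obj U`: the point of `U` whose open neighbourhoods are exactly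
the opens `x` comes from. -/
noncomputable def pt {U : S.Etale} (x : p.fiber.obj U) : U.left :=
  (isIrreducible_compl_badOpen x).genericPoint

lemma inOpen_iff {U : S.Etale} (x : p.fiber.obj U) (V : U.left.Opens) :
    InOpen p x V ↔ pt x ∈ V := by
  have hg : IsGenericPoint (pt x) ((badOpen x : Set U.left)ᶜ) :=
    (isIrreducible_compl_badOpen x).isGenericPoint_genericPoint
      (badOpen x).isOpen.isClosed_compl
  rw [inOpen_iff_not_le, ← SetLike.mem_coe, hg.mem_open_set_iff V.isOpen]
  constructor
  · intro h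
    by_contra hne
    apply h
    intro z hz
    by_contra hzb
    exact hne ⟨z, hzb, hz⟩
  · rintro ⟨z, hzb, hz⟩ hle
    exact hzb (hle hz)

lemma pt_map {W U : S.Etale} (g : W ⟶ U) (w : p.fiber.obj W) :
    g.left (pt w) = pt (p.fiber.map g w) := by
  apply Inseparable.eq
  rw [inseparable_iff_forall_isOpen]
  intro V hV
  let V' : U.left.Opens := ⟨V, hV⟩
  show g.left (pt w) ∈ V' ↔ pt (p.fiber.map g w) ∈ V'
  rw [← inOpen_iff, show (g.left (pt w) ∈ V') ↔ pt w ∈ g.left ⁻¹ᵁ V' from Iff.rfl, ← inOpen_iff]
  constructor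
  · rintro ⟨a, rfl⟩
    have : p.fiber.map g (p.fiber.map (opnι W (g.left ⁻¹ᵁ V')) a) =
        p.fiber.map (opnι W (g.left ⁻¹ᵁ V') ≫ g) a := by simp
    rw [this]
    apply inOpen_of_factor
    rintro _ ⟨z, rfl⟩
    rw [comp_left, opnι_left]
    exact z.2
  · rintro ⟨b, hb⟩
    obtain ⟨W', w', f₁, f₂, hf₁, hf₂⟩ := exists_common p w b
    have h : p.fiber.map (f₁ ≫ g) w' = p.fiber.map (f₂ ≫ opnι U V') w' := by
      simp [hf₁, hf₂, hb]
    obtain ⟨W'', w'', e, he, hee⟩ := exists_equalize p w' _ _ h
    have hw : w = p.fiber.map (e ≫ f₁) w'' := by simp [he, hf₁]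
    rw [hw]
    apply inOpen_of_factor
    rintro _ ⟨z, rfl⟩
    show g.left ((e ≫ f₁).left z) ∈ V'
    have h1 : g.left ((e ≫ f₁).left z) = (e ≫ f₁ ≫ g).left z := by
      rw [← Category.assoc, comp_left]
      rfl
    rw [h1, hee]
    have h2 : (e ≫ f₂ ≫ opnι U V').left z = V'.ι ((e ≫ f₂).left z) := by
      rw [← Category.assoc, comp_left, opnι_left]
      rfl
    rw [h2]
    exact ((e ≫ f₂).left z).2

/-- The terminal object of the small étale site. -/
noncomputable def T (S : Scheme.{u}) : S.Etale := Scheme.Etale.mk (𝟙 S)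

/-- The map to the terminal object. -/
noncomputable def toT (U : S.Etale) : U ⟶ T S :=
  MorphismProperty.Over.homMk U.hom (Category.comp_id _) trivial

lemma toT_left (U : S.Etale) : (toT U).left = U.hom := rfl

lemma hom_T_ext {U : S.Etale} (f g : U ⟶ T S) : f = g := by
  apply MorphismProperty.Over.Hom.ext
  have hf := MorphismProperty.Over.w f
  have hg := MorphismProperty.Over.w g
  have h1 : f.left = U.hom := (Category.comp_id _).symm.trans hf
  have h2 : g.left = U.hom := (Category.comp_id _).symm.trans hg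
  rw [h1, h2]

variable (p) in
lemma fiber_T_nonempty : Nonempty (p.fiber.obj (T S)) := by
  obtain ⟨⟨U, x⟩⟩ := (inferInstance : IsCofiltered p.fiber.Elements).nonempty
  exact ⟨p.fiber.map (toT U) x⟩

lemma fiber_T_subsingleton (x₁ x₂ : p.fiber.obj (T S)) : x₁ = x₂ := by
  obtain ⟨W, w, f₁, f₂, hf₁, hf₂⟩ := exists_common p x₁ x₂
  rw [← hf₁, ← hf₂, hom_T_ext f₁ f₂]

variable (p) in
/-- The base point in `S` of the point `p`. -/
noncomputable def basePt : S := pt (fiber_T_nonempty p).some

lemma hom_pt {U : S.Etale} (x : p.fiber.obj U) : U.hom (pt x) = basePt p := by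
  have := pt_map (toT U) x
  rw [toT_left] at this
  refine this.trans ?_
  rw [basePt]
  congr 1
  exact fiber_T_subsingleton _ _

end Groth.Agent.Lib.Helper45.EtPt
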