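import Mathlib

/-!
# Points of the small étale site, part 3: field-valued points of schemes

Factorisation through residue fields, finiteness of the set of lifts of a field-valued point
along an étale morphism at a given scheme point.
-/

set_option autoImplicit false
set_option linter.style.haveILetI false
set_option linter.unusedSectionVars false

open CategoryTheory AlgebraicGeometry Opposite Limits
universe u
namespace Groth.Agent.Lib.Helper45.EtPt

/-- A field-valued point centred at `c` factors through `Spec κ(c)`. -/
lemma exists_factor_residueField {X : Scheme.{u}} {K : Type u} [Field K]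
    (τ : Spec (.of K) ⟶ X) (c : X) (h : τ default = c) :
    ∃ τ' : X.residueField c ⟶ .of K, Spec.map τ' ≫ X.fromSpecResidueField c = τ := by
  obtain ⟨⟨x, φ⟩, rfl⟩ := (Scheme.SpecToEquivOfField K X).symm.surjective τ
  have : x = c := by simpa [Scheme.SpecToEquivOfField] using h
  subst this
  exact ⟨φ, rfl⟩

lemma specMap_fromSpecResidueField_inj {X : Scheme.{u}} {K : Type u} [Field K] (c : X)
    (φ₁ φ₂ : X.residueField c ⟶ .of K)
    (h : Spec.map φ₁ ≫ X.fromSpecResidueField c = Spec.map φ₂ ≫ X.fromSpecResidueField c) :
    φ₁ = φ₂ := by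
  rw [cancel_mono] at h
  exact Spec.map_injective h

set_option backward.isDefEq.respectTransparency.types false in
lemma finite_residueField_of_etale {X S : Scheme.{u}} (f : X ⟶ S) [Etale f] (x : X) :
    letI : Algebra (S.residueField (f x)) (X.residueField x) :=
      (f.residueFieldMap x).hom.toAlgebra
    Module.Finite (S.residueField (f x)) (X.residueField x) := by
  algebraize [(f.stalkMap x).hom]
  have : IsLocalHom (algebraMap (S.presheaf.stalk (f x)) (X.presheaf.stalk x)) :=
    inferInstanceAs <| IsLocalHom (f.stalkMap x).hom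
  suffices h : @Module.Finite
      (IsLocalRing.ResidueField (S.presheaf.stalk (f x)))
      (IsLocalRing.ResidueField (X.presheaf.stalk x)) _ _ Algebra.toModule by
    convert! h
    refine Algebra.algebra_ext _ _ fun x ↦ ?_
    obtain ⟨x, rfl⟩ := IsLocalRing.residue_surjective x
    rfl
  have : Algebra.EssFiniteType (S.presheaf.stalk (f x)) (X.presheaf.stalk x) := by
    rw [← RingHom.essFiniteType_algebraMap, RingHom.algebraMap_toAlgebra]
    exact LocallyOfFiniteType.stalkMap f x
  have : Algebra.FormallyUnramified (S.presheaf.stalk (f x)) (X.presheaf.stalk x) := by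
    rw [← RingHom.formallyUnramified_algebraMap, RingHom.algebraMap_toAlgebra]
    exact FormallyUnramified.stalkMap f x
  infer_instance

set_option backward.isDefEq.respectTransparency.types false in
/-- The lifts of a field-valued point along an étale morphism centred at a given point form
a finite set. -/
lemma finite_lifts {X S : Scheme.{u}} (f : X ⟶ S) [Etale f] (y : X) {Ω : Type u} [Field Ω]
    (ξ : Spec (.of Ω) ⟶ S) :
    {l : Spec (.of Ω) ⟶ X | l ≫ f = ξ ∧ l default = y}.Finite := by
  by_cases hne : ∃ l : Spec (.of Ω) ⟶ X, l ≫ f = ξ ∧ l default = y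
  swap
  · convert Set.finite_empty
    ext l
    simp only [Set.mem_setOf_eq, Set.mem_empty_iff_false, iff_false]
    intro h
    exact hne ⟨l, h⟩
  obtain ⟨l₀, rfl, rfl⟩ := hne
  obtain ⟨⟨y, φ₀⟩, rfl⟩ := (Scheme.SpecToEquivOfField Ω X).symm.surjective l₀
  have hy : (((Scheme.SpecToEquivOfField Ω X).symm ⟨y, φ₀⟩) default) = y := by
    simp [Scheme.SpecToEquivOfField]
  rw [hy]
  let m := (f.residueFieldMap y).hom
  dsimp at m
  let a := (f.residueFieldMap y ≫ φ₀).hom
  dsimp at a
  algebraize [m, a]
  have : Module.Finite (S.residueField (f y)) (X.residueField y) :=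
    finite_residueField_of_etale f y
  apply Set.Finite.subset (Set.finite_range
    (fun φ : X.residueField y →ₐ[S.residueField (f y)] Ω =>
      Spec.map (CommRingCat.ofHom φ.toRingHom) ≫ X.fromSpecResidueField y))
  rintro l ⟨hl1, hl2⟩
  obtain ⟨φ, rfl⟩ := exists_factor_residueField l y hl2
  have h1 : Spec.map (f.residueFieldMap y ≫ φ) ≫ S.fromSpecResidueField (f y) =
      Spec.map (f.residueFieldMap y ≫ φ₀) ≫ S.fromSpecResidueField (f y) := by
    rw [Spec.map_comp, Spec.map_comp, Category.assoc, Category.assoc,
      Scheme.Hom.SpecMap_residueFieldMap_fromSpecResidueField]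
    simpa [Scheme.SpecToEquivOfField] using hl1
  have h2 := specMap_fromSpecResidueField_inj _ _ _ h1
  refine ⟨⟨φ.hom, ?_⟩, ?_⟩
  · intro r
    have := congrArg (fun g => g.hom r) h2
    exact this
  · rfl

end Groth.Agent.Lib.Helper45.EtPt
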