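import Groth.Agent.Lib.Helper45.EtPt2
import Groth.Agent.Lib.Helper45.EtPt3

/-!
# Points of the small étale site, part 4: the geometric point and the comparison map
-/

set_option autoImplicit false
set_option linter.style.haveILetI false
set_option linter.unusedSectionVars false

open CategoryTheory AlgebraicGeometry Opposite Limits TopologicalSpace
universe u
namespace Groth.Agent.Lib.Helper45.EtPt
variable {S : Scheme.{u}} (p : GrothendieckTopology.Point.{u} S.smallEtaleTopology)

/-- The separable closure of the residue field at the base point. -/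
abbrev Om : Type u := SeparableClosure (S.residueField (basePt p))

/-- The geometric point over the base point. -/
noncomputable def xi : Spec (.of (Om p)) ⟶ S :=
  (Scheme.SpecToEquivOfField (Om p) S).symm
    ⟨basePt p, CommRingCat.ofHom (algebraMap (S.residueField (basePt p)) (Om p))⟩

lemma xi_eq : xi p = Spec.map (CommRingCat.ofHom (algebraMap (S.residueField (basePt p)) (Om p)))
    ≫ S.fromSpecResidueField (basePt p) := rfl

lemma xi_default : xi p default = basePt p := by simp [xi, Scheme.SpecToEquivOfField]

/-- The fibre functor of the geometric point. -/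
noncomputable abbrev v : S.Etale ⥤ Type u := (Scheme.pointSmallEtale (xi p)).fiber

/-- Constructor for elements of the geometric fibre. -/
noncomputable def mkV {U : S.Etale} (l : Spec (.of (Om p)) ⟶ U.left) (h : l ≫ U.hom = xi p) :
    (v p).obj U := Over.homMk l h

variable {p}

/-- The underlying morphism of an element of the geometric fibre. -/
def lft {U : S.Etale} (t : (v p).obj U) : Spec (.of (Om p)) ⟶ U.left := CommaMorphism.left t

lemma lft_mkV {U : S.Etale} (l : Spec (.of (Om p)) ⟶ U.left) (h : l ≫ U.hom = xi p) :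
    lft (mkV p l h) = l := rfl

lemma lft_w {U : S.Etale} (t : (v p).obj U) : lft t ≫ U.hom = xi p := Over.w t

lemma v_ext {U : S.Etale} (t₁ t₂ : (v p).obj U) (h : lft t₁ = lft t₂) : t₁ = t₂ :=
  Over.OverMorphism.ext h

lemma lft_map {W U : S.Etale} (g : W ⟶ U) (t : (v p).obj W) :
    lft ((v p).map g t) = lft t ≫ g.left := rfl

variable (p)

/-- The finite nonempty sets of lifts centred at `pt x`. -/
noncomputable def EF : p.fiber.Elements ⥤ Type u where
  obj a := {t : (v p).obj a.1 // lft t default = pt a.2}
  map {a b} f := ↾(fun t => ⟨(v p).map f.1 t.1, by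
    rw [lft_map]
    have h1 := pt_map f.1 a.2
    rw [f.2] at h1
    rw [← h1]
    have h2 := t.2
    show (f.1).left (lft t.1 default) = _
    rw [h2]⟩)
  map_id a := by
    ext t
    show (v p).map (𝟙 a.1) t.1 = t.1
    simp
  map_comp {a b c} f g := by
    ext t
    show (v p).map (f.1 ≫ g.1) t.1 = (v p).map g.1 ((v p).map f.1 t.1)
    simp

instance (a : p.fiber.Elements) : Finite ((EF p).obj a) := by
  have hfin := finite_lifts a.1.hom (pt a.2) (xi p)
  have : Finite {l : Spec (.of (Om p)) ⟶ a.1.left | l ≫ a.1.hom = xi p ∧ l default = pt a.2} :=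
    hfin
  let φ : (EF p).obj a →
      {l : Spec (.of (Om p)) ⟶ a.1.left | l ≫ a.1.hom = xi p ∧ l default = pt a.2} :=
    fun t => ⟨lft t.1, lft_w t.1, t.2⟩
  apply Finite.of_injective φ
  intro t₁ t₂ h
  apply Subtype.ext
  apply v_ext
  exact congrArg Subtype.val h

instance (a : p.fiber.Elements) : Nonempty ((EF p).obj a) := by
  obtain ⟨l, hl1, hl2⟩ := Scheme.exists_fac_of_etale_of_isSepClosed a.1.hom (xi p) (pt a.2)
    (by rw [hom_pt, xi_default])
  exact ⟨⟨mkV p l hl1, hl2⟩⟩

theorem exists_theta : ∃ θ : p.fiber ⟶ v p,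
    ∀ (U : S.Etale) (x : p.fiber.obj U), lft (θ.app U x) default = pt x := by
  obtain ⟨s, hs⟩ := nonempty_sections_of_finite_cofiltered_system (EF p)
  refine ⟨{ app := fun U => ↾(fun x => (s ⟨U, x⟩).1), naturality := ?_ }, ?_⟩
  · intro W U g
    ext w
    let a : p.fiber.Elements := ⟨W, w⟩
    let b : p.fiber.Elements := ⟨U, p.fiber.map g w⟩
    let f : a ⟶ b := ⟨g, rfl⟩
    have := congrArg Subtype.val (hs f)
    exact this.symm
  · intro U x
    exact (s ⟨U, x⟩).2

end Groth.Agent.Lib.Helper45.EtPt
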