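import Groth.Agent.Lib.Helper45.EtPt4

/-!
# Points of the small étale site, part 5: injectivity of the comparison map and lifting of centres
-/

set_option autoImplicit false
set_option linter.style.haveILetI false
set_option linter.unusedSectionVars false

open CategoryTheory AlgebraicGeometry Opposite Limits TopologicalSpace
universe u
namespace Groth.Agent.Lib.Helper45.EtPt

/-- An étale morphism is locally quasi-finite. -/
theorem locallyQuasiFinite_of_etale' {X Y : Scheme.{u}} (f : X ⟶ Y) [Etale f] :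
    LocallyQuasiFinite f := by
  refine ⟨fun {U} hU {V} hV e => ?_⟩
  have h := f.etale_appLE hU hV e
  algebraize [(f.appLE U V e).hom]
  have : Algebra.Etale Γ(Y, U) Γ(X, V) := h
  exact inferInstanceAs (Algebra.QuasiFinite Γ(Y, U) Γ(X, V))

/-- Two `S`-morphisms into an étale `S`-scheme agreeing on a field-valued point agree on an open
neighbourhood of its centre. -/
lemma exists_open_equalizer {W U S : Scheme.{u}} (f₁ f₂ : W ⟶ U) (g : U ⟶ S) [Etale g]
    (h : f₁ ≫ g = f₂ ≫ g) {K : Type u} [Field K] (τ : Spec (.of K) ⟶ W)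
    (hτ : τ ≫ f₁ = τ ≫ f₂) :
    ∃ V : W.Opens, τ default ∈ V ∧ V.ι ≫ f₁ = V.ι ≫ f₂ := by
  let Δ := pullback.diagonal g
  have : IsOpenImmersion Δ := inferInstance
  let m : W ⟶ pullback g g := pullback.lift f₁ f₂ h
  refine ⟨m ⁻¹ᵁ Δ.opensRange, ?_, ?_⟩
  · have h1 : τ ≫ m = (τ ≫ f₁) ≫ Δ := by
      apply pullback.hom_ext
      · rw [Category.assoc, Category.assoc, pullback.lift_fst, pullback.diagonal_fst,
          Category.comp_id]
      · rw [Category.assoc, Category.assoc, pullback.lift_snd, pullback.diagonal_snd,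
          Category.comp_id, hτ]
    show m (τ default) ∈ Set.range Δ
    refine ⟨(τ ≫ f₁) default, ?_⟩
    have := congrArg (fun q : Spec (.of K) ⟶ pullback g g => q default) h1
    exact this.symm
  · set V := m ⁻¹ᵁ Δ.opensRange
    have hr : Set.range (V.ι ≫ m) ⊆ Set.range Δ := by
      rintro _ ⟨z, rfl⟩
      exact z.2
    let l := IsOpenImmersion.lift Δ (V.ι ≫ m) hr
    have hl : l ≫ Δ = V.ι ≫ m := IsOpenImmersion.lift_fac _ _ hr
    have e1 : V.ι ≫ f₁ = l := by
      have : V.ι ≫ f₁ = (V.ι ≫ m) ≫ pullback.fst g g := by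
        rw [Category.assoc, pullback.lift_fst]
      rw [this, ← hl, Category.assoc, pullback.diagonal_fst, Category.comp_id]
    have e2 : V.ι ≫ f₂ = l := by
      have : V.ι ≫ f₂ = (V.ι ≫ m) ≫ pullback.snd g g := by
        rw [Category.assoc, pullback.lift_snd]
      rw [this, ← hl, Category.assoc, pullback.diagonal_snd, Category.comp_id]
    rw [e1, e2]

variable {S : Scheme.{u}} {p : GrothendieckTopology.Point.{u} S.smallEtaleTopology}

theorem theta_injective (θ : p.fiber ⟶ v p)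
    (hθ : ∀ (U : S.Etale) (x : p.fiber.obj U), lft (θ.app U x) default = pt x) (U : S.Etale) :
    Function.Injective (θ.app U) := by
  intro x₁ x₂ h
  obtain ⟨W, w, f₁, f₂, hf₁, hf₂⟩ := exists_common p x₁ x₂
  have n₁ : θ.app U (p.fiber.map f₁ w) = (v p).map f₁ (θ.app W w) :=
    congrArg (fun q => q w) (θ.naturality f₁)
  have n₂ : θ.app U (p.fiber.map f₂ w) = (v p).map f₂ (θ.app W w) :=
    congrArg (fun q => q w) (θ.naturality f₂)
  have hτ : lft (θ.app W w) ≫ f₁.left = lft (θ.app W w) ≫ f₂.left := by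
    rw [← lft_map, ← lft_map, ← n₁, ← n₂, hf₁, hf₂, h]
  have hS : f₁.left ≫ U.hom = f₂.left ≫ U.hom := by
    rw [MorphismProperty.Over.w f₁, MorphismProperty.Over.w f₂]
  obtain ⟨V, hV1, hV2⟩ := exists_open_equalizer f₁.left f₂.left U.hom hS _ hτ
  rw [hθ, ← inOpen_iff] at hV1
  obtain ⟨a, rfl⟩ := hV1
  have hc : opnι W V ≫ f₁ = opnι W V ≫ f₂ := by
    apply MorphismProperty.Over.Hom.ext
    exact hV2
  rw [← hf₁, ← hf₂]
  have e1 : p.fiber.map f₁ (p.fiber.map (opnι W V) a) = p.fiber.map (opnι W V ≫ f₁) a := by simp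
  have e2 : p.fiber.map f₂ (p.fiber.map (opnι W V) a) = p.fiber.map (opnι W V ≫ f₂) a := by simp
  rw [e1, e2, hc]

/-- Lifting along an étale map: every point over the centre of `x` is the centre of a lift. -/
theorem exists_lift_pt {W V : S.Etale} (g : W ⟶ V) (x : p.fiber.obj V) (z : W.left)
    (hz : g.left z = pt x) : ∃ w : p.fiber.obj W, p.fiber.map g w = x ∧ pt w = z := by
  have hqf : LocallyQuasiFinite g.left := locallyQuasiFinite_of_etale' g.left
  have hdisc : _root_.IsDiscrete (g.left ⁻¹' {pt x}) := g.left.isDiscrete_preimage_singleton (pt x)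
  -- an open neighbourhood of `z` meeting the fibre only in `z`
  obtain ⟨W', hW'z, hW'⟩ : ∃ W' : W.left.Opens, z ∈ W' ∧
      ∀ z' ∈ W', g.left z' = pt x → z' = z := by
    have hzmem : z ∈ g.left ⁻¹' {pt x} := hz
    obtain ⟨O, hO, hOz⟩ := (isDiscrete_iff_forall_exists_isOpen.1 hdisc) z hzmem
    refine ⟨⟨O, hO⟩, ?_, ?_⟩
    · have : z ∈ O ∩ g.left ⁻¹' {pt x} := by rw [hOz]; rfl
      exact this.1
    · intro z' hz' hgz'
      have : z' ∈ O ∩ g.left ⁻¹' {pt x} := ⟨hz', hgz'⟩
      rw [hOz] at this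
      exact this
  have hopen : IsOpenMap g.left := g.left.isOpenMap
  let V' : V.left.Opens := ⟨g.left '' (W' : Set W.left), hopen _ W'.isOpen⟩
  have hxV' : pt x ∈ V' := ⟨z, hW'z, hz⟩
  rw [← inOpen_iff] at hxV'
  obtain ⟨a, ha⟩ := hxV'
  -- the restriction `W' ⟶ V'`
  have hr : Set.range (opnι W W' ≫ g).left ⊆ (V' : Set V.left) := by
    rintro _ ⟨y, rfl⟩
    exact ⟨W'.ι y, y.2, rfl⟩
  obtain ⟨g', hg'⟩ := exists_factor (opnι W W' ≫ g) V' hr
  have hcov : Sieve.ofArrows (fun _ : PUnit.{u + 1} => opn W W') (fun _ => g') ∈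
      S.smallEtaleTopology (opn V V') := by
    rw [Scheme.ofArrows_mem_smallEtaleTopology_iff]
    ext y
    simp only [Set.mem_iUnion, Set.mem_range, Set.mem_univ, iff_true]
    obtain ⟨z', hz'W, hz'⟩ : ∃ z' ∈ (W' : Set W.left), g.left z' = V'.ι y := y.2
    refine ⟨PUnit.unit, ⟨z', hz'W⟩, ?_⟩
    apply V'.ι.isOpenEmbedding.injective
    have := congrArg (fun f => f.left) hg'
    simp only [comp_left, opnι_left] at this
    have h2 := congrArg (fun f : (W' : Scheme) ⟶ V.left => f ⟨z', hz'W⟩) this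
    exact h2.trans hz'
  obtain ⟨Y, f, hf, y, hy⟩ := p.jointly_surjective _ hcov a
  rw [Sieve.mem_ofArrows_iff] at hf
  obtain ⟨_, b, rfl⟩ := hf
  refine ⟨p.fiber.map (b ≫ opnι W W') y, ?_, ?_⟩
  · rw [← ha, ← hy]
    have e1 : p.fiber.map g (p.fiber.map (b ≫ opnι W W') y) =
        p.fiber.map (b ≫ opnι W W' ≫ g) y := by simp
    have e2 : p.fiber.map (opnι V V') (p.fiber.map (b ≫ g') y) =
        p.fiber.map (b ≫ g' ≫ opnι V V') y := by simp
    rw [e1, e2, hg']
  · have hin : InOpen p (p.fiber.map (b ≫ opnι W W') y) W' := by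
      apply inOpen_of_factor
      rintro _ ⟨c, rfl⟩
      rw [comp_left, opnι_left]
      exact (b.left c).2
    rw [inOpen_iff] at hin
    apply hW' _ hin
    rw [pt_map]
    congr 1
    rw [← ha, ← hy]
    have e1 : p.fiber.map g (p.fiber.map (b ≫ opnι W W') y) =
        p.fiber.map (b ≫ opnι W W' ≫ g) y := by simp
    have e2 : p.fiber.map (opnι V V') (p.fiber.map (b ≫ g') y) =
        p.fiber.map (b ≫ g' ≫ opnι V V') y := by simp
    rw [e1, e2, hg']

end Groth.Agent.Lib.Helper45.EtPt
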