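import Mathlib

/-!
# Points of the small étale site, part 6: étale algebras realising separable elements

For a ring `B` mapping to a field `K` which is the fraction field of its image, and a separable
element `α` of an extension `Ω`, there is an étale `B`-algebra `A` admitting a `B`-algebra map to
`Ω`, with an element `a` all of whose images in `Ω` are roots of the minimal polynomial of `α`.
-/

set_option autoImplicit false
set_option linter.style.haveILetI false
set_option linter.unusedSectionVars false

open Polynomial
universe u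
namespace Groth.Agent.Lib.Helper45.EtPt

set_option maxHeartbeats 1600000 in
theorem exists_etale_root {B K Ω : Type u} [CommRing B] [Field K] [Field Ω] [Algebra B K]
    [Algebra K Ω] [Algebra B Ω] [IsScalarTower B K Ω]
    (hK : ∀ k : K, ∃ a b : B, algebraMap B K b ≠ 0 ∧ k * algebraMap B K b = algebraMap B K a)
    (α : Ω) (hα : IsSeparable K α) :
    ∃ (A : Type u) (_ : CommRing A) (_ : Algebra B A) (_ : Algebra.Etale B A) (a : A),
      Nonempty (A →ₐ[B] Ω) ∧ ∀ φ : A →ₐ[B] Ω, aeval (φ a) (minpoly K α) = 0 := by
  have hint : IsIntegral K α := hα.isIntegral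
  set g : K[X] := minpoly K α with hg
  have hgm : g.Monic := minpoly.monic hint
  choose a b hb hab using fun i : ℕ => hK (g.coeff i)
  let d : B := ∏ i ∈ Finset.range (g.natDegree + 1), b i
  have hd : algebraMap B K d ≠ 0 := by
    rw [map_prod]
    exact Finset.prod_ne_zero_iff.mpr fun i _ => hb i
  let Bd := Localization.Away d
  letI algBdK : Algebra Bd K := (IsLocalization.Away.lift d (hd.isUnit)).toAlgebra
  have hBdK : ∀ x : B, algebraMap Bd K (algebraMap B Bd x) = algebraMap B K x :=
    fun x => IsLocalization.Away.lift_eq d hd.isUnit x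
  haveI : IsScalarTower B Bd K := IsScalarTower.of_algebraMap_eq fun x => (hBdK x).symm
  have hlift : g ∈ Polynomial.lifts (algebraMap Bd K) := by
    rw [Polynomial.lifts_iff_coeff_lifts]
    intro i
    by_cases hi : i ∈ Finset.range (g.natDegree + 1)
    · refine ⟨algebraMap B Bd (a i * ∏ j ∈ (Finset.range (g.natDegree + 1)).erase i, b j) *
        IsLocalization.Away.invSelf d, ?_⟩
      have h1 : algebraMap Bd K (IsLocalization.Away.invSelf d) * algebraMap B K d = 1 := by
        rw [← hBdK d, ← map_mul, mul_comm, IsLocalization.Away.mul_invSelf, map_one]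
      have h2 : (algebraMap B K d) = algebraMap B K (b i) *
          algebraMap B K (∏ j ∈ (Finset.range (g.natDegree + 1)).erase i, b j) := by
        rw [← map_mul, Finset.mul_prod_erase _ _ hi]
      rw [map_mul, hBdK, map_mul, ← hab i]
      have h3 : g.coeff i * algebraMap B K (b i) *
          algebraMap B K (∏ j ∈ (Finset.range (g.natDegree + 1)).erase i, b j) *
          algebraMap Bd K (IsLocalization.Away.invSelf d) =
          g.coeff i * (algebraMap Bd K (IsLocalization.Away.invSelf d) * algebraMap B K d) := by
        rw [h2]; ring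
      rw [h3, h1, mul_one]
    · refine ⟨0, ?_⟩
      rw [map_zero]
      symm
      apply Polynomial.coeff_eq_zero_of_natDegree_lt
      simp only [Finset.mem_range, not_lt] at hi
      omega
  obtain ⟨G, hG1, -, hGm⟩ := lifts_and_natDegree_eq_and_monic hlift hgm
  let P : StandardEtalePair Bd := ⟨G, hGm, derivative G, ⟨1, 0, 1, by simp⟩⟩
  letI algBdΩ : Algebra Bd Ω := ((algebraMap K Ω).comp (algebraMap Bd K)).toAlgebra
  haveI : IsScalarTower Bd K Ω := IsScalarTower.of_algebraMap_eq fun _ => rfl
  haveI : IsScalarTower B Bd Ω := IsScalarTower.of_algebraMap_eq fun x => by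
    show algebraMap B Ω x = algebraMap K Ω (algebraMap Bd K (algebraMap B Bd x))
    rw [hBdK, ← IsScalarTower.algebraMap_apply]
  have hev : ∀ (y : Ω) (q : Bd[X]), aeval y q = aeval y (q.map (algebraMap Bd K)) := by
    intro y q
    rw [Polynomial.aeval_map_algebraMap]
  have hmap : P.HasMap α := by
    constructor
    · show aeval α G = 0
      rw [hev, hG1]
      exact minpoly.aeval _ _
    · show IsUnit (aeval α (derivative G))
      rw [hev, ← derivative_map, hG1, isUnit_iff_ne_zero]
      exact Polynomial.Separable.aeval_derivative_ne_zero hα (minpoly.aeval _ _)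
  letI algBA : Algebra B P.Ring := ((algebraMap Bd P.Ring).comp (algebraMap B Bd)).toAlgebra
  haveI : IsScalarTower B Bd P.Ring := IsScalarTower.of_algebraMap_eq fun _ => rfl
  haveI : Algebra.Etale B Bd := Algebra.Etale.of_isLocalizationAway d
  haveI : Algebra.Etale B P.Ring := Algebra.Etale.comp B Bd P.Ring
  refine ⟨P.Ring, inferInstance, algBA, inferInstance, P.X,
    ⟨(P.lift α hmap).restrictScalars B⟩, ?_⟩
  intro φ
  have hφ : ∀ x : Bd, φ (algebraMap Bd P.Ring x) = algebraMap Bd Ω x := by
    have : (φ.toRingHom.comp (algebraMap Bd P.Ring)) = algebraMap Bd Ω := by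
      apply IsLocalization.ringHom_ext (Submonoid.powers d)
      ext x
      show φ (algebraMap Bd P.Ring (algebraMap B Bd x)) = algebraMap Bd Ω (algebraMap B Bd x)
      rw [← IsScalarTower.algebraMap_apply B Bd Ω, ← IsScalarTower.algebraMap_apply B Bd P.Ring,
        φ.commutes]
    intro x
    exact congrArg (fun f => f x) this
  let φ' : P.Ring →ₐ[Bd] Ω := { φ.toRingHom with commutes' := hφ }
  have h := (P.hasMap_X.map φ').1
  have h' : aeval (φ P.X) G = 0 := h
  rw [← hG1, ← hev]
  exact h'

end Groth.Agent.Lib.Helper45.EtPt
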