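import Groth.Agent.Lib.Helper45.EtPt3

/-!
# Points of the small étale site, part 7: residue images of field-valued points
-/

set_option autoImplicit false
set_option linter.style.haveILetI false
set_option linter.unusedSectionVars false

open CategoryTheory AlgebraicGeometry Opposite Limits
universe u
namespace Groth.Agent.Lib.Helper45.EtPt

variable {Ω : Type u} [Field Ω]

/-- The image in `Ω` of the residue field at the centre of an `Ω`-valued point. -/
noncomputable def resImg {X : Scheme.{u}} (l : Spec (.of Ω) ⟶ X) : Subfield Ω :=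
  ((Scheme.SpecToEquivOfField Ω X) l).2.hom.fieldRange

lemma resImg_eq {X : Scheme.{u}} (x : X) (φ : X.residueField x ⟶ .of Ω) :
    resImg (Spec.map φ ≫ X.fromSpecResidueField x) = φ.hom.fieldRange := by
  show ((Scheme.SpecToEquivOfField Ω X)
    ((Scheme.SpecToEquivOfField Ω X).symm ⟨x, φ⟩)).2.hom.fieldRange = _
  rw [Equiv.apply_symm_apply]

lemma resImg_comp_le {X Y : Scheme.{u}} (l : Spec (.of Ω) ⟶ X) (h : X ⟶ Y) :
    resImg (l ≫ h) ≤ resImg l := by
  obtain ⟨⟨x, φ⟩, rfl⟩ := (Scheme.SpecToEquivOfField Ω X).symm.surjective l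
  show resImg ((Spec.map φ ≫ X.fromSpecResidueField x) ≫ h) ≤
    resImg (Spec.map φ ≫ X.fromSpecResidueField x)
  rw [Category.assoc, ← Scheme.Hom.SpecMap_residueFieldMap_fromSpecResidueField,
    ← Category.assoc, ← Spec.map_comp, resImg_eq, resImg_eq]
  rintro _ ⟨a, rfl⟩
  exact ⟨(h.residueFieldMap x).hom a, rfl⟩

lemma exists_factor_of_resImg_le {X₁ X₂ : Scheme.{u}} (l₁ : Spec (.of Ω) ⟶ X₁) (x₂ : X₂)
    (φ₂ : X₂.residueField x₂ ⟶ .of Ω) (h : resImg l₁ ≤ φ₂.hom.fieldRange) :
    ∃ γ : Spec (X₂.residueField x₂) ⟶ X₁, Spec.map φ₂ ≫ γ = l₁ := by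
  obtain ⟨⟨x₁, φ₁⟩, rfl⟩ := (Scheme.SpecToEquivOfField Ω X₁).symm.surjective l₁
  change resImg (Spec.map φ₁ ≫ X₁.fromSpecResidueField x₁) ≤ _ at h
  rw [resImg_eq] at h
  choose ψf hψ using fun a : X₁.residueField x₁ => h ⟨a, rfl⟩
  have hinj : Function.Injective φ₂.hom := φ₂.hom.injective
  let ψ : X₁.residueField x₁ →+* X₂.residueField x₂ :=
    { toFun := ψf
      map_one' := hinj (by rw [hψ, map_one, map_one])
      map_mul' := fun a b => hinj (by rw [hψ, map_mul, map_mul, hψ, hψ])
      map_zero' := hinj (by rw [hψ, map_zero, map_zero])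
      map_add' := fun a b => hinj (by rw [hψ, map_add, map_add, hψ, hψ]) }
  refine ⟨Spec.map (CommRingCat.ofHom ψ) ≫ X₁.fromSpecResidueField x₁, ?_⟩
  show _ = Spec.map φ₁ ≫ X₁.fromSpecResidueField x₁
  rw [← Category.assoc, ← Spec.map_comp]
  congr 2
  ext a
  exact hψ a

lemma mem_resImg_of_spec {A : CommRingCat.{u}} (φ : A ⟶ .of Ω) (a : A) :
    φ.hom a ∈ resImg (Spec.map φ) := by
  obtain ⟨φ', hφ'⟩ := exists_factor_residueField (Spec.map φ) _ rfl
  obtain ⟨ρ, hρ⟩ := Spec.map_surjective ((Spec A).fromSpecResidueField (Spec.map φ default))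
  rw [← hρ, ← Spec.map_comp] at hφ'
  have h1 : ρ ≫ φ' = φ := Spec.map_injective hφ'
  have h2 : resImg (Spec.map φ) = φ'.hom.fieldRange := by
    conv_lhs => rw [← h1, Spec.map_comp, hρ]
    exact resImg_eq _ _
  have h3 : φ.hom a = φ'.hom (ρ.hom a) := congrArg (fun q => q.hom a) h1.symm
  rw [h2]
  exact ⟨ρ.hom a, h3.symm⟩

/-- A field-valued point centred at the image of a section over a point is determined by
its projection. -/
lemma eq_of_section {P W : Scheme.{u}} (h : P ⟶ W) (c : W)
    (γ : Spec (W.residueField c) ⟶ P) (hγ : γ ≫ h = W.fromSpecResidueField c)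
    {K : Type u} [Field K] (τ : Spec (.of K) ⟶ P) (hz : τ default = γ default)
    (σ : W.residueField c ⟶ .of K) (hσ : τ ≫ h = Spec.map σ ≫ W.fromSpecResidueField c) :
    τ = Spec.map σ ≫ γ := by
  let z := γ default
  obtain ⟨γ', hγ'⟩ := exists_factor_residueField (K := W.residueField c) γ z rfl
  obtain ⟨τ', hτ'⟩ := exists_factor_residueField τ z hz
  have hc : (P.fromSpecResidueField z ≫ h) default = c := by
    have h1 : (P.fromSpecResidueField z ≫ h) default = h z := by simp
    have h2 : (γ ≫ h) default = h z := by simp [z]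
    rw [h1, ← h2, hγ]
    simp
  obtain ⟨β, hβ⟩ := exists_factor_residueField (K := P.residueField z)
    (P.fromSpecResidueField z ≫ h) c hc
  -- `β ≫ γ' = 𝟙`
  have e1 : β ≫ γ' = 𝟙 _ := by
    have : Spec.map (β ≫ γ') ≫ W.fromSpecResidueField c =
        Spec.map (𝟙 _) ≫ W.fromSpecResidueField c := by
      rw [Spec.map_comp, Category.assoc, hβ, ← Category.assoc, hγ', hγ]
      simp
    rw [cancel_mono] at this
    exact Spec.map_injective this
  -- hence `γ' ≫ β = 𝟙`
  have e2 : γ' ≫ β = 𝟙 _ := by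
    ext a
    have hinj : Function.Injective γ'.hom := γ'.hom.injective
    apply hinj
    have := congrArg (fun q => q.hom (γ'.hom a)) e1
    exact this
  have e3 : σ = β ≫ τ' := by
    have : Spec.map σ ≫ W.fromSpecResidueField c =
        Spec.map (β ≫ τ') ≫ W.fromSpecResidueField c := by
      rw [← hσ, ← hτ', Spec.map_comp, Category.assoc, Category.assoc, hβ]
    rw [cancel_mono] at this
    exact Spec.map_injective this
  rw [e3, ← hγ', ← hτ', ← Category.assoc, ← Spec.map_comp, ← Category.assoc, e2, Category.id_comp]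

end Groth.Agent.Lib.Helper45.EtPt
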