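import Groth.Agent.Lib.Helper45.EtPt6
import Groth.Agent.Lib.Helper45.EtPt7

/-!
# Points of the small étale site, part 8: étale neighbourhoods realising separable elements
-/

set_option autoImplicit false
set_option linter.style.haveILetI false
set_option linter.unusedSectionVars false

open CategoryTheory AlgebraicGeometry Opposite Limits Polynomial
universe u
namespace Groth.Agent.Lib.Helper45.EtPt

set_option maxHeartbeats 1600000 in
set_option backward.isDefEq.respectTransparency.types false in
theorem exists_etale_nbhd_root {S : Scheme.{u}} (s : S) {Ω : Type u} [Field Ω]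
    [Algebra (S.residueField s) Ω] [Algebra.IsSeparable (S.residueField s) Ω] (α : Ω) :
    ∃ (A : Scheme.{u}) (f : A ⟶ S) (_ : Etale f),
      (∃ l : Spec (.of Ω) ⟶ A, l ≫ f =
        Spec.map (CommRingCat.ofHom (algebraMap (S.residueField s) Ω)) ≫
          S.fromSpecResidueField s) ∧
      ∀ l : Spec (.of Ω) ⟶ A, l ≫ f =
        Spec.map (CommRingCat.ofHom (algebraMap (S.residueField s) Ω)) ≫
          S.fromSpecResidueField s →
        ∃ β ∈ resImg l, aeval β (minpoly (S.residueField s) α) = 0 := by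
  obtain ⟨R, j, _, hj, _⟩ := Scheme.exists_affine_mem_range_and_range_subset (x := s) (U := ⊤) (by simp)
  obtain ⟨q, rfl⟩ := hj
  let K₀ := q.asIdeal.ResidueField
  let e₁ : S.residueField (j q) ⟶ (Spec R).residueField q := j.residueFieldMap q
  let e₂ : (Spec R).residueField q ≅ .of K₀ := Scheme.Spec.residueFieldIso R q
  let ρ : R ⟶ S.residueField (j q) := CommRingCat.ofHom (algebraMap R K₀) ≫ e₂.inv ≫ inv e₁
  have hρ : Spec.map ρ ≫ j = S.fromSpecResidueField (j q) := by
    have h1 : Spec.map ρ = Spec.map (inv e₁) ≫ (Spec R).fromSpecResidueField q := by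
      rw [← Scheme.Spec.map_residueFieldIso_inv_eq_fromSpecResidueField, ← Spec.map_comp,
        ← Spec.map_comp, Category.assoc]
    rw [h1, Category.assoc, ← Scheme.Hom.SpecMap_residueFieldMap_fromSpecResidueField,
      ← Category.assoc, ← Spec.map_comp]
    simp [e₁]
  letI algRK : Algebra R (S.residueField (j q)) := ρ.hom.toAlgebra
  letI algRΩ : Algebra R Ω := ((algebraMap (S.residueField (j q)) Ω).comp ρ.hom).toAlgebra
  haveI : IsScalarTower R (S.residueField (j q)) Ω := IsScalarTower.of_algebraMap_eq fun _ => rfl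
  have hK : ∀ k : S.residueField (j q), ∃ a b : R,
      algebraMap R (S.residueField (j q)) b ≠ 0 ∧
      k * algebraMap R (S.residueField (j q)) b = algebraMap R (S.residueField (j q)) a := by
    intro k
    let ε : K₀ →+* S.residueField (j q) := (e₂.inv ≫ inv e₁).hom
    have hε : ∀ x : R, algebraMap R (S.residueField (j q)) x = ε (algebraMap R K₀ x) :=
      fun x => rfl
    let k₀ : K₀ := (e₁ ≫ e₂.hom).hom k
    have hk : ε k₀ = k := by
      have : (e₁ ≫ e₂.hom) ≫ (e₂.inv ≫ inv e₁) = 𝟙 _ := by simp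
      exact congrArg (fun f => f.hom k) this
    obtain ⟨⟨x1, x2⟩, hx⟩ := IsLocalization.surj (nonZeroDivisors (R ⧸ q.asIdeal)) k₀
    obtain ⟨a, ha⟩ := Ideal.Quotient.mk_surjective x1
    obtain ⟨b, hb⟩ := Ideal.Quotient.mk_surjective x2.1
    have h1 : algebraMap (R ⧸ q.asIdeal) K₀ x1 = algebraMap R K₀ a := by
      rw [← ha]; rfl
    have h2 : algebraMap (R ⧸ q.asIdeal) K₀ x2.1 = algebraMap R K₀ b := by
      rw [← hb]; rfl
    have h3 : algebraMap R K₀ b ≠ 0 := by
      rw [← h2]
      intro h0
      have := (IsFractionRing.injective (R ⧸ q.asIdeal) K₀) (h0.trans (map_zero _).symm)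
      exact nonZeroDivisors.ne_zero x2.2 this
    refine ⟨a, b, ?_, ?_⟩
    · rw [hε]
      intro h0
      exact h3 (ε.injective (h0.trans (map_zero _).symm))
    · rw [hε, hε, ← hk, ← map_mul, ← h1, ← h2]
      exact congrArg ε hx
  obtain ⟨A, _, _, _, a₀, ⟨φ₀⟩, hall⟩ := exists_etale_root hK α
    (Algebra.IsSeparable.isSeparable (S.residueField (j q)) α)
  have hξ : Spec.map (CommRingCat.ofHom (algebraMap (S.residueField (j q)) Ω)) ≫
      S.fromSpecResidueField (j q) = Spec.map (CommRingCat.ofHom (algebraMap R Ω)) ≫ j := by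
    rw [← hρ, ← Category.assoc, ← Spec.map_comp]
    rfl
  have hét : Etale (Spec.map (CommRingCat.ofHom (algebraMap R A))) := by
    rw [HasRingHomProperty.Spec_iff (P := @Etale)]
    exact RingHom.etale_algebraMap.mpr inferInstance
  refine ⟨Spec (.of A), Spec.map (CommRingCat.ofHom (algebraMap R A)) ≫ j, inferInstance, ?_, ?_⟩
  · refine ⟨Spec.map (CommRingCat.ofHom φ₀.toRingHom), ?_⟩
    rw [hξ, ← Category.assoc, ← Spec.map_comp]
    congr 2
    ext x
    exact φ₀.commutes x
  · intro l hl
    obtain ⟨φ, rfl⟩ := Spec.map_surjective l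
    rw [hξ, ← Category.assoc, ← Spec.map_comp, cancel_mono] at hl
    have hl' := Spec.map_injective hl
    let φalg : A →ₐ[R] Ω :=
      { φ.hom with commutes' := fun x => congrArg (fun f => f.hom x) hl' }
    refine ⟨φ.hom a₀, mem_resImg_of_spec φ a₀, ?_⟩
    exact hall φalg

end Groth.Agent.Lib.Helper45.EtPt
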