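import Groth.Agent.Lib.Helper45.EtPt5
import Groth.Agent.Lib.Helper45.EtPt8

/-!
# Points of the small étale site, part 9: surjectivity of the comparison map
-/

set_option autoImplicit false
set_option linter.style.haveILetI false
set_option linter.unusedSectionVars false

open CategoryTheory AlgebraicGeometry Opposite Limits TopologicalSpace Polynomial IntermediateField
universe u
namespace Groth.Agent.Lib.Helper45.EtPt
variable {S : Scheme.{u}} {p : GrothendieckTopology.Point.{u} S.smallEtaleTopology}

/-- Binary products in the small étale site. -/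
noncomputable def prd (W U : S.Etale) : S.Etale :=
  Scheme.Etale.mk (pullback.fst W.hom U.hom ≫ W.hom)

/-- First projection. -/
noncomputable def prd₁ (W U : S.Etale) : prd W U ⟶ W :=
  MorphismProperty.Over.homMk (pullback.fst W.hom U.hom) rfl trivial

/-- Second projection. -/
noncomputable def prd₂ (W U : S.Etale) : prd W U ⟶ U :=
  MorphismProperty.Over.homMk (pullback.snd W.hom U.hom) pullback.condition.symm trivial

lemma prd₁_left (W U : S.Etale) : (prd₁ W U).left = pullback.fst W.hom U.hom := rfl
lemma prd₂_left (W U : S.Etale) : (prd₂ W U).left = pullback.snd W.hom U.hom := rfl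

section
variable (θ : p.fiber ⟶ v p)

/-- The residue image of the comparison map at an element. -/
noncomputable def L (a : p.fiber.Elements) : Subfield (Om p) := resImg (lft (θ.app a.1 a.2))

lemma theta_nat {W U : S.Etale} (g : W ⟶ U) (w : p.fiber.obj W) :
    θ.app U (p.fiber.map g w) = (v p).map g (θ.app W w) :=
  congrArg (fun q => q w) (θ.naturality g)

lemma L_mono {W U : S.Etale} (g : W ⟶ U) (w : p.fiber.obj W) :
    L θ ⟨U, p.fiber.map g w⟩ ≤ L θ ⟨W, w⟩ := by
  unfold L
  show resImg (lft (θ.app U (p.fiber.map g w))) ≤ resImg (lft (θ.app W w))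
  rw [theta_nat, lft_map]
  exact resImg_comp_le _ _

lemma L_directed : Directed (· ≤ ·) (L θ) := by
  rintro ⟨U₁, x₁⟩ ⟨U₂, x₂⟩
  obtain ⟨W, w, f₁, f₂, rfl, rfl⟩ := exists_common p x₁ x₂
  exact ⟨⟨W, w⟩, L_mono θ f₁ w, L_mono θ f₂ w⟩

lemma resImg_xi : resImg (xi p) =
    (algebraMap (S.residueField (basePt p)) (Om p)).fieldRange := by
  rw [xi_eq, resImg_eq]
  rfl

lemma resImg_xi_le (a : p.fiber.Elements) : resImg (xi p) ≤ L θ a := by
  unfold L
  rw [← lft_w (θ.app a.1 a.2)]
  exact resImg_comp_le _ _

instance : Nonempty p.fiber.Elements :=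
  (inferInstance : IsCofiltered p.fiber.Elements).nonempty

/-- The union of all residue images. -/
noncomputable def Lsup : IntermediateField (S.residueField (basePt p)) (Om p) :=
  Subfield.toIntermediateField (⨆ a, L θ a) (by
    intro x
    have a : p.fiber.Elements := Classical.arbitrary _
    have h1 : algebraMap _ (Om p) x ∈ resImg (xi p) := by
      rw [resImg_xi]
      exact ⟨x, rfl⟩
    exact (le_iSup (L θ) a) (resImg_xi_le θ a h1))

lemma mem_Lsup_iff (β : Om p) : β ∈ Lsup θ ↔ ∃ a, β ∈ L θ a := by
  show β ∈ (⨆ a, L θ a) ↔ _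
  exact Subfield.mem_iSup_of_directed (L_directed θ)

theorem Lsup_eq_top (hθ : ∀ (U : S.Etale) (x : p.fiber.obj U), lft (θ.app U x) default = pt x)
    (β : Om p) : ∃ a, β ∈ L θ a := by
  rw [← mem_Lsup_iff]
  have hroot : ∀ α : Om p, ∃ y : Lsup θ, aeval y (minpoly (S.residueField (basePt p)) α) = 0 := by
    intro α
    obtain ⟨A, f, hf, ⟨l₀, hl₀⟩, hall⟩ := exists_etale_nbhd_root (basePt p) α
    let A' : S.Etale := Scheme.Etale.mk f
    have hz : (toT A').left (l₀ default) = pt (fiber_T_nonempty p).some := by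
      show f (l₀ default) = basePt p
      have h1 : f (l₀ default) = (l₀ ≫ f) default := by simp
      rw [h1, hl₀, ← xi_eq, xi_default]
    obtain ⟨w, -, -⟩ := exists_lift_pt (toT A') _ (l₀ default) hz
    have hw : lft (θ.app A' w) ≫ f = Spec.map (CommRingCat.ofHom
        (algebraMap (S.residueField (basePt p)) (Om p))) ≫ S.fromSpecResidueField (basePt p) := by
      rw [← xi_eq]
      exact lft_w (θ.app A' w)
    obtain ⟨γ, hγ, hγ0⟩ := hall _ hw
    have hmem : γ ∈ Lsup θ := (mem_Lsup_iff θ γ).2 ⟨⟨A', w⟩, hγ⟩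
    refine ⟨⟨γ, hmem⟩, ?_⟩
    have h1 := Polynomial.aeval_algHom_apply (Lsup θ).val (⟨γ, hmem⟩ : Lsup θ)
      (minpoly (S.residueField (basePt p)) α)
    apply Subtype.ext
    exact h1.symm.trans hγ0
  obtain ⟨σ⟩ := Field.nonempty_algHom_of_exists_root hroot
  have hbij := Algebra.IsAlgebraic.algHom_bijective ((Lsup θ).val.comp σ)
  obtain ⟨β', hβ'⟩ := hbij.2 β
  rw [← hβ']
  exact (σ β').2

set_option backward.isDefEq.respectTransparency.types false in
lemma isSeparable_residueField_of_etale {X S : Scheme.{u}} (f : X ⟶ S) [Etale f] (x : X) :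
    letI : Algebra (S.residueField (f x)) (X.residueField x) :=
      (f.residueFieldMap x).hom.toAlgebra
    Algebra.IsSeparable (S.residueField (f x)) (X.residueField x) := by
  infer_instance

set_option backward.isDefEq.respectTransparency.types false in
theorem exists_resImg_le (hθ : ∀ (U : S.Etale) (x : p.fiber.obj U), lft (θ.app U x) default = pt x)
    {U : S.Etale} (t : (v p).obj U) : ∃ a, resImg (lft t) ≤ L θ a := by
  obtain ⟨y, hy⟩ : ∃ y, lft t default = y := ⟨_, rfl⟩
  obtain ⟨φ, hφ⟩ := exists_factor_residueField (lft t) y hy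
  let m := (U.hom.residueFieldMap y).hom
  dsimp at m
  algebraize [m]
  have : Module.Finite (S.residueField (U.hom y)) (U.left.residueField y) :=
    finite_residueField_of_etale U.hom y
  have : Algebra.IsSeparable (S.residueField (U.hom y)) (U.left.residueField y) :=
    isSeparable_residueField_of_etale U.hom y
  obtain ⟨β₀, hβ₀⟩ := Field.exists_primitive_element (S.residueField (U.hom y))
    (U.left.residueField y)
  obtain ⟨a, ha⟩ := Lsup_eq_top θ hθ (φ.hom β₀)
  refine ⟨a, ?_⟩
  rw [← hφ, resImg_eq]
  -- the preimage of `L θ a` is an intermediate field containing `β₀`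
  have hbase : ∀ c : S.residueField (U.hom y), φ.hom (m c) ∈ L θ a := by
    intro c
    have e1 : xi p = Spec.map (U.hom.residueFieldMap y ≫ φ) ≫
        S.fromSpecResidueField (U.hom y) := by
      rw [← lft_w t, ← hφ, Category.assoc, Spec.map_comp, Category.assoc]
      congr 1
      exact (Scheme.Hom.SpecMap_residueFieldMap_fromSpecResidueField U.hom y).symm
    apply resImg_xi_le θ a
    rw [e1, resImg_eq]
    exact ⟨c, rfl⟩
  let M : IntermediateField (S.residueField (U.hom y)) (U.left.residueField y) :=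
    Subfield.toIntermediateField ((L θ a).comap φ.hom) hbase
  have hβM : β₀ ∈ M := ha
  have htop : (⊤ : IntermediateField (S.residueField (U.hom y)) (U.left.residueField y)) ≤ M := by
    rw [← hβ₀, adjoin_simple_le_iff]
    exact hβM
  rintro _ ⟨b, rfl⟩
  have hb : b ∈ M := htop (IntermediateField.mem_top (x := b))
  exact hb

end

set_option backward.isDefEq.respectTransparency.types false in
theorem theta_surjective (θ : p.fiber ⟶ v p)
    (hθ : ∀ (U : S.Etale) (x : p.fiber.obj U), lft (θ.app U x) default = pt x) (U : S.Etale) :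
    Function.Surjective (θ.app U) := by
  intro t
  obtain ⟨⟨W, w⟩, hle⟩ := exists_resImg_le θ hθ t
  obtain ⟨φw, hφw⟩ := exists_factor_residueField (lft (θ.app W w)) (pt w) (hθ W w)
  unfold L at hle
  rw [← hφw, resImg_eq] at hle
  obtain ⟨γU, hγU⟩ := exists_factor_of_resImg_le (lft t) (pt w) φw hle
  -- `Spec.map φw` is an epimorphism
  have hepi : Epi (Spec.map φw) := by
    have hflat : Flat (Spec.map φw) := by
      rw [HasRingHomProperty.Spec_iff (P := @Flat)]
      algebraize [φw.hom]
      show Module.Flat _ _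
      infer_instance
    have hsurj : Surjective (Spec.map φw) := ⟨fun x => ⟨default, Subsingleton.elim _ _⟩⟩
    exact Flat.epi_of_flat_of_surjective _
  have hcompat : W.left.fromSpecResidueField (pt w) ≫ W.hom = γU ≫ U.hom := by
    rw [← cancel_epi (Spec.map φw), ← Category.assoc, ← Category.assoc, hφw, hγU, lft_w, lft_w]
  let γ : Spec (W.left.residueField (pt w)) ⟶ (prd W U).left :=
    pullback.lift (W.left.fromSpecResidueField (pt w)) γU hcompat
  have hγ1 : γ ≫ (prd₁ W U).left = W.left.fromSpecResidueField (pt w) := pullback.lift_fst _ _ _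
  have hγ2 : γ ≫ (prd₂ W U).left = γU := pullback.lift_snd _ _ _
  have hz : (prd₁ W U).left (γ default) = pt w := by
    have h1 : (prd₁ W U).left (γ default) = (γ ≫ (prd₁ W U).left) default := by simp
    rw [h1, hγ1]
    simp
  obtain ⟨xP, hxP1, hxP2⟩ := exists_lift_pt (prd₁ W U) w (γ default) hz
  have hτ1 : lft (θ.app _ xP) default = γ default := by rw [hθ, hxP2]
  have hτ2 : lft (θ.app _ xP) ≫ (prd₁ W U).left =
      Spec.map φw ≫ W.left.fromSpecResidueField (pt w) := by
    rw [← lft_map, ← theta_nat, hxP1, hφw]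
  have key := eq_of_section (prd₁ W U).left (pt w) γ hγ1 (lft (θ.app _ xP)) hτ1 φw hτ2
  refine ⟨p.fiber.map (prd₂ W U) xP, ?_⟩
  apply v_ext
  rw [theta_nat, lft_map, key, Category.assoc, hγ2, hγU]

theorem exists_iso (p : GrothendieckTopology.Point.{u} S.smallEtaleTopology) :
    Nonempty (p.fiber ≅ (Scheme.pointSmallEtale (xi p)).fiber) := by
  obtain ⟨θ, hθ⟩ := exists_theta p
  have : ∀ U, IsIso (θ.app U) := fun U =>
    (isIso_iff_bijective _).2 ⟨theta_injective θ hθ U, theta_surjective θ hθ U⟩
  have : IsIso θ := NatIso.isIso_of_isIso_app θ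
  exact ⟨asIso θ⟩

end Groth.Agent.Lib.Helper45.EtPt
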