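import Groth.Prelude.Def_EtOpen
import Groth.Agent.Lib.Helper45.SmallEtSheaf
import Mathlib.AlgebraicGeometry.Sites.EtalePoint
import Mathlib.CategoryTheory.Sites.DenseSubsite.SheafEquiv

/-!
# The small étale site of a separably closed field (helper45)

For `K` separably closed, the one-object subcategory `{Spec K}` is a dense subsite of the small
étale site of `Spec K` (every point of an étale `K`-scheme is the image of a section), so
restriction to it is an equivalence on sheaves.
-/

set_option autoImplicit false
set_option linter.style.haveILetI false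
set_option linter.unusedSectionVars false
set_option backward.isDefEq.respectTransparency false
universe u
open CategoryTheory CategoryTheory.Limits AlgebraicGeometry Opposite

namespace Groth.Agent.Lib.Helper45.EtSepCl

open Groth.Agent.Lib.Helper45.SmallEtSheaf

section top

variable (S : Scheme.{u})

theorem hom_top_ext {U : S.Etale} (f g : U ⟶ EtCoh.top S) : f = g := by
  apply MorphismProperty.Over.Hom.ext
  have h1 : f.left ≫ 𝟙 S = U.hom := MorphismProperty.Over.w f
  have h2 : g.left ≫ 𝟙 S = U.hom := MorphismProperty.Over.w g
  exact (Category.comp_id _).symm.trans (h1.trans (h2.symm.trans (Category.comp_id _)))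

/-- the inclusion of the final object. -/
noncomputable def G : Discrete PUnit.{1} ⥤ S.Etale := Functor.fromPUnit.{0} (EtCoh.top S)

instance : (G S).Faithful := ⟨fun _ => Subsingleton.elim _ _⟩

instance : (G S).Full :=
  ⟨fun {_ _} _ => ⟨Discrete.eqToHom (Subsingleton.elim _ _), hom_top_ext S _ _⟩⟩

end top

variable (K : Type u) [Field K] [IsSepClosed K]

/-- the point of `Spec K`. -/
noncomputable def pt : (EtCoh.top (Spec (.of K))).left := (default : ↥(Spec (.of K)))

/-- every point of an étale `K`-scheme is the image of a section. -/
theorem exists_section (V : (Spec (.of K)).Etale) (x : V.left) :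
    ∃ σ : EtCoh.top (Spec (.of K)) ⟶ V, σ.left (pt K) = x := by
  obtain ⟨l, hl1, hl2⟩ := Scheme.exists_fac_of_etale_of_isSepClosed V.hom
    (𝟙 (Spec (.of K))) x (Subsingleton.elim (α := ↥(Spec (.of K))) _ _)
  exact ⟨MorphismProperty.Over.homMk l hl1, hl2⟩

instance isCoverDense : (G (Spec (.of K))).IsCoverDense (Spec (.of K)).smallEtaleTopology where
  is_cover V := by
    rw [mem_et_iff]
    intro x
    obtain ⟨σ, hσ⟩ := exists_section K V x
    exact ⟨EtCoh.top _, σ, pt K,
      Presieve.in_coverByImage (G (Spec (.of K))) (Y := ⟨PUnit.unit⟩) σ, hσ⟩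

instance isDenseSubsite :
    (G (Spec (.of K))).IsDenseSubsite (GrothendieckTopology.trivial _)
      (Spec (.of K)).smallEtaleTopology where
  functorPushforward_mem_iff {X S} := by
    rw [GrothendieckTopology.trivial_covering]
    constructor
    · intro h
      rw [mem_et_iff] at h
      obtain ⟨W, f, w, ⟨Z, g, k, hg, _⟩, _⟩ := h (pt K)
      rw [← Sieve.id_mem_iff_eq_top]
      have : 𝟙 X = inv g ≫ g := by simp
      rw [this]
      exact S.downward_closed hg _
    · rintro rfl
      rw [Sieve.functorPushforward_top]
      exact GrothendieckTopology.top_mem _ _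

instance isEquivalence_restrict :
    ((G (Spec (.of K))).sheafPushforwardContinuous (Type (u + 1))
      (GrothendieckTopology.trivial _) (Spec (.of K)).smallEtaleTopology).IsEquivalence :=
  inferInstance

end Groth.Agent.Lib.Helper45.EtSepCl
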