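import Groth.Agent.Lib.Helper45.EtSepCl1

/-!
# Inverse image along an extension of separably closed fields is an equivalence (helper45)
-/

set_option autoImplicit false
set_option linter.style.haveILetI false
set_option linter.unusedSectionVars false
set_option backward.isDefEq.respectTransparency false
universe u
open CategoryTheory CategoryTheory.Limits AlgebraicGeometry Opposite

namespace Groth.Agent.Lib.Helper45.EtSepCl

section bc

variable {X Y : Scheme.{u}} (f : X ⟶ Y)

/-- base change of the final object is the final object. -/
noncomputable def bcTopIso : (EtCoh.bc f).obj (EtCoh.top Y) ≅ EtCoh.top X :=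
  MorphismProperty.Over.isoMk (asIso (pullback.snd (𝟙 Y) f)) (by
    change pullback.snd (𝟙 Y) f ≫ 𝟙 X = pullback.snd (𝟙 Y) f
    rw [Category.comp_id])

/-- compatibility of the inclusions of the final objects with base change. -/
noncomputable def GbcIso : G Y ⋙ EtCoh.bc f ≅ G X :=
  Discrete.natIso (fun _ => bcTopIso f)

end bc

variable (k k' : Type u) [Field k] [IsSepClosed k] [Field k'] [IsSepClosed k'] [Algebra k k']

/-- the morphism `Spec k' ⟶ Spec k`. -/
noncomputable abbrev uu : Spec (CommRingCat.of k') ⟶ Spec (CommRingCat.of k) :=
  Spec.map (CommRingCat.ofHom (algebraMap k k'))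

theorem isEquivalence_pushSh : (EtDesc.pushSh (uu k k')).IsEquivalence := by
  have e : EtDesc.pushSh (uu k k') ⋙
      (G (Spec (.of k))).sheafPushforwardContinuous (Type (u + 1))
        (GrothendieckTopology.trivial _) (Spec (.of k)).smallEtaleTopology ≅
      (G (Spec (.of k'))).sheafPushforwardContinuous (Type (u + 1))
        (GrothendieckTopology.trivial _) (Spec (.of k')).smallEtaleTopology :=
    Functor.sheafPushforwardContinuousComp' (F := G (Spec (.of k))) (G := EtCoh.bc (uu k k'))
      (FG := G (Spec (.of k'))) (GbcIso (uu k k')) (Type (u + 1))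
      (GrothendieckTopology.trivial _) (Spec (.of k)).smallEtaleTopology
      (Spec (.of k')).smallEtaleTopology
  have h1 : (EtDesc.pushSh (uu k k') ⋙
      (G (Spec (.of k))).sheafPushforwardContinuous (Type (u + 1))
        (GrothendieckTopology.trivial _) (Spec (.of k)).smallEtaleTopology).IsEquivalence :=
    Functor.isEquivalence_of_iso e.symm
  exact Functor.isEquivalence_of_comp_right _
    ((G (Spec (.of k))).sheafPushforwardContinuous (Type (u + 1))
        (GrothendieckTopology.trivial _) (Spec (.of k)).smallEtaleTopology)

theorem isEquivalence_pullSh : (EtDesc.pullSh (uu k k')).IsEquivalence := by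
  have := isEquivalence_pushSh k k'
  exact (EtDesc.adjSh (uu k k')).isEquivalence_left_of_isEquivalence_right

end Groth.Agent.Lib.Helper45.EtSepCl
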