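import Mathlib

/-!
# `K ⊗_A -` on finitely presented modules, for an object `K` of a preadditive category
with an action of a commutative ring `A`.

We work with a universal property: `u : M →ₗ[A] (K ⟶ Y)` is universal if every linear map
`M →ₗ[A] (K ⟶ X)` factors uniquely through a morphism `Y ⟶ X`.
-/

set_option autoImplicit false
set_option linter.style.haveILetI false
set_option linter.unusedSectionVars false

universe u v' u'

open CategoryTheory CategoryTheory.Limits

namespace Groth.Agent.Lib.Helper45.FPTensor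

variable {A : Type u} [CommRing A] {B : Type u'} [Category.{v'} B] [Preadditive B]
  {K : B} (κ : A →+* End K)

/-- `K ⟶ X` with the `A`-module structure through `κ`. -/
def HomK (_ : A →+* End K) (X : B) : Type v' := K ⟶ X

instance (X : B) : AddCommGroup (HomK κ X) := inferInstanceAs (AddCommGroup (K ⟶ X))

/-- The underlying morphism. -/
def HomK.hom {X : B} (f : HomK κ X) : K ⟶ X := f

/-- Constructor. -/
def HomK.mk {X : B} (f : K ⟶ X) : HomK κ X := f

instance (X : B) : Module A (HomK κ X) where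
  smul a f := HomK.mk κ (κ a ≫ HomK.hom κ f)
  one_smul f := by
    change κ 1 ≫ HomK.hom κ f = f
    rw [map_one]; exact Category.id_comp _
  mul_smul a b f := by
    change κ (a * b) ≫ HomK.hom κ f = κ a ≫ κ b ≫ HomK.hom κ f
    rw [mul_comm, map_mul, End.mul_def, Category.assoc]
  smul_zero a := by
    change κ a ≫ (0 : K ⟶ X) = 0
    exact comp_zero
  smul_add a f g := by
    change κ a ≫ (HomK.hom κ f + HomK.hom κ g) = κ a ≫ HomK.hom κ f + κ a ≫ HomK.hom κ g
    exact Preadditive.comp_add _ _ _ _ _ _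
  add_smul a b f := by
    change κ (a + b) ≫ HomK.hom κ f = κ a ≫ HomK.hom κ f + κ b ≫ HomK.hom κ f
    rw [map_add, Preadditive.add_comp]
  zero_smul f := by
    change κ 0 ≫ HomK.hom κ f = 0
    rw [map_zero, zero_comp]

lemma smul_def {X : B} (a : A) (f : HomK κ X) : a • f = HomK.mk κ (κ a ≫ HomK.hom κ f) := rfl

/-- Post-composition. -/
def post {X X' : B} (h : X ⟶ X') : HomK κ X →ₗ[A] HomK κ X' where
  toFun f := HomK.mk κ (HomK.hom κ f ≫ h)
  map_add' f g := by
    change (HomK.hom κ f + HomK.hom κ g) ≫ h = HomK.hom κ f ≫ h + HomK.hom κ g ≫ h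
    exact Preadditive.add_comp _ _ _ _ _ _
  map_smul' a f := by
    change (κ a ≫ HomK.hom κ f) ≫ h = κ a ≫ HomK.hom κ f ≫ h
    exact Category.assoc _ _ _

lemma post_apply {X X' : B} (h : X ⟶ X') (f : HomK κ X) :
    post κ h f = HomK.mk κ (HomK.hom κ f ≫ h) := rfl

lemma post_id (X : B) : post κ (𝟙 X) = LinearMap.id := by
  ext f
  change HomK.hom κ f ≫ 𝟙 X = f
  exact Category.comp_id _

lemma post_comp {X X' X'' : B} (h : X ⟶ X') (h' : X' ⟶ X'') :
    post κ (h ≫ h') = (post κ h').comp (post κ h) := by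
  ext f
  change HomK.hom κ f ≫ h ≫ h' = (HomK.hom κ f ≫ h) ≫ h'
  exact (Category.assoc _ _ _).symm

lemma post_zero {X X' : B} : post κ (0 : X ⟶ X') = 0 := by
  ext f
  change HomK.hom κ f ≫ (0 : X ⟶ X') = 0
  exact comp_zero

lemma post_add {X X' : B} (h h' : X ⟶ X') : post κ (h + h') = post κ h + post κ h' := by
  ext f
  change HomK.hom κ f ≫ (h + h') = HomK.hom κ f ≫ h + HomK.hom κ f ≫ h'
  exact Preadditive.comp_add _ _ _ _ _ _

section Univ

variable {M N P : Type u} [AddCommGroup M] [Module A M] [AddCommGroup N] [Module A N]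
  [AddCommGroup P] [Module A P]

/-- Universality of `u : M →ₗ[A] (K ⟶ Y)`. -/
def IsUniv {Y : B} (u : M →ₗ[A] HomK κ Y) : Prop :=
  ∀ (X : B) (φ : M →ₗ[A] HomK κ X), ∃! g : Y ⟶ X, (post κ g).comp u = φ

variable {κ}

/-- The induced morphism. -/
noncomputable def IsUniv.desc {Y : B} {u : M →ₗ[A] HomK κ Y} (hu : IsUniv κ u) {X : B}
    (φ : M →ₗ[A] HomK κ X) : Y ⟶ X := (hu X φ).choose

lemma IsUniv.fac {Y : B} {u : M →ₗ[A] HomK κ Y} (hu : IsUniv κ u) {X : B}
    (φ : M →ₗ[A] HomK κ X) : (post κ (hu.desc φ)).comp u = φ := (hu X φ).choose_spec.1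

lemma IsUniv.hom_ext {Y : B} {u : M →ₗ[A] HomK κ Y} (hu : IsUniv κ u) {X : B}
    {g g' : Y ⟶ X} (h : (post κ g).comp u = (post κ g').comp u) : g = g' :=
  (hu X ((post κ g').comp u)).unique h rfl

lemma IsUniv.desc_eq {Y : B} {u : M →ₗ[A] HomK κ Y} (hu : IsUniv κ u) {X : B}
    (φ : M →ₗ[A] HomK κ X) (g : Y ⟶ X) (h : (post κ g).comp u = φ) : hu.desc φ = g :=
  hu.hom_ext ((hu.fac φ).trans h.symm)

/-- Functoriality. -/
noncomputable def IsUniv.map {Y : B} {u : M →ₗ[A] HomK κ Y} (hu : IsUniv κ u) {Y' : B}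
    (u' : N →ₗ[A] HomK κ Y') (f : M →ₗ[A] N) : Y ⟶ Y' := hu.desc (u'.comp f)

lemma IsUniv.map_fac {Y : B} {u : M →ₗ[A] HomK κ Y} (hu : IsUniv κ u) {Y' : B}
    (u' : N →ₗ[A] HomK κ Y') (f : M →ₗ[A] N) :
    (post κ (hu.map u' f)).comp u = u'.comp f := hu.fac _

lemma IsUniv.map_id {Y : B} {u : M →ₗ[A] HomK κ Y} (hu : IsUniv κ u) :
    hu.map u LinearMap.id = 𝟙 Y := by
  apply hu.hom_ext
  rw [hu.map_fac, post_id]
  rfl

lemma IsUniv.map_comp {Y : B} {u : M →ₗ[A] HomK κ Y} (hu : IsUniv κ u) {Y' : B}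
    {u' : N →ₗ[A] HomK κ Y'} (hu' : IsUniv κ u') {Y'' : B} (u'' : P →ₗ[A] HomK κ Y'')
    (f : M →ₗ[A] N) (g : N →ₗ[A] P) :
    hu.map u'' (g.comp f) = hu.map u' f ≫ hu'.map u'' g := by
  apply hu.hom_ext
  rw [hu.map_fac, post_comp, LinearMap.comp_assoc, hu.map_fac]
  have h := hu'.map_fac u'' g
  calc (u'' ∘ₗ g) ∘ₗ f = ((post κ (hu'.map u'' g)).comp u') ∘ₗ f := by rw [h]
    _ = _ := LinearMap.comp_assoc _ _ _

lemma IsUniv.map_zero {Y : B} {u : M →ₗ[A] HomK κ Y} (hu : IsUniv κ u) {Y' : B}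
    (u' : N →ₗ[A] HomK κ Y') : hu.map u' 0 = 0 := by
  apply hu.hom_ext
  rw [hu.map_fac, post_zero, LinearMap.comp_zero, LinearMap.zero_comp]

/-- The universal object for `M = A` is `K`. -/
def uA : A →ₗ[A] HomK κ K where
  toFun a := HomK.mk κ (κ a)
  map_add' a b := map_add κ a b
  map_smul' a b := by
    change κ (a * b) = κ a ≫ κ b
    rw [mul_comm, map_mul, End.mul_def]

lemma uA_apply (a : A) : uA (κ := κ) a = HomK.mk κ (κ a) := rfl

lemma isUniv_uA : IsUniv κ (uA (κ := κ)) := by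
  intro X φ
  refine ⟨HomK.hom κ (φ 1), ?_, ?_⟩
  · ext
    change κ 1 ≫ HomK.hom κ (φ 1) = φ 1
    rw [map_one]; exact Category.id_comp _
  · intro g hg
    have := congrArg (fun ψ : A →ₗ[A] HomK κ X => ψ 1) hg
    change κ 1 ≫ g = φ 1 at this
    rw [map_one] at this
    exact (Category.id_comp g).symm.trans this

end Univ

section Factor

variable {M N P Q : Type*} [AddCommGroup M] [Module A M] [AddCommGroup N] [Module A N]
  [AddCommGroup P] [Module A P] [AddCommGroup Q] [Module A Q]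

lemma exists_factor (f : M →ₗ[A] N) (p : N →ₗ[A] P) (hp : Function.Surjective p)
    (hfp : Function.Exact f p) (ψ : N →ₗ[A] Q) (h : ψ.comp f = 0) :
    ∃ ψ' : P →ₗ[A] Q, ψ'.comp p = ψ := by
  have hker : LinearMap.ker p ≤ LinearMap.ker ψ := by
    intro n hn
    rw [LinearMap.mem_ker] at hn ⊢
    obtain ⟨m, rfl⟩ := (hfp n).1 hn
    exact LinearMap.congr_fun h m
  refine ⟨((LinearMap.ker p).liftQ ψ hker).comp
    (p.quotKerEquivOfSurjective hp).symm.toLinearMap, ?_⟩
  ext n
  have : (p.quotKerEquivOfSurjective hp).symm (p n) = Submodule.Quotient.mk n := by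
    rw [LinearEquiv.symm_apply_eq]
    rfl
  simp only [LinearMap.coe_comp, LinearEquiv.coe_coe, Function.comp_apply, this]
  rfl

end Factor

section Cokernel

variable {κ}
variable {M N P : Type u} [AddCommGroup M] [Module A M] [AddCommGroup N] [Module A N]
  [AddCommGroup P] [Module A P]

lemma comp_map_eq_zero (f : M →ₗ[A] N) {YM YN Z : B} {uM : M →ₗ[A] HomK κ YM}
    (huM : IsUniv κ uM) (uN : N →ₗ[A] HomK κ YN)
    (c : YN ⟶ Z) (w : huM.map uN f ≫ c = 0) : ((post κ c).comp uN).comp f = 0 := by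
  rw [LinearMap.comp_assoc, ← huM.map_fac uN f, ← LinearMap.comp_assoc, ← post_comp, w,
    post_zero, LinearMap.zero_comp]

/-- The cokernel of the induced map is universal for the cokernel module. -/
lemma isUniv_of_cokernel (f : M →ₗ[A] N) (p : N →ₗ[A] P) (hp : Function.Surjective p)
    {YM YN Z : B} {uM : M →ₗ[A] HomK κ YM}
    (huM : IsUniv κ uM) {uN : N →ₗ[A] HomK κ YN} (huN : IsUniv κ uN)
    (c : YN ⟶ Z) (w : huM.map uN f ≫ c = 0) (hc : IsColimit (CokernelCofork.ofπ c w))
    (uP : P →ₗ[A] HomK κ Z) (huP : uP.comp p = (post κ c).comp uN)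
    (hpf : p.comp f = 0) : IsUniv κ uP := by
  intro X φ
  have hepi : Epi c := epi_of_isColimit_cofork hc
  have h0 : huM.map uN f ≫ huN.desc (φ.comp p) = 0 := by
    apply huM.hom_ext
    rw [post_comp, LinearMap.comp_assoc, huM.map_fac, ← LinearMap.comp_assoc, huN.fac,
      LinearMap.comp_assoc, hpf, LinearMap.comp_zero, post_zero, LinearMap.zero_comp]
  let g : Z ⟶ X := hc.desc (CokernelCofork.ofπ (huN.desc (φ.comp p)) h0)
  have hg : c ≫ g = huN.desc (φ.comp p) :=
    hc.fac (CokernelCofork.ofπ (huN.desc (φ.comp p)) h0) WalkingParallelPair.one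
  have key : ∀ g' : Z ⟶ X, (post κ g').comp uP = φ ↔ c ≫ g' = huN.desc (φ.comp p) := by
    intro g'
    constructor
    · intro h
      symm
      apply huN.desc_eq
      rw [post_comp, LinearMap.comp_assoc, ← huP, ← LinearMap.comp_assoc, h]
    · intro h
      apply LinearMap.ext
      intro x
      obtain ⟨n, rfl⟩ := hp x
      have h1 := LinearMap.congr_fun huP n
      have h2 := LinearMap.congr_fun (huN.fac (φ.comp p)) n
      simp only [LinearMap.coe_comp, Function.comp_apply] at h1 h2 ⊢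
      rw [h1, ← h2, ← h, post_comp]
      rfl
  refine ⟨g, (key g).2 hg, ?_⟩
  intro g' hg'
  rw [← cancel_epi c, hg, (key g').1 hg']

/-- Conversely, the induced maps on universal objects of a right exact sequence form
a cokernel. -/
lemma isColimit_of_exact (f : M →ₗ[A] N) (p : N →ₗ[A] P) (hp : Function.Surjective p)
    (hfp : Function.Exact f p)
    {YM YN YP : B} {uM : M →ₗ[A] HomK κ YM}
    (huM : IsUniv κ uM) {uN : N →ₗ[A] HomK κ YN} (huN : IsUniv κ uN)
    {uP : P →ₗ[A] HomK κ YP} (huP : IsUniv κ uP)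
    (w : huM.map uN f ≫ huN.map uP p = 0) :
    Nonempty (IsColimit (CokernelCofork.ofπ (huN.map uP p) w)) := by
  have hfac : ∀ {X : B} (g : YN ⟶ X) (_ : huM.map uN f ≫ g = 0),
      ∃ ψ' : P →ₗ[A] HomK κ X, ψ'.comp p = (post κ g).comp uN := fun g hg =>
    exists_factor f p hp hfp _ (comp_map_eq_zero f huM uN g hg)
  refine ⟨CokernelCofork.IsColimit.ofπ _ _
    (fun {X} g hg => huP.desc (hfac g hg).choose) ?_ ?_⟩
  · intro X g hg
    apply huN.hom_ext
    rw [post_comp, LinearMap.comp_assoc, huN.map_fac, ← LinearMap.comp_assoc, huP.fac,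
      (hfac g hg).choose_spec]
  · intro X g hg m hm
    symm
    apply huP.desc_eq
    apply LinearMap.ext
    intro x
    obtain ⟨n, rfl⟩ := hp x
    have h1 := LinearMap.congr_fun (hfac g hg).choose_spec n
    have h2 := LinearMap.congr_fun (huN.map_fac uP p) n
    simp only [LinearMap.coe_comp, Function.comp_apply] at h1 h2 ⊢
    rw [h1, ← hm, post_comp, ← h2]
    rfl

end Cokernel

section Free

variable [HasFiniteBiproducts B]

/-- The universal map for `Fin n → A`. -/
noncomputable def uFree (n : ℕ) : (Fin n → A) →ₗ[A] HomK κ (⨁ fun _ : Fin n => K) :=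
  ∑ i, (LinearMap.proj i : (Fin n → A) →ₗ[A] A).smulRight
    (HomK.mk κ (biproduct.ι (fun _ : Fin n => K) i))

lemma uFree_single (n : ℕ) (i : Fin n) :
    uFree κ n (Pi.single i 1) = HomK.mk κ (biproduct.ι (fun _ : Fin n => K) i) := by
  classical
  rw [uFree, LinearMap.sum_apply]
  rw [Finset.sum_eq_single i]
  · simp
  · intro j _ hj
    simp [Pi.single_eq_of_ne hj]
  · intro h
    exact absurd (Finset.mem_univ i) h

lemma isUniv_uFree (n : ℕ) : IsUniv κ (uFree κ n) := by
  classical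
  intro X φ
  have hφ : ∀ (g : (⨁ fun _ : Fin n => K) ⟶ X), (post κ g).comp (uFree κ n) = φ ↔
      ∀ i, biproduct.ι (fun _ : Fin n => K) i ≫ g = HomK.hom κ (φ (Pi.single i 1)) := by
    intro g
    constructor
    · intro h i
      have := LinearMap.congr_fun h (Pi.single i 1)
      simp only [LinearMap.coe_comp, Function.comp_apply, uFree_single] at this
      exact this
    · intro h
      apply LinearMap.pi_ext'
      intro i
      apply LinearMap.ext_ring
      simp only [LinearMap.coe_comp, Function.comp_apply, LinearMap.coe_single, uFree_single]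
      exact h i
  refine ⟨biproduct.desc (fun i => HomK.hom κ (φ (Pi.single i 1))), (hφ _).2 ?_, ?_⟩
  · intro i
    exact biproduct.ι_desc _ _
  · intro g hg
    apply biproduct.hom_ext'
    intro i
    rw [(hφ g).1 hg i, biproduct.ι_desc]

end Free

end Groth.Agent.Lib.Helper45.FPTensor
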