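import Groth.Agent.Lib.Helper45.FPTensor

/-!
# The category of finitely presented modules and the functor `K ⊗_A -` on it.
-/

set_option autoImplicit false
set_option linter.style.haveILetI false
set_option linter.unusedSectionVars false

universe u v' u'

open CategoryTheory CategoryTheory.Limits

namespace Groth.Agent.Lib.Helper45.FPTensor

/-- Finitely presented modules. -/
abbrev FPMod (A : Type u) [CommRing A] :=
  ObjectProperty.FullSubcategory (fun M : ModuleCat.{u} A => Module.FinitePresentation A M)

section FPModCat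

variable {A : Type u} [CommRing A]

instance (M : FPMod A) : Module.FinitePresentation A M.obj := M.property

/-- The zero object. -/
def zeroObj : FPMod A :=
  ⟨ModuleCat.of A PUnit.{u + 1}, inferInstanceAs (Module.FinitePresentation A PUnit.{u + 1})⟩

lemma isZero_zeroObj : IsZero (zeroObj (A := A)) := by
  rw [IsZero.iff_id_eq_zero]
  apply ObjectProperty.hom_ext
  apply ModuleCat.hom_ext
  apply LinearMap.ext
  intro x
  exact Subsingleton.elim (α := PUnit.{u + 1}) _ _

instance : HasZeroObject (FPMod A) := ⟨⟨zeroObj, isZero_zeroObj⟩⟩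

/-- The binary bicone. -/
def prodBicone (M N : FPMod A) : BinaryBicone M N where
  pt := ⟨ModuleCat.of A (M.obj × N.obj), inferInstanceAs (Module.FinitePresentation A (M.obj × N.obj))⟩
  fst := ObjectProperty.homMk (ModuleCat.ofHom (LinearMap.fst A M.obj N.obj))
  snd := ObjectProperty.homMk (ModuleCat.ofHom (LinearMap.snd A M.obj N.obj))
  inl := ObjectProperty.homMk (ModuleCat.ofHom (LinearMap.inl A M.obj N.obj))
  inr := ObjectProperty.homMk (ModuleCat.ofHom (LinearMap.inr A M.obj N.obj))
  inl_fst := by
    apply ObjectProperty.hom_ext; apply ModuleCat.hom_ext; apply LinearMap.ext; intro x; rfl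
  inl_snd := by
    apply ObjectProperty.hom_ext; apply ModuleCat.hom_ext; apply LinearMap.ext; intro x; rfl
  inr_fst := by
    apply ObjectProperty.hom_ext; apply ModuleCat.hom_ext; apply LinearMap.ext; intro x; rfl
  inr_snd := by
    apply ObjectProperty.hom_ext; apply ModuleCat.hom_ext; apply LinearMap.ext; intro x; rfl

instance : HasBinaryBiproducts (FPMod A) :=
  ⟨fun M N => HasBinaryBiproduct.mk ⟨prodBicone M N, isBinaryBilimitOfTotal _ (by
    apply ObjectProperty.hom_ext; apply ModuleCat.hom_ext; apply LinearMap.ext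
    rintro ⟨x, y⟩
    change ((x, 0) : M.obj × N.obj) + (0, y) = (x, y)
    simp)⟩⟩

section

variable {M N : FPMod A} (f : M ⟶ N)

/-- The cokernel object. -/
def cokerObj : FPMod A :=
  ⟨ModuleCat.of A (N.obj ⧸ LinearMap.range f.hom.hom), by
    refine Module.finitePresentation_of_surjective (LinearMap.range f.hom.hom).mkQ
      (Submodule.mkQ_surjective _) ?_
    rw [Submodule.ker_mkQ, LinearMap.range_eq_map]
    exact Module.Finite.fg_top.map _⟩

/-- The projection to the cokernel. -/
def cokerπ : N ⟶ cokerObj f :=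
  ObjectProperty.homMk (ModuleCat.ofHom (LinearMap.range f.hom.hom).mkQ)

lemma coker_condition : f ≫ cokerπ f = 0 := by
  apply ObjectProperty.hom_ext; apply ModuleCat.hom_ext; apply LinearMap.ext
  intro x
  change Submodule.Quotient.mk (f.hom.hom x) = 0
  rw [Submodule.Quotient.mk_eq_zero]
  exact LinearMap.mem_range_self _ _

/-- The cokernel cofork is a colimit. -/
def isColimitCoker : IsColimit (CokernelCofork.ofπ (cokerπ f) (coker_condition f)) :=
  CokernelCofork.IsColimit.ofπ _ _
    (fun {Z} g hg => ObjectProperty.homMk (ModuleCat.ofHom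
      ((LinearMap.range f.hom.hom).liftQ g.hom.hom (by
        rintro _ ⟨x, rfl⟩
        rw [LinearMap.mem_ker]
        have := congrArg (fun k : M ⟶ Z => k.hom.hom x) hg
        exact this))))
    (fun {Z} g hg => by
      apply ObjectProperty.hom_ext; apply ModuleCat.hom_ext; apply LinearMap.ext
      intro x; rfl)
    (fun {Z} g hg m hm => by
      apply ObjectProperty.hom_ext; apply ModuleCat.hom_ext; apply LinearMap.ext
      intro x
      obtain ⟨y, rfl⟩ := Submodule.mkQ_surjective _ x
      have := congrArg (fun k : N ⟶ Z => k.hom.hom y) hm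
      exact this)

end

instance : HasCokernels (FPMod A) :=
  ⟨fun f => ⟨⟨⟨_, isColimitCoker f⟩⟩⟩⟩

instance : HasCoequalizers (FPMod A) := Preadditive.hasCoequalizers_of_hasCokernels

instance : HasFiniteCoproducts (FPMod A) := hasFiniteCoproducts_of_has_binary_and_initial

end FPModCat

section Functor

variable {A : Type u} [CommRing A] {B : Type u'} [Category.{v'} B] [Preadditive B]
  [HasFiniteBiproducts B] [HasCokernels B] {K : B} (κ : A →+* End K)

lemma exists_isUniv (M : Type u) [AddCommGroup M] [Module A M] [Module.FinitePresentation A M] :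
    ∃ (Y : B) (u : M →ₗ[A] HomK κ Y), IsUniv κ u := by
  obtain ⟨n, m, f, g, hf, hgf⟩ := Module.FinitePresentation.exists_fin' A M
  let t := (isUniv_uFree κ m).map (uFree κ n) g
  obtain ⟨uP, huP⟩ := exists_factor g f hf hgf ((post κ (cokernel.π t)).comp (uFree κ n))
    (comp_map_eq_zero g _ _ _ (cokernel.condition t))
  exact ⟨cokernel t, uP, isUniv_of_cokernel g f hf (isUniv_uFree κ m) (isUniv_uFree κ n)
    (cokernel.π t) (cokernel.condition t) (cokernelIsCokernel t) uP huP
    hgf.linearMap_comp_eq_zero⟩

/-- The object `K ⊗_A M`. -/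
noncomputable def tensorObj (M : FPMod A) : B := (exists_isUniv κ M.obj).choose

/-- The universal map. -/
noncomputable def tensorU (M : FPMod A) : M.obj →ₗ[A] HomK κ (tensorObj κ M) :=
  (exists_isUniv κ M.obj).choose_spec.choose

lemma isUniv_tensorU (M : FPMod A) : IsUniv κ (tensorU κ M) :=
  (exists_isUniv κ M.obj).choose_spec.choose_spec

/-- The functor `K ⊗_A -`. -/
noncomputable def tensorFunctor : FPMod A ⥤ B where
  obj := tensorObj κ
  map {M N} f := (isUniv_tensorU κ M).map (tensorU κ N) f.hom.hom
  map_id M := (isUniv_tensorU κ M).map_id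
  map_comp {M N P} f g :=
    (isUniv_tensorU κ M).map_comp (isUniv_tensorU κ N) (tensorU κ P) f.hom.hom g.hom.hom

instance : (tensorFunctor κ).PreservesZeroMorphisms :=
  ⟨fun M N => (isUniv_tensorU κ M).map_zero (tensorU κ N)⟩

lemma exact_coker {M N : FPMod A} (f : M ⟶ N) :
    Function.Exact f.hom.hom (cokerπ f).hom.hom := by
  intro y
  change Submodule.Quotient.mk y = 0 ↔ _
  rw [Submodule.Quotient.mk_eq_zero]
  rfl

instance {M N : FPMod A} (f : M ⟶ N) : PreservesColimit (parallelPair f 0) (tensorFunctor κ) := by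
  apply preservesColimit_of_preserves_colimit_cocone (isColimitCoker f)
  have w : (tensorFunctor κ).map f ≫ (tensorFunctor κ).map (cokerπ f) = 0 := by
    rw [← Functor.map_comp, coker_condition, Functor.map_zero]
  exact (isColimitMapCoconeCoforkEquiv' (tensorFunctor κ) (coker_condition f)).symm
    (isColimit_of_exact f.hom.hom (cokerπ f).hom.hom (Submodule.mkQ_surjective _)
      (exact_coker f) (isUniv_tensorU κ M) (isUniv_tensorU κ N) (isUniv_tensorU κ _) w).some

instance : PreservesFiniteColimits (tensorFunctor κ) := by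
  haveI : HasZeroObject B := hasZeroObject_of_hasFiniteBiproducts B
  exact Functor.preservesFiniteColimits_of_preservesCokernels _

/-- Comparison with any other universal object. -/
noncomputable def tensorIso (M : FPMod A) {Y : B} {u : M.obj →ₗ[A] HomK κ Y} (hu : IsUniv κ u) :
    tensorObj κ M ≅ Y where
  hom := (isUniv_tensorU κ M).desc u
  inv := hu.desc (tensorU κ M)
  hom_inv_id := by
    apply (isUniv_tensorU κ M).hom_ext
    rw [post_comp, LinearMap.comp_assoc, (isUniv_tensorU κ M).fac, hu.fac, post_id]
    rfl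
  inv_hom_id := by
    apply hu.hom_ext
    rw [post_comp, LinearMap.comp_assoc, hu.fac, (isUniv_tensorU κ M).fac, post_id]
    rfl

theorem main (h : Module.FinitePresentation A (ModuleCat.of A A)) :
    ∃ (F : FPMod A ⥤ B) (_ : PreservesFiniteColimits F)
      (e : F.obj (⟨ModuleCat.of A A, h⟩ : FPMod A) ≅ K),
      ∀ a : A, F.map (ObjectProperty.homMk (ModuleCat.ofHom (LinearMap.lsmul A A a)) :
        (⟨ModuleCat.of A A, h⟩ : FPMod A) ⟶ (⟨ModuleCat.of A A, h⟩ : FPMod A)) ≫ e.hom =
          e.hom ≫ κ a := by
  let M : FPMod A := ⟨ModuleCat.of A A, h⟩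
  let uM : M.obj →ₗ[A] HomK κ K := uA (κ := κ)
  have huM : IsUniv κ uM := isUniv_uA
  refine ⟨tensorFunctor κ, inferInstance, tensorIso κ M huM, ?_⟩
  intro a
  apply (isUniv_tensorU κ M).hom_ext
  change (post κ ((isUniv_tensorU κ M).map (tensorU κ M) (LinearMap.lsmul A A a) ≫
    (isUniv_tensorU κ M).desc uM)).comp (tensorU κ M) =
    (post κ ((isUniv_tensorU κ M).desc uM ≫ κ a)).comp (tensorU κ M)
  rw [post_comp, LinearMap.comp_assoc, (isUniv_tensorU κ M).map_fac, ← LinearMap.comp_assoc,
    (isUniv_tensorU κ M).fac, post_comp, LinearMap.comp_assoc, (isUniv_tensorU κ M).fac]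
  apply LinearMap.ext
  intro b
  change κ (a * b) = κ b ≫ κ a
  rw [map_mul, End.mul_def]

end Functor

end Groth.Agent.Lib.Helper45.FPTensor
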