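import Groth.Agent.Lib.Helper45.FPTensor2

/-!
# Right exact functors on finitely presented modules are tensor functors:
the canonical maps `m ↦ F(m̂)` are universal.
-/

set_option autoImplicit false
set_option linter.style.haveILetI false
set_option linter.unusedSectionVars false

universe u v' u'

open CategoryTheory CategoryTheory.Limits

namespace Groth.Agent.Lib.Helper45.FPTensor

variable {A : Type u} [CommRing A] {B : Type u'} [Category.{v'} B] [Preadditive B]

/-- Variant of `isUniv_of_cokernel` with an arbitrary representative of the induced map. -/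
lemma isUniv_of_cokernel' {K : B} {κ : A →+* End K}
    {M N P : Type u} [AddCommGroup M] [Module A M] [AddCommGroup N] [Module A N]
    [AddCommGroup P] [Module A P]
    (f : M →ₗ[A] N) (p : N →ₗ[A] P) (hp : Function.Surjective p)
    {YM YN Z : B} {uM : M →ₗ[A] HomK κ YM}
    (huM : IsUniv κ uM) {uN : N →ₗ[A] HomK κ YN} (huN : IsUniv κ uN)
    (t : YM ⟶ YN) (ht : (post κ t).comp uM = uN.comp f)
    (c : YN ⟶ Z) (w : t ≫ c = 0) (hc : IsColimit (CokernelCofork.ofπ c w))
    (uP : P →ₗ[A] HomK κ Z) (huP : uP.comp p = (post κ c).comp uN)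
    (hpf : p.comp f = 0) : IsUniv κ uP := by
  obtain rfl : huM.map uN f = t := huM.desc_eq _ _ ht
  exact isUniv_of_cokernel f p hp huM huN c w hc uP huP hpf

/-- Right exact sequences of f.p. modules give cokernels in `FPMod A`. -/
noncomputable def isColimitOfExact {M N P : FPMod A} (f : M ⟶ N) (p : N ⟶ P)
    (hp : Function.Surjective p.hom.hom) (hex : Function.Exact f.hom.hom p.hom.hom)
    (w : f ≫ p = 0) : IsColimit (CokernelCofork.ofπ p w) :=
  have hfac : ∀ {Z : FPMod A} (g : N ⟶ Z) (_ : f ≫ g = 0),
      ∃ ψ' : P.obj →ₗ[A] Z.obj, ψ'.comp p.hom.hom = g.hom.hom := fun {Z} g hg =>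
    exists_factor f.hom.hom p.hom.hom hp hex g.hom.hom (by
      apply LinearMap.ext
      intro x
      exact congrArg (fun k : M ⟶ Z => k.hom.hom x) hg)
  CokernelCofork.IsColimit.ofπ _ _
    (fun {Z} g hg => ObjectProperty.homMk (ModuleCat.ofHom (hfac g hg).choose))
    (fun {Z} g hg => by
      apply ObjectProperty.hom_ext; apply ModuleCat.hom_ext
      exact (hfac g hg).choose_spec)
    (fun {Z} g hg m hm => by
      apply ObjectProperty.hom_ext; apply ModuleCat.hom_ext; apply LinearMap.ext
      intro x
      obtain ⟨y, rfl⟩ := hp x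
      have h1 := congrArg (fun k : N ⟶ Z => k.hom.hom y) hm
      have h2 := LinearMap.congr_fun (hfac g hg).choose_spec y
      exact h1.trans h2.symm)

/-- The unit object. -/
def unitObj : FPMod A := ⟨ModuleCat.of A A, inferInstanceAs (Module.FinitePresentation A A)⟩

/-- Multiplication by `a` on the unit object. -/
def mulHom (a : A) : (unitObj (A := A)) ⟶ unitObj :=
  ObjectProperty.homMk (ModuleCat.ofHom (LinearMap.lsmul A A a))

/-- The morphism `a ↦ a • m`. -/
def toSpan {M : FPMod A} (m : M.obj) : unitObj ⟶ M :=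
  ObjectProperty.homMk (ModuleCat.ofHom (LinearMap.toSpanSingleton A M.obj m))

lemma toSpan_add {M : FPMod A} (m m' : M.obj) : toSpan (m + m') = toSpan m + toSpan m' := by
  apply ObjectProperty.hom_ext; apply ModuleCat.hom_ext; apply LinearMap.ext
  intro (b : A)
  change b • (m + m') = b • m + b • m'
  exact smul_add b m m'

lemma toSpan_smul {M : FPMod A} (a : A) (m : M.obj) : toSpan (a • m) = mulHom a ≫ toSpan m := by
  apply ObjectProperty.hom_ext; apply ModuleCat.hom_ext; apply LinearMap.ext
  intro (b : A)
  change b • a • m = (a * b) • m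
  rw [smul_smul, mul_comm]

lemma toSpan_comp {M N : FPMod A} (f : M ⟶ N) (m : M.obj) :
    toSpan (f.hom.hom m) = toSpan m ≫ f := by
  apply ObjectProperty.hom_ext; apply ModuleCat.hom_ext; apply LinearMap.ext
  intro (b : A)
  change b • f.hom.hom m = f.hom.hom (b • m)
  exact (map_smul _ _ _).symm

lemma toSpan_unit (a : A) : toSpan (M := unitObj) a = mulHom a := by
  apply ObjectProperty.hom_ext; apply ModuleCat.hom_ext; apply LinearMap.ext
  intro (b : A)
  change b * a = a * b
  exact mul_comm _ _

lemma mulHom_one : mulHom (1 : A) = 𝟙 _ := by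
  apply ObjectProperty.hom_ext; apply ModuleCat.hom_ext; apply LinearMap.ext
  intro (b : A)
  change (1 : A) * b = b
  exact one_mul _

lemma mulHom_mul (a b : A) : mulHom (a * b) = mulHom b ≫ mulHom a := by
  apply ObjectProperty.hom_ext; apply ModuleCat.hom_ext; apply LinearMap.ext
  intro (c : A)
  change a * b * c = a * (b * c)
  exact mul_assoc _ _ _

lemma mulHom_zero : mulHom (0 : A) = 0 := by
  apply ObjectProperty.hom_ext; apply ModuleCat.hom_ext; apply LinearMap.ext
  intro (c : A)
  change (0 : A) * c = 0
  exact zero_mul _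

lemma mulHom_add (a b : A) : mulHom (a + b) = mulHom a + mulHom b := by
  apply ObjectProperty.hom_ext; apply ModuleCat.hom_ext; apply LinearMap.ext
  intro (c : A)
  change (a + b) * c = a * c + b * c
  exact add_mul _ _ _

section Canonical

variable (F : FPMod A ⥤ B) [F.Additive]

/-- The action of `A` on `F(A)`. -/
def actF : A →+* End (F.obj unitObj) where
  toFun a := F.map (mulHom a)
  map_one' := by rw [mulHom_one, F.map_id]; rfl
  map_mul' a b := by rw [mulHom_mul, F.map_comp, End.mul_def]
  map_zero' := by rw [mulHom_zero, F.map_zero]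
  map_add' a b := by rw [mulHom_add, F.map_add]

lemma actF_apply (a : A) : actF F a = F.map (mulHom a) := rfl

/-- The canonical map `m ↦ F(m̂)`. -/
def uCan (M : FPMod A) : M.obj →ₗ[A] HomK (actF F) (F.obj M) where
  toFun m := HomK.mk _ (F.map (toSpan m))
  map_add' m m' := by
    change F.map (toSpan (m + m')) = F.map (toSpan m) + F.map (toSpan m')
    rw [toSpan_add, F.map_add]
  map_smul' a m := by
    change F.map (toSpan (a • m)) = F.map (mulHom a) ≫ F.map (toSpan m)
    rw [toSpan_smul, F.map_comp]

lemma uCan_apply (M : FPMod A) (m : M.obj) : uCan F M m = HomK.mk _ (F.map (toSpan m)) := rfl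

lemma uCan_naturality {M N : FPMod A} (f : M ⟶ N) :
    (post (actF F) (F.map f)).comp (uCan F M) = (uCan F N).comp f.hom.hom := by
  apply LinearMap.ext
  intro m
  change F.map (toSpan m) ≫ F.map f = F.map (toSpan (f.hom.hom m))
  rw [toSpan_comp, F.map_comp]

lemma isUniv_uCan_unit : IsUniv (actF F) (uCan F unitObj) := by
  have : uCan F unitObj = uA (κ := actF F) := by
    apply LinearMap.ext
    intro a
    change F.map (toSpan (M := unitObj) a) = F.map (mulHom a)
    rw [toSpan_unit]
  rw [this]
  exact isUniv_uA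

/-- The free object of rank `n`. -/
def freeObj (n : ℕ) : FPMod A :=
  ⟨ModuleCat.of A (Fin n → A), inferInstanceAs (Module.FinitePresentation A (Fin n → A))⟩

/-- Inclusions. -/
def freeι (n : ℕ) (i : Fin n) : (unitObj (A := A)) ⟶ freeObj n :=
  ObjectProperty.homMk (ModuleCat.ofHom (LinearMap.single A (fun _ : Fin n => A) i))

/-- Projections. -/
def freeπ (n : ℕ) (i : Fin n) : (freeObj (A := A) n) ⟶ unitObj :=
  ObjectProperty.homMk (ModuleCat.ofHom (LinearMap.proj (R := A) (φ := fun _ : Fin n => A) i))

lemma freeι_π_self (n : ℕ) (i : Fin n) : freeι (A := A) n i ≫ freeπ n i = 𝟙 _ := by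
  apply ObjectProperty.hom_ext; apply ModuleCat.hom_ext; apply LinearMap.ext
  intro (b : A)
  change (Pi.single i b : Fin n → A) i = b
  simp

lemma freeι_π_ne (n : ℕ) {i j : Fin n} (h : j ≠ i) : freeι (A := A) n i ≫ freeπ n j = 0 := by
  apply ObjectProperty.hom_ext; apply ModuleCat.hom_ext; apply LinearMap.ext
  intro (b : A)
  change (Pi.single i b : Fin n → A) j = 0
  simp [Pi.single_eq_of_ne h]

lemma free_total (n : ℕ) : ∑ i, freeπ (A := A) n i ≫ freeι n i = 𝟙 (freeObj n) := by
  classical
  apply ObjectProperty.hom_ext; apply ModuleCat.hom_ext; apply LinearMap.ext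
  intro v
  have h1 : ∀ (s : Finset (Fin n)),
      ((∑ i ∈ s, freeπ (A := A) n i ≫ freeι n i : freeObj n ⟶ freeObj n)).hom.hom v =
        ∑ i ∈ s, Pi.single i (v i) := by
    intro s
    induction s using Finset.induction_on with
    | empty => simp; rfl
    | insert a s ha ih =>
      rw [Finset.sum_insert ha, Finset.sum_insert ha, ← ih]
      rfl
  rw [h1]
  change ∑ i, Pi.single i (v i) = v
  exact Finset.univ_sum_single v

lemma toSpan_single (n : ℕ) (i : Fin n) :
    toSpan (M := freeObj (A := A) n) (Pi.single i 1) = freeι n i := by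
  apply ObjectProperty.hom_ext; apply ModuleCat.hom_ext; apply LinearMap.ext
  intro (b : A)
  change b • (Pi.single i (1 : A) : Fin n → A) = Pi.single i b
  rw [← Pi.single_smul, smul_eq_mul, mul_one]

lemma isUniv_uCan_free (n : ℕ) : IsUniv (actF F) (uCan F (freeObj n)) := by
  classical
  intro X φ
  have hφ : ∀ (g : F.obj (freeObj n) ⟶ X), (post (actF F) g).comp (uCan F (freeObj n)) = φ ↔
      ∀ i, F.map (freeι n i) ≫ g = HomK.hom _ (φ (Pi.single i 1)) := by
    intro g
    constructor
    · intro h i
      have := LinearMap.congr_fun h (Pi.single i 1)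
      rw [← toSpan_single]
      exact this
    · intro h
      apply LinearMap.pi_ext'
      intro i
      apply LinearMap.ext_ring
      have := h i
      rw [← toSpan_single] at this
      exact this
  refine ⟨∑ i, F.map (freeπ n i) ≫ HomK.hom _ (φ (Pi.single i 1)), (hφ _).2 ?_, ?_⟩
  · intro j
    rw [Preadditive.comp_sum, Finset.sum_eq_single j]
    · rw [← Category.assoc, ← F.map_comp, freeι_π_self, F.map_id, Category.id_comp]
    · intro i _ hi
      rw [← Category.assoc, ← F.map_comp, freeι_π_ne n hi, F.map_zero, zero_comp]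
    · intro h
      exact absurd (Finset.mem_univ j) h
  · intro g hg
    have h := (hφ g).1 hg
    calc g = F.map (𝟙 _) ≫ g := by rw [F.map_id, Category.id_comp]
      _ = _ := by
        rw [← free_total, F.map_sum, Preadditive.sum_comp]
        apply Finset.sum_congr rfl
        intro i _
        rw [F.map_comp, Category.assoc, h i]

variable [HasFiniteBiproducts B] [PreservesFiniteColimits F]

theorem isUniv_uCan (M : FPMod A) : IsUniv (actF F) (uCan F M) := by
  obtain ⟨n, m, f, g, hf, hgf⟩ := Module.FinitePresentation.exists_fin' A M.obj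
  let g' : freeObj (A := A) m ⟶ freeObj n := ObjectProperty.homMk (ModuleCat.ofHom g)
  let p' : freeObj (A := A) n ⟶ M := ObjectProperty.homMk (ModuleCat.ofHom f)
  have w : g' ≫ p' = 0 := by
    apply ObjectProperty.hom_ext; apply ModuleCat.hom_ext
    exact hgf.linearMap_comp_eq_zero
  have hc : IsColimit (CokernelCofork.ofπ p' w) := isColimitOfExact g' p' hf hgf w
  have w' : F.map g' ≫ F.map p' = 0 := by rw [← F.map_comp, w, F.map_zero]
  have hc' : IsColimit (CokernelCofork.ofπ (F.map p') w') :=
    isColimitMapCoconeCoforkEquiv' F w (isColimitOfPreserves F hc)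
  exact isUniv_of_cokernel' g f hf (isUniv_uCan_free F m) (isUniv_uCan_free F n)
    (F.map g') (uCan_naturality F g') (F.map p') w' hc' (uCan F M)
    (uCan_naturality F p').symm hgf.linearMap_comp_eq_zero

end Canonical

end Groth.Agent.Lib.Helper45.FPTensor
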