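import Groth.Agent.Lib.Helper45.QcSum4
import Mathlib.Algebra.Category.ModuleCat.Sheaf.Generators
import Mathlib.Algebra.Category.ModuleCat.Sheaf.Quasicoherent

/-!
# Dictionary: `SheafOfModules.IsFiniteType` on a small ringed site versus local generation by
finitely many sections (`FT`, `LocGen`).  The first section follows helper64's `FinTypeStalk`.
-/

set_option autoImplicit false
set_option linter.style.haveILetI false
set_option linter.unusedSectionVars false

universe u

open CategoryTheory CategoryTheory.Limits Opposite ModSite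

namespace Groth.Agent.Lib.Helper45.FTDict

open Groth.Agent.Lib.Helper45.QcSum

section General

variable {C : Type u} [SmallCategory C] {J : GrothendieckTopology C} {R : Sheaf J RingCat.{u}}

variable (N : SheafOfModules.{u} R) {I : Type u}

open Classical in
/-- projections of a free sheaf of modules (after helper64's FinTypeStalk) -/
noncomputable def proj (i : I) : SheafOfModules.free (R := R) I ⟶ SheafOfModules.unit R :=
  Cofan.IsColimit.desc (SheafOfModules.isColimitFreeCofan I) (fun j => if j = i then 𝟙 _ else 0)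

open Classical in
lemma ιFree_proj (i j : I) :
    SheafOfModules.ιFree (R := R) j ≫ proj i = if j = i then 𝟙 _ else 0 := by
  rw [← SheafOfModules.freeCofan_inj]
  exact Cofan.IsColimit.fac (SheafOfModules.isColimitFreeCofan I) _ j

lemma sum_proj_ι [Fintype I] :
    ∑ i : I, proj (R := R) i ≫ SheafOfModules.ιFree i = 𝟙 (SheafOfModules.free (R := R) I) := by
  classical
  apply Cofan.IsColimit.hom_ext (SheafOfModules.isColimitFreeCofan I)
  intro j
  show SheafOfModules.ιFree j ≫ (∑ i, proj i ≫ SheafOfModules.ιFree i) =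
    SheafOfModules.ιFree j ≫ 𝟙 (SheafOfModules.free I)
  rw [Preadditive.comp_sum]
  simp_rw [← Category.assoc, ιFree_proj]
  rw [Finset.sum_eq_single j]
  · simp
  · intro b _ hb
    rw [if_neg (Ne.symm hb), zero_comp]
  · intro h; exact absurd (Finset.mem_univ j) h

lemma sum_val_app {M M' : SheafOfModules.{u} R} {ι : Type*} (t : Finset ι) (f : ι → (M ⟶ M'))
    (Z : Cᵒᵖ) (a : M.val.obj Z) :
    (∑ i ∈ t, f i).val.app Z a = ∑ i ∈ t, (f i).val.app Z a := by
  classical
  induction t using Finset.induction_on with
  | empty => rfl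
  | insert i t hi ih =>
    rw [Finset.sum_insert hi, Finset.sum_insert hi, ← ih]
    rfl

lemma unitHomEquiv_symm_app (s : N.sections) (Z : Cᵒᵖ) (r : R.obj.obj Z) :
    (N.unitHomEquiv.symm s).val.app Z r = r • PresheafOfModules.sections.eval s Z := by
  rfl

lemma app_mem_span [Finite I] (s : I → N.sections) (Z : Cᵒᵖ)
    (t : (SheafOfModules.free (R := R) I).val.obj Z) :
    (N.freeHomEquiv.symm s).val.app Z t ∈
      Submodule.span (R.obj.obj Z) (Set.range fun i => PresheafOfModules.sections.eval (s i) Z) := by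
  classical
  have := Fintype.ofFinite I
  have h1 : t = (∑ i : I, proj (R := R) i ≫ SheafOfModules.ιFree i).val.app Z t := by
    rw [sum_proj_ι]; rfl
  rw [h1, sum_val_app, map_sum]
  refine Submodule.sum_mem _ (fun i _ => ?_)
  have h2 : (N.freeHomEquiv.symm s).val.app Z
      ((proj (R := R) i ≫ SheafOfModules.ιFree i).val.app Z t)
      = (SheafOfModules.ιFree i ≫ N.freeHomEquiv.symm s).val.app Z
        ((proj (R := R) i).val.app Z t) := rfl
  rw [h2, ← SheafOfModules.unitHomEquiv_symm_freeHomEquiv_apply, Equiv.apply_symm_apply,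
    unitHomEquiv_symm_app]
  exact Submodule.smul_mem _ _ (Submodule.subset_span ⟨i, rfl⟩)

open Groth.Agent.Lib.Helper42.ModSheaf in
lemma exists_covering_span [Finite I] (s : I → N.sections) [Epi (N.freeHomEquiv.symm s)]
    (Y : C) (m : N.val.obj (op Y)) :
    ∃ S : Sieve Y, S ∈ J Y ∧ ∀ ⦃Z : C⦄ (f : Z ⟶ Y), S f →
      (N.val.map f.op m : N.val.obj (op Z)) ∈ Submodule.span (R.obj.obj (op Z))
        (Set.range fun i => PresheafOfModules.sections.eval (s i) (op Z)) := by
  set π := N.freeHomEquiv.symm s
  have : PreservesFiniteColimits (SheafOfModules.toSheaf.{u} R) :=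
    PreservesColimitsOfSize.preservesFiniteColimits _
  have hepi : Epi ((SheafOfModules.toSheaf.{u} R).map π) := inferInstance
  have hls : Sheaf.IsLocallySurjective ((SheafOfModules.toSheaf.{u} R).map π) :=
    (Sheaf.isLocallySurjective_iff_epi' _ _).mpr hepi
  refine ⟨Presheaf.imageSieve ((SheafOfModules.toSheaf.{u} R).map π).hom m,
    hls.imageSieve_mem m, ?_⟩
  rintro Z f ⟨t, ht⟩
  have := app_mem_span N s (op Z) t
  have ht' : (π.val.app (op Z) t : N.val.obj (op Z)) = N.val.map f.op m := ht
  rw [← ht']
  exact this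

end General

variable {C : Type u} [SmallCategory C] {J : GrothendieckTopology C} (O : Sheaf J CommRingCat.{u})

/-- Local generation of `F` over `U` by a finite family of sections. -/
def LocGen (F : Mod O) (U : C) {ι : Type} [Fintype ι] (s : ι → F.val.obj (op U)) : Prop :=
  ∀ (V : C) (g : V ⟶ U) (t : F.val.obj (op V)), ∃ S ∈ J V, ∀ (W : C) (h : W ⟶ V), S h →
    ∃ a : ι → (ringSh O).obj.obj (op W), res O F h t = ∑ i, a i • res O F (h ≫ g) (s i)

/-- the section over `U` underlying a global section of `F.over U`. -/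
noncomputable def secOf (F : Mod O) (U : C) (s : (F.over U).sections) : F.val.obj (op U) :=
  PresheafOfModules.sections.eval s (op (Over.mk (𝟙 U)))

lemma eval_eq (F : Mod O) (U : C) (s : (F.over U).sections) (Z : Over U) :
    (PresheafOfModules.sections.eval s (op Z) : F.val.obj (op Z.left)) =
      res O F Z.hom (secOf O F U s) := by
  have := s.2 (Quiver.Hom.op (Over.homMk Z.hom : Z ⟶ Over.mk (𝟙 U)))
  exact this.symm

theorem locGen_of_generatingSections (F : Mod O) (U : C) (G : (F.over U).GeneratingSections)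
    [Finite G.I] : ∃ (n : ℕ) (s : Fin n → F.val.obj (op U)), LocGen O F U s := by
  classical
  obtain ⟨n, ⟨e⟩⟩ := Finite.exists_equiv_fin G.I
  have := Fintype.ofFinite G.I
  refine ⟨n, fun k => secOf O F U (G.s (e.symm k)), ?_⟩
  intro V g t
  obtain ⟨S, hS, hS'⟩ := exists_covering_span (F.over U) G.s (Over.mk g) t
  refine ⟨(Sieve.overEquiv (Over.mk g)) S, (GrothendieckTopology.mem_over_iff J _).1 hS, ?_⟩
  intro W h hh
  rw [Sieve.overEquiv_iff] at hh
  have h1 := hS' _ hh
  obtain ⟨c, hc⟩ := (Submodule.mem_span_range_iff_exists_fun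
    (M := ↑((SheafOfModules.over F U).val.obj (op (Over.mk (h ≫ g)))))
    (((ringSh O).over U).obj.obj (op (Over.mk (h ≫ g))))).1 h1
  let c' : G.I → (ringSh O).obj.obj (op W) := c
  refine ⟨fun k => c' (e.symm k), ?_⟩
  have h2 : res O F h t = ∑ i : G.I, c' i • res O F (h ≫ g) (secOf O F U (G.s i)) := by
    have h3 : ∀ i, PresheafOfModules.sections.eval (G.s i) (op (Over.mk (h ≫ g))) =
        res O F (h ≫ g) (secOf O F U (G.s i)) :=
      fun i => eval_eq O F U (G.s i) (Over.mk (h ≫ g))
    let v : G.I → F.val.obj (op W) := fun i =>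
      PresheafOfModules.sections.eval (G.s i) (op (Over.mk (h ≫ g)))
    have hc' : ∑ i : G.I, c' i • v i = res O F h t := hc
    rw [← hc']
    exact Finset.sum_congr rfl (fun i _ => by rw [← h3])
  rw [h2]
  exact (Equiv.sum_comp e.symm (fun i => c' i • res O F (h ≫ g) (secOf O F U (G.s i)))).symm

lemma LocGen.restrict {F : Mod O} {U : C} {ι : Type} [Fintype ι] {s : ι → F.val.obj (op U)}
    (hs : LocGen O F U s) {U' : C} (k : U' ⟶ U) :
    LocGen O F U' (fun i => res O F k (s i)) := by
  intro V g t
  obtain ⟨S, hS, hS'⟩ := hs V (g ≫ k) t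
  refine ⟨S, hS, fun W h hh => ?_⟩
  obtain ⟨a, ha⟩ := hS' W h hh
  refine ⟨a, ?_⟩
  rw [ha]
  refine Finset.sum_congr rfl (fun i _ => ?_)
  rw [← res_comp, Category.assoc]

/-- Concrete form of finite type: locally generated by finitely many sections. -/
def FT (F : Mod O) : Prop :=
  ∀ W₀ : C, ∃ S ∈ J W₀, ∀ (U : C) (g : U ⟶ W₀), S g →
    ∃ (n : ℕ) (s : Fin n → F.val.obj (op U)), LocGen O F U s

theorem ft_of_isFiniteType (F : Mod O) [SheafOfModules.IsFiniteType (R := ringSh O) F] :
    FT O F := by
  obtain ⟨σ, hσ⟩ := SheafOfModules.IsFiniteType.exists_localGeneratorsData (R := ringSh O) F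
  intro W₀
  refine ⟨Sieve.ofObjects σ.X W₀, σ.coversTop W₀, ?_⟩
  intro U g hg
  obtain ⟨i, ⟨k⟩⟩ := hg
  have := (hσ.isFiniteType i).finite
  obtain ⟨n, s, hs⟩ := locGen_of_generatingSections O F (σ.X i) (σ.generators i)
  exact ⟨n, _, hs.restrict O k⟩

/-- a section over `U` gives a global section of `F.over U`. -/
noncomputable def overSection (F : Mod O) (U : C) (s : F.val.obj (op U)) : (F.over U).sections :=
  PresheafOfModules.sectionsMk (fun Y => res O F Y.unop.hom s) (by
    intro Y Z f
    have h : f.unop.left ≫ Y.unop.hom = Z.unop.hom := Over.w f.unop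
    change res O F f.unop.left (res O F Y.unop.hom s) = _
    rw [← res_comp, h]
    rfl)

lemma eval_overSection (F : Mod O) (U : C) (s : F.val.obj (op U)) (Z : Over U) :
    (PresheafOfModules.sections.eval (overSection O F U s) (op Z) : F.val.obj (op Z.left)) =
      res O F Z.hom s := rfl

/-- the unit section of the structure sheaf seen in the unit module. -/
noncomputable def oneSec {D : Type u} [SmallCategory D] {K : GrothendieckTopology D}
    (R' : Sheaf K RingCat.{u}) (Z : D) : (SheafOfModules.unit R').val.obj (op Z) :=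
  show R'.obj.obj (op Z) from 1

lemma epi_of_locGen (F : Mod O) (U : C) {n : ℕ} (s : Fin n → F.val.obj (op U))
    (hs : LocGen O F U s) :
    Epi ((F.over U).freeHomEquiv.symm
      (fun i : ULift.{u} (Fin n) => overSection O F U (s i.down))) := by
  set σ : ULift.{u} (Fin n) → (F.over U).sections := fun i => overSection O F U (s i.down)
  set π := (F.over U).freeHomEquiv.symm σ
  have hπ : ∀ (Z : Over U) (i : ULift.{u} (Fin n)),
      π.val.app (op Z) ((SheafOfModules.ιFree i).val.app (op Z)
        (oneSec ((ringSh O).over U) Z)) = res O F Z.hom (s i.down) := by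
    intro Z i
    have h1 : SheafOfModules.ιFree i ≫ π = (F.over U).unitHomEquiv.symm (σ i) := by
      rw [← SheafOfModules.unitHomEquiv_symm_freeHomEquiv_apply, Equiv.apply_symm_apply]
    change (SheafOfModules.ιFree i ≫ π).val.app (op Z) (oneSec ((ringSh O).over U) Z) = _
    rw [h1]
    have := unitHomEquiv_symm_app (F.over U) (σ i) (op Z) (1 : ((ringSh O).over U).obj.obj (op Z))
    rw [one_smul] at this
    exact this
  have hls : Sheaf.IsLocallySurjective
      ((SheafOfModules.toSheaf.{u} ((ringSh O).over U)).map π) := by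
    constructor
    intro Y t
    obtain ⟨S, hS, hS'⟩ := hs Y.left Y.hom t
    have hmem : (Sieve.overEquiv Y).symm S ∈ (J.over U) Y := by
      rw [GrothendieckTopology.mem_over_iff]
      have e := (Sieve.overEquiv Y).apply_symm_apply S
      rw [e]
      exact hS
    refine (J.over U).superset_covering ?_ hmem
    intro Z f hf
    rw [Sieve.overEquiv_symm_iff] at hf
    obtain ⟨a, ha⟩ := hS' Z.left f.left hf
    let c : ULift.{u} (Fin n) → ((ringSh O).over U).obj.obj (op Z) := fun i => a i.down
    have hx : π.val.app (op Z) (∑ i : ULift.{u} (Fin n), c i •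
        (SheafOfModules.ιFree i).val.app (op Z) (oneSec ((ringSh O).over U) Z)) =
        res O F f.left t := by
      rw [map_sum, ha]
      rw [← Equiv.sum_comp Equiv.ulift.{u} (fun k => a k • res O F (f.left ≫ Y.hom) (s k))]
      refine Finset.sum_congr rfl (fun i _ => ?_)
      rw [map_smul, hπ]
      have hw : f.left ≫ Y.hom = Z.hom := Over.w f
      rw [hw]
      rfl
    exact ⟨_, hx⟩
  have hepi : Epi ((SheafOfModules.toSheaf.{u} ((ringSh O).over U)).map π) :=
    (Sheaf.isLocallySurjective_iff_epi' _ _).1 hls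
  exact (SheafOfModules.toSheaf.{u} ((ringSh O).over U)).epi_of_epi_map hepi

theorem isFiniteType_of_ft (F : Mod O) (h : FT O F) :
    SheafOfModules.IsFiniteType (R := ringSh O) F := by
  classical
  let I := {U : C // ∃ (n : ℕ) (s : Fin n → F.val.obj (op U)), LocGen O F U s}
  let gen : ∀ i : I, (F.over i.1).GeneratingSections := fun i =>
    { I := ULift.{u} (Fin i.2.choose)
      s := fun k => overSection O F i.1 (i.2.choose_spec.choose k.down)
      epi := epi_of_locGen O F i.1 _ i.2.choose_spec.choose_spec }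
  let σ : SheafOfModules.LocalGeneratorsData.{u} (R := ringSh O) F :=
    { I := I
      X := Subtype.val
      coversTop := by
        intro W₀
        obtain ⟨S, hS, hS'⟩ := h W₀
        refine J.superset_covering ?_ hS
        intro U g hg
        exact ⟨⟨U, hS' U g hg⟩, ⟨𝟙 U⟩⟩
      generators := gen }
  have hσ : σ.IsFiniteType := by
    constructor
    intro i
    constructor
    exact inferInstanceAs (Finite (ULift.{u} (Fin i.2.choose)))
  exact { exists_localGeneratorsData := ⟨σ, hσ⟩ }

theorem isFiniteType_iff_ft (F : Mod O) :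
    SheafOfModules.IsFiniteType (R := ringSh O) F ↔ FT O F :=
  ⟨fun _ => ft_of_isFiniteType O F, isFiniteType_of_ft O F⟩

end Groth.Agent.Lib.Helper45.FTDict
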