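import Groth.Agent.Lib.Helper45.FTDict2
import Mathlib.CategoryTheory.Limits.ConcreteCategory.Basic
import Mathlib.Topology.Sheaves.Sheaf
import Mathlib.CategoryTheory.Sites.Spaces

/-!
# Filtered colimits of modules: sections come locally from a stage; finite type colimits over a
quasi-compact space are reached at a finite stage
-/

set_option autoImplicit false
set_option linter.style.haveILetI false
set_option linter.unusedSectionVars false

universe u

open CategoryTheory CategoryTheory.Limits Opposite ModSite TopologicalSpace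

namespace Groth.Agent.Lib.Helper45.FTDict

open Groth.Agent.Lib.Helper45.QcSum Groth.Agent.Lib.Helper42.ModSheaf

variable {C : Type u} [SmallCategory C] {J : GrothendieckTopology C} (O : Sheaf J CommRingCat.{u})

/-- Sections of a filtered colimit of modules come locally from some stage. -/
theorem exists_local_rep {K : Type u} [SmallCategory K] [IsFiltered K] (D : K ⥤ Mod O)
    (c : Cocone D) (hc : IsColimit c) (V : C) (t : c.pt.val.obj (op V)) :
    ∃ S ∈ J V, ∀ (W : C) (h : W ⟶ V), S h →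
      ∃ (i : K) (y : (D.obj i).val.obj (op W)),
        (c.ι.app i).val.app (op W) y = res O c.pt h t := by
  let D' := D ⋙ SheafOfModules.toSheaf (ringSh O)
  let c' := (SheafOfModules.toSheaf (ringSh O)).mapCocone c
  have hc' : IsColimit c' := isColimitOfPreserves _ hc
  let E := colimit.cocone (D' ⋙ sheafToPresheaf J AddCommGrpCat.{u})
  have hE : IsColimit E := colimit.isColimit (D' ⋙ sheafToPresheaf J AddCommGrpCat.{u})
  have hs := Sheaf.isColimitSheafifyCocone E hE
  let e : c'.pt ≅ (Sheaf.sheafifyCocone E).pt := hc'.coconePointUniqueUpToIso hs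
  have he : ∀ i, c'.ι.app i ≫ e.hom = (Sheaf.sheafifyCocone E).ι.app i :=
    fun i => hc'.comp_coconePointUniqueUpToIso_hom hs i
  let t' := e.hom.hom.app (op V) t
  refine ⟨_, Presheaf.imageSieve_mem J (toSheafify J E.pt) t', ?_⟩
  rintro W h ⟨z, hz⟩
  obtain ⟨i, y, hy⟩ := Concrete.isColimit_exists_rep _
    (isColimitOfPreserves ((evaluation _ _).obj (op W)) hE) z
  refine ⟨i, y, ?_⟩
  let eW := (sheafToPresheaf J AddCommGrpCat.{u} ⋙ (evaluation _ _).obj (op W)).mapIso e
  have hinj : Function.Injective eW.hom := (ConcreteCategory.bijective_of_isIso eW.hom).1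
  apply hinj
  have h1 : eW.hom ((c.ι.app i).val.app (op W) y) =
      ((c'.ι.app i ≫ e.hom).hom.app (op W)) y := rfl
  have h2 : eW.hom (res O c.pt h t) = (Sheaf.sheafifyCocone E).pt.obj.map h.op t' := by
    have := NatTrans.naturality_apply e.hom.hom h.op t
    exact this
  rw [h1, h2, he, Sheaf.sheafifyCocone_ι_app_val]
  change (toSheafify J E.pt).app (op W) ((E.ι.app i).app (op W) y) = _
  have hy' : (E.ι.app i).app (op W) y = z := hy
  rw [hy']
  exact hz

section Top

variable {X : TopCat.{u}} (O : TopCat.Sheaf CommRingCat.{u} X)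
  {I : Type u} [Preorder I] [Nonempty I] [IsDirected I (· ≤ ·)] (D : I ⥤ ModSite.Mod O)
  (c : Cocone D) (hc : IsColimit c)

include hc in
/-- local generators of the colimit coming from one stage. -/
lemma exists_stage_generators (hF : FT O c.pt) (x : X) :
    ∃ (W : Opens X) (_ : x ∈ W) (i : I) (n : ℕ) (s : Fin n → c.pt.val.obj (op W))
      (y : Fin n → (D.obj i).val.obj (op W)), LocGen O c.pt W s ∧
        ∀ k, (c.ι.app i).val.app (op W) (y k) = s k := by
  obtain ⟨S, hS, hS'⟩ := hF ⊤
  obtain ⟨U, f, hf, hxU⟩ := hS x trivial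
  obtain ⟨n, s, hs⟩ := hS' U f hf
  have hloc : ∀ k : Fin n, ∃ (Wk : Opens X) (hk : Wk ⟶ U) (_ : x ∈ Wk) (i : I)
      (y : (D.obj i).val.obj (op Wk)), (c.ι.app i).val.app (op Wk) y = res O c.pt hk (s k) := by
    intro k
    obtain ⟨Sk, hSk, hSk'⟩ := exists_local_rep O D c hc U (s k)
    obtain ⟨Wk, hk, hmem, hxk⟩ := hSk x hxU
    obtain ⟨i, y, hy⟩ := hSk' Wk hk hmem
    exact ⟨Wk, hk, hxk, i, y, hy⟩
  choose Wk hk hxk ik yk hyk using hloc
  obtain ⟨i, hi⟩ := Finite.exists_le ik
  let W : Opens X := U ⊓ ⨅ k, Wk k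
  have hxW : x ∈ W := by
    refine ⟨hxU, ?_⟩
    rw [Opens.coe_iInf]
    exact Set.mem_iInter.2 hxk
  have hWU : W ≤ U := inf_le_left
  have hWk : ∀ k, W ≤ Wk k := fun k => inf_le_right.trans (iInf_le _ k)
  refine ⟨W, hxW, i, n, fun k => res O c.pt (homOfLE hWU) (s k),
    fun k => (D.map (homOfLE (hi k))).val.app (op W)
      (res O (D.obj (ik k)) (homOfLE (hWk k)) (yk k)), hs.restrict O (homOfLE hWU), ?_⟩
  intro k
  have h1 : (c.ι.app i).val.app (op W) ((D.map (homOfLE (hi k))).val.app (op W)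
      (res O (D.obj (ik k)) (homOfLE (hWk k)) (yk k))) =
      (D.map (homOfLE (hi k)) ≫ c.ι.app i).val.app (op W)
        (res O (D.obj (ik k)) (homOfLE (hWk k)) (yk k)) := rfl
  rw [h1, c.w, app_res, hyk]
  change res O c.pt (homOfLE (hWk k)) (res O c.pt (hk k) (s k)) = res O c.pt (homOfLE hWU) (s k)
  rw [← res_comp, Subsingleton.elim (homOfLE (hWk k) ≫ hk k) (homOfLE hWU)]

include hc in
theorem exists_epi_of_compact [CompactSpace X] (hF : FT O c.pt) : ∃ i : I, Epi (c.ι.app i) := by
  classical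
  choose W hxW iW n s y hs hy using fun x => exists_stage_generators O D c hc hF x
  obtain ⟨t, ht⟩ := isCompact_univ.elim_finite_subcover (fun x => (W x : Set X))
    (fun x => (W x).isOpen) (fun x _ => Set.mem_iUnion.2 ⟨x, hxW x⟩)
  obtain ⟨i, hi⟩ := Finite.exists_le (fun p : {x // x ∈ t} => iW p.1)
  refine ⟨i, ?_⟩
  have hls : Sheaf.IsLocallySurjective
      ((SheafOfModules.toSheaf (ModSite.ringSh O)).map (c.ι.app i)) := by
    constructor
    intro V tt pt hpt
    obtain ⟨x, hxt, hptW⟩ : ∃ x ∈ t, pt ∈ W x := by simpa using ht (Set.mem_univ pt)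
    let V' : Opens X := V ⊓ W x
    have hV'V : V' ≤ V := inf_le_left
    have hV'W : V' ≤ W x := inf_le_right
    obtain ⟨S', hS', hS''⟩ := hs x V' (homOfLE hV'W) (res O c.pt (homOfLE hV'V) tt)
    obtain ⟨W', h', hmem, hptW'⟩ := hS' pt ⟨hpt, hptW⟩
    obtain ⟨a, ha⟩ := hS'' W' h' hmem
    refine ⟨W', h' ≫ homOfLE hV'V, ?_, hptW'⟩
    have hx : (c.ι.app i).val.app (op W') (∑ k, a k •
        (D.map (homOfLE (hi ⟨x, hxt⟩))).val.app (op W')
          (res O (D.obj (iW x)) (h' ≫ homOfLE hV'W) (y x k))) =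
        res O c.pt (h' ≫ homOfLE hV'V) tt := by
      rw [res_comp, ha, app_sum]
      refine Finset.sum_congr rfl (fun k _ => ?_)
      rw [app_smul]
      congr 1
      have h1 : (c.ι.app i).val.app (op W') ((D.map (homOfLE (hi ⟨x, hxt⟩))).val.app (op W')
          (res O (D.obj (iW x)) (h' ≫ homOfLE hV'W) (y x k))) =
          (D.map (homOfLE (hi ⟨x, hxt⟩)) ≫ c.ι.app i).val.app (op W')
            (res O (D.obj (iW x)) (h' ≫ homOfLE hV'W) (y x k)) := rfl
      rw [h1, c.w, app_res, hy]
      rfl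
    exact ⟨_, hx⟩
  have hepi : Epi ((SheafOfModules.toSheaf (ModSite.ringSh O)).map (c.ι.app i)) :=
    (Sheaf.isLocallySurjective_iff_epi' _ _).1 hls
  exact (SheafOfModules.toSheaf (ModSite.ringSh O)).epi_of_epi_map hepi

include hc in
theorem exists_isIso_of_compact [CompactSpace X] (hF : FT O c.pt)
    (hmono : ∀ (i j : I) (f : i ⟶ j), Mono (D.map f)) : ∃ i : I, IsIso (c.ι.app i) := by
  obtain ⟨i, hi⟩ := exists_epi_of_compact O D c hc hF
  have := hasExactColimitsOfShape_of_isFiltered (ModSite.ringSh O) (Under i)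
  have : (colim : (Under i ⥤ ModSite.Mod O) ⥤ ModSite.Mod O).PreservesMonomorphisms :=
    inferInstance
  have hm : Mono (c.ι.app i) := hc.mono_ι_app_of_isFiltered i
  exact ⟨i, isIso_of_mono_of_epi _⟩

end Top

end Groth.Agent.Lib.Helper45.FTDict
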