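import Groth.Agent.Lib.Helper45.FTDict3
import Groth.Agent.Lib.Helper42.StalkFlat2

/-!
# Surjectivity on a stalk spreads out for targets of finite type (ringed spaces)
-/

set_option autoImplicit false
set_option linter.style.haveILetI false
set_option linter.unusedSectionVars false

universe u

open CategoryTheory CategoryTheory.Limits Opposite ModSite TopologicalSpace

namespace Groth.Agent.Lib.Helper45.FTDict

open Groth.Agent.Lib.Helper45.QcSum Groth.Agent.Lib.Helper42.StalkFlat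

variable {C : Type u} [SmallCategory C] {J : GrothendieckTopology C} (O : Sheaf J CommRingCat.{u})

/-- A morphism which is locally surjective over `U` restricts to an epimorphism over `U`. -/
lemma epi_restr_of_local {G F : Mod O} (φ : G ⟶ F) (U : C)
    (h : ∀ (V : C) (_g : V ⟶ U) (t : F.val.obj (op V)), ∃ S ∈ J V, ∀ (W : C) (k : W ⟶ V), S k →
      ∃ z : G.val.obj (op W), φ.val.app (op W) z = res O F k t) :
    Epi ((restr O U).map φ) := by
  have hls : Sheaf.IsLocallySurjective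
      ((SheafOfModules.toSheaf.{u} ((ringSh O).over U)).map ((restr O U).map φ)) := by
    constructor
    intro Y t
    obtain ⟨S, hS, hS'⟩ := h Y.left Y.hom t
    have hmem : (Sieve.overEquiv Y).symm S ∈ (J.over U) Y := by
      rw [GrothendieckTopology.mem_over_iff]
      have e := (Sieve.overEquiv Y).apply_symm_apply S
      rw [e]
      exact hS
    refine (J.over U).superset_covering ?_ hmem
    intro Z f hf
    rw [Sieve.overEquiv_symm_iff] at hf
    obtain ⟨z, hz⟩ := hS' Z.left f.left hf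
    exact ⟨z, hz⟩
  have hepi : Epi ((SheafOfModules.toSheaf.{u} ((ringSh O).over U)).map ((restr O U).map φ)) :=
    (Sheaf.isLocallySurjective_iff_epi' _ _).1 hls
  exact (SheafOfModules.toSheaf.{u} ((ringSh O).over U)).epi_of_epi_map hepi

/-- naturality of germs. -/
lemma stalkMap_germ (p : GrothendieckTopology.Point.{u} J) {G F : Mod O} (φ : G ⟶ F) (X : C)
    (x : p.fiber.obj X) (s : G.val.obj (op X)) :
    (stalkMap p φ).hom (germ p G X x s) = germ p F X x (φ.val.app (op X) s) :=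
  p.toPresheafFiber_naturality_apply ((SheafOfModules.toSheaf (ringSh O)).map φ).hom X x s

section Top

variable {X : TopCat.{u}} (O : TopCat.Sheaf CommRingCat.{u} X)

theorem main6831 {G F : ModSite.Mod O} (φ : G ⟶ F) (hF : FT O F) (x : X)
    (hx : Function.Surjective (ModSite.stalkMap (Opens.pointGrothendieckTopology x) φ).hom) :
    ∃ U : Opens X, x ∈ U ∧ Epi ((ModSite.restr O U).map φ) := by
  classical
  let p := Opens.pointGrothendieckTopology x
  obtain ⟨S, hS, hS'⟩ := hF ⊤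
  obtain ⟨U₀, f₀, hf₀, hxU₀⟩ := hS x trivial
  obtain ⟨n, s, hs⟩ := hS' U₀ f₀ hf₀
  let x₀ : p.fiber.obj U₀ := ⟨⟨hxU₀⟩⟩
  choose m hm using fun k => hx (germ p F U₀ x₀ (s k))
  obtain ⟨X₁, x₁, -, γ, -, hγ⟩ := exists_reps p G (fun _ : Fin n => (0 : stalkRing p O)) m
  -- common neighbourhood
  let Y₀ : Opens X := X₁ ⊓ U₀
  let y₀ : p.fiber.obj Y₀ := ⟨⟨⟨x₁.down.down, hxU₀⟩⟩⟩
  have hY₀X₁ : Y₀ ≤ X₁ := inf_le_left
  have hY₀U₀ : Y₀ ≤ U₀ := inf_le_right
  have hgerm : ∀ k, germ p F Y₀ y₀ (rs F (homOfLE hY₀X₁) (φ.val.app (op X₁) (γ k))) =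
      germ p F Y₀ y₀ (rs F (homOfLE hY₀U₀) (s k)) := by
    intro k
    have e1 := germ_w' p F (homOfLE hY₀X₁) y₀ x₁ (Subsingleton.elim _ _) (φ.val.app (op X₁) (γ k))
    have e2 := germ_w' p F (homOfLE hY₀U₀) y₀ x₀ (Subsingleton.elim _ _) (s k)
    unfold rs
    rw [e1, e2, ← stalkMap_germ, hγ, hm]
  obtain ⟨Y, g, y, -, hY⟩ := exists_common_germ_eq p F n Y₀ y₀ _ _ hgerm
  refine ⟨Y, y.down.down, ?_⟩
  apply epi_restr_of_local
  intro V gV t
  obtain ⟨S', hS', hS''⟩ := hs V (gV ≫ g ≫ homOfLE hY₀U₀) t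
  refine ⟨S', hS', fun W k hk => ?_⟩
  obtain ⟨a, ha⟩ := hS'' W k hk
  refine ⟨∑ i, a i • res O G (k ≫ gV ≫ g ≫ homOfLE hY₀X₁) (γ i), ?_⟩
  rw [app_sum, ha]
  refine Finset.sum_congr rfl (fun i _ => ?_)
  rw [app_smul, app_res]
  congr 1
  have h1 := hY i
  unfold rs at h1
  have h2 : res O F (k ≫ gV ≫ g ≫ homOfLE hY₀X₁) (φ.val.app (op X₁) (γ i)) =
      res O F (k ≫ gV) (res O F g (res O F (homOfLE hY₀X₁) (φ.val.app (op X₁) (γ i)))) := by
    rw [← res_comp, ← res_comp]
    simp only [Category.assoc]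
  have h3 : res O F (k ≫ gV ≫ g ≫ homOfLE hY₀U₀) (s i) =
      res O F (k ≫ gV) (res O F g (res O F (homOfLE hY₀U₀) (s i))) := by
    rw [← res_comp, ← res_comp]
    simp only [Category.assoc]
  rw [h2, h3]
  congr 1

end Top

end Groth.Agent.Lib.Helper45.FTDict
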