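import Groth.Agent.Lib.Helper45.FTDict3

/-!
# Coordinates on free modules and the concrete form of finite presentation (`RelGen`, `FPc`)
-/

set_option autoImplicit false
set_option linter.style.haveILetI false
set_option linter.unusedSectionVars false

universe u

open CategoryTheory CategoryTheory.Limits Opposite ModSite

namespace Groth.Agent.Lib.Helper45.FTDict

open Groth.Agent.Lib.Helper45.QcSum

section Coord

variable {C : Type u} [SmallCategory C] {J : GrothendieckTopology C} (O : Sheaf J CommRingCat.{u})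
variable {I : Type u}

/-- the `i`-th coordinate of a section of a free module. -/
noncomputable def coord (i : I) (Z : C)
    (t : (SheafOfModules.free (R := ringSh O) I).val.obj (op Z)) : (ringSh O).obj.obj (op Z) :=
  (proj (R := ringSh O) i).val.app (op Z) t

/-- the `i`-th basis section of a free module. -/
noncomputable def basis (i : I) (Z : C) :
    (SheafOfModules.free (R := ringSh O) I).val.obj (op Z) :=
  (SheafOfModules.ιFree (R := ringSh O) i).val.app (op Z) (oneSec (ringSh O) Z)

lemma coord_add (i : I) (Z : C) (t t' : (SheafOfModules.free (R := ringSh O) I).val.obj (op Z)) :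
    coord O i Z (t + t') = coord O i Z t + coord O i Z t' :=
  map_add ((proj (R := ringSh O) i).val.app (op Z)).hom t t'

lemma coord_smul (i : I) (Z : C) (a : (ringSh O).obj.obj (op Z))
    (t : (SheafOfModules.free (R := ringSh O) I).val.obj (op Z)) :
    coord O i Z (a • t) = a * coord O i Z t :=
  ((proj (R := ringSh O) i).val.app (op Z)).hom.map_smul a t

lemma coord_sum (i : I) (Z : C) {ι : Type*} (s : Finset ι)
    (t : ι → (SheafOfModules.free (R := ringSh O) I).val.obj (op Z)) :
    coord O i Z (∑ k ∈ s, t k) = ∑ k ∈ s, coord O i Z (t k) :=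
  map_sum ((proj (R := ringSh O) i).val.app (op Z)).hom t s

lemma coord_basis [DecidableEq I] (i j : I) (Z : C) :
    coord O i Z (basis O j Z) = if j = i then 1 else 0 := by
  have h := ιFree_proj (R := ringSh O) i j
  have h2 : coord O i Z (basis O j Z) =
      (SheafOfModules.ιFree (R := ringSh O) j ≫ proj i).val.app (op Z) (oneSec (ringSh O) Z) := rfl
  rw [h2]
  by_cases hji : j = i
  · rw [if_pos hji]
    have : SheafOfModules.ιFree (R := ringSh O) j ≫ proj i = 𝟙 _ := by
      rw [h]; convert if_pos hji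
    rw [this]
    rfl
  · rw [if_neg hji]
    have : SheafOfModules.ιFree (R := ringSh O) j ≫ proj i = 0 := by
      rw [h]; convert if_neg hji
    rw [this]
    rfl

lemma coord_res (i : I) {Z' Z : C} (f : Z' ⟶ Z)
    (t : (SheafOfModules.free (R := ringSh O) I).val.obj (op Z)) :
    coord O i Z' (res O _ f t) = (ringSh O).obj.map f.op (coord O i Z t) :=
  PresheafOfModules.naturality_apply (proj (R := ringSh O) i).val f.op t

lemma eq_sum_coord [Fintype I] (Z : C)
    (t : (SheafOfModules.free (R := ringSh O) I).val.obj (op Z)) :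
    t = ∑ i, coord O i Z t • basis O i Z := by
  have h1 : t = (∑ i : I, proj (R := ringSh O) i ≫ SheafOfModules.ιFree i).val.app (op Z) t := by
    rw [sum_proj_ι]; rfl
  rw [sum_val_app] at h1
  conv_lhs => rw [h1]
  refine Finset.sum_congr rfl (fun i _ => ?_)
  change (SheafOfModules.ιFree (R := ringSh O) i).val.app (op Z)
    ((proj (R := ringSh O) i).val.app (op Z) t) = _
  have h2 : ((proj (R := ringSh O) i).val.app (op Z) t : (SheafOfModules.unit (ringSh O)).val.obj (op Z)) =
      coord O i Z t • oneSec (ringSh O) Z := by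
    change _ = coord O i Z t * (1 : (ringSh O).obj.obj (op Z))
    rw [mul_one]
    rfl
  rw [h2]
  exact ((SheafOfModules.ιFree (R := ringSh O) i).val.app (op Z)).hom.map_smul _ _

lemma app_eq_sum [Fintype I] (N : Mod O) (σ : I → N.sections) (Z : C)
    (t : (SheafOfModules.free (R := ringSh O) I).val.obj (op Z)) :
    (N.freeHomEquiv.symm σ).val.app (op Z) t =
      ∑ i, coord O i Z t • PresheafOfModules.sections.eval (σ i) (op Z) := by
  conv_lhs => rw [eq_sum_coord O Z t]
  rw [map_sum]
  refine Finset.sum_congr rfl (fun i _ => ?_)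
  rw [map_smul]
  congr 1
  have h1 : SheafOfModules.ιFree i ≫ N.freeHomEquiv.symm σ = N.unitHomEquiv.symm (σ i) := by
    rw [← SheafOfModules.unitHomEquiv_symm_freeHomEquiv_apply, Equiv.apply_symm_apply]
  change (SheafOfModules.ιFree i ≫ N.freeHomEquiv.symm σ).val.app (op Z) (oneSec (ringSh O) Z) = _
  rw [h1]
  have := unitHomEquiv_symm_app N (σ i) (op Z) (1 : (ringSh O).obj.obj (op Z))
  rw [one_smul] at this
  exact this

lemma exists_preimage' {S : ShortComplex (Mod O)} (hS : S.Exact) [Mono S.f] (V : C)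
    (x : S.X₂.val.obj (op V)) (hx : S.g.val.app (op V) x = 0) :
    ∃ y : S.X₁.val.obj (op V), S.f.val.app (op V) y = x := by
  have h0 : ofSec O x ≫ S.g = 0 := by rw [ofSec_comp, hx, ofSec_zero]
  refine ⟨(hS.lift (ofSec O x) h0).val.app (op V) (univ O V), ?_⟩
  have h1 := hS.lift_f (ofSec O x) h0
  have h2 := congrArg (fun φ => φ.val.app (op V) (univ O V)) h1
  simp only [ofSec_univ] at h2
  exact h2

lemma injective_of_mono {M N : Mod O} (φ : M ⟶ N) [Mono φ] (V : C) :
    Function.Injective (φ.val.app (op V)) := by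
  intro a b hab
  apply ofSec_injective O
  rw [← cancel_mono φ, ofSec_comp, ofSec_comp, hab]

/-- relations are locally generated by the given generators of the kernel. -/
theorem relGen_core [Fintype I] (N : Mod O) (σ : I → N.sections)
    (π : SheafOfModules.free (R := ringSh O) I ⟶ N)
    (hπ : ∀ (Z : C) (t : (SheafOfModules.free (R := ringSh O) I).val.obj (op Z)),
      π.val.app (op Z) t = ∑ i, coord O i Z t • PresheafOfModules.sections.eval (σ i) (op Z))
    (Rl : (kernel π).GeneratingSections) [Fintype Rl.I]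
    (Z : C) (c : I → (ringSh O).obj.obj (op Z))
    (hc : ∑ i, c i • PresheafOfModules.sections.eval (σ i) (op Z) = 0) :
    ∃ S ∈ J Z, ∀ (Z' : C) (f : Z' ⟶ Z), S f → ∃ d : Rl.I → (ringSh O).obj.obj (op Z'),
      ∀ i, (ringSh O).obj.map f.op (c i) = ∑ j, d j * coord O i Z'
        ((kernel.ι π).val.app (op Z')
          (PresheafOfModules.sections.eval (Rl.s j) (op Z'))) := by
  classical
  let t : (SheafOfModules.free (R := ringSh O) I).val.obj (op Z) := ∑ i, c i • basis O i Z
  have hcoord : ∀ i, coord O i Z t = c i := by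
    intro i
    simp only [t]
    rw [coord_sum]
    simp only [coord_smul, coord_basis, mul_ite, mul_one, mul_zero]
    rw [Finset.sum_ite_eq' Finset.univ i]
    simp
  have ht : π.val.app (op Z) t = 0 := by
    rw [hπ]
    simp only [hcoord]
    exact hc
  let S : ShortComplex (Mod O) := ShortComplex.mk (kernel.ι π) π (kernel.condition π)
  have hS : S.Exact := ShortComplex.exact_of_f_is_kernel _ (kernelIsKernel π)
  have : Mono S.f := inferInstanceAs (Mono (kernel.ι π))
  obtain ⟨k, hk⟩ := exists_preimage' O hS Z t ht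
  have := Finite.of_fintype Rl.I
  obtain ⟨S', hS', hS''⟩ := exists_covering_span (kernel π) Rl.s Z k
  refine ⟨S', hS', fun Z' f hf => ?_⟩
  obtain ⟨d, hd⟩ := (Submodule.mem_span_range_iff_exists_fun
    (M := ↑((kernel π).val.obj (op Z'))) ((ringSh O).obj.obj (op Z'))).1 (hS'' f hf)
  refine ⟨d, fun i => ?_⟩
  have h1 : (kernel.ι π).val.app (op Z') (res O (kernel π) f k) = res O _ f t := by
    rw [app_res]
    congr 1
  have h2 := congrArg (fun x => coord O i Z' ((kernel.ι π).val.app (op Z') x)) hd
  simp only at h2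
  rw [map_sum, coord_sum] at h2
  rw [← hcoord i, ← coord_res, ← h1]
  rw [← h2]
  refine Finset.sum_congr rfl (fun j _ => ?_)
  rw [map_smul, coord_smul]

end Coord

section FP

variable {C : Type u} [SmallCategory C] {J : GrothendieckTopology C} (O : Sheaf J CommRingCat.{u})

/-- `r` is a finite family of relations between the `s i` which locally generates all relations. -/
def RelGen (F : Mod O) (U : C) {n m : ℕ} (s : Fin n → F.val.obj (op U))
    (r : Fin m → Fin n → (ringSh O).obj.obj (op U)) : Prop :=
  (∀ j, ∑ i, r j i • s i = 0) ∧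
  ∀ (V : C) (g : V ⟶ U) (c : Fin n → (ringSh O).obj.obj (op V)),
    ∑ i, c i • res O F g (s i) = 0 →
    ∃ S ∈ J V, ∀ (W : C) (h : W ⟶ V), S h → ∃ d : Fin m → (ringSh O).obj.obj (op W),
      ∀ i, (ringSh O).obj.map h.op (c i) = ∑ j, d j * (ringSh O).obj.map (h ≫ g).op (r j i)

theorem locGen_of_generatingSections' (F : Mod O) (U : C) (G : (F.over U).GeneratingSections)
    [Fintype G.I] {n : ℕ} (e : G.I ≃ Fin n) :
    LocGen O F U (fun k => secOf O F U (G.s (e.symm k))) := by
  classical
  have : Finite G.I := Finite.of_fintype _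
  intro V g t
  obtain ⟨S, hS, hS'⟩ := exists_covering_span (F.over U) G.s (Over.mk g) t
  refine ⟨(Sieve.overEquiv (Over.mk g)) S, (GrothendieckTopology.mem_over_iff J _).1 hS, ?_⟩
  intro W h hh
  rw [Sieve.overEquiv_iff] at hh
  have h1 := hS' _ hh
  obtain ⟨c, hc⟩ := (Submodule.mem_span_range_iff_exists_fun
    (M := ↑((SheafOfModules.over F U).val.obj (op (Over.mk (h ≫ g)))))
    (((ringSh O).over U).obj.obj (op (Over.mk (h ≫ g))))).1 h1
  let c' : G.I → (ringSh O).obj.obj (op W) := c
  refine ⟨fun k => c' (e.symm k), ?_⟩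
  have h2 : res O F h t = ∑ i : G.I, c' i • res O F (h ≫ g) (secOf O F U (G.s i)) := by
    have h3 : ∀ i, PresheafOfModules.sections.eval (G.s i) (op (Over.mk (h ≫ g))) =
        res O F (h ≫ g) (secOf O F U (G.s i)) :=
      fun i => eval_eq O F U (G.s i) (Over.mk (h ≫ g))
    let v : G.I → F.val.obj (op W) := fun i =>
      PresheafOfModules.sections.eval (G.s i) (op (Over.mk (h ≫ g)))
    have hc' : ∑ i : G.I, c' i • v i = res O F h t := hc
    rw [← hc']
    exact Finset.sum_congr rfl (fun i _ => by rw [← h3])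
  rw [h2]
  exact (Equiv.sum_comp e.symm (fun i => c' i • res O F (h ≫ g) (secOf O F U (G.s i)))).symm

theorem relGen_of_presentation (F : Mod O) (U : C) (P : (F.over U).Presentation) [P.IsFinite] :
    ∃ (n : ℕ) (s : Fin n → F.val.obj (op U)) (m : ℕ)
      (r : Fin m → Fin n → (ringSh O).obj.obj (op U)), LocGen O F U s ∧ RelGen O F U s r := by
  classical
  let G := P.generators
  let Rl := P.relations
  have : Finite G.I := inferInstance
  have : Finite Rl.I := inferInstance
  obtain ⟨n, ⟨eG⟩⟩ := Finite.exists_equiv_fin G.I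
  obtain ⟨m, ⟨eR⟩⟩ := Finite.exists_equiv_fin Rl.I
  have := Fintype.ofFinite G.I
  have := Fintype.ofFinite Rl.I
  let N : Mod (O.over U) := F.over U
  let π : SheafOfModules.free (R := ringSh (O.over U)) G.I ⟶ N := G.π
  let σ : G.I → N.sections := G.s
  have hπ : ∀ (Z : Over U) (t : (SheafOfModules.free (R := ringSh (O.over U)) G.I).val.obj (op Z)),
      π.val.app (op Z) t = ∑ i, coord (O.over U) i Z t •
        PresheafOfModules.sections.eval (σ i) (op Z) :=
    fun Z t => app_eq_sum (O.over U) N σ Z t
  let T : Over U := Over.mk (𝟙 U)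
  let ρ : Rl.I → (SheafOfModules.free (R := ringSh (O.over U)) G.I).val.obj (op T) := fun j =>
    (kernel.ι π).val.app (op T) (PresheafOfModules.sections.eval (Rl.s j) (op T))
  let s : Fin n → F.val.obj (op U) := fun k => secOf O F U (G.s (eG.symm k))
  let r : Fin m → Fin n → (ringSh O).obj.obj (op U) := fun j i =>
    coord (O.over U) (eG.symm i) T (ρ (eR.symm j))
  refine ⟨n, s, m, r, locGen_of_generatingSections' O F U G eG, ?_, ?_⟩
  · intro j
    have h0 : π.val.app (op T) (ρ (eR.symm j)) = 0 := by
      have := kernel.condition π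
      have h1 := congrArg (fun φ => φ.val.app (op T)
        (PresheafOfModules.sections.eval (Rl.s (eR.symm j)) (op T))) this
      exact h1
    rw [hπ] at h0
    let v : G.I → F.val.obj (op U) := fun i => secOf O F U (G.s i)
    let a : G.I → (ringSh O).obj.obj (op U) := fun i => coord (O.over U) i T (ρ (eR.symm j))
    have h0' : ∑ i : G.I, a i • v i = 0 := h0
    rw [← h0']
    exact Equiv.sum_comp eG.symm (fun i => a i • v i)
  · intro V g c hc
    let Z : Over U := Over.mk g
    let c' : G.I → (ringSh (O.over U)).obj.obj (op Z) := fun i => c (eG i)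
    have hc' : ∑ i, c' i • PresheafOfModules.sections.eval (σ i) (op Z) = 0 := by
      let v : G.I → F.val.obj (op V) := fun i => res O F g (secOf O F U (G.s i))
      let a : G.I → (ringSh O).obj.obj (op V) := fun i => c (eG i)
      have h1 : ∑ i : G.I, a i • v i = 0 := by
        rw [← hc]
        rw [← Equiv.sum_comp eG (fun k => c k • res O F g (s k))]
        refine Finset.sum_congr rfl (fun i _ => ?_)
        simp only [a, v, s, Equiv.symm_apply_apply]
      have h2 : ∀ i, PresheafOfModules.sections.eval (σ i) (op Z) = v i :=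
        fun i => eval_eq O F U (G.s i) Z
      have h3 : ∑ i, c' i • PresheafOfModules.sections.eval (σ i) (op Z) =
          ∑ i : G.I, a i • v i :=
        Finset.sum_congr rfl (fun i _ => by rw [h2]; rfl)
      exact h3.trans h1
    obtain ⟨S, hS, hS'⟩ := relGen_core (O.over U) N σ π hπ Rl Z c' hc'
    refine ⟨Sieve.overEquiv Z S, (GrothendieckTopology.mem_over_iff J _).1 hS, ?_⟩
    intro W h hh
    rw [Sieve.overEquiv_iff] at hh
    obtain ⟨d', hd'⟩ := hS' (Over.mk (h ≫ g)) (Over.homMk h) hh
    let d'' : Rl.I → (ringSh O).obj.obj (op W) := d'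
    let d : Fin m → (ringSh O).obj.obj (op W) := fun j => d'' (eR.symm j)
    refine ⟨d, fun i => ?_⟩
    have h4 := hd' (eG.symm i)
    have h5 : c' (eG.symm i) = c i := by simp only [c', Equiv.apply_symm_apply]
    rw [h5] at h4
    let κ : Rl.I → (ringSh O).obj.obj (op W) := fun j' =>
      coord (O.over U) (eG.symm i) (Over.mk (h ≫ g))
        ((kernel.ι π).val.app (op (Over.mk (h ≫ g)))
          (PresheafOfModules.sections.eval (Rl.s j') (op (Over.mk (h ≫ g)))))
    have key : ∀ j' : Rl.I, κ j' =
        (ringSh O).obj.map (h ≫ g).op (coord (O.over U) (eG.symm i) T (ρ j')) := by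
      intro j'
      let q : Over.mk (h ≫ g) ⟶ T := Over.homMk (h ≫ g)
      have e1 : PresheafOfModules.sections.eval (Rl.s j') (op (Over.mk (h ≫ g))) =
          res (O.over U) (kernel π) q (PresheafOfModules.sections.eval (Rl.s j') (op T)) :=
        ((Rl.s j').2 q.op).symm
      simp only [κ]
      rw [e1, app_res, coord_res]
      rfl
    have h4' : (ringSh O).obj.map h.op (c i) = ∑ j' : Rl.I, d'' j' * κ j' := h4
    have h6 : (ringSh O).obj.map h.op (c i) = ∑ j' : Rl.I, d'' j' *
        (ringSh O).obj.map (h ≫ g).op (coord (O.over U) (eG.symm i) T (ρ j')) := by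
      rw [h4']
      exact Finset.sum_congr rfl (fun j' _ => by rw [key j'])
    rw [h6]
    exact (Equiv.sum_comp eR.symm (fun j' => d'' j' *
        (ringSh O).obj.map (h ≫ g).op (coord (O.over U) (eG.symm i) T (ρ j')))).symm

lemma Omap_comp {W V U : C} (h : W ⟶ V) (g : V ⟶ U) (a : (ringSh O).obj.obj (op U)) :
    (ringSh O).obj.map (h ≫ g).op a = (ringSh O).obj.map h.op ((ringSh O).obj.map g.op a) := by
  rw [op_comp, Functor.map_comp]
  rfl

lemma RelGen.restrict {F : Mod O} {U : C} {n m : ℕ} {s : Fin n → F.val.obj (op U)}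
    {r : Fin m → Fin n → (ringSh O).obj.obj (op U)} (hr : RelGen O F U s r) {U' : C}
    (k : U' ⟶ U) :
    RelGen O F U' (fun i => res O F k (s i)) (fun j i => (ringSh O).obj.map k.op (r j i)) := by
  refine ⟨fun j => ?_, ?_⟩
  · have h := congrArg (res O F k) (hr.1 j)
    rw [res_sum, res_zero] at h
    rw [← h]
    exact Finset.sum_congr rfl (fun i _ => (res_smul O F k _ _).symm)
  · intro V g c hc
    have hc' : ∑ i, c i • res O F (g ≫ k) (s i) = 0 := by
      rw [← hc]
      exact Finset.sum_congr rfl (fun i _ => by rw [res_comp])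
    obtain ⟨S, hS, hS'⟩ := hr.2 V (g ≫ k) c hc'
    refine ⟨S, hS, fun W h hh => ?_⟩
    obtain ⟨d, hd⟩ := hS' W h hh
    refine ⟨d, fun i => ?_⟩
    rw [hd i]
    refine Finset.sum_congr rfl (fun j _ => ?_)
    rw [← Omap_comp, Category.assoc]

/-- Concrete form of finite presentation. -/
def FPc (F : Mod O) : Prop :=
  ∀ W₀ : C, ∃ S ∈ J W₀, ∀ (U : C) (g : U ⟶ W₀), S g →
    ∃ (n : ℕ) (s : Fin n → F.val.obj (op U)) (m : ℕ)
      (r : Fin m → Fin n → (ringSh O).obj.obj (op U)), LocGen O F U s ∧ RelGen O F U s r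

theorem fpc_of_isFinitePresentation (F : Mod O)
    [SheafOfModules.IsFinitePresentation (R := ringSh O) F] : FPc O F := by
  obtain ⟨σ, hσ⟩ := SheafOfModules.IsFinitePresentation.exists_quasicoherentData (R := ringSh O) F
  intro W₀
  refine ⟨Sieve.ofObjects σ.X W₀, σ.coversTop W₀, ?_⟩
  intro U g hg
  obtain ⟨i, ⟨k⟩⟩ := hg
  have := hσ.isFinite_presentation i
  obtain ⟨n, s, m, r, hs, hr⟩ := relGen_of_presentation O F (σ.X i) (σ.presentation i)
  exact ⟨n, _, m, _, hs.restrict O k, hr.restrict O k⟩

end FP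

end Groth.Agent.Lib.Helper45.FTDict
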