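import Groth.Agent.Lib.Helper45.FTDict5

/-!
# Kernel of an epimorphism from a finite type module onto a finitely presented module is of
finite type (concrete `FT`/`FPc` form)
-/

set_option autoImplicit false
set_option linter.style.haveILetI false
set_option linter.unusedSectionVars false

universe u

open CategoryTheory CategoryTheory.Limits Opposite ModSite

namespace Groth.Agent.Lib.Helper45.FTDict

open Groth.Agent.Lib.Helper45.QcSum

variable {C : Type u} [SmallCategory C] {J : GrothendieckTopology C} (O : Sheaf J CommRingCat.{u})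

lemma alg_swap {R M : Type*} [Ring R] [AddCommGroup M] [Module R M] {p n : ℕ} (c : Fin p → R)
    (A : Fin p → Fin n → R) (s : Fin n → M) :
    ∑ l, c l • ∑ i, A l i • s i = ∑ i, (∑ l, c l * A l i) • s i := by
  simp only [Finset.smul_sum, smul_smul, Finset.sum_smul]
  exact Finset.sum_comm

lemma alg_key {R M : Type*} [Ring R] [AddCommGroup M] [Module R M] {p n m : ℕ} (c : Fin p → R)
    (A : Fin p → Fin n → R) (d : Fin m → R) (rr : Fin m → Fin n → R) (t : Fin p → M)
    (st : Fin n → M) (h : ∀ i, ∑ l, c l * A l i = ∑ j, d j * rr j i) :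
    ∑ l, c l • t l =
      ∑ l, c l • (t l - ∑ i, A l i • st i) + ∑ j, d j • ∑ i, rr j i • st i := by
  simp only [smul_sub, Finset.sum_sub_distrib]
  rw [alg_swap c A st, alg_swap d rr st]
  simp only [h]
  abel

lemma app_zero_of_kernel {G F : Mod O} (θ : G ⟶ F) (V : C) (w : (kernel θ).val.obj (op V)) :
    θ.val.app (op V) ((kernel.ι θ).val.app (op V) w) = 0 := by
  have := kernel.condition θ
  exact congrArg (fun φ => φ.val.app (op V) w) this

lemma exists_kernel_lift {G F : Mod O} (θ : G ⟶ F) (V : C) (x : G.val.obj (op V))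
    (hx : θ.val.app (op V) x = 0) :
    ∃ w : (kernel θ).val.obj (op V), (kernel.ι θ).val.app (op V) w = x := by
  let S : ShortComplex (Mod O) := ShortComplex.mk (kernel.ι θ) θ (kernel.condition θ)
  have hS : S.Exact := ShortComplex.exact_of_f_is_kernel _ (kernelIsKernel θ)
  have : Mono S.f := inferInstanceAs (Mono (kernel.ι θ))
  exact exists_preimage' O hS V x hx

theorem ft_kernel_of_epi {G F : Mod O} (θ : G ⟶ F) [Epi θ] (hG : FT O G) (hF : FPc O F) :
    FT O (kernel θ) := by
  classical
  apply ft_of_local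
  intro W₀
  obtain ⟨S₁, hS₁, h₁'⟩ := hG W₀
  obtain ⟨S₃, hS₃, h₃'⟩ := hF W₀
  refine ⟨S₁ ⊓ S₃, J.intersection_covering hS₁ hS₃, ?_⟩
  intro U g hg
  obtain ⟨p, t, ht⟩ := h₁' U g hg.1
  obtain ⟨n, s, m, r, hs, hr⟩ := h₃' U g hg.2
  -- local expression of `θ (t k)` and local lifts of the `s i`
  choose Sa hSa hSa' using fun k => hs U (𝟙 U) (θ.val.app (op U) (t k))
  choose Sb hSb hSb' using fun i => exists_local_lift O θ (s i)
  refine ⟨Finset.univ.inf Sa ⊓ Finset.univ.inf Sb,
    J.intersection_covering (finset_inf_mem _ Sa hSa) (finset_inf_mem _ Sb hSb), ?_⟩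
  intro V k hk
  have hka : ∀ l, Sa l k := fun l => (finset_inf_apply _ Sa k).1 hk.1 l (Finset.mem_univ l)
  have hkb : ∀ i, Sb i k := fun i => (finset_inf_apply _ Sb k).1 hk.2 i (Finset.mem_univ i)
  choose A hA using fun l => hSa' l V k (hka l)
  choose st hst using fun i => hSb' i V k (hkb i)
  -- data over `V`
  let tV : Fin p → G.val.obj (op V) := fun l => res O G k (t l)
  let sV : Fin n → F.val.obj (op V) := fun i => res O F k (s i)
  let rV : Fin m → Fin n → (ringSh O).obj.obj (op V) := fun j i => (ringSh O).obj.map k.op (r j i)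
  have hrV : RelGen O F V sV rV := hr.restrict O k
  have hθt : ∀ l, θ.val.app (op V) (tV l) = ∑ i, A l i • sV i := by
    intro l
    simp only [tV, sV]
    rw [app_res, hA l]
    simp only [Category.comp_id]
  let xu : Fin m → G.val.obj (op V) := fun j => ∑ i, rV j i • st i
  let xv : Fin p → G.val.obj (op V) := fun l => tV l - ∑ i, A l i • st i
  have hxu : ∀ j, θ.val.app (op V) (xu j) = 0 := by
    intro j
    simp only [xu]
    rw [app_sum, ← hrV.1 j]
    exact Finset.sum_congr rfl (fun i _ => by rw [app_smul, hst])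
  have hxv : ∀ l, θ.val.app (op V) (xv l) = 0 := by
    intro l
    simp only [xv]
    rw [map_sub, hθt, app_sum, sub_eq_zero]
    exact Finset.sum_congr rfl (fun i _ => by rw [app_smul, hst])
  choose u hu using fun j => exists_kernel_lift O θ V (xu j) (hxu j)
  choose v hv using fun l => exists_kernel_lift O θ V (xv l) (hxv l)
  let σ : Fin p ⊕ Fin m → (kernel θ).val.obj (op V) := Sum.elim v u
  apply LocGen.exists_fin O (kernel θ) V σ
  apply locGen_of_local
  intro V' g' w'
  obtain ⟨Sc, hSc, hSc'⟩ := ht V' (g' ≫ k) ((kernel.ι θ).val.app (op V') w')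
  refine ⟨Sc, hSc, fun W h hh => ?_⟩
  obtain ⟨c, hc⟩ := hSc' W h hh
  let e : Fin n → (ringSh O).obj.obj (op W) := fun i =>
    ∑ l, c l * (ringSh O).obj.map (h ≫ g').op (A l i)
  have he : ∑ i, e i • res O F (h ≫ g') (sV i) = 0 := by
    have h1 : θ.val.app (op W) (res O G h ((kernel.ι θ).val.app (op V') w')) = 0 := by
      rw [app_res, app_zero_of_kernel, res_zero]
    rw [hc, app_sum] at h1
    rw [← h1, ← alg_swap]
    refine Finset.sum_congr rfl (fun l _ => ?_)
    rw [app_smul]
    congr 1
    have h2 : res O G (h ≫ g' ≫ k) (t l) = res O G (h ≫ g') (tV l) := by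
      simp only [tV]
      rw [← res_comp, Category.assoc]
    rw [h2, app_res, hθt, res_sum]
    exact Finset.sum_congr rfl (fun i _ => (res_smul O F _ _ _).symm)
  obtain ⟨Sd, hSd, hSd'⟩ := hrV.2 W (h ≫ g') e he
  refine ⟨Sd, hSd, fun W' h' hh' => ?_⟩
  obtain ⟨d, hd⟩ := hSd' W' h' hh'
  refine ⟨Sum.elim (fun l => (ringSh O).obj.map h'.op (c l)) d, ?_⟩
  rw [Fintype.sum_sum_type]
  simp only [Sum.elim_inl, Sum.elim_inr, σ]
  apply injective_of_mono O (kernel.ι θ) W'
  have hR : (kernel.ι θ).val.app (op W')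
      (∑ x, (ringSh O).obj.map h'.op (c x) • res O (kernel θ) ((h' ≫ h) ≫ g') (v x) +
        ∑ x, d x • res O (kernel θ) ((h' ≫ h) ≫ g') (u x)) =
      ∑ l, (ringSh O).obj.map h'.op (c l) • (res O G (h' ≫ h ≫ g') (tV l) -
          ∑ i, (ringSh O).obj.map (h' ≫ h ≫ g').op (A l i) • res O G (h' ≫ h ≫ g') (st i)) +
        ∑ j, d j • ∑ i, (ringSh O).obj.map (h' ≫ h ≫ g').op (rV j i) •
          res O G (h' ≫ h ≫ g') (st i) := by
    rw [map_add, app_sum, app_sum]
    congr 1
    · refine Finset.sum_congr rfl (fun l _ => ?_)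
      rw [app_smul, app_res, hv l, Category.assoc]
      simp only [xv]
      rw [res_sub, res_sum]
      congr 2
      exact Finset.sum_congr rfl (fun i _ => res_smul O G _ _ _)
    · refine Finset.sum_congr rfl (fun j _ => ?_)
      rw [app_smul, app_res, hu j, Category.assoc]
      simp only [xu]
      rw [res_sum]
      congr 1
      exact Finset.sum_congr rfl (fun i _ => res_smul O G _ _ _)
  have hL : (kernel.ι θ).val.app (op W') (res O (kernel θ) (h' ≫ h) w') =
      ∑ l, (ringSh O).obj.map h'.op (c l) • res O G (h' ≫ h ≫ g') (tV l) := by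
    rw [app_res, res_comp, hc, res_sum]
    refine Finset.sum_congr rfl (fun l _ => ?_)
    rw [res_smul]
    congr 1
    simp only [tV]
    rw [← res_comp, ← res_comp]
    simp only [Category.assoc]
  rw [hL, hR]
  apply alg_key
  intro i
  rw [← hd i]
  simp only [e]
  rw [map_sum]
  refine Finset.sum_congr rfl (fun l _ => ?_)
  rw [map_mul]
  congr 1
  rw [op_comp, Functor.map_comp]
  rfl

end Groth.Agent.Lib.Helper45.FTDict
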