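import Groth.Agent.Lib.Helper45.FTDict6

/-!
# Converse of the finite presentation dictionary: `FPc O F → IsFinitePresentation F`
(a finite presentation of `F.over U` is built from local generators and locally generating
relations), plus an epimorphism criterion by local lifting of sections.
-/

set_option autoImplicit false
set_option linter.style.haveILetI false
set_option linter.unusedSectionVars false

universe u

open CategoryTheory CategoryTheory.Limits Opposite ModSite

namespace Groth.Agent.Lib.Helper45.FTDict

open Groth.Agent.Lib.Helper45.QcSum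

section General

variable {C : Type u} [SmallCategory C] {J : GrothendieckTopology C} (O : Sheaf J CommRingCat.{u})

lemma hom_ext_app {M N : Mod O} (φ ψ : M ⟶ N)
    (h : ∀ (Z : C) (t : M.val.obj (op Z)), φ.val.app (op Z) t = ψ.val.app (op Z) t) : φ = ψ := by
  apply SheafOfModules.hom_ext
  apply PresheafOfModules.hom_ext
  intro Z
  apply ModuleCat.hom_ext
  apply LinearMap.ext
  intro t
  exact h Z.unop t

lemma epi_of_local_lift {M N : Mod O} (p : M ⟶ N)
    (h : ∀ (Y : C) (t : N.val.obj (op Y)), ∃ S ∈ J Y, ∀ (Z : C) (f : Z ⟶ Y), S f →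
      ∃ y : M.val.obj (op Z), p.val.app (op Z) y = res O N f t) : Epi p := by
  have hls : Sheaf.IsLocallySurjective ((SheafOfModules.toSheaf.{u} (ringSh O)).map p) := by
    constructor
    intro Y t
    obtain ⟨S, hS, hS'⟩ := h Y t
    refine J.superset_covering ?_ hS
    intro Z f hf
    obtain ⟨y, hy⟩ := hS' Z f hf
    exact ⟨y, hy⟩
  have hepi : Epi ((SheafOfModules.toSheaf.{u} (ringSh O)).map p) :=
    (Sheaf.isLocallySurjective_iff_epi' _ _).1 hls
  exact (SheafOfModules.toSheaf.{u} (ringSh O)).epi_of_epi_map hepi

lemma res_sum' (F : Mod O) {V U : C} (g : V ⟶ U) {ι : Type*} (t : Finset ι)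
    (x : ι → F.val.obj (op U)) :
    res O F g (∑ i ∈ t, x i) = ∑ i ∈ t, res O F g (x i) :=
  map_sum (F.val.map g.op).hom x t

variable {I : Type u}

lemma ext_coord [Fintype I] (Z : C)
    (t t' : (SheafOfModules.free (R := ringSh O) I).val.obj (op Z))
    (h : ∀ i, coord O i Z t = coord O i Z t') : t = t' :=
  calc t = ∑ i, coord O i Z t • basis O i Z := eq_sum_coord O Z t
    _ = ∑ i, coord O i Z t' • basis O i Z := by simp only [h]
    _ = t' := (eq_sum_coord O Z t').symm

lemma coord_comb [Fintype I] [DecidableEq I] (Z : C) (c : I → (ringSh O).obj.obj (op Z)) (i : I) :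
    coord O i Z (∑ k, c k • basis O k Z) = c i := by
  rw [coord_sum]
  simp only [coord_smul, coord_basis, mul_ite, mul_one, mul_zero]
  rw [Finset.sum_ite_eq' Finset.univ i]
  simp

lemma basis_res (i : I) {Z' Z : C} (f : Z' ⟶ Z) :
    res O (SheafOfModules.free (R := ringSh O) I) f (basis O i Z) = basis O i Z' := by
  unfold basis
  rw [← app_res]
  congr 1
  exact PresheafOfModules.unit_map_one (R := (ringSh O).obj) f.op

lemma app_basis (N : Mod O) (σ : I → N.sections) (i : I) (Z : C) :
    (N.freeHomEquiv.symm σ).val.app (op Z) (basis O i Z) =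
      PresheafOfModules.sections.eval (σ i) (op Z) := by
  have h1 : SheafOfModules.ιFree i ≫ N.freeHomEquiv.symm σ = N.unitHomEquiv.symm (σ i) := by
    rw [← SheafOfModules.unitHomEquiv_symm_freeHomEquiv_apply, Equiv.apply_symm_apply]
  change (SheafOfModules.ιFree i ≫ N.freeHomEquiv.symm σ).val.app (op Z) (oneSec (ringSh O) Z) = _
  rw [h1]
  have := unitHomEquiv_symm_app N (σ i) (op Z) (1 : (ringSh O).obj.obj (op Z))
  rw [one_smul] at this
  exact this

end General

section OverSite

variable {C : Type u} [SmallCategory C] {J : GrothendieckTopology C} (O : Sheaf J CommRingCat.{u})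

/-- restriction of a coefficient over `U` to an object of `C/U`. -/
noncomputable def coefOver (U : C) (a : (ringSh O).obj.obj (op U)) (Z : Over U) :
    (ringSh (O.over U)).obj.obj (op Z) :=
  (ringSh O).obj.map Z.hom.op a

lemma coefOver_res (U : C) (a : (ringSh O).obj.obj (op U)) {Z' Z : Over U} (f : Z' ⟶ Z) :
    (ringSh (O.over U)).obj.map f.op (coefOver O U a Z) = coefOver O U a Z' := by
  have hw : f.left ≫ Z.hom = Z'.hom := Over.w f
  unfold coefOver
  rw [← hw]
  exact (Omap_comp O f.left Z.hom a).symm

/-- the global section of the free module over `C/U` with given coordinates over `U`. -/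
noncomputable def relSection (U : C) {n : ℕ} (ρ : Fin n → (ringSh O).obj.obj (op U)) :
    (SheafOfModules.free (R := ringSh (O.over U)) (ULift.{u} (Fin n))).sections :=
  PresheafOfModules.sectionsMk
    (fun Z => ∑ i : ULift.{u} (Fin n),
      coefOver O U (ρ i.down) Z.unop • basis (O.over U) i Z.unop)
    (by
      intro Y Z f
      change res (O.over U) _ f.unop _ = _
      rw [res_sum']
      refine Finset.sum_congr rfl (fun i _ => ?_)
      rw [res_smul, basis_res, coefOver_res])

lemma eval_relSection (U : C) {n : ℕ} (ρ : Fin n → (ringSh O).obj.obj (op U)) (Z : Over U) :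
    PresheafOfModules.sections.eval (relSection O U ρ) (op Z) =
      ∑ i : ULift.{u} (Fin n), coefOver O U (ρ i.down) Z • basis (O.over U) i Z := rfl

theorem exists_presentation_of_relGen (F : Mod O) (U : C) {n m : ℕ} (s : Fin n → F.val.obj (op U))
    (r : Fin m → Fin n → (ringSh O).obj.obj (op U)) (hs : LocGen O F U s)
    (hr : RelGen O F U s r) :
    ∃ P : (F.over U).Presentation, P.IsFinite := by
  classical
  let N : Mod (O.over U) := F.over U
  let σ : ULift.{u} (Fin n) → N.sections := fun i => overSection O F U (s i.down)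
  let g : SheafOfModules.free (R := ringSh (O.over U)) (ULift.{u} (Fin n)) ⟶ N :=
    N.freeHomEquiv.symm σ
  let ρ : ULift.{u} (Fin m) →
      (SheafOfModules.free (R := ringSh (O.over U)) (ULift.{u} (Fin n))).sections :=
    fun j => relSection O U (r j.down)
  let f : SheafOfModules.free (R := ringSh (O.over U)) (ULift.{u} (Fin m)) ⟶
      SheafOfModules.free (R := ringSh (O.over U)) (ULift.{u} (Fin n)) :=
    (SheafOfModules.free (R := ringSh (O.over U)) (ULift.{u} (Fin n))).freeHomEquiv.symm ρ
  have hg : ∀ (Z : Over U) (t : (SheafOfModules.free (R := ringSh (O.over U))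
      (ULift.{u} (Fin n))).val.obj (op Z)),
      g.val.app (op Z) t = ∑ i, coord (O.over U) i Z t •
        PresheafOfModules.sections.eval (σ i) (op Z) :=
    fun Z t => app_eq_sum (O.over U) N σ Z t
  have hgb : ∀ (Z : Over U) (i : ULift.{u} (Fin n)),
      g.val.app (op Z) (basis (O.over U) i Z) = PresheafOfModules.sections.eval (σ i) (op Z) :=
    fun Z i => app_basis (O.over U) N σ i Z
  have hfb : ∀ (Z : Over U) (j : ULift.{u} (Fin m)),
      f.val.app (op Z) (basis (O.over U) j Z) = PresheafOfModules.sections.eval (ρ j) (op Z) :=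
    fun Z j => app_basis (O.over U) _ ρ j Z
  have hρ0 : ∀ (Z : Over U) (j : ULift.{u} (Fin m)),
      g.val.app (op Z) (PresheafOfModules.sections.eval (ρ j) (op Z)) = 0 := by
    intro Z j
    simp only [ρ]
    rw [eval_relSection, map_sum]
    simp only [map_smul, hgb]
    have h1 := congrArg (res O F Z.hom) (hr.1 j.down)
    rw [res_sum, res_zero] at h1
    refine Eq.trans ?_ h1
    rw [← Equiv.sum_comp Equiv.ulift.{u} (fun k => res O F Z.hom (r j.down k • s k))]
    refine Finset.sum_congr rfl (fun i _ => ?_)
    exact (res_smul O F Z.hom _ _).symm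
  have H : f ≫ g = 0 := by
    apply hom_ext_app (O.over U)
    intro Z t
    change g.val.app (op Z) (f.val.app (op Z) t) = 0
    rw [app_eq_sum (O.over U) _ ρ Z t, map_sum]
    apply Finset.sum_eq_zero
    intro j _
    rw [map_smul, hρ0, smul_zero]
  have hepi_g : Epi g := epi_of_locGen O F U s hs
  have hepi_l : Epi (kernel.lift g f H) := by
    apply epi_of_local_lift (O.over U)
    intro Y t
    let x := (kernel.ι g).val.app (op Y) t
    have hx : g.val.app (op Y) x = 0 := app_zero_of_kernel (O.over U) g Y t
    let e : Fin n → (ringSh O).obj.obj (op Y.left) := fun k => coord (O.over U) (ULift.up k) Y x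
    have he : ∑ k, e k • res O F Y.hom (s k) = 0 := by
      rw [hg] at hx
      refine Eq.trans ?_ hx
      exact (Equiv.sum_comp Equiv.ulift.{u} (fun k => e k • res O F Y.hom (s k))).symm
    obtain ⟨S, hS, hS'⟩ := hr.2 Y.left Y.hom e he
    have hmem : (Sieve.overEquiv Y).symm S ∈ (J.over U) Y := by
      rw [GrothendieckTopology.mem_over_iff]
      have e' := (Sieve.overEquiv Y).apply_symm_apply S
      rw [e']
      exact hS
    refine ⟨(Sieve.overEquiv Y).symm S, hmem, ?_⟩
    intro Z f' hf'
    rw [Sieve.overEquiv_symm_iff] at hf'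
    obtain ⟨d, hd⟩ := hS' Z.left f'.left hf'
    let dd : ULift.{u} (Fin m) → (ringSh (O.over U)).obj.obj (op Z) := fun j => d j.down
    let y : (SheafOfModules.free (R := ringSh (O.over U)) (ULift.{u} (Fin m))).val.obj (op Z) :=
      ∑ j, dd j • basis (O.over U) j Z
    refine ⟨y, ?_⟩
    apply injective_of_mono (O.over U) (kernel.ι g) Z
    have h1 : (kernel.ι g).val.app (op Z) ((kernel.lift g f H).val.app (op Z) y) =
        f.val.app (op Z) y :=
      congrArg (fun φ => φ.val.app (op Z) y) (kernel.lift_ι g f H)
    rw [h1, app_res]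
    apply ext_coord (O.over U) Z
    intro i
    rw [coord_res]
    have h2 : f.val.app (op Z) y =
        ∑ j, dd j • PresheafOfModules.sections.eval (ρ j) (op Z) := by
      simp only [y]
      rw [map_sum]
      refine Finset.sum_congr rfl (fun j _ => ?_)
      rw [map_smul, hfb]
    rw [h2, coord_sum]
    have h3 : ∀ j, coord (O.over U) i Z (PresheafOfModules.sections.eval (ρ j) (op Z)) =
        coefOver O U (r j.down i.down) Z := by
      intro j
      simp only [ρ]
      rw [eval_relSection]
      exact coord_comb (O.over U) Z (fun k => coefOver O U (r j.down k.down) Z) i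
    simp only [coord_smul, h3]
    have h4 := hd i.down
    have hw : f'.left ≫ Y.hom = Z.hom := Over.w f'
    rw [hw] at h4
    refine Eq.trans ?_ h4.symm
    exact (Equiv.sum_comp Equiv.ulift.{u}
      (fun j => d j * (ringSh O).obj.map Z.hom.op (r j i.down)))
  let S : ShortComplex (Mod (O.over U)) := ShortComplex.mk f g H
  have hS : S.Exact := S.exact_iff_epi_kernel_lift.2 hepi_l
  have : Epi S.g := hepi_g
  let P : (F.over U).Presentation :=
    SheafOfModules.presentationOfIsCokernelFree f g H hS.gIsCokernel
  refine ⟨P, ?_⟩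
  constructor
  · constructor
    exact inferInstanceAs (Finite (ULift.{u} (Fin n)))
  · constructor
    exact inferInstanceAs (Finite (ULift.{u} (Fin m)))

theorem isFinitePresentation_of_fpc (F : Mod O) (h : FPc O F) :
    SheafOfModules.IsFinitePresentation (R := ringSh O) F := by
  classical
  let I := {U : C // ∃ P : (F.over U).Presentation, P.IsFinite}
  let σ : SheafOfModules.QuasicoherentData.{u} (R := ringSh O) F :=
    { I := I
      X := Subtype.val
      coversTop := by
        intro W₀
        obtain ⟨S, hS, hS'⟩ := h W₀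
        refine J.superset_covering ?_ hS
        intro U g hg
        obtain ⟨n, s, m, r, hs, hr⟩ := hS' U g hg
        exact ⟨⟨U, exists_presentation_of_relGen O F U s r hs hr⟩, ⟨𝟙 U⟩⟩
      presentation := fun i => i.2.choose }
  have hσ : σ.IsFinitePresentation := by
    constructor
    intro i
    exact i.2.choose_spec
  exact { exists_quasicoherentData := ⟨σ, hσ⟩ }

theorem isFinitePresentation_iff_fpc (F : Mod O) :
    SheafOfModules.IsFinitePresentation (R := ringSh O) F ↔ FPc O F :=
  ⟨fun _ => fpc_of_isFinitePresentation O F, isFinitePresentation_of_fpc O F⟩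

end OverSite

end Groth.Agent.Lib.Helper45.FTDict
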