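import Groth.Agent.Lib.Helper45.FTDict7

/-!
# Cokernel of a map from a finite type module to a finitely presented module is finitely
presented (concrete `FT`/`FPc` form), with local-to-global helpers for sieves.
-/

set_option autoImplicit false
set_option linter.style.haveILetI false
set_option linter.unusedSectionVars false

universe u

open CategoryTheory CategoryTheory.Limits Opposite ModSite

namespace Groth.Agent.Lib.Helper45.FTDict

open Groth.Agent.Lib.Helper45.QcSum

variable {C : Type u} [SmallCategory C] {J : GrothendieckTopology C} (O : Sheaf J CommRingCat.{u})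

omit O in
lemma sieve_local {V : C} (P : ∀ (W : C), (W ⟶ V) → Prop)
    (h : ∃ S ∈ J V, ∀ (W : C) (h : W ⟶ V), S h → ∃ T ∈ J W, ∀ (W' : C) (h' : W' ⟶ W), T h' →
      P W' (h' ≫ h)) :
    ∃ S ∈ J V, ∀ (W : C) (h : W ⟶ V), S h → P W h := by
  obtain ⟨S, hS, hS'⟩ := h
  choose T hT hT' using hS'
  refine ⟨Sieve.bind S T, J.bind_covering hS (fun _ _ hg => hT _ _ hg), ?_⟩
  rintro W' k ⟨W, a, b, hb, ha, rfl⟩
  exact hT' W b hb W' a ha

lemma fpc_of_local (F : Mod O)
    (h : ∀ W₀ : C, ∃ S ∈ J W₀, ∀ (U : C) (g : U ⟶ W₀), S g → ∃ T ∈ J U,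
      ∀ (V : C) (k : V ⟶ U), T k → ∃ (n : ℕ) (s : Fin n → F.val.obj (op V)) (m : ℕ)
      (r : Fin m → Fin n → (ringSh O).obj.obj (op V)), LocGen O F V s ∧ RelGen O F V s r) :
    FPc O F := by
  intro W₀
  obtain ⟨S, hS, hS'⟩ := h W₀
  choose T hT hT' using hS'
  refine ⟨Sieve.bind S T, J.bind_covering hS (fun _ _ hg => hT _ _ hg), ?_⟩
  rintro V k ⟨U, a, b, hb, ha, rfl⟩
  exact hT' U b hb V a ha

lemma LocGen.of_epi {F F' : Mod O} (π : F ⟶ F') [Epi π] {U : C} {ι : Type} [Fintype ι]
    {s : ι → F.val.obj (op U)} (hs : LocGen O F U s) :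
    LocGen O F' U (fun i => π.val.app (op U) (s i)) := by
  apply locGen_of_local
  intro V g w
  obtain ⟨S, hS, hS'⟩ := exists_local_lift O π w
  refine ⟨S, hS, fun W h hh => ?_⟩
  obtain ⟨x, hx⟩ := hS' W h hh
  obtain ⟨T, hT, hT'⟩ := hs W (h ≫ g) x
  refine ⟨T, hT, fun W' h' hh' => ?_⟩
  obtain ⟨a, ha⟩ := hT' W' h' hh'
  refine ⟨a, ?_⟩
  rw [res_comp, ← hx, ← app_res, ha, app_sum]
  refine Finset.sum_congr rfl (fun i _ => ?_)
  rw [app_smul, app_res, Category.assoc]

lemma exists_local_preimage_of_cokernel {G F : Mod O} (φ : G ⟶ F) (V : C) (x : F.val.obj (op V))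
    (hx : (cokernel.π φ).val.app (op V) x = 0) :
    ∃ S ∈ J V, ∀ (W : C) (h : W ⟶ V), S h →
      ∃ y : G.val.obj (op W), φ.val.app (op W) y = res O F h x := by
  obtain ⟨k, hk⟩ := exists_kernel_lift O (cokernel.π φ) V x hx
  obtain ⟨S, hS, hS'⟩ := exists_local_lift O (Abelian.factorThruImage φ) k
  refine ⟨S, hS, fun W h hh => ?_⟩
  obtain ⟨y, hy⟩ := hS' W h hh
  refine ⟨y, ?_⟩
  have h1 : φ.val.app (op W) y = (Abelian.image.ι φ).val.app (op W)
      ((Abelian.factorThruImage φ).val.app (op W) y) :=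
    (congrArg (fun ψ => ψ.val.app (op W) y) (Abelian.image.fac φ)).symm
  rw [h1, hy, app_res]
  congr 1

theorem fpc_cokernel {G F : Mod O} (φ : G ⟶ F) (hG : FT O G) (hF : FPc O F) :
    FPc O (cokernel φ) := by
  classical
  apply fpc_of_local
  intro W₀
  obtain ⟨S₁, hS₁, h₁'⟩ := hG W₀
  obtain ⟨S₃, hS₃, h₃'⟩ := hF W₀
  refine ⟨S₁ ⊓ S₃, J.intersection_covering hS₁ hS₃, ?_⟩
  intro U g hg
  obtain ⟨p, t, ht⟩ := h₁' U g hg.1
  obtain ⟨n, s, m, r, hs, hr⟩ := h₃' U g hg.2
  choose Sa hSa hSa' using fun l => hs U (𝟙 U) (φ.val.app (op U) (t l))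
  refine ⟨Finset.univ.inf Sa, finset_inf_mem _ Sa hSa, ?_⟩
  intro V k hk
  have hka : ∀ l, Sa l k := fun l => (finset_inf_apply _ Sa k).1 hk l (Finset.mem_univ l)
  choose A hA using fun l => hSa' l V k (hka l)
  let tV : Fin p → G.val.obj (op V) := fun l => res O G k (t l)
  let sV : Fin n → F.val.obj (op V) := fun i => res O F k (s i)
  let rV : Fin m → Fin n → (ringSh O).obj.obj (op V) := fun j i => (ringSh O).obj.map k.op (r j i)
  have hrV : RelGen O F V sV rV := hr.restrict O k
  have hsV : LocGen O F V sV := hs.restrict O k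
  have htV : LocGen O G V tV := ht.restrict O k
  have hφt : ∀ l, φ.val.app (op V) (tV l) = ∑ i, A l i • sV i := by
    intro l
    simp only [tV, sV]
    rw [app_res, hA l]
    simp only [Category.comp_id]
  let s' : Fin n → (cokernel φ).val.obj (op V) := fun i => (cokernel.π φ).val.app (op V) (sV i)
  let r' : Fin (m + p) → Fin n → (ringSh O).obj.obj (op V) := Fin.append rV A
  have hπφ : ∀ (Z : C) (y : G.val.obj (op Z)),
      (cokernel.π φ).val.app (op Z) (φ.val.app (op Z) y) = 0 := fun Z y =>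
    congrArg (fun ψ => ψ.val.app (op Z) y) (cokernel.condition φ)
  refine ⟨n, s', m + p, r', hsV.of_epi O (cokernel.π φ), ?_, ?_⟩
  · intro j
    have key : ∀ a : Fin n → (ringSh O).obj.obj (op V),
        ∑ i, a i • s' i = (cokernel.π φ).val.app (op V) (∑ i, a i • sV i) := by
      intro a
      rw [app_sum]
      exact Finset.sum_congr rfl (fun i _ => (app_smul O _ _ _ _).symm)
    rw [key]
    refine Fin.addCases (fun j => ?_) (fun l => ?_) j
    · simp only [r', Fin.append_left]
      rw [hrV.1 j, map_zero]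
    · simp only [r', Fin.append_right]
      rw [← hφt l, hπφ]
  · intro V' g' c hc
    let x : F.val.obj (op V') := ∑ i, c i • res O F g' (sV i)
    have hx : (cokernel.π φ).val.app (op V') x = 0 := by
      simp only [x]
      rw [app_sum, ← hc]
      refine Finset.sum_congr rfl (fun i _ => ?_)
      rw [app_smul, app_res]
    apply sieve_local
    obtain ⟨S, hS, hS'⟩ := exists_local_preimage_of_cokernel O φ V' x hx
    refine ⟨S, hS, fun W h hh => ?_⟩
    obtain ⟨y, hy⟩ := hS' W h hh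
    apply sieve_local
    obtain ⟨T, hT, hT'⟩ := htV W (h ≫ g') y
    refine ⟨T, hT, fun W' h' hh' => ?_⟩
    obtain ⟨b, hb⟩ := hT' W' h' hh'
    let e : Fin n → (ringSh O).obj.obj (op W') := fun i =>
      (ringSh O).obj.map (h' ≫ h).op (c i) -
        ∑ l, b l * (ringSh O).obj.map (h' ≫ h ≫ g').op (A l i)
    have he : ∑ i, e i • res O F (h' ≫ h ≫ g') (sV i) = 0 := by
      have e1 : ∑ i, (ringSh O).obj.map (h' ≫ h).op (c i) • res O F (h' ≫ h ≫ g') (sV i) =
          res O F (h' ≫ h) x := by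
        have hres : ∀ i, res O F (h' ≫ h) (res O F g' (sV i)) =
            res O F (h' ≫ h ≫ g') (sV i) := fun i => by
          rw [← res_comp O F (h' ≫ h) g' (sV i), Category.assoc]
        simp only [x]
        rw [res_sum]
        refine Finset.sum_congr rfl (fun i _ => ?_)
        rw [res_smul, hres]
      have e2 : ∑ i, (∑ l, b l * (ringSh O).obj.map (h' ≫ h ≫ g').op (A l i)) •
          res O F (h' ≫ h ≫ g') (sV i) = res O F (h' ≫ h) x := by
        rw [← alg_swap, res_comp, ← hy, ← app_res, hb, app_sum]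
        refine Finset.sum_congr rfl (fun l _ => ?_)
        rw [app_smul, app_res, hφt, res_sum]
        congr 1
        exact Finset.sum_congr rfl (fun i _ => (res_smul O F _ _ _).symm)
      simp only [e, sub_smul, Finset.sum_sub_distrib]
      rw [e1, e2, sub_self]
    obtain ⟨T', hT', hT''⟩ := hrV.2 W' (h' ≫ h ≫ g') e he
    refine ⟨T', hT', fun W'' h'' hh'' => ?_⟩
    obtain ⟨d, hd⟩ := hT'' W'' h'' hh''
    refine ⟨Fin.append d (fun l => (ringSh O).obj.map h''.op (b l)), fun i => ?_⟩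
    rw [Fin.sum_univ_add]
    simp only [Fin.append_left, Fin.append_right, r']
    have h1 := hd i
    simp only [e] at h1
    rw [map_sub, map_sum, sub_eq_iff_eq_add] at h1
    simp only [Category.assoc]
    rw [Omap_comp O h'' (h' ≫ h), h1]
    congr 1
    refine Finset.sum_congr rfl (fun l _ => ?_)
    rw [map_mul, ← Omap_comp]

end Groth.Agent.Lib.Helper45.FTDict
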