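import Groth.Prelude.Def_FibSite
import Mathlib.CategoryTheory.Sites.CoverPreserving

/-!
# Fibred sites: the total topology (helper45)

`hom_eq_ι_map_comp_cartesianLift`, `ι_map_comp_cartesianLift` (coherence in `∫ᶜ F`),
`coverTop J hF` (sieves containing the image of a fibre covering), `totalTopology_eq_coverTop`,
`mem_totalTopology_iff`, `isCocontinuous_ι`.
-/

set_option autoImplicit false
set_option backward.isDefEq.respectTransparency false
set_option backward.isDefEq.respectTransparency.types false
set_option backward.defeqAttrib.useBackward true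
universe v₁ u₁ v₂ u₂ v₃ u₃

open CategoryTheory Opposite Pseudofunctor Pseudofunctor.CoGrothendieck Bicategory

namespace Groth.Agent.Lib.Helper45.FibSiteLib

variable {𝒮 : Type u₁} [Category.{v₁} 𝒮] {F : Pseudofunctor (LocallyDiscrete 𝒮ᵒᵖ) Cat.{v₂, u₂}}

section Coherence

attribute [local simp] PrelaxFunctor.map₂_eqToHom Strict.leftUnitor_eqToIso
  Strict.rightUnitor_eqToIso Strict.associator_eqToIso

/-- every morphism of the total category is a vertical morphism followed by a cartesian lift. -/
lemma hom_eq_ι_map_comp_cartesianLift {X Y : ∫ᶜ F} (g : Y ⟶ X) :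
    g = (ι F Y.base).map g.fiber ≫ cartesianLift X.fiber g.base := by
  ext
  · simp
  · simp [F.mapComp_id_right_inv_app, ← Cat.Hom₂.comp_app]

/-- naturality of the cartesian lifts. -/
lemma ι_map_comp_cartesianLift {R S : 𝒮} (f : R ⟶ S) {U V : F.obj ⟨op S⟩} (r : V ⟶ U) :
    (ι F R).map ((FibSite.invImage F f).map r) ≫ cartesianLift U f =
      cartesianLift V f ≫ (ι F S).map r := by
  ext
  · simp
  · simp [F.mapComp_id_right_inv_app, F.mapComp_id_left_inv_app, ← Cat.Hom₂.comp_app,
      ← Functor.map_comp_assoc]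

end Coherence

variable (J : FibSite.Topologies F)

/-- the sieves containing the image of a covering sieve of the fibre form a topology as soon as
the inverse-image functors are continuous. -/
def coverTop (hF : FibSite.IsPreFibSite F J) : GrothendieckTopology (∫ᶜ F) where
  sieves X := {S | ∃ R ∈ J X.base X.fiber, Sieve.functorPushforward (ι F X.base) R ≤ S}
  top_mem' X := ⟨⊤, (J _).top_mem _, le_top⟩
  pullback_stable' X Y S g := by
    rintro ⟨R, hR, hRS⟩
    have := hF g.base
    have hcp := CoverPreserving.of_isContinuous (FibSite.invImage F g.base) (J X.base) (J Y.base)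
    have hR'' : R.functorPushforward (FibSite.invImage F g.base) ∈ J Y.base _ :=
      hcp.cover_preserve hR
    refine ⟨(R.functorPushforward (FibSite.invImage F g.base)).pullback g.fiber,
      (J _).pullback_stable _ hR'', ?_⟩
    rintro W k ⟨V', ψ, h, hψ, rfl⟩
    obtain ⟨V, r, α, hr, hα⟩ := hψ
    change S ((h ≫ (ι F Y.base).map ψ) ≫ g)
    have e : (h ≫ (ι F Y.base).map ψ) ≫ g =
        (h ≫ (ι F Y.base).map α ≫ cartesianLift V g.base) ≫ (ι F X.base).map r := by
      conv_lhs => rw [hom_eq_ι_map_comp_cartesianLift g]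
      simp only [Category.assoc]
      rw [← Functor.map_comp_assoc, hα, Functor.map_comp_assoc, ι_map_comp_cartesianLift]
    rw [e]
    exact S.downward_closed (hRS _ ⟨V, r, 𝟙 _, hr, by simp⟩) _
  transitive' X S := by
    rintro ⟨R, hR, hRS⟩ S' hS'
    have h1 : ∀ ⦃V : F.obj ⟨op X.base⟩⦄ (r : V ⟶ X.fiber), R r →
        ∃ R' ∈ J X.base V, Sieve.functorPushforward (ι F X.base) R' ≤
          S'.pullback ((ι F X.base).map r) := by
      intro V r hr
      exact hS' (hRS _ ⟨V, r, 𝟙 _, hr, by simp⟩)
    choose R' hR' hR'S using h1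
    refine ⟨Sieve.bind R (fun V r hr => R' r hr), (J _).bind_covering hR (fun V r hr => hR' r hr), ?_⟩
    rintro W k ⟨V', ψ, h, ⟨V, t, r, hr, ht, rfl⟩, rfl⟩
    have : S'.pullback ((ι F X.base).map r) ((ι F X.base).map t) :=
      hR'S r hr _ ⟨_, t, 𝟙 _, ht, by simp⟩
    rw [Functor.map_comp]
    exact S'.downward_closed this h

variable {J}

theorem totalTopology_eq_coverTop (hF : FibSite.IsPreFibSite F J) :
    FibSite.totalTopology F J = coverTop J hF := by
  apply le_antisymm
  · apply FibSite.totalTopology_le
    intro S U R hR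
    exact ⟨R, hR, le_rfl⟩
  · rintro X S ⟨R, hR, hRS⟩
    exact (FibSite.totalTopology F J).superset_covering hRS
      (FibSite.functorPushforward_mem_totalTopology hR)

theorem mem_totalTopology_iff (hF : FibSite.IsPreFibSite F J) (X : ∫ᶜ F) (S : Sieve X) :
    S ∈ FibSite.totalTopology F J X ↔
      ∃ R ∈ J X.base X.fiber, Sieve.functorPushforward (ι F X.base) R ≤ S := by
  rw [totalTopology_eq_coverTop hF]
  rfl

theorem isCocontinuous_ι (hF : FibSite.IsPreFibSite F J) (S : 𝒮) :
    (ι F S).IsCocontinuous (J S) (FibSite.totalTopology F J) where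
  cover_lift {U} S' hS' := by
    obtain ⟨R, hR, hRS⟩ := (mem_totalTopology_iff hF _ S').1 hS'
    refine (J S).superset_covering ?_ hR
    exact (Sieve.functorPushforward_le_iff_le_functorPullback (ι F S) R S').1 hRS

end Groth.Agent.Lib.Helper45.FibSiteLib
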