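import Groth.Agent.Lib.Helper45.FibSite9

set_option autoImplicit false
set_option backward.isDefEq.respectTransparency false
universe w v u v₁ u₁ v₂ u₂

open CategoryTheory CategoryTheory.Limits Opposite

namespace Groth.Agent.Lib.Helper45.FibSiteLib

open Groth.Agent.Lib.Helper45

section Sheaf

variable {C : Type u} [SmallCategory C] (J : GrothendieckTopology C)

lemma goodCoproducts_sheaf : GoodCoproducts.{u} (Sheaf J (Type u)) where
  sq := by
    intro ι X Y cX cY hX hY a f h i
    have hmY : Mono (cY.inj i) := mono_cofan_inj cY hY i
    have hmX : Mono (cX.inj i) := mono_cofan_inj cX hX i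
    let k : X i ⟶ pullback f (cY.inj i) := pullback.lift (cX.inj i) (a i) (h i)
    have hk1 : k ≫ pullback.fst f (cY.inj i) = cX.inj i := pullback.lift_fst _ _ _
    have hk2 : k ≫ pullback.snd f (cY.inj i) = a i := pullback.lift_snd _ _ _
    have hmono : Mono k := by
      have : Mono (k ≫ pullback.fst f (cY.inj i)) := by rw [hk1]; exact hmX
      exact mono_of_mono k (pullback.fst f (cY.inj i))
    have hepi : Epi k := by
      refine ⟨fun {Z} x y hxy => ?_⟩
      have hJ : JEpi (fun j => pullback.snd (cX.inj j) (pullback.fst f (cY.inj i))) :=
        (jEpi_cofan_inj cX hX).pullback_snd _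
      refine hJ x y fun j => ?_
      by_cases hji : j = i
      · subst hji
        have e : pullback.snd (cX.inj j) (pullback.fst f (cY.inj j)) =
            pullback.fst (cX.inj j) (pullback.fst f (cY.inj j)) ≫ k := by
          apply pullback.hom_ext
          · rw [Category.assoc, hk1, pullback.condition]
          · rw [Category.assoc, hk2, ← cancel_mono (cY.inj j), Category.assoc, Category.assoc,
              ← pullback.condition, ← h j, ← Category.assoc, ← Category.assoc, pullback.condition]
        change pullback.snd (cX.inj j) (pullback.fst f (cY.inj j)) ≫ x =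
          pullback.snd (cX.inj j) (pullback.fst f (cY.inj j)) ≫ y
        rw [e, Category.assoc, Category.assoc, hxy]
      · have hE : IsEmptyObj (pullback (cX.inj j) (pullback.fst f (cY.inj i))) := by
          refine isEmptyObj_of_disjoint cY hY hji
            (pullback.fst (cX.inj j) (pullback.fst f (cY.inj i)) ≫ a j)
            (pullback.snd (cX.inj j) (pullback.fst f (cY.inj i)) ≫ pullback.snd f (cY.inj i)) ?_
          rw [Category.assoc, ← h j, ← Category.assoc, pullback.condition, Category.assoc,
            Category.assoc, pullback.condition]
        exact hE _ _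
    have hiso : IsIso k := isIso_of_mono_of_epi k
    exact IsPullback.of_iso_pullback ⟨h i⟩ (asIso k) hk1 hk2
  univ := by
    intro ι X Y cX cY hY a f hsq
    have hu := isUniversalColimit_cofan cY hY
    exact hu cX (Discrete.natTrans fun i => a i.as) f (by
      apply NatTrans.ext
      funext i
      obtain ⟨i⟩ := i
      exact ((hsq i).w).symm) (NatTrans.Equifibered.of_discrete _) (fun ⟨i⟩ => hsq i)

end Sheaf

end Groth.Agent.Lib.Helper45.FibSiteLib
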