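import Groth.Agent.Lib.Helper45.ToposGiraud1

set_option autoImplicit false
set_option backward.isDefEq.respectTransparency false
universe w v u v₁ u₁ v₂ u₂

open CategoryTheory CategoryTheory.Limits Opposite

namespace Groth.Agent.Lib.Helper45.FibSiteLib

section Abstract

variable (ℬ : Type u₁) [Category.{v₁} ℬ]

/-- coproducts indexed by types in `Type w` are universal and the squares over the
coprojections are cartesian. -/
structure GoodCoproducts : Prop where
  sq : ∀ {ι : Type w} {X Y : ι → ℬ} (cX : Cofan X) (cY : Cofan Y), IsColimit cX → IsColimit cY →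
    ∀ (a : ∀ i, X i ⟶ Y i) (f : cX.pt ⟶ cY.pt), (∀ i, cX.inj i ≫ f = a i ≫ cY.inj i) →
      ∀ i, IsPullback (cX.inj i) (a i) f (cY.inj i)
  univ : ∀ {ι : Type w} {X Y : ι → ℬ} (cX : Cofan X) (cY : Cofan Y), IsColimit cY →
    ∀ (a : ∀ i, X i ⟶ Y i) (f : cX.pt ⟶ cY.pt),
      (∀ i, IsPullback (cX.inj i) (a i) f (cY.inj i)) → Nonempty (IsColimit cX)

variable {ℬ}

section Squares

variable (hg : GoodCoproducts.{w} ℬ) {ι : Type w} {A B C D : ι → ℬ}
  (cA : Cofan A) (cB : Cofan B) (cC : Cofan C) (cD : Cofan D)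
  (hA : IsColimit cA) (hB : IsColimit cB) (hC : IsColimit cC) (hD : IsColimit cD)
  (p : ∀ i, A i ⟶ B i) (q : ∀ i, A i ⟶ C i) (r : ∀ i, B i ⟶ D i) (s : ∀ i, C i ⟶ D i)
  (P : cA.pt ⟶ cB.pt) (Q : cA.pt ⟶ cC.pt) (R : cB.pt ⟶ cD.pt) (S : cC.pt ⟶ cD.pt)
  (hP : ∀ i, cA.inj i ≫ P = p i ≫ cB.inj i) (hQ : ∀ i, cA.inj i ≫ Q = q i ≫ cC.inj i)
  (hR : ∀ i, cB.inj i ≫ R = r i ≫ cD.inj i) (hS : ∀ i, cC.inj i ≫ S = s i ≫ cD.inj i)

include hg hA hB hC hD hP hQ hR hS

/-- a component of a cartesian square of coproducts is cartesian. -/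
lemma isPullback_component (hbig : IsPullback P Q R S) (w : ∀ i, p i ≫ r i = q i ≫ s i) (i : ι) :
    IsPullback (p i) (q i) (r i) (s i) := by
  have sqB := hg.sq cB cD hB hD r R hR i
  have sqC := hg.sq cC cD hC hD s S hS i
  have sqA := hg.sq cA cD hA hD (fun i => p i ≫ r i) (P ≫ R) (fun i => by
    rw [← Category.assoc, hP, Category.assoc, hR, Category.assoc]) i
  have s1 : IsPullback (p i) (cA.inj i) (cB.inj i) P :=
    IsPullback.of_right sqA.flip (hP i).symm sqB.flip
  have s2 : IsPullback (p i) (cA.inj i ≫ Q) (cB.inj i ≫ R) S := s1.paste_vert hbig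
  rw [hQ, hR] at s2
  exact IsPullback.of_bot s2 (w i) sqC.flip

/-- a coproduct of cartesian squares is cartesian. -/
lemma isPullback_coproduct [HasPullbacks ℬ] (hsq : ∀ i, IsPullback (p i) (q i) (r i) (s i))
    (hcomm : P ≫ R = Q ≫ S) : IsPullback P Q R S := by
  have sqB := fun i => hg.sq cB cD hB hD r R hR i
  have sqC := fun i => hg.sq cC cD hC hD s S hS i
  let t : ∀ i, A i ⟶ pullback R S := fun i =>
    pullback.lift (p i ≫ cB.inj i) (q i ≫ cC.inj i) (by
      rw [Category.assoc, Category.assoc, hR, hS, ← Category.assoc, ← Category.assoc,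
        (hsq i).w])
  have ht1 : ∀ i, t i ≫ pullback.fst R S = p i ≫ cB.inj i := fun i => pullback.lift_fst _ _ _
  have ht2 : ∀ i, t i ≫ pullback.snd R S = q i ≫ cC.inj i := fun i => pullback.lift_snd _ _ _
  have key : ∀ i, IsPullback (t i) (p i ≫ r i) (pullback.fst R S ≫ R) (cD.inj i) := by
    intro i
    have u1 : IsPullback (p i) (q i ≫ cC.inj i) (r i ≫ cD.inj i) S :=
      (hsq i).paste_vert (sqC i).flip
    rw [← hR, ← ht2] at u1
    have s1' : IsPullback (p i) (t i) (cB.inj i) (pullback.fst R S) :=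
      IsPullback.of_bot u1 (ht1 i).symm (IsPullback.of_hasPullback R S)
    exact s1'.flip.paste_vert (sqB i)
  obtain ⟨hZ⟩ := hg.univ (Cofan.mk (pullback R S) t) cD hD (fun i => p i ≫ r i)
    (pullback.fst R S ≫ R) key
  let k : cA.pt ⟶ pullback R S := pullback.lift P Q hcomm
  have hk : ∀ i, cA.inj i ≫ k = t i := by
    intro i
    apply pullback.hom_ext
    · rw [Category.assoc, pullback.lift_fst, ht1, hP]
    · rw [Category.assoc, pullback.lift_snd, ht2, hQ]
  have hk' : k = (hA.coconePointUniqueUpToIso hZ).hom := by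
    apply Cofan.IsColimit.hom_ext hA
    intro i
    rw [hk]
    exact (IsColimit.comp_coconePointUniqueUpToIso_hom hA hZ ⟨i⟩).symm
  have : IsIso k := by
    rw [hk']
    infer_instance
  exact IsPullback.of_iso_pullback ⟨hcomm⟩ (asIso k) (pullback.lift_fst _ _ _)
    (pullback.lift_snd _ _ _)

end Squares

section Functors

variable {𝒜 : Type u₂} [Category.{v₂} 𝒜]

lemma preservesPullbacks_of_forall [HasPullbacks 𝒜] (Φ : 𝒜 ⥤ ℬ)
    (h : ∀ {P X Y Z : 𝒜} (fst : P ⟶ X) (snd : P ⟶ Y) (f : X ⟶ Z) (g : Y ⟶ Z),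
      IsPullback fst snd f g → IsPullback (Φ.map fst) (Φ.map snd) (Φ.map f) (Φ.map g)) :
    PreservesLimitsOfShape WalkingCospan Φ := by
  constructor
  intro K
  have : PreservesLimit (cospan (K.map WalkingCospan.Hom.inl) (K.map WalkingCospan.Hom.inr)) Φ :=
    (IsPullback.of_hasPullback _ _).preservesLimit_cospan_iff.2
      (h _ _ _ _ (IsPullback.of_hasPullback _ _))
  exact preservesLimit_of_iso_diagram Φ (diagramIsoCospan K).symm

variable (hg : GoodCoproducts.{w} ℬ) [HasPullbacks 𝒜] (Ψ : 𝒜 ⥤ ℬ) {ι : Type w}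
  (L : ι → 𝒜 ⥤ ℬ) (inj : ∀ f, L f ⟶ Ψ)
  (hcol : ∀ a, IsColimit (Cofan.mk (Ψ.obj a) (fun f => (inj f).app a)))

include hg hcol

/-- a pointwise coproduct of functors preserving pullbacks preserves pullbacks. -/
lemma preservesPullbacks_of_cofan [HasPullbacks ℬ]
    (hL : ∀ f, PreservesLimitsOfShape WalkingCospan (L f)) :
    PreservesLimitsOfShape WalkingCospan Ψ := by
  apply preservesPullbacks_of_forall
  intro P X Y Z fst snd f g sq
  exact isPullback_coproduct hg _ _ _ _ (hcol P) (hcol X) (hcol Y) (hcol Z)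
    (fun k => (L k).map fst) (fun k => (L k).map snd) (fun k => (L k).map f)
    (fun k => (L k).map g) _ _ _ _
    (fun k => ((inj k).naturality fst).symm) (fun k => ((inj k).naturality snd).symm)
    (fun k => ((inj k).naturality f).symm) (fun k => ((inj k).naturality g).symm)
    (fun k => sq.map (L k)) (by rw [← Ψ.map_comp, sq.w, Ψ.map_comp])

/-- the summands of a pointwise coproduct of functors preserving pullbacks preserve pullbacks. -/
lemma preservesPullbacks_component (hΨ : PreservesLimitsOfShape WalkingCospan Ψ) (k : ι) :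
    PreservesLimitsOfShape WalkingCospan (L k) := by
  apply preservesPullbacks_of_forall
  intro P X Y Z fst snd f g sq
  exact isPullback_component hg _ _ _ _ (hcol P) (hcol X) (hcol Y) (hcol Z)
    (fun k => (L k).map fst) (fun k => (L k).map snd) (fun k => (L k).map f)
    (fun k => (L k).map g) _ _ _ _
    (fun k => ((inj k).naturality fst).symm) (fun k => ((inj k).naturality snd).symm)
    (fun k => ((inj k).naturality f).symm) (fun k => ((inj k).naturality g).symm)
    (sq.map Ψ) (fun k => by rw [← (L k).map_comp, sq.w, (L k).map_comp]) k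

end Functors

end Abstract

end Groth.Agent.Lib.Helper45.FibSiteLib
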