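import Groth.Agent.Lib.Helper45.FibSite8
import Groth.Agent.Lib.Helper45.FibSite9

set_option autoImplicit false
set_option backward.isDefEq.respectTransparency false
set_option backward.isDefEq.respectTransparency.types false
set_option backward.defeqAttrib.useBackward true
universe w v u v₁ u₁ v₂ u₂

open CategoryTheory CategoryTheory.Limits Opposite Pseudofunctor Pseudofunctor.CoGrothendieck Bicategory
open scoped CategoryTheory.Pseudofunctor.StrongTrans

namespace Groth.Agent.Lib.Helper45.FibSiteLib

section Cont

variable {𝒮 : Type u} [SmallCategory 𝒮] {F G : Pseudofunctor (LocallyDiscrete 𝒮ᵒᵖ) Cat.{u, u}}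
  {J : FibSite.Topologies F} {K : FibSite.Topologies G}

lemma W_functorInclusion {C : Type u} [SmallCategory C] (K : GrothendieckTopology C) {V : C}
    (R : Sieve V) (hR : R ∈ K V) : K.W (R.functorInclusion) := by
  intro Z hZ
  rw [isSheaf_iff_isSheaf_of_type] at hZ
  have h := (Presieve.isSheafFor_iff_yonedaSheafCondition (P := Z) (S := R)).1 (hZ R hR)
  rw [Function.bijective_iff_existsUnique]
  intro f
  exact h f

theorem isContinuous_app_of_map (hF : FibSite.IsPreFibSite F J) (hG : FibSite.IsPreFibSite G K)
    (α : G ⟶ F)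
    [(Pseudofunctor.CoGrothendieck.map α).IsContinuous
      (FibSite.totalTopology G K) (FibSite.totalTopology F J)] (S : 𝒮) :
    (α.app ⟨op S⟩).toFunctor.IsContinuous (K S) (J S) := by
  have hcG := isContinuous_ι hG S
  have hcF := isContinuous_ι hF S
  have hcomp : (ι G S ⋙ Pseudofunctor.CoGrothendieck.map α).IsContinuous (K S)
      (FibSite.totalTopology F J) :=
    Functor.isContinuous_comp _ _ _ (FibSite.totalTopology G K) _
  have hcomp' : ((α.app ⟨op S⟩).toFunctor ⋙ ι F S).IsContinuous (K S)
      (FibSite.totalTopology F J) := Functor.isContinuous_of_iso (ιCompMapIso α S) _ _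
  constructor
  intro P V R' hR'
  rw [Presieve.isSheafFor_iff_yonedaSheafCondition]
  let a := (α.app ⟨op S⟩).toFunctor
  let s := R'.functorInclusion
  have hs : (K S).W s := W_functorInclusion (K S) R' hR'
  let θ : a.op.lan.obj (yoneda.obj V) ≅ yoneda.obj (a.obj V) :=
    Functor.leftKanExtensionUnique (a.op.lan.obj (yoneda.obj V))
      (a.op.lanUnit.app (yoneda.obj V)) (yoneda.obj (a.obj V)) (yonedaMap a V)
  have h1 : (FibSite.totalTopology F J).W
      (((ι F S).op.lan (H := Type u)).map ((a.op.lan (H := Type u)).map s)) := by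
    intro Z hZ
    have adj1 := (a.op.lanAdjunction (Type u)).comp ((ι F S).op.lanAdjunction (Type u))
    have := adj1.map_comp_bijective_iff s Z
    refine this.2 ?_
    exact hs _ (Functor.op_comp_isSheaf_of_isSheaf ((α.app ⟨op S⟩).toFunctor ⋙ ι F S) (K S)
      (FibSite.totalTopology F J) Z hZ)
  have h2 : (FibSite.totalTopology F J).W
      (((ι F S).op.lan (H := Type u)).map ((a.op.lan (H := Type u)).map s ≫ θ.hom)) := by
    rw [Functor.map_comp]
    exact MorphismProperty.comp_mem _ _ _ h1
      (MorphismProperty.of_isIso _ _)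
  have h3 : (J S).W ((a.op.lan (H := Type u)).map s ≫ θ.hom) :=
    (W_iff_W_lan_map S hF _).2 h2
  have h4 : (J S).W ((a.op.lan (H := Type u)).map s) :=
    (MorphismProperty.cancel_right_of_respectsIso _ _ θ.hom).1 h3
  have h5 := h4 P.obj P.2
  rw [(a.op.lanAdjunction (Type u)).map_comp_bijective_iff, Function.bijective_iff_existsUnique]
    at h5
  intro f
  exact h5 f

end Cont

end Groth.Agent.Lib.Helper45.FibSiteLib
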