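import Groth.Agent.Lib.Helper45.FibSite10
import Groth.Agent.Lib.Helper45.FibSite11

set_option autoImplicit false
set_option backward.isDefEq.respectTransparency false
set_option backward.isDefEq.respectTransparency.types false
set_option backward.defeqAttrib.useBackward true
universe w v u v₁ u₁ v₂ u₂ v₃ u₃ v₄ u₄

open CategoryTheory CategoryTheory.Limits Opposite Pseudofunctor Pseudofunctor.CoGrothendieck Bicategory
open scoped CategoryTheory.Pseudofunctor.StrongTrans

namespace Groth.Agent.Lib.Helper45.FibSiteLib

section General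

variable {𝒜 : Type u₃} [Category.{v₃} 𝒜] {ℬ : Type u₄} [Category.{v₄} ℬ]
  {Ψ : 𝒜 ⥤ ℬ} {Φ : ℬ ⥤ 𝒜} (adj : Ψ ⊣ Φ) {I : Type w} {L : I → 𝒜 ⥤ ℬ} {R : I → ℬ ⥤ 𝒜}
  (adjs : ∀ f, L f ⊣ R f) (π : ∀ f, Φ ⟶ R f)

/-- the inclusions `mateInj` are natural. -/
def mateInjNat (f : I) : L f ⟶ Ψ where
  app a := mateInj adj adjs π a f
  naturality a a' φ := by
    apply ((adjs f).homEquiv a (Ψ.obj a')).injective
    rw [homEquiv_mateInj_comp, Adjunction.homEquiv_naturality_left, mateInj,
      Equiv.apply_symm_apply, Adjunction.homEquiv_unit, ← Category.assoc,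
      adj.unit_naturality]

end General

open FibSite in
theorem preservesPullbacks_extend {𝒮 : Type u} [SmallCategory 𝒮]
    (F : Pseudofunctor (LocallyDiscrete 𝒮ᵒᵖ) Cat.{u, u}) (J : FibSite.Topologies F)
    (hF : FibSite.IsFibSite F J) (i : 𝒮)
    [(ι F i).IsContinuous (J i) (FibSite.totalTopology F J)]
    [((ι F i).sheafPushforwardContinuous (Type u) (J i) (FibSite.totalTopology F J)).IsRightAdjoint] :
    PreservesLimitsOfShape WalkingCospan (FibSite.extend F J (Type u) i) := by
  have hcont : ∀ j, (ι F j).IsContinuous (J j) (totalTopology F J) :=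
    fun j => isContinuous_ι hF.isPreFibSite j
  have hcocont : ∀ j, (ι F j).IsCocontinuous (J j) (totalTopology F J) :=
    fun j => isCocontinuous_ι hF.isPreFibSite j
  have hinv : ∀ ⦃R S : 𝒮⦄ (f : R ⟶ S), (invImage F f).IsContinuous (J S) (J R) :=
    hF.isPreFibSite
  have key : ∀ j, PreservesLimitsOfShape WalkingCospan
      (extend F J (Type u) i ⋙ restr F J (Type u) j) := by
    intro j
    have hra : ∀ f : j ⟶ i,
        ((invImage F f).sheafPushforwardContinuous (Type u) (J i) (J j)).IsRightAdjoint :=
      fun f => (hF f).2.1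
    let adj : extend F J (Type u) i ⋙ restr F J (Type u) j ⊣
        coextend F J (Type u) j ⋙ restr F J (Type u) i :=
      (Functor.sheafAdjunctionContinuous (ι F i) (Type u) (J i) (totalTopology F J)).comp
        (Functor.sheafAdjunctionCocontinuous (ι F j) (Type u) (J j) (totalTopology F J))
    let adjs : ∀ f : j ⟶ i, (invImage F f).sheafPullback (Type u) (J i) (J j) ⊣
        (invImage F f).sheafPushforwardContinuous (Type u) (J i) (J j) :=
      fun f => Functor.sheafAdjunctionContinuous (invImage F f) (Type u) (J i) (J j)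
    refine preservesPullbacks_of_cofan (goodCoproducts_sheaf (J j))
      (extend F J (Type u) i ⋙ restr F J (Type u) j)
      (fun f : j ⟶ i => (invImage F f).sheafPullback (Type u) (J i) (J j))
      (mateInjNat adj adjs (coextendProjNat J j i))
      (fun a => (nonempty_isColimit_cofan_mateInj adj adjs (coextendProjNat J j i)
        (fun b => nonempty_isLimit_fan_coextendProj J j i b) a).some) ?_
    intro f
    have := (hF f).2.2
    infer_instance
  constructor
  intro D
  constructor
  intro c hc
  refine ⟨isLimitOfForallRestr J _ (fun j => ?_)⟩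
  have h2 : PreservesLimit D (extend F J (Type u) i ⋙ restr F J (Type u) j) :=
    (key j).preservesLimit
  exact isLimitOfPreserves (extend F J (Type u) i ⋙ restr F J (Type u) j) hc

end Groth.Agent.Lib.Helper45.FibSiteLib
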