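import Groth.Agent.Lib.Helper45.FibSite12

set_option autoImplicit false
set_option backward.isDefEq.respectTransparency false
set_option backward.isDefEq.respectTransparency.types false
set_option backward.defeqAttrib.useBackward true
universe w v u v₁ u₁ v₂ u₂ v₃ u₃ v₄ u₄

open CategoryTheory CategoryTheory.Limits Opposite Pseudofunctor Pseudofunctor.CoGrothendieck Bicategory
open scoped CategoryTheory.Pseudofunctor.StrongTrans

namespace Groth.Agent.Lib.Helper45.FibSiteLib

section General

variable {𝒜 : Type u₃} [Category.{v₃} 𝒜] {ℬ : Type u₄} [Category.{v₄} ℬ]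
  {𝒞 : Type u₁} [Category.{v₁} 𝒞]

/-- if `T` and `T ⋙ L` preserve the terminal object, so does `L`. -/
lemma preservesTerminal_of_comp [HasTerminal 𝒜] [HasTerminal ℬ] [HasTerminal 𝒞] (T : 𝒜 ⥤ ℬ)
    (L : ℬ ⥤ 𝒞) [PreservesLimit (Functor.empty.{0} 𝒜) T]
    [PreservesLimit (Functor.empty.{0} 𝒜) (T ⋙ L)] :
    PreservesLimitsOfShape (Discrete PEmpty.{1}) L := by
  have t1 : IsTerminal (T.obj (⊤_ 𝒜)) := IsTerminal.isTerminalObj T _ terminalIsTerminal
  have t2 : IsTerminal ((T ⋙ L).obj (⊤_ 𝒜)) :=
    IsTerminal.isTerminalObj (T ⋙ L) _ terminalIsTerminal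
  let e : L.obj (⊤_ ℬ) ≅ ⊤_ 𝒞 :=
    L.mapIso (terminalIsTerminal.uniqueUpToIso t1) ≪≫ t2.uniqueUpToIso terminalIsTerminal
  have := preservesTerminal_of_iso L e
  exact preservesLimitsOfShape_pempty_of_preservesTerminal L

end General

open FibSite in
/-- the inverse image along the identity of the base is the identity. -/
noncomputable def sheafPullbackInvImageIdIso {𝒮 : Type u} [SmallCategory 𝒮]
    (G : Pseudofunctor (LocallyDiscrete 𝒮ᵒᵖ) Cat.{u, u}) (K : FibSite.Topologies G) (S : 𝒮)
    [(invImage G (𝟙 S)).IsContinuous (K S) (K S)]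
    [((invImage G (𝟙 S)).sheafPushforwardContinuous (Type u) (K S) (K S)).IsRightAdjoint] :
    (invImage G (𝟙 S)).sheafPullback (Type u) (K S) (K S) ≅ 𝟭 _ :=
  ((invImage G (𝟙 S)).sheafAdjunctionContinuous (Type u) (K S) (K S)).leftAdjointUniq
    (Adjunction.id.ofNatIsoRight
      (Functor.sheafPushforwardContinuousId' (F'' := invImage G (𝟙 S))
        (Cat.Hom.toNatIso (G.mapId ⟨op S⟩)) (Type u) (K S)).symm)

open FibSite in
theorem preservesFiniteLimits_app_of_map {𝒮 : Type u} [SmallCategory 𝒮]
    (F G : Pseudofunctor (LocallyDiscrete 𝒮ᵒᵖ) Cat.{u, u}) (J : FibSite.Topologies F)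
    (K : FibSite.Topologies G)
    (hF : FibSite.IsFibSite F J) (hG : FibSite.IsFibSite G K) (α : G ⟶ F)
    [hm : (Pseudofunctor.CoGrothendieck.map α).IsContinuous
        (FibSite.totalTopology G K) (FibSite.totalTopology F J)]
    [hr : ((Pseudofunctor.CoGrothendieck.map α).sheafPushforwardContinuous (Type u)
        (FibSite.totalTopology G K) (FibSite.totalTopology F J)).IsRightAdjoint]
    (hp : PreservesFiniteLimits ((Pseudofunctor.CoGrothendieck.map α).sheafPullback (Type u)
        (FibSite.totalTopology G K) (FibSite.totalTopology F J))) (S : 𝒮)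
    [hc : (α.app ⟨op S⟩).toFunctor.IsContinuous (K S) (J S)]
    [hra : ((α.app ⟨op S⟩).toFunctor.sheafPushforwardContinuous (Type u) (K S)
      (J S)).IsRightAdjoint] :
    PreservesFiniteLimits ((α.app ⟨op S⟩).toFunctor.sheafPullback (Type u) (K S) (J S)) := by
  have hcF : ∀ S, (ι F S).IsContinuous (J S) (totalTopology F J) :=
    fun S => isContinuous_ι hF.isPreFibSite S
  have hcG : ∀ S, (ι G S).IsContinuous (K S) (totalTopology G K) :=
    fun S => isContinuous_ι hG.isPreFibSite S
  have hccF : ∀ S, (ι F S).IsCocontinuous (J S) (totalTopology F J) :=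
    fun S => isCocontinuous_ι hF.isPreFibSite S
  have hccG : ∀ S, (ι G S).IsCocontinuous (K S) (totalTopology G K) :=
    fun S => isCocontinuous_ι hG.isPreFibSite S
  have hinvG : ∀ ⦃R S : 𝒮⦄ (f : R ⟶ S), (invImage G f).IsContinuous (K S) (K R) :=
    hG.isPreFibSite
  have hraG : ∀ f : S ⟶ S,
      ((invImage G f).sheafPushforwardContinuous (Type u) (K S) (K S)).IsRightAdjoint :=
    fun f => (hG f).2.1
  let adjL := ((Pseudofunctor.CoGrothendieck.map α).sheafAdjunctionContinuous (Type u)
    (totalTopology G K) (totalTopology F J)).comp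
      ((ι F S).sheafAdjunctionCocontinuous (Type u) (J S) (totalTopology F J))
  let adjR := ((ι G S).sheafAdjunctionCocontinuous (Type u) (K S) (totalTopology G K)).comp
    ((α.app ⟨op S⟩).toFunctor.sheafAdjunctionContinuous (Type u) (K S) (J S))
  let e : restr G K (Type u) S ⋙ (α.app ⟨op S⟩).toFunctor.sheafPullback (Type u) (K S) (J S) ≅
      (Pseudofunctor.CoGrothendieck.map α).sheafPullback (Type u)
        (totalTopology G K) (totalTopology F J) ⋙ restr F J (Type u) S :=
    (conjugateIsoEquiv adjL adjR).symm (asIso (thetaSheaf.{u} α J K S))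
  have hlex : PreservesFiniteLimits (restr G K (Type u) S ⋙
      (α.app ⟨op S⟩).toFunctor.sheafPullback (Type u) (K S) (J S)) := by
    have : PreservesFiniteLimits ((Pseudofunctor.CoGrothendieck.map α).sheafPullback (Type u)
        (totalTopology G K) (totalTopology F J) ⋙ restr F J (Type u) S) :=
      comp_preservesFiniteLimits _ _
    exact preservesFiniteLimits_of_natIso e.symm
  -- the terminal object
  have hrestr : PreservesLimitsOfSize.{0, 0} (restr G K (Type u) S) :=
    ((ι G S).sheafAdjunctionContinuous (Type u) (K S) (totalTopology G K)).rightAdjoint_preservesLimits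
  have hcolim : PreservesColimitsOfSize.{u, u}
      ((α.app ⟨op S⟩).toFunctor.sheafPullback (Type u) (K S) (J S)) :=
    ((α.app ⟨op S⟩).toFunctor.sheafAdjunctionContinuous (Type u) (K S)
      (J S)).leftAdjoint_preservesColimits
  have hT0 : PreservesLimitsOfShape (Discrete PEmpty.{1}) (restr G K (Type u) S ⋙
      (α.app ⟨op S⟩).toFunctor.sheafPullback (Type u) (K S) (J S)) :=
    hlex.preservesFiniteLimits _
  have hP0 : PreservesLimitsOfShape WalkingCospan (restr G K (Type u) S ⋙
      (α.app ⟨op S⟩).toFunctor.sheafPullback (Type u) (K S) (J S)) :=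
    hlex.preservesFiniteLimits _
  have hT1 : PreservesLimit (Functor.empty.{0} (TotSh G K (Type u))) (restr G K (Type u) S ⋙
      (α.app ⟨op S⟩).toFunctor.sheafPullback (Type u) (K S) (J S)) := hT0.preservesLimit
  have hT2 : PreservesLimit (Functor.empty.{0} (TotSh G K (Type u))) (restr G K (Type u) S) :=
    (hrestr.preservesLimitsOfShape (J := Discrete PEmpty.{1})).preservesLimit
  have hT : PreservesLimitsOfShape (Discrete PEmpty.{1})
      ((α.app ⟨op S⟩).toFunctor.sheafPullback (Type u) (K S) (J S)) :=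
    @preservesTerminal_of_comp _ _ _ _ _ _ _ _ _ (restr G K (Type u) S) _ hT2 hT1
  -- pullbacks
  have hext : PreservesLimitsOfShape WalkingCospan (extend G K (Type u) S) :=
    preservesPullbacks_extend G K hG S
  have h1 : PreservesLimitsOfShape WalkingCospan (extend G K (Type u) S ⋙
      (restr G K (Type u) S ⋙
        (α.app ⟨op S⟩).toFunctor.sheafPullback (Type u) (K S) (J S))) :=
    comp_preservesLimitsOfShape _ _
  let adj : extend G K (Type u) S ⋙ restr G K (Type u) S ⊣
      coextend G K (Type u) S ⋙ restr G K (Type u) S :=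
    (Functor.sheafAdjunctionContinuous (ι G S) (Type u) (K S) (totalTopology G K)).comp
      (Functor.sheafAdjunctionCocontinuous (ι G S) (Type u) (K S) (totalTopology G K))
  let adjs : ∀ f : S ⟶ S, (invImage G f).sheafPullback (Type u) (K S) (K S) ⊣
      (invImage G f).sheafPushforwardContinuous (Type u) (K S) (K S) :=
    fun f => Functor.sheafAdjunctionContinuous (invImage G f) (Type u) (K S) (K S)
  have h3 := preservesPullbacks_component (goodCoproducts_sheaf (J S))
    ((extend G K (Type u) S ⋙ restr G K (Type u) S) ⋙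
        (α.app ⟨op S⟩).toFunctor.sheafPullback (Type u) (K S) (J S))
    (fun f : S ⟶ S => (invImage G f).sheafPullback (Type u) (K S) (K S) ⋙
      (α.app ⟨op S⟩).toFunctor.sheafPullback (Type u) (K S) (J S))
    (fun f => Functor.whiskerRight (mateInjNat adj adjs (coextendProjNat K S S) f) _)
    (fun a => isColimitMapCoconeCofanMkEquiv _ _ _ (isColimitOfPreserves
      ((α.app ⟨op S⟩).toFunctor.sheafPullback (Type u) (K S) (J S))
      (nonempty_isColimit_cofan_mateInj adj adjs (coextendProjNat K S S)
        (fun b => nonempty_isLimit_fan_coextendProj K S S b) a).some)) h1 (𝟙 S)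
  have h4 : PreservesLimitsOfShape WalkingCospan
      ((α.app ⟨op S⟩).toFunctor.sheafPullback (Type u) (K S) (J S)) :=
    preservesLimitsOfShape_of_natIso
      (Functor.isoWhiskerRight (sheafPullbackInvImageIdIso G K S) _ ≪≫ Functor.leftUnitor _)
  exact preservesFiniteLimits_of_preservesTerminal_and_pullbacks _

open FibSite in
theorem morphismOfSites_fibre_of_map_total_small {𝒮 : Type u} [SmallCategory 𝒮]
    (F G : Pseudofunctor (LocallyDiscrete 𝒮ᵒᵖ) Cat.{u, u}) (J : FibSite.Topologies F) (K : FibSite.Topologies G)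
    (hF : FibSite.IsFibSite F J) (hG : FibSite.IsFibSite G K) (α : G ⟶ F)
    (hα : ∃ (_ : (Pseudofunctor.CoGrothendieck.map α).IsContinuous
        (FibSite.totalTopology G K) (FibSite.totalTopology F J))
      (_ : ((Pseudofunctor.CoGrothendieck.map α).sheafPushforwardContinuous (Type u)
        (FibSite.totalTopology G K) (FibSite.totalTopology F J)).IsRightAdjoint),
      PreservesFiniteLimits ((Pseudofunctor.CoGrothendieck.map α).sheafPullback (Type u)
        (FibSite.totalTopology G K) (FibSite.totalTopology F J))) (S : 𝒮) :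
    ∃ (_ : (α.app ⟨op S⟩).toFunctor.IsContinuous (K S) (J S))
      (_ : ((α.app ⟨op S⟩).toFunctor.sheafPushforwardContinuous (Type u) (K S) (J S)).IsRightAdjoint),
      PreservesFiniteLimits ((α.app ⟨op S⟩).toFunctor.sheafPullback (Type u) (K S) (J S)) := by
  obtain ⟨hm, hr, hp⟩ := hα
  have hc := isContinuous_app_of_map hF.isPreFibSite hG.isPreFibSite α S
  have hra : ((α.app ⟨op S⟩).toFunctor.sheafPushforwardContinuous (Type u) (K S)
      (J S)).IsRightAdjoint := inferInstance
  exact ⟨hc, hra, preservesFiniteLimits_app_of_map F G J K hF hG α hp S⟩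

end Groth.Agent.Lib.Helper45.FibSiteLib
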