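import Groth.Agent.Lib.Helper45.FibSite1
import Mathlib.CategoryTheory.Sites.ConcreteSheafification
import Mathlib.CategoryTheory.Sites.Continuous
import Mathlib.CategoryTheory.Sites.InducedTopology

/-!
# Fibred sites: continuity of the fibre inclusions (helper45)

`exists_sheaf_of_separated` (a separated presheaf of large enough types embeds in a sheaf),
`map_eq_map_of_comp_eq`, `isSheaf_ι_op_comp`, `isContinuous_ι`, `inducedTopology_ι_eq`,
`isSheaf_totalTopology_of_forall`, `functorPullback_functorPushforward_ι`.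
-/

set_option autoImplicit false
set_option backward.isDefEq.respectTransparency false
set_option backward.isDefEq.respectTransparency.types false
set_option backward.defeqAttrib.useBackward true
universe w v u v₁ u₁ v₂ u₂ v₃ u₃

open CategoryTheory Opposite Pseudofunctor Pseudofunctor.CoGrothendieck Bicategory

namespace Groth.Agent.Lib.Helper45.FibSiteLib

section General

variable {C : Type u} [Category.{v} C] (J : GrothendieckTopology C)

lemma exists_sheaf_of_separated (P : Cᵒᵖ ⥤ Type (max w u v))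
    (hP : Presieve.IsSeparated J P) :
    ∃ (Q : Cᵒᵖ ⥤ Type (max w u v)) (_ : Presieve.IsSheaf J Q) (η : P ⟶ Q),
      ∀ X : Cᵒᵖ, Function.Injective (η.app X) := by
  have hsep : ∀ (X : C) (S : J.Cover X) (x y : ToType (P.obj (op X))),
        (∀ I : S.Arrow, P.map I.f.op x = P.map I.f.op y) → x = y := by
    intro X S x y h
    exact (hP S.1 S.2).ext (fun Y f hf => h ⟨Y, f, hf⟩)
  refine ⟨J.plusObj P, ?_, J.toPlus P, ?_⟩
  · rw [← isSheaf_iff_isSheaf_of_type]
    exact GrothendieckTopology.Plus.isSheaf_of_sep P hsep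
  · intro X
    exact GrothendieckTopology.Plus.inj_of_sep P hsep X.unop

end General

variable {𝒮 : Type u₁} [Category.{v₁} 𝒮] {F : Pseudofunctor (LocallyDiscrete 𝒮ᵒᵖ) Cat.{v₂, u₂}}

lemma ι_map_injective (S : 𝒮) {U V : F.obj ⟨op S⟩} (f g : U ⟶ V)
    (h : (ι F S).map f = (ι F S).map g) : f = g := by
  have := Hom.congr h
  simpa [cancel_mono, ← Cat.Hom.toNatIso_hom, ← Cat.Hom.toNatIso_inv] using this

lemma exists_eq_ι_map_comp_cartesianLift {X : ∫ᶜ F} {S : 𝒮} {Y : F.obj ⟨op S⟩}
    (k : X ⟶ (ι F S).obj Y) :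
    ∃ (a : X.base ⟶ S) (α : X.fiber ⟶ (FibSite.invImage F a).obj Y),
      k = (ι F X.base).map α ≫ cartesianLift Y a :=
  ⟨k.base, k.fiber, hom_eq_ι_map_comp_cartesianLift k⟩

lemma ι_map_comp_cartesianLift_cancel {R S : 𝒮} (a : R ⟶ S) {Z : F.obj ⟨op S⟩}
    {W : F.obj ⟨op R⟩} (β₁ β₂ : W ⟶ (FibSite.invImage F a).obj Z)
    (h : (ι F R).map β₁ ≫ cartesianLift Z a = (ι F R).map β₂ ≫ cartesianLift Z a) :
    β₁ = β₂ := by
  have := Hom.congr h
  simp only [categoryStruct_comp_fiber, ι_map_fiber, ι_map_base, Category.assoc] at this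
  simpa [cancel_mono, ← Cat.Hom.toNatIso_hom, ← Cat.Hom.toNatIso_inv] using this

variable {J : FibSite.Topologies F}

lemma map_op_map_op_apply {D : Type u} [Category.{v} D] (G : Dᵒᵖ ⥤ Type w) {A B C : D}
    (f : A ⟶ B) (g : B ⟶ C) (t : G.obj (op C)) :
    G.map f.op (G.map g.op t) = G.map (f ≫ g).op t := by
  rw [op_comp, Functor.map_comp_apply]

lemma isSeparated_ι_op_comp {G : (∫ᶜ F)ᵒᵖ ⥤ Type w}
    (hG : Presieve.IsSeparated (FibSite.totalTopology F J) G) (S : 𝒮) :
    Presieve.IsSeparated (J S) ((ι F S).op ⋙ G) := by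
  intro Z T hT x t₁ t₂ h₁ h₂
  refine (hG _ (FibSite.functorPushforward_mem_totalTopology hT)).ext ?_
  rintro X k ⟨Y, g, h, hg, rfl⟩
  rw [op_comp, G.map_comp]
  change G.map h.op (G.map ((ι F S).map g).op t₁) = G.map h.op (G.map ((ι F S).map g).op t₂)
  congr 1
  exact (h₁ g hg).trans (h₂ g hg).symm

/-- the key well-definedness statement. -/
lemma map_eq_map_of_comp_eq (hF : FibSite.IsPreFibSite F J) {G : (∫ᶜ F)ᵒᵖ ⥤ Type (max w u₂ v₂)}
    (hG : Presieve.IsSeparated (FibSite.totalTopology F J) G) {S : 𝒮} {Z : F.obj ⟨op S⟩}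
    {T : Sieve Z} (hT : T ∈ J S Z)
    {x : Presieve.FamilyOfElements ((ι F S).op ⋙ G) T.arrows} (hx : x.Compatible)
    {X : ∫ᶜ F} {Y₁ Y₂ : F.obj ⟨op S⟩} {g₁ : Y₁ ⟶ Z} {g₂ : Y₂ ⟶ Z} (hg₁ : T g₁) (hg₂ : T g₂)
    (k₁ : X ⟶ (ι F S).obj Y₁) (k₂ : X ⟶ (ι F S).obj Y₂)
    (hk : k₁ ≫ (ι F S).map g₁ = k₂ ≫ (ι F S).map g₂) :
    G.map k₁.op (x g₁ hg₁) = G.map k₂.op (x g₂ hg₂) := by
  obtain ⟨a₁, α₁, rfl⟩ := exists_eq_ι_map_comp_cartesianLift k₁
  obtain ⟨a₂, α₂, rfl⟩ := exists_eq_ι_map_comp_cartesianLift k₂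
  have ha : a₁ = a₂ := by
    have := congrArg Hom.base hk
    simpa using this
  subst ha
  have hαg : α₁ ≫ (FibSite.invImage F a₁).map g₁ = α₂ ≫ (FibSite.invImage F a₁).map g₂ := by
    apply ι_map_comp_cartesianLift_cancel a₁
    rw [Functor.map_comp, Functor.map_comp, Category.assoc, Category.assoc,
      ι_map_comp_cartesianLift, ι_map_comp_cartesianLift]
    simpa only [Category.assoc] using hk
  obtain ⟨Q, hQ, η, hη⟩ := exists_sheaf_of_separated.{w} (J X.base) ((ι F X.base).op ⋙ G)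
    (isSeparated_ι_op_comp hG X.base)
  have := hF a₁
  have hQa : Presieve.IsSheaf (J S) ((FibSite.invImage F a₁).op ⋙ Q) :=
    Functor.op_comp_isSheaf_of_isSheaf_type (FibSite.invImage F a₁) (J S) hQ
  let y : Presieve.FamilyOfElements ((FibSite.invImage F a₁).op ⋙ Q) T.arrows :=
    fun Y g hg => η.app (op ((FibSite.invImage F a₁).obj Y))
      (G.map (cartesianLift Y a₁).op (x g hg))
  have hy : y.Compatible := by
    rw [Presieve.compatible_iff_sieveCompatible]
    intro Y V g b hg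
    have hxs := (Presieve.compatible_iff_sieveCompatible x).1 hx g b hg
    change η.app _ (G.map (cartesianLift V a₁).op (x (b ≫ g) _)) =
      Q.map ((FibSite.invImage F a₁).map b).op
        (η.app _ (G.map (cartesianLift Y a₁).op (x g hg)))
    rw [hxs]
    have nat := NatTrans.naturality_apply η ((FibSite.invImage F a₁).map b).op
      (G.map (cartesianLift Y a₁).op (x g hg))
    refine Eq.trans ?_ nat
    congr 1
    change G.map (cartesianLift V a₁).op (G.map ((ι F S).map b).op (x g hg)) =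
      G.map ((ι F X.base).map ((FibSite.invImage F a₁).map b)).op
        (G.map (cartesianLift Y a₁).op (x g hg))
    have e1 := map_op_map_op_apply G (cartesianLift V a₁) ((ι F S).map b) (x g hg)
    have e2 := map_op_map_op_apply G ((ι F X.base).map ((FibSite.invImage F a₁).map b))
      (cartesianLift Y a₁) (x g hg)
    have e3 : G.map (cartesianLift V a₁ ≫ (ι F S).map b).op (x g hg) =
        G.map ((ι F X.base).map ((FibSite.invImage F a₁).map b) ≫ cartesianLift Y a₁).op
          (x g hg) :=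
      congrArg (fun t => (G.map t.op : _ → _) (x g hg)) (ι_map_comp_cartesianLift a₁ b).symm
    exact e1.trans (e3.trans e2.symm)
  obtain ⟨z, hz, -⟩ := hQa T hT y hy
  apply hη (op X.fiber)
  have key : ∀ {Y : F.obj ⟨op S⟩} (g : Y ⟶ Z) (hg : T g)
      (α : X.fiber ⟶ (FibSite.invImage F a₁).obj Y),
      η.app (op X.fiber) (G.map ((ι F X.base).map α ≫ cartesianLift Y a₁).op (x g hg)) =
        Q.map (α ≫ (FibSite.invImage F a₁).map g).op z := by
    intro Y g hg α
    rw [← map_op_map_op_apply Q, ← map_op_map_op_apply G]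
    have h1 : Q.map ((FibSite.invImage F a₁).map g).op z = y g hg := hz g hg
    rw [h1]
    exact NatTrans.naturality_apply η α.op (G.map (cartesianLift Y a₁).op (x g hg))
  exact (key g₁ hg₁ α₁).trans ((congrArg (fun t => Q.map t.op z) hαg).trans (key g₂ hg₂ α₂).symm)

/-- restriction of a sheaf for the total topology to a fibre is a sheaf
(large coefficient universe). -/
theorem isSheaf_ι_op_comp_aux (hF : FibSite.IsPreFibSite F J)
    {G : (∫ᶜ F)ᵒᵖ ⥤ Type (max w u₂ v₂)}
    (hG : Presieve.IsSheaf (FibSite.totalTopology F J) G) (S : 𝒮) :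
    Presieve.IsSheaf (J S) ((ι F S).op ⋙ G) := by
  intro Z T hT
  have hGsep : Presieve.IsSeparated (FibSite.totalTopology F J) G := hG.isSeparated
  have hsep := isSeparated_ι_op_comp hGsep S
  rw [← Presieve.isSeparatedFor_and_exists_isAmalgamation_iff_isSheafFor]
  refine ⟨hsep T hT, fun x hx => ?_⟩
  have hT' := FibSite.functorPushforward_mem_totalTopology (F := F) (J := J) hT
  let x' : Presieve.FamilyOfElements G (T.functorPushforward (ι F S)).arrows :=
    fun X k hk => G.map (Presieve.getFunctorPushforwardStructure hk).lift.op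
      (x (Presieve.getFunctorPushforwardStructure hk).premap
        (Presieve.getFunctorPushforwardStructure hk).cover)
  have hx' : x'.Compatible := by
    intro X₁ X₂ X' c₁ c₂ k₁ k₂ hk₁ hk₂ hc
    change G.map c₁.op (G.map _ _) = G.map c₂.op (G.map _ _)
    rw [map_op_map_op_apply, map_op_map_op_apply]
    apply map_eq_map_of_comp_eq.{w} hF hGsep hT hx
    rw [Category.assoc, Category.assoc, ← (Presieve.getFunctorPushforwardStructure hk₁).fac,
      ← (Presieve.getFunctorPushforwardStructure hk₂).fac, hc]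
  obtain ⟨t, ht, -⟩ := hG _ hT' x' hx'
  refine ⟨t, fun Y g hg => ?_⟩
  have hk : (T.functorPushforward (ι F S)).arrows ((ι F S).map g) :=
    ⟨Y, g, 𝟙 _, hg, by simp⟩
  have h1 : G.map ((ι F S).map g).op t = x' ((ι F S).map g) hk := ht _ hk
  refine h1.trans ?_
  have h2 := map_eq_map_of_comp_eq.{w} hF hGsep hT hx
    (Presieve.getFunctorPushforwardStructure hk).cover hg
    (Presieve.getFunctorPushforwardStructure hk).lift (𝟙 _)
    (by rw [← (Presieve.getFunctorPushforwardStructure hk).fac, Category.id_comp])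
  refine h2.trans ?_
  simp

theorem isContinuous_ι (hF : FibSite.IsPreFibSite F J) (S : 𝒮) :
    (ι F S).IsContinuous (J S) (FibSite.totalTopology F J) where
  op_comp_isSheaf_of_types G :=
    isSheaf_ι_op_comp_aux.{max u₁ v₁} hF ((isSheaf_iff_isSheaf_of_type _ _).1 G.2) S

theorem isSheaf_ι_op_comp (hF : FibSite.IsPreFibSite F J) {G : (∫ᶜ F)ᵒᵖ ⥤ Type w}
    (hG : Presieve.IsSheaf (FibSite.totalTopology F J) G) (S : 𝒮) :
    Presieve.IsSheaf (J S) ((ι F S).op ⋙ G) := by
  have := isContinuous_ι hF S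
  exact Functor.op_comp_isSheaf_of_isSheaf_type (ι F S) (J S) hG

instance ι_faithful (S : 𝒮) : (ι F S).Faithful where
  map_injective {_ _} _ _ h := ι_map_injective S _ _ h

lemma exists_ι_map_eq_of_base_eq_id {S : 𝒮} {Y Y' : F.obj ⟨op S⟩}
    (h : (ι F S).obj Y ⟶ (ι F S).obj Y') (hb : h.base = 𝟙 S) :
    ∃ h' : Y ⟶ Y', (ι F S).map h' = h := by
  refine ⟨h.fiber ≫ eqToHom (by simp [hb]) ≫ (F.mapId ⟨op S⟩).hom.toNatTrans.app Y', ?_⟩
  ext <;> simp [hb, ← Cat.Hom₂.comp_app]

lemma functorPullback_functorPushforward_ι (S : 𝒮) {Z : F.obj ⟨op S⟩} (T : Sieve Z) :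
    (T.functorPushforward (ι F S)).functorPullback (ι F S) = T := by
  apply le_antisymm
  · rintro Y g ⟨Y', g', h, hg', hh⟩
    have hb : h.base = 𝟙 S := by
      have := congrArg Hom.base hh
      simpa using this.symm
    obtain ⟨h', rfl⟩ := exists_ι_map_eq_of_base_eq_id h hb
    rw [← Functor.map_comp] at hh
    rw [ι_map_injective S _ _ hh]
    exact T.downward_closed hg' h'
  · exact Sieve.le_functorPushforward_pullback _ _

theorem inducedTopology_ι_eq (hF : FibSite.IsPreFibSite F J) (S : 𝒮) :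
    (ι F S).inducedTopology (FibSite.totalTopology F J) = J S := by
  apply le_antisymm
  · intro Z T hT
    have h1 := (CoverPreserving.of_isContinuous (ι F S)
      ((ι F S).inducedTopology (FibSite.totalTopology F J))
      (FibSite.totalTopology F J)).cover_preserve hT
    have h2 := (isCocontinuous_ι hF S).cover_lift h1
    rwa [functorPullback_functorPushforward_ι] at h2
  · rw [Functor.le_inducedTopology_iff]
    exact isContinuous_ι hF S

/-- a presheaf of types on the total category whose restrictions to the fibres are sheaves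
is a sheaf for the total topology. -/
theorem isSheaf_totalTopology_of_forall (hF : FibSite.IsPreFibSite F J)
    {G : (∫ᶜ F)ᵒᵖ ⥤ Type w}
    (hG : ∀ S : 𝒮, Presieve.IsSheaf (J S) ((ι F S).op ⋙ G)) :
    Presieve.IsSheaf (FibSite.totalTopology F J) G := by
  have sepFor : ∀ (X : ∫ᶜ F) (S' : Sieve X), S' ∈ FibSite.totalTopology F J X →
      Presieve.IsSeparatedFor G S'.arrows := by
    intro X S' hS'
    obtain ⟨R, hR, hRS⟩ := (mem_totalTopology_iff hF X S').1 hS'
    intro x t₁ t₂ h₁ h₂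
    refine ((hG X.base).isSeparated R hR).ext ?_
    intro Y g hg
    have hk : S'.arrows ((ι F X.base).map g) := hRS _ ⟨Y, g, 𝟙 _, hg, by simp⟩
    exact (h₁ _ hk).trans (h₂ _ hk).symm
  have shFor : ∀ (S : 𝒮) (U : F.obj ⟨op S⟩) (R : Sieve U), R ∈ J S U →
      Presieve.IsSheafFor G (R.functorPushforward (ι F S)).arrows := by
    intro S U R hR
    rw [← Presieve.isSeparatedFor_and_exists_isAmalgamation_iff_isSheafFor]
    refine ⟨sepFor _ _ (FibSite.functorPushforward_mem_totalTopology hR), fun x' hx' => ?_⟩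
    let x : Presieve.FamilyOfElements ((ι F S).op ⋙ G) R.arrows :=
      fun Y g hg => x' ((ι F S).map g) ⟨Y, g, 𝟙 _, hg, by simp⟩
    have hx : x.Compatible := by
      intro Y₁ Y₂ V b₁ b₂ g₁ g₂ hg₁ hg₂ hb
      exact hx' ((ι F S).map b₁) ((ι F S).map b₂) _ _
        (by rw [← Functor.map_comp, ← Functor.map_comp, hb])
    obtain ⟨t, ht, -⟩ := hG S R hR x hx
    refine ⟨t, ?_⟩
    rintro X k ⟨Y, g, h, hg, rfl⟩
    have hxs := (Presieve.compatible_iff_sieveCompatible x').1 hx' ((ι F S).map g) h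
      ⟨Y, g, 𝟙 _, hg, by simp⟩
    refine Eq.trans ?_ hxs.symm
    rw [← map_op_map_op_apply]
    congr 1
    exact ht g hg
  intro X S' hS'
  obtain ⟨R, hR, hRS⟩ := (mem_totalTopology_iff hF X S').1 hS'
  refine Presieve.isSheafFor_subsieve_aux G hRS (shFor X.base X.fiber R hR) ?_
  intro Y f hf
  exact sepFor Y _ ((FibSite.totalTopology F J).pullback_stable f
    (FibSite.functorPushforward_mem_totalTopology hR))

end Groth.Agent.Lib.Helper45.FibSiteLib
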