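import Groth.Agent.Lib.Helper45.FibSite2
import Mathlib.CategoryTheory.Adjunction.Triple
import Mathlib.CategoryTheory.Sites.Pullback
import Mathlib.CategoryTheory.Sites.CoverLifting

/-!
# Fibred sites: the fibre over a final object (helper45)

`ι_full_of_isTerminal`, `extend_full_and_faithful_of_isTerminal`.
-/

set_option autoImplicit false
set_option backward.isDefEq.respectTransparency false
set_option backward.isDefEq.respectTransparency.types false
set_option backward.defeqAttrib.useBackward true
universe w v u v₁ u₁ v₂ u₂ v₃ u₃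

open CategoryTheory CategoryTheory.Limits Opposite Pseudofunctor Pseudofunctor.CoGrothendieck Bicategory

namespace Groth.Agent.Lib.Helper45.FibSiteLib

variable {𝒮 : Type u₁} [Category.{v₁} 𝒮] {F : Pseudofunctor (LocallyDiscrete 𝒮ᵒᵖ) Cat.{v₂, u₂}}

lemma ι_full_of_isTerminal {i : 𝒮} (hi : IsTerminal i) : (ι F i).Full where
  map_surjective {_ _} h := exists_ι_map_eq_of_base_eq_id h (hi.hom_ext _ _)

open FibSite in
theorem extend_full_and_faithful_of_isTerminal {𝒮 : Type u} [SmallCategory 𝒮]
    (F : Pseudofunctor (LocallyDiscrete 𝒮ᵒᵖ) Cat.{u, u}) (J : FibSite.Topologies F)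
    (hF : FibSite.IsFibSite F J) (i : 𝒮) (hi : IsTerminal i)
    [(ι F i).IsContinuous (J i) (FibSite.totalTopology F J)]
    [((ι F i).sheafPushforwardContinuous (Type u) (J i) (FibSite.totalTopology F J)).IsRightAdjoint] :
    (FibSite.extend F J (Type u) i).Full ∧ (FibSite.extend F J (Type u) i).Faithful := by
  have := isCocontinuous_ι hF.isPreFibSite i
  have := ι_full_of_isTerminal (F := F) hi
  let t : Adjunction.Triple (FibSite.extend F J (Type u) i) (FibSite.restr F J (Type u) i)
      ((ι F i).sheafPushforwardCocontinuous (Type u) (J i) (FibSite.totalTopology F J)) :=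
    ⟨Functor.sheafAdjunctionContinuous _ _ _ _, Functor.sheafAdjunctionCocontinuous _ _ _ _⟩
  have h2 : IsIso t.adj₂.counit := by
    apply (config := { allowSynthFailures := true }) NatIso.isIso_of_isIso_app
    intro a
    have : IsIso ((sheafToPresheaf _ _).map (t.adj₂.counit.app a)) := by
      change IsIso (t.adj₂.counit.app a).hom
      rw [Functor.sheafAdjunctionCocontinuous_counit_app_hom]
      infer_instance
    exact isIso_of_fully_faithful (sheafToPresheaf _ _) _
  have ff := t.fullyFaithfulEquiv.symm t.adj₂.fullyFaithfulROfIsIsoCounit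
  exact ⟨ff.full, ff.faithful⟩

end Groth.Agent.Lib.Helper45.FibSiteLib
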