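import Groth.Agent.Lib.Helper45.FibSite3
import Mathlib.CategoryTheory.Functor.KanExtension.Pointwise
import Mathlib.CategoryTheory.Limits.Types.Limits
import Mathlib.CategoryTheory.Limits.Preserves.Shapes.Products
import Mathlib.CategoryTheory.Limits.FunctorCategory.Basic

/-!
# Fibred sites: the right adjoint of restriction to a fibre (helper45)

`cartNat`, `nonempty_isLimit_fan_of_isLimit_cone` (a limit over the arrows from the fibre over `i`
to an object over `j` is a product indexed by `i ⟶ j`), `coextendProjPresheaf`, `coextendProj`,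
`nonempty_isLimit_fan_coextendProj`.
-/

set_option autoImplicit false
set_option backward.isDefEq.respectTransparency false
set_option backward.isDefEq.respectTransparency.types false
set_option backward.defeqAttrib.useBackward true
universe w v u v₁ u₁ v₂ u₂ v₃ u₃

open CategoryTheory CategoryTheory.Limits Opposite Pseudofunctor Pseudofunctor.CoGrothendieck Bicategory

namespace Groth.Agent.Lib.Helper45.FibSiteLib

variable {𝒮 : Type u₁} [Category.{v₁} 𝒮] {F : Pseudofunctor (LocallyDiscrete 𝒮ᵒᵖ) Cat.{v₂, u₂}}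

/-- the cartesian lifts along `f` form a natural transformation. -/
@[simps]
def cartNat {R S : 𝒮} (f : R ⟶ S) : FibSite.invImage F f ⋙ ι F R ⟶ ι F S where
  app V := cartesianLift V f
  naturality _ _ r := ι_map_comp_cartesianLift f r

lemma map_eq_map_of_ι_map_comp_cartesianLift_eq {i j : 𝒮} {V : F.obj ⟨op j⟩}
    (P : (F.obj ⟨op i⟩)ᵒᵖ ⥤ Type w) (s : ∀ f : i ⟶ j, P.obj (op ((FibSite.invImage F f).obj V)))
    {U : F.obj ⟨op i⟩} {f f' : i ⟶ j} (α : U ⟶ (FibSite.invImage F f).obj V)
    (α' : U ⟶ (FibSite.invImage F f').obj V)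
    (h : (ι F i).map α ≫ cartesianLift V f = (ι F i).map α' ≫ cartesianLift V f') :
    P.map α.op (s f) = P.map α'.op (s f') := by
  have hf : f = f' := by
    have := congrArg Hom.base h
    simpa using this
  subst hf
  rw [ι_map_comp_cartesianLift_cancel f α α' h]

lemma nonempty_isLimit_fan_of_isLimit_cone {i j : 𝒮} (V : F.obj ⟨op j⟩)
    (P : (F.obj ⟨op i⟩)ᵒᵖ ⥤ Type w)
    (c : Cone (StructuredArrow.proj (op ((ι F j).obj V)) (ι F i).op ⋙ P)) (hc : IsLimit c) :
    Nonempty (IsLimit (Fan.mk c.pt (fun f : i ⟶ j => c.π.app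
      (StructuredArrow.mk (Y := op ((FibSite.invImage F f).obj V)) (cartesianLift V f).op)))) := by
  rw [Types.isLimit_iff]
  intro s hs
  let σ : ∀ d : StructuredArrow (op ((ι F j).obj V)) (ι F i).op,
      (StructuredArrow.proj (op ((ι F j).obj V)) (ι F i).op ⋙ P).obj d :=
    fun d => P.map (d.hom.unop.fiber).op (s ⟨d.hom.unop.base⟩)
  have hσ : σ ∈ (StructuredArrow.proj (op ((ι F j).obj V)) (ι F i).op ⋙ P).sections := by
    intro d d' m
    have hw : (ι F i).map m.right.unop ≫ d.hom.unop = d'.hom.unop := by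
      have := congrArg Quiver.Hom.unop (StructuredArrow.w m)
      simpa using this
    have e1 : d.hom.unop = (ι F i).map d.hom.unop.fiber ≫ cartesianLift V d.hom.unop.base :=
      hom_eq_ι_map_comp_cartesianLift d.hom.unop
    have e1' : d'.hom.unop =
        (ι F i).map d'.hom.unop.fiber ≫ cartesianLift V d'.hom.unop.base :=
      hom_eq_ι_map_comp_cartesianLift d'.hom.unop
    have h1 : (ι F i).map (m.right.unop ≫ d.hom.unop.fiber) ≫
        cartesianLift V d.hom.unop.base =
        (ι F i).map d'.hom.unop.fiber ≫ cartesianLift V d'.hom.unop.base := by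
      rw [Functor.map_comp, Category.assoc]
      exact (congrArg (fun t => (ι F i).map m.right.unop ≫ t) e1.symm).trans (hw.trans e1')
    have h2 := map_eq_map_of_ι_map_comp_cartesianLift_eq P (fun f => s ⟨f⟩) _ _ h1
    refine Eq.trans ?_ h2
    have h3 : (m.right.unop ≫ d.hom.unop.fiber).op = d.hom.unop.fiber.op ≫ m.right := by
      rw [op_comp, Quiver.Hom.op_unop]
    rw [h3]
    exact (Functor.map_comp_apply P _ _ _).symm
  obtain ⟨x, hx, hux⟩ := (Types.isLimit_iff c).1 ⟨hc⟩ σ hσ
  refine ⟨x, ?_, ?_⟩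
  · rintro ⟨f⟩
    refine (hx _).trans ?_
    change P.map (𝟙 _).op (s ⟨f⟩) = s ⟨f⟩
    simp
  · intro y hy
    apply hux
    intro d
    let d₀ : StructuredArrow (op ((ι F j).obj V)) (ι F i).op :=
      StructuredArrow.mk (Y := op ((FibSite.invImage F d.hom.unop.base).obj V))
        (cartesianLift V d.hom.unop.base).op
    let m : d₀ ⟶ d := StructuredArrow.homMk (d.hom.unop.fiber).op (by
      apply Quiver.Hom.unop_inj
      exact (hom_eq_ι_map_comp_cartesianLift d.hom.unop).symm)
    have hn := ConcreteCategory.congr_hom (c.w m) y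
    have hy' : c.π.app d₀ y = s ⟨d.hom.unop.base⟩ := hy ⟨d.hom.unop.base⟩
    refine hn.symm.trans ?_
    change P.map (d.hom.unop.fiber).op (c.π.app d₀ y) = _
    exact congrArg (fun t => (P.map (d.hom.unop.fiber).op : _ → _) t) hy'

section Coextend

variable (J : FibSite.Topologies F) (i j : 𝒮)
  [(ι F j).IsContinuous (J j) (FibSite.totalTopology F J)]
  [(ι F i).IsCocontinuous (J i) (FibSite.totalTopology F J)]
  [∀ (P : (F.obj ⟨op i⟩)ᵒᵖ ⥤ Type w), (ι F i).op.HasPointwiseRightKanExtension P]

/-- the projection from the restriction to the fibre over `j` of the right Kan extension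
from the fibre over `i`, attached to `f : i ⟶ j` (on presheaves). -/
noncomputable def coextendProjPresheaf (f : i ⟶ j) (P : (F.obj ⟨op i⟩)ᵒᵖ ⥤ Type w) :
    (ι F j).op ⋙ (ι F i).op.ran.obj P ⟶ (FibSite.invImage F f).op ⋙ P :=
  Functor.whiskerRight (NatTrans.op (cartNat f)) ((ι F i).op.ran.obj P) ≫
    Functor.whiskerLeft (FibSite.invImage F f).op ((ι F i).op.ranCounit.app P)

lemma coextendProjPresheaf_app (f : i ⟶ j) (P : (F.obj ⟨op i⟩)ᵒᵖ ⥤ Type w)
    (V : (F.obj ⟨op j⟩)ᵒᵖ) :
    (coextendProjPresheaf i j f P).app V =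
      ((ι F i).op.ran.obj P).map (cartesianLift V.unop f).op ≫
        ((ι F i).op.ranCounit.app P).app (op ((FibSite.invImage F f).obj V.unop)) := rfl

lemma nonempty_isLimit_fan_coextendProjPresheaf (P : (F.obj ⟨op i⟩)ᵒᵖ ⥤ Type w) :
    Nonempty (IsLimit (Fan.mk ((ι F j).op ⋙ (ι F i).op.ran.obj P)
      (fun f : i ⟶ j => coextendProjPresheaf i j f P))) := by
  refine ⟨evaluationJointlyReflectsLimits _ (fun V => ?_)⟩
  refine (isLimitMapConeFanMkEquiv _ _ _).symm ?_
  exact (nonempty_isLimit_fan_of_isLimit_cone V.unop P _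
    ((ι F i).op.isPointwiseRightKanExtensionRanCounit P (op ((ι F j).obj V.unop)))).some

variable [∀ f : i ⟶ j, (FibSite.invImage F f).IsContinuous (J j) (J i)]

/-- the projection attached to `f : i ⟶ j`, on sheaves. -/
noncomputable def coextendProj (f : i ⟶ j) (a : Sheaf (J i) (Type w)) :
    (FibSite.restr F J (Type w) j).obj ((FibSite.coextend F J (Type w) i).obj a) ⟶
      ((FibSite.invImage F f).sheafPushforwardContinuous (Type w) (J j) (J i)).obj a :=
  ObjectProperty.homMk (coextendProjPresheaf i j f a.obj)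

theorem nonempty_isLimit_fan_coextendProj (a : Sheaf (J i) (Type w)) :
    Nonempty (IsLimit (Fan.mk
      ((FibSite.restr F J (Type w) j).obj ((FibSite.coextend F J (Type w) i).obj a))
      (fun f : i ⟶ j => coextendProj J i j f a))) := by
  refine ⟨isLimitOfReflects (sheafToPresheaf _ _) ?_⟩
  refine (isLimitMapConeFanMkEquiv _ _ _).symm ?_
  exact (nonempty_isLimit_fan_coextendProjPresheaf i j a.obj).some

end Coextend

end Groth.Agent.Lib.Helper45.FibSiteLib
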