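import Groth.Agent.Lib.Helper45.FibSite4

/-!
# Fibred sites: the left adjoint of restriction to a fibre (helper45)

`mateInj`, `nonempty_isColimit_cofan_mateInj` (if a right adjoint is a product of right adjoints
then its left adjoint is pointwise the coproduct of their left adjoints), `coextendProjNat`,
`exists_cofan_restr_extend`.
-/

set_option autoImplicit false
set_option backward.isDefEq.respectTransparency false
set_option backward.isDefEq.respectTransparency.types false
set_option backward.defeqAttrib.useBackward true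
universe w v u v₁ u₁ v₂ u₂ v₃ u₃ v₄ u₄

open CategoryTheory CategoryTheory.Limits Opposite Pseudofunctor Pseudofunctor.CoGrothendieck Bicategory

namespace Groth.Agent.Lib.Helper45.FibSiteLib

section General

variable {𝒜 : Type u₃} [Category.{v₃} 𝒜] {ℬ : Type u₄} [Category.{v₄} ℬ]
  {Ψ : 𝒜 ⥤ ℬ} {Φ : ℬ ⥤ 𝒜} (adj : Ψ ⊣ Φ) {I : Type w} {L : I → 𝒜 ⥤ ℬ} {R : I → ℬ ⥤ 𝒜}
  (adjs : ∀ f, L f ⊣ R f) (π : ∀ f, Φ ⟶ R f)

/-- the inclusion attached to `f`, mate of the projection `π f`. -/
def mateInj (a : 𝒜) (f : I) : (L f).obj a ⟶ Ψ.obj a :=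
  ((adjs f).homEquiv a (Ψ.obj a)).symm (adj.unit.app a ≫ (π f).app (Ψ.obj a))

lemma homEquiv_mateInj_comp (a : 𝒜) (f : I) {b : ℬ} (g : Ψ.obj a ⟶ b) :
    (adjs f).homEquiv a b (mateInj adj adjs π a f ≫ g) = adj.homEquiv a b g ≫ (π f).app b := by
  rw [Adjunction.homEquiv_naturality_right, mateInj, Equiv.apply_symm_apply,
    Adjunction.homEquiv_unit, Category.assoc, Category.assoc, (π f).naturality]

/-- if the right adjoint `Φ` is, through the `π f`, the product of the right adjoints `R f`,
then the left adjoint `Ψ` is pointwise the coproduct of the left adjoints `L f`. -/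
theorem nonempty_isColimit_cofan_mateInj
    (hπ : ∀ b, Nonempty (IsLimit (Fan.mk (Φ.obj b) (fun f => (π f).app b)))) (a : 𝒜) :
    Nonempty (IsColimit (Cofan.mk (Ψ.obj a) (mateInj adj adjs π a))) := by
  refine ⟨Cofan.IsColimit.mk _
    (fun s => (adj.homEquiv a s.pt).symm (Fan.IsLimit.lift (hπ s.pt).some
      (fun f => (adjs f).homEquiv a s.pt (s.inj f)))) ?_ ?_⟩
  · intro s f
    apply ((adjs f).homEquiv a s.pt).injective
    change (adjs f).homEquiv a s.pt (mateInj adj adjs π a f ≫ _) = _
    rw [homEquiv_mateInj_comp, Equiv.apply_symm_apply]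
    exact Fan.IsLimit.fac (hπ s.pt).some _ f
  · intro s m hm
    apply (adj.homEquiv a s.pt).injective
    rw [Equiv.apply_symm_apply]
    apply Fan.IsLimit.hom_ext (hπ s.pt).some
    intro f
    rw [Fan.IsLimit.fac]
    change adj.homEquiv a s.pt m ≫ (π f).app s.pt = _
    rw [← homEquiv_mateInj_comp adj adjs π a f m]
    congr 1
    exact hm f

end General

variable {𝒮 : Type u₁} [Category.{v₁} 𝒮] {F : Pseudofunctor (LocallyDiscrete 𝒮ᵒᵖ) Cat.{v₂, u₂}}

section Coextend

variable (J : FibSite.Topologies F) (i j : 𝒮)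
  [(ι F j).IsContinuous (J j) (FibSite.totalTopology F J)]
  [(ι F i).IsCocontinuous (J i) (FibSite.totalTopology F J)]
  [∀ (P : (F.obj ⟨op i⟩)ᵒᵖ ⥤ Type w), (ι F i).op.HasPointwiseRightKanExtension P]
  [∀ f : i ⟶ j, (FibSite.invImage F f).IsContinuous (J j) (J i)]

/-- the projections `coextendProj` are natural in the sheaf. -/
noncomputable def coextendProjNat (f : i ⟶ j) :
    FibSite.coextend F J (Type w) i ⋙ FibSite.restr F J (Type w) j ⟶
      (FibSite.invImage F f).sheafPushforwardContinuous (Type w) (J j) (J i) where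
  app a := coextendProj J i j f a
  naturality a a' φ := by
    apply Sheaf.hom_ext
    apply NatTrans.ext
    funext V
    change ((ι F i).op.ran.map φ.hom).app _ ≫ (coextendProjPresheaf i j f a'.obj).app V =
      (coextendProjPresheaf i j f a.obj).app V ≫ φ.hom.app _
    rw [coextendProjPresheaf_app, coextendProjPresheaf_app, Category.assoc,
      ← NatTrans.naturality_assoc]
    congr 1
    exact congrArg (fun t => t.app (op ((FibSite.invImage F f).obj V.unop)))
      ((ι F i).op.ranCounit.naturality φ.hom)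

end Coextend

section Extend

variable (J : FibSite.Topologies F) (i j : 𝒮)
  [(ι F i).IsContinuous (J i) (FibSite.totalTopology F J)]
  [(ι F j).IsContinuous (J j) (FibSite.totalTopology F J)]
  [(ι F j).IsCocontinuous (J j) (FibSite.totalTopology F J)]
  [((ι F i).sheafPushforwardContinuous (Type w) (J i) (FibSite.totalTopology F J)).IsRightAdjoint]
  [∀ (P : (F.obj ⟨op j⟩)ᵒᵖ ⥤ Type w), (ι F j).op.HasPointwiseRightKanExtension P]
  [∀ f : j ⟶ i, (FibSite.invImage F f).IsContinuous (J i) (J j)]
  [∀ f : j ⟶ i,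
    ((FibSite.invImage F f).sheafPushforwardContinuous (Type w) (J i) (J j)).IsRightAdjoint]

theorem exists_cofan_restr_extend (a : Sheaf (J i) (Type w)) :
    ∃ c : Cofan fun f : j ⟶ i =>
        ((FibSite.invImage F f).sheafPullback (Type w) (J i) (J j)).obj a,
      Nonempty (IsColimit c) ∧
        Nonempty (c.pt ≅
          (FibSite.restr F J (Type w) j).obj ((FibSite.extend F J (Type w) i).obj a)) := by
  let adj : FibSite.extend F J (Type w) i ⋙ FibSite.restr F J (Type w) j ⊣
      FibSite.coextend F J (Type w) j ⋙ FibSite.restr F J (Type w) i :=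
    (Functor.sheafAdjunctionContinuous (ι F i) (Type w) (J i) (FibSite.totalTopology F J)).comp
      (Functor.sheafAdjunctionCocontinuous (ι F j) (Type w) (J j) (FibSite.totalTopology F J))
  let adjs : ∀ f : j ⟶ i, (FibSite.invImage F f).sheafPullback (Type w) (J i) (J j) ⊣
      (FibSite.invImage F f).sheafPushforwardContinuous (Type w) (J i) (J j) :=
    fun f => Functor.sheafAdjunctionContinuous (FibSite.invImage F f) (Type w) (J i) (J j)
  exact ⟨Cofan.mk _ (mateInj adj adjs (coextendProjNat J j i) a),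
    nonempty_isColimit_cofan_mateInj adj adjs (coextendProjNat J j i)
      (fun b => nonempty_isLimit_fan_coextendProj J j i b) a, ⟨Iso.refl _⟩⟩

end Extend

open FibSite in
theorem exists_cofan_restr_extend_small {𝒮 : Type u} [SmallCategory 𝒮]
    (F : Pseudofunctor (LocallyDiscrete 𝒮ᵒᵖ) Cat.{u, u}) (J : FibSite.Topologies F)
    (hF : FibSite.IsFibSite F J) (i j : 𝒮)
    [∀ S : 𝒮, (ι F S).IsContinuous (J S) (FibSite.totalTopology F J)]
    [((ι F i).sheafPushforwardContinuous (Type u) (J i) (FibSite.totalTopology F J)).IsRightAdjoint]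
    [∀ (R S : 𝒮) (f : R ⟶ S), (FibSite.invImage F f).IsContinuous (J S) (J R)]
    [∀ (R S : 𝒮) (f : R ⟶ S),
      ((FibSite.invImage F f).sheafPushforwardContinuous (Type u) (J S) (J R)).IsRightAdjoint]
    (a : Sheaf (J i) (Type u)) :
    ∃ c : Cofan fun f : j ⟶ i => ((FibSite.invImage F f).sheafPullback (Type u) (J i) (J j)).obj a,
      Nonempty (IsColimit c) ∧
        Nonempty (c.pt ≅ (FibSite.restr F J (Type u) j).obj ((FibSite.extend F J (Type u) i).obj a)) := by
  have := isCocontinuous_ι hF.isPreFibSite j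
  exact exists_cofan_restr_extend J i j a

end Groth.Agent.Lib.Helper45.FibSiteLib
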