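import Groth.Agent.Lib.Helper45.FibSite5
import Mathlib.CategoryTheory.Adjunction.Mates
import Mathlib.CategoryTheory.Sites.Limits

/-!
# Fibred sites: left exactness of the extension from the fibre over a final object (helper45)

`isLimitOfForallRestr` (the restrictions to the fibres jointly reflect limits),
`isIso_coextendProjNat`, `preservesFiniteLimits_extend_of_isTerminal`.
-/

set_option autoImplicit false
set_option backward.isDefEq.respectTransparency false
set_option backward.isDefEq.respectTransparency.types false
set_option backward.defeqAttrib.useBackward true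
universe w v u v₁ u₁ v₂ u₂ v₃ u₃ v₄ u₄

open CategoryTheory CategoryTheory.Limits Opposite Pseudofunctor Pseudofunctor.CoGrothendieck Bicategory

namespace Groth.Agent.Lib.Helper45.FibSiteLib

variable {𝒮 : Type u₁} [Category.{v₁} 𝒮] {F : Pseudofunctor (LocallyDiscrete 𝒮ᵒᵖ) Cat.{v₂, u₂}}

section

variable (J : FibSite.Topologies F) [∀ j, (ι F j).IsContinuous (J j) (FibSite.totalTopology F J)]

/-- the restrictions to the fibres jointly reflect limits of sheaves on the total site. -/
noncomputable def isLimitOfForallRestr {K : Type u₃} [Category.{v₃} K]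
    [HasLimitsOfShape K (Type w)]
    {D : K ⥤ FibSite.TotSh F J (Type w)} (c : Cone D)
    (h : ∀ j, IsLimit ((FibSite.restr F J (Type w) j).mapCone c)) : IsLimit c := by
  refine isLimitOfReflects (sheafToPresheaf _ _) ?_
  refine evaluationJointlyReflectsLimits _ (fun X => ?_)
  obtain ⟨⟨j, V⟩⟩ := X
  exact isLimitOfPreserves
    (sheafToPresheaf (J j) (Type w) ⋙ (evaluation _ _).obj (op V)) (h j)

end

section

variable (J : FibSite.Topologies F) (i j : 𝒮)
  [(ι F j).IsContinuous (J j) (FibSite.totalTopology F J)]
  [(ι F i).IsCocontinuous (J i) (FibSite.totalTopology F J)]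
  [∀ (P : (F.obj ⟨op i⟩)ᵒᵖ ⥤ Type w), (ι F i).op.HasPointwiseRightKanExtension P]
  [∀ f : i ⟶ j, (FibSite.invImage F f).IsContinuous (J j) (J i)]

/-- if `f` is the only arrow `i ⟶ j`, the projection attached to `f` is invertible. -/
lemma isIso_coextendProjNat [Unique (i ⟶ j)] (f : i ⟶ j) :
    IsIso (coextendProjNat.{w} J i j f) := by
  apply (config := { allowSynthFailures := true }) NatIso.isIso_of_isIso_app
  intro a
  obtain rfl : f = default := Subsingleton.elim _ _
  have hl := (nonempty_isLimit_fan_coextendProj J i j a).some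
  have h1 := IsLimit.conePointUniqueUpToIso_hom_comp hl
    (limitConeOfUnique (fun f : i ⟶ j =>
      ((FibSite.invImage F f).sheafPushforwardContinuous (Type w) (J j) (J i)).obj a)).isLimit
    ⟨default⟩
  have h3 : IsIso ((Fan.mk _ (fun f : i ⟶ j => coextendProj J i j f a)).π.app ⟨default⟩) := by
    rw [← h1]
    have : IsIso ((limitConeOfUnique (fun f : i ⟶ j =>
      ((FibSite.invImage F f).sheafPushforwardContinuous (Type w) (J j) (J i)).obj a)).cone.π.app
        ⟨default⟩) := by
      simp only [limitConeOfUnique_cone_π, Discrete.natTrans_app]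
      infer_instance
    infer_instance
  exact h3

end

open FibSite in
theorem preservesFiniteLimits_extend_of_isTerminal {𝒮 : Type u} [SmallCategory 𝒮]
    (F : Pseudofunctor (LocallyDiscrete 𝒮ᵒᵖ) Cat.{u, u}) (J : FibSite.Topologies F)
    (hF : FibSite.IsFibSite F J) (i : 𝒮) (hi : IsTerminal i)
    [(ι F i).IsContinuous (J i) (FibSite.totalTopology F J)]
    [((ι F i).sheafPushforwardContinuous (Type u) (J i) (FibSite.totalTopology F J)).IsRightAdjoint] :
    PreservesFiniteLimits (FibSite.extend F J (Type u) i) := by
  have hcont : ∀ j, (ι F j).IsContinuous (J j) (totalTopology F J) :=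
    fun j => isContinuous_ι hF.isPreFibSite j
  have hcocont : ∀ j, (ι F j).IsCocontinuous (J j) (totalTopology F J) :=
    fun j => isCocontinuous_ι hF.isPreFibSite j
  have hinv : ∀ ⦃R S : 𝒮⦄ (f : R ⟶ S), (invImage F f).IsContinuous (J S) (J R) :=
    hF.isPreFibSite
  have key : ∀ j, PreservesFiniteLimits (extend F J (Type u) i ⋙ restr F J (Type u) j) := by
    intro j
    have : Unique (j ⟶ i) := ⟨⟨hi.from j⟩, fun f => hi.hom_ext _ _⟩
    obtain ⟨hc, hr, hp⟩ := hF (hi.from j)
    let adj : extend F J (Type u) i ⋙ restr F J (Type u) j ⊣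
        coextend F J (Type u) j ⋙ restr F J (Type u) i :=
      (Functor.sheafAdjunctionContinuous (ι F i) (Type u) (J i) (totalTopology F J)).comp
        (Functor.sheafAdjunctionCocontinuous (ι F j) (Type u) (J j) (totalTopology F J))
    let adjf := Functor.sheafAdjunctionContinuous (invImage F (hi.from j)) (Type u) (J i) (J j)
    have := isIso_coextendProjNat.{u} J j i (hi.from j)
    let e : (invImage F (hi.from j)).sheafPullback (Type u) (J i) (J j) ≅
        extend F J (Type u) i ⋙ restr F J (Type u) j :=
      (conjugateIsoEquiv adj adjf).symm (asIso (coextendProjNat.{u} J j i (hi.from j)))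
    exact preservesFiniteLimits_of_natIso e
  constructor
  intro K _ _
  constructor
  intro D
  constructor
  intro c hc
  refine ⟨isLimitOfForallRestr J _ (fun j => ?_)⟩
  have h1 := (key j).preservesFiniteLimits K
  have h2 : PreservesLimit D (extend F J (Type u) i ⋙ restr F J (Type u) j) :=
    h1.preservesLimit
  exact isLimitOfPreserves (extend F J (Type u) i ⋙ restr F J (Type u) j) hc

end Groth.Agent.Lib.Helper45.FibSiteLib
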