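import Groth.Agent.Lib.Helper45.FibSite6

/-!
# Fibred sites: cartesian functors that are fibrewise morphisms of sites (helper45)

`ιCompMapIso`, `map_cartesianLift`, `natAppIso`, `isIso_of_isLimit_fans`, `theta` (base change
for the right Kan extensions along the fibre inclusions), `isIso_theta`, `thetaSheaf`,
`isContinuous_of_forall_ι_comp`, `map_morphismOfSites_small`.
-/

set_option autoImplicit false
set_option backward.isDefEq.respectTransparency false
set_option backward.isDefEq.respectTransparency.types false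
set_option backward.defeqAttrib.useBackward true
universe w v u v₁ u₁ v₂ u₂ v₃ u₃ v₄ u₄

open CategoryTheory CategoryTheory.Limits Opposite Pseudofunctor Pseudofunctor.CoGrothendieck Bicategory
open scoped CategoryTheory.Pseudofunctor.StrongTrans

namespace Groth.Agent.Lib.Helper45.FibSiteLib

variable {𝒮 : Type u₁} [Category.{v₁} 𝒮] {F G : Pseudofunctor (LocallyDiscrete 𝒮ᵒᵖ) Cat.{v₂, u₂}}
  (α : G ⟶ F)

attribute [local simp] PrelaxFunctor.map₂_eqToHom Strict.leftUnitor_eqToIso
  Strict.rightUnitor_eqToIso Strict.associator_eqToIso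

/-- the functor induced on the total categories commutes with the fibre inclusions. -/
def ιCompMapIso (S : 𝒮) :
    ι G S ⋙ Pseudofunctor.CoGrothendieck.map α ≅ (α.app ⟨op S⟩).toFunctor ⋙ ι F S :=
  NatIso.ofComponents (fun _ => Iso.refl _) (by
    intro V V' φ
    dsimp
    simp only [Category.comp_id, Category.id_comp]
    ext
    · simp
    · simp [Pseudofunctor.StrongTrans.naturality_id_hom_app, Cat.Hom.id_toFunctor,
        ← Functor.map_comp_assoc, ← Cat.Hom₂.comp_app])

/-- the comparison between the two inverse images. -/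
abbrev natApp {j k : 𝒮} (f : j ⟶ k) (W : G.obj ⟨op k⟩) :
    (α.app ⟨op j⟩).toFunctor.obj ((FibSite.invImage G f).obj W) ⟶
      (FibSite.invImage F f).obj ((α.app ⟨op k⟩).toFunctor.obj W) :=
  (α.naturality f.op.toLoc).hom.toNatTrans.app W

lemma map_cartesianLift {j k : 𝒮} (f : j ⟶ k) (W : G.obj ⟨op k⟩) :
    (Pseudofunctor.CoGrothendieck.map α).map (cartesianLift W f) =
      (ι F j).map (natApp α f W) ≫ cartesianLift ((α.app ⟨op k⟩).toFunctor.obj W) f := by
  refine (hom_eq_ι_map_comp_cartesianLift _).trans ?_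
  have : ((Pseudofunctor.CoGrothendieck.map α).map (cartesianLift W f)).fiber = natApp α f W := by
    simp [Pseudofunctor.CoGrothendieck.map]
  rw [this]
  rfl

/-- the comparison between the two inverse images, as an isomorphism. -/
def natAppIso {j k : 𝒮} (f : j ⟶ k) (W : G.obj ⟨op k⟩) :
    (α.app ⟨op j⟩).toFunctor.obj ((FibSite.invImage G f).obj W) ≅
      (FibSite.invImage F f).obj ((α.app ⟨op k⟩).toFunctor.obj W) :=
  (Cat.Hom.toNatIso (α.naturality f.op.toLoc)).app W

lemma natAppIso_hom {j k : 𝒮} (f : j ⟶ k) (W : G.obj ⟨op k⟩) :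
    (natAppIso α f W).hom = natApp α f W := rfl

section General

variable {C : Type u₃} [Category.{v₃} C] {I : Type w} {X Y : I → C} {A B : C}

lemma isIso_of_isLimit_fans (p : ∀ f, A ⟶ X f) (q : ∀ f, B ⟶ Y f)
    (hp : IsLimit (Fan.mk A p)) (hq : IsLimit (Fan.mk B q)) (θ : A ⟶ B) (e : ∀ f, X f ≅ Y f)
    (h : ∀ f, θ ≫ q f = p f ≫ (e f).hom) : IsIso θ := by
  have hfac : ∀ f, Fan.IsLimit.lift hp (fun f => q f ≫ (e f).inv) ≫ p f = q f ≫ (e f).inv :=
    fun f => Fan.IsLimit.fac hp (fun f => q f ≫ (e f).inv) f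
  refine ⟨Fan.IsLimit.lift hp (fun f => q f ≫ (e f).inv), ?_, ?_⟩
  · apply Fan.IsLimit.hom_ext hp
    intro f
    change (θ ≫ _) ≫ p f = 𝟙 _ ≫ p f
    rw [Category.assoc, hfac, ← Category.assoc, h, Category.assoc, Iso.hom_inv_id,
      Category.comp_id, Category.id_comp]
  · apply Fan.IsLimit.hom_ext hq
    intro f
    change (_ ≫ θ) ≫ q f = 𝟙 _ ≫ q f
    rw [Category.assoc, h, ← Category.assoc, hfac, Category.assoc, Iso.inv_hom_id,
      Category.comp_id, Category.id_comp]

end General

section Theta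

variable (j : 𝒮)
  [∀ (P : (F.obj ⟨op j⟩)ᵒᵖ ⥤ Type w), (ι F j).op.HasPointwiseRightKanExtension P]
  [∀ (Q : (G.obj ⟨op j⟩)ᵒᵖ ⥤ Type w), (ι G j).op.HasPointwiseRightKanExtension Q]

/-- the restriction to the fibre of `G` over `j` of the pullback of a right Kan extension. -/
noncomputable def xi (P : (F.obj ⟨op j⟩)ᵒᵖ ⥤ Type w) :
    (ι G j).op ⋙ (Pseudofunctor.CoGrothendieck.map α).op ⋙ (ι F j).op.ran.obj P ⟶
      (α.app ⟨op j⟩).toFunctor.op ⋙ P :=
  Functor.whiskerRight (NatTrans.op (ιCompMapIso α j).inv) ((ι F j).op.ran.obj P) ≫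
    Functor.whiskerLeft (α.app ⟨op j⟩).toFunctor.op ((ι F j).op.ranCounit.app P)

omit [∀ (Q : (G.obj ⟨op j⟩)ᵒᵖ ⥤ Type w), (ι G j).op.HasPointwiseRightKanExtension Q] in
lemma xi_app (P : (F.obj ⟨op j⟩)ᵒᵖ ⥤ Type w) (V : (G.obj ⟨op j⟩)ᵒᵖ) :
    (xi α j P).app V =
      ((ι F j).op.ranCounit.app P).app (op ((α.app ⟨op j⟩).toFunctor.obj V.unop)) := by
  change ((ι F j).op.ran.obj P).map (𝟙 _) ≫ _ = _
  rw [CategoryTheory.Functor.map_id, Category.id_comp]
  rfl

/-- the base change morphism for right Kan extensions along the fibre inclusions. -/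
noncomputable def theta (P : (F.obj ⟨op j⟩)ᵒᵖ ⥤ Type w) :
    (Pseudofunctor.CoGrothendieck.map α).op ⋙ (ι F j).op.ran.obj P ⟶
      (ι G j).op.ran.obj ((α.app ⟨op j⟩).toFunctor.op ⋙ P) :=
  ((ι G j).op.ranAdjunction (Type w)).homEquiv _ _ (xi α j P)

lemma theta_fac (P : (F.obj ⟨op j⟩)ᵒᵖ ⥤ Type w) :
    Functor.whiskerLeft (ι G j).op (theta α j P) ≫
      (ι G j).op.ranCounit.app ((α.app ⟨op j⟩).toFunctor.op ⋙ P) = xi α j P := by
  have := ((ι G j).op.ranAdjunction (Type w)).homEquiv_counit
    (X := (Pseudofunctor.CoGrothendieck.map α).op ⋙ (ι F j).op.ran.obj P)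
    (Y := (α.app ⟨op j⟩).toFunctor.op ⋙ P) (theta α j P)
  rw [Functor.ranAdjunction_counit] at this
  rw [theta, Equiv.symm_apply_apply] at this
  exact this.symm

lemma theta_app_comp (P : (F.obj ⟨op j⟩)ᵒᵖ ⥤ Type w) {k : 𝒮} (W : G.obj ⟨op k⟩) (f : j ⟶ k) :
    (theta α j P).app (op ⟨k, W⟩) ≫
      ((ι G j).op.ran.obj ((α.app ⟨op j⟩).toFunctor.op ⋙ P)).map (cartesianLift W f).op ≫
        ((ι G j).op.ranCounit.app ((α.app ⟨op j⟩).toFunctor.op ⋙ P)).app
          (op ((FibSite.invImage G f).obj W)) =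
    (((ι F j).op.ran.obj P).map (cartesianLift ((α.app ⟨op k⟩).toFunctor.obj W) f).op ≫
        ((ι F j).op.ranCounit.app P).app
          (op ((FibSite.invImage F f).obj ((α.app ⟨op k⟩).toFunctor.obj W)))) ≫
      P.map (natApp α f W).op := by
  have h1 := (theta α j P).naturality (cartesianLift W f).op
  have h2 := congrArg (fun t => t.app (op ((FibSite.invImage G f).obj W))) (theta_fac α j P)
  have h3 := xi_app α j P (op ((FibSite.invImage G f).obj W))
  have h4 := ((ι F j).op.ranCounit.app P).naturality (natApp α f W).op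
  have h5 : ((ι F j).op.ran.obj P).map
      ((Pseudofunctor.CoGrothendieck.map α).map (cartesianLift W f)).op =
      ((ι F j).op.ran.obj P).map (cartesianLift ((α.app ⟨op k⟩).toFunctor.obj W) f).op ≫
        ((ι F j).op.ran.obj P).map ((ι F j).map (natApp α f W)).op := by
    rw [map_cartesianLift, op_comp, CategoryTheory.Functor.map_comp]
  calc _ = ((theta α j P).app (op ⟨k, W⟩) ≫
        ((ι G j).op.ran.obj ((α.app ⟨op j⟩).toFunctor.op ⋙ P)).map (cartesianLift W f).op) ≫
        ((ι G j).op.ranCounit.app ((α.app ⟨op j⟩).toFunctor.op ⋙ P)).app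
          (op ((FibSite.invImage G f).obj W)) := (Category.assoc _ _ _).symm
    _ = (((ι F j).op.ran.obj P).map
          ((Pseudofunctor.CoGrothendieck.map α).map (cartesianLift W f)).op ≫
        (theta α j P).app (op (domainCartesianLift W f))) ≫
        ((ι G j).op.ranCounit.app ((α.app ⟨op j⟩).toFunctor.op ⋙ P)).app
          (op ((FibSite.invImage G f).obj W)) := congrArg (fun t => t ≫ _) h1.symm
    _ = ((ι F j).op.ran.obj P).map
          ((Pseudofunctor.CoGrothendieck.map α).map (cartesianLift W f)).op ≫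
        ((theta α j P).app (op (domainCartesianLift W f)) ≫
        ((ι G j).op.ranCounit.app ((α.app ⟨op j⟩).toFunctor.op ⋙ P)).app
          (op ((FibSite.invImage G f).obj W))) := Category.assoc _ _ _
    _ = ((ι F j).op.ran.obj P).map
          ((Pseudofunctor.CoGrothendieck.map α).map (cartesianLift W f)).op ≫
        ((ι F j).op.ranCounit.app P).app
          (op ((α.app ⟨op j⟩).toFunctor.obj ((FibSite.invImage G f).obj W))) :=
      congrArg (fun t => _ ≫ t) (h2.trans h3)
    _ = (((ι F j).op.ran.obj P).map (cartesianLift ((α.app ⟨op k⟩).toFunctor.obj W) f).op ≫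
        ((ι F j).op.ran.obj P).map ((ι F j).map (natApp α f W)).op) ≫
        ((ι F j).op.ranCounit.app P).app
          (op ((α.app ⟨op j⟩).toFunctor.obj ((FibSite.invImage G f).obj W))) :=
      congrArg (fun t => t ≫ _) h5
    _ = ((ι F j).op.ran.obj P).map (cartesianLift ((α.app ⟨op k⟩).toFunctor.obj W) f).op ≫
        (((ι F j).op.ran.obj P).map ((ι F j).map (natApp α f W)).op ≫
        ((ι F j).op.ranCounit.app P).app
          (op ((α.app ⟨op j⟩).toFunctor.obj ((FibSite.invImage G f).obj W)))) :=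
      Category.assoc _ _ _
    _ = ((ι F j).op.ran.obj P).map (cartesianLift ((α.app ⟨op k⟩).toFunctor.obj W) f).op ≫
        (((ι F j).op.ranCounit.app P).app
          (op ((FibSite.invImage F f).obj ((α.app ⟨op k⟩).toFunctor.obj W))) ≫
          P.map (natApp α f W).op) := congrArg (fun t => _ ≫ t) h4
    _ = _ := (Category.assoc _ _ _).symm

instance isIso_theta (P : (F.obj ⟨op j⟩)ᵒᵖ ⥤ Type w) : IsIso (theta α j P) := by
  apply (config := { allowSynthFailures := true }) NatIso.isIso_of_isIso_app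
  rintro ⟨⟨k, W⟩⟩
  have hp := (nonempty_isLimit_fan_of_isLimit_cone ((α.app ⟨op k⟩).toFunctor.obj W) P _
    ((ι F j).op.isPointwiseRightKanExtensionRanCounit P
      (op ((ι F k).obj ((α.app ⟨op k⟩).toFunctor.obj W))))).some
  have hq := (nonempty_isLimit_fan_of_isLimit_cone W ((α.app ⟨op j⟩).toFunctor.op ⋙ P) _
    ((ι G j).op.isPointwiseRightKanExtensionRanCounit ((α.app ⟨op j⟩).toFunctor.op ⋙ P)
      (op ((ι G k).obj W)))).some
  exact isIso_of_isLimit_fans _ _ hp hq ((theta α j P).app (op ⟨k, W⟩))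
    (fun f => P.mapIso (natAppIso α f W).op)
    (fun f => theta_app_comp α j P W f)

lemma theta_naturality {P P' : (F.obj ⟨op j⟩)ᵒᵖ ⥤ Type w} (φ : P ⟶ P') :
    Functor.whiskerLeft (Pseudofunctor.CoGrothendieck.map α).op ((ι F j).op.ran.map φ) ≫
        theta α j P' =
      theta α j P ≫
        (ι G j).op.ran.map (Functor.whiskerLeft (α.app ⟨op j⟩).toFunctor.op φ) := by
  have hx : xi α j P ≫ Functor.whiskerLeft (α.app ⟨op j⟩).toFunctor.op φ =
      Functor.whiskerLeft (ι G j).op
        (Functor.whiskerLeft (Pseudofunctor.CoGrothendieck.map α).op ((ι F j).op.ran.map φ)) ≫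
        xi α j P' := by
    apply NatTrans.ext
    funext V
    have h1 := xi_app α j P V
    have h2 := xi_app α j P' V
    have h3 := congrArg (fun t => t.app (op ((α.app ⟨op j⟩).toFunctor.obj V.unop)))
      ((ι F j).op.ranCounit.naturality φ)
    calc _ = (xi α j P).app V ≫ φ.app (op ((α.app ⟨op j⟩).toFunctor.obj V.unop)) := rfl
      _ = ((ι F j).op.ranCounit.app P).app (op ((α.app ⟨op j⟩).toFunctor.obj V.unop)) ≫
          φ.app (op ((α.app ⟨op j⟩).toFunctor.obj V.unop)) := congrArg (fun t => t ≫ _) h1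
      _ = ((ι F j).op.ran.map φ).app (op ((ι F j).obj ((α.app ⟨op j⟩).toFunctor.obj V.unop))) ≫
          ((ι F j).op.ranCounit.app P').app (op ((α.app ⟨op j⟩).toFunctor.obj V.unop)) :=
        h3.symm
      _ = ((ι F j).op.ran.map φ).app (op ((ι F j).obj ((α.app ⟨op j⟩).toFunctor.obj V.unop))) ≫
          (xi α j P').app V := congrArg (fun t => _ ≫ t) h2.symm
      _ = _ := rfl
  have e1 := ((ι G j).op.ranAdjunction (Type w)).homEquiv_naturality_right (xi α j P)
    (Functor.whiskerLeft (α.app ⟨op j⟩).toFunctor.op φ)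
  have e2 := ((ι G j).op.ranAdjunction (Type w)).homEquiv_naturality_left
    (Functor.whiskerLeft (Pseudofunctor.CoGrothendieck.map α).op ((ι F j).op.ran.map φ))
    (xi α j P')
  exact e2.symm.trans ((congrArg _ hx.symm).trans e1)

end Theta

section SheafLevel

variable (J : FibSite.Topologies F) (K : FibSite.Topologies G) (j : 𝒮)
  [∀ (P : (F.obj ⟨op j⟩)ᵒᵖ ⥤ Type w), (ι F j).op.HasPointwiseRightKanExtension P]
  [∀ (Q : (G.obj ⟨op j⟩)ᵒᵖ ⥤ Type w), (ι G j).op.HasPointwiseRightKanExtension Q]
  [(Pseudofunctor.CoGrothendieck.map α).IsContinuous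
    (FibSite.totalTopology G K) (FibSite.totalTopology F J)]
  [(ι F j).IsCocontinuous (J j) (FibSite.totalTopology F J)]
  [(ι G j).IsCocontinuous (K j) (FibSite.totalTopology G K)]
  [(α.app ⟨op j⟩).toFunctor.IsContinuous (K j) (J j)]

/-- base change for the right adjoints of the restrictions to the fibres, on sheaves. -/
noncomputable def thetaSheaf :
    FibSite.coextend F J (Type w) j ⋙
      (Pseudofunctor.CoGrothendieck.map α).sheafPushforwardContinuous (Type w)
        (FibSite.totalTopology G K) (FibSite.totalTopology F J) ⟶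
    (α.app ⟨op j⟩).toFunctor.sheafPushforwardContinuous (Type w) (K j) (J j) ⋙
      FibSite.coextend G K (Type w) j where
  app b := ObjectProperty.homMk (theta α j b.obj)
  naturality b b' φ := by
    apply Sheaf.hom_ext
    exact theta_naturality α j φ.hom

instance isIso_thetaSheaf : IsIso (thetaSheaf.{w} α J K j) := by
  apply (config := { allowSynthFailures := true }) NatIso.isIso_of_isIso_app
  intro b
  have : IsIso ((sheafToPresheaf _ _).map ((thetaSheaf.{w} α J K j).app b)) :=
    isIso_theta α j b.obj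
  exact isIso_of_fully_faithful (sheafToPresheaf _ _) _

end SheafLevel

theorem isContinuous_of_forall_ι_comp {J : FibSite.Topologies F}
    (hF : FibSite.IsPreFibSite F J) {D : Type u₃} [Category.{v₃} D]
    (Kd : GrothendieckTopology D) (m : ∫ᶜ F ⥤ D)
    (h : ∀ S : 𝒮, (ι F S ⋙ m).IsContinuous (J S) Kd) :
    m.IsContinuous (FibSite.totalTopology F J) Kd := by
  refine ⟨fun P => ?_⟩
  apply isSheaf_totalTopology_of_forall hF
  intro S
  have := h S
  exact Functor.op_comp_isSheaf_of_types (ι F S ⋙ m) (J S) Kd P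

open FibSite in
theorem map_morphismOfSites_small {𝒮 : Type u} [SmallCategory 𝒮]
    (F G : Pseudofunctor (LocallyDiscrete 𝒮ᵒᵖ) Cat.{u, u}) (J : FibSite.Topologies F)
    (K : FibSite.Topologies G)
    (hF : FibSite.IsFibSite F J) (hG : FibSite.IsFibSite G K) (α : G ⟶ F)
    (hα : ∀ S : 𝒮, ∃ (_ : (α.app ⟨op S⟩).toFunctor.IsContinuous (K S) (J S))
      (_ : ((α.app ⟨op S⟩).toFunctor.sheafPushforwardContinuous (Type u) (K S) (J S)).IsRightAdjoint),
      PreservesFiniteLimits ((α.app ⟨op S⟩).toFunctor.sheafPullback (Type u) (K S) (J S))) :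
    ∃ (_ : (Pseudofunctor.CoGrothendieck.map α).IsContinuous
        (FibSite.totalTopology G K) (FibSite.totalTopology F J))
      (_ : ((Pseudofunctor.CoGrothendieck.map α).sheafPushforwardContinuous (Type u)
        (FibSite.totalTopology G K) (FibSite.totalTopology F J)).IsRightAdjoint),
      PreservesFiniteLimits ((Pseudofunctor.CoGrothendieck.map α).sheafPullback (Type u)
        (FibSite.totalTopology G K) (FibSite.totalTopology F J)) := by
  have hcF : ∀ S, (ι F S).IsContinuous (J S) (totalTopology F J) :=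
    fun S => isContinuous_ι hF.isPreFibSite S
  have hcG : ∀ S, (ι G S).IsContinuous (K S) (totalTopology G K) :=
    fun S => isContinuous_ι hG.isPreFibSite S
  have hccF : ∀ S, (ι F S).IsCocontinuous (J S) (totalTopology F J) :=
    fun S => isCocontinuous_ι hF.isPreFibSite S
  have hccG : ∀ S, (ι G S).IsCocontinuous (K S) (totalTopology G K) :=
    fun S => isCocontinuous_ι hG.isPreFibSite S
  have hm : (Pseudofunctor.CoGrothendieck.map α).IsContinuous
      (totalTopology G K) (totalTopology F J) := by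
    apply isContinuous_of_forall_ι_comp hG.isPreFibSite
    intro S
    obtain ⟨hc, -, -⟩ := hα S
    have : ((α.app ⟨op S⟩).toFunctor ⋙ ι F S).IsContinuous (K S) (totalTopology F J) :=
      Functor.isContinuous_comp _ _ _ (J S) _
    exact Functor.isContinuous_of_iso (ιCompMapIso α S).symm _ _
  have hr : ((Pseudofunctor.CoGrothendieck.map α).sheafPushforwardContinuous (Type u)
      (totalTopology G K) (totalTopology F J)).IsRightAdjoint := inferInstance
  refine ⟨hm, hr, ?_⟩
  have key : ∀ j, PreservesFiniteLimits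
      ((Pseudofunctor.CoGrothendieck.map α).sheafPullback (Type u)
        (totalTopology G K) (totalTopology F J) ⋙ restr F J (Type u) j) := by
    intro j
    obtain ⟨hc, hra, hp⟩ := hα j
    let adjL := ((Pseudofunctor.CoGrothendieck.map α).sheafAdjunctionContinuous (Type u)
      (totalTopology G K) (totalTopology F J)).comp
        ((ι F j).sheafAdjunctionCocontinuous (Type u) (J j) (totalTopology F J))
    let adjR := ((ι G j).sheafAdjunctionCocontinuous (Type u) (K j) (totalTopology G K)).comp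
      ((α.app ⟨op j⟩).toFunctor.sheafAdjunctionContinuous (Type u) (K j) (J j))
    let e := (conjugateIsoEquiv adjL adjR).symm (asIso (thetaSheaf.{u} α J K j))
    have h1 : PreservesFiniteLimits (restr G K (Type u) j) := inferInstance
    have h2 : PreservesFiniteLimits (restr G K (Type u) j ⋙
        (α.app ⟨op j⟩).toFunctor.sheafPullback (Type u) (K j) (J j)) :=
      comp_preservesFiniteLimits _ _
    exact preservesFiniteLimits_of_natIso e
  constructor
  intro K' _ _
  constructor
  intro D
  constructor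
  intro c hc
  refine ⟨isLimitOfForallRestr J _ (fun j => ?_)⟩
  have h1 := (key j).preservesFiniteLimits K'
  have h2 : PreservesLimit D ((Pseudofunctor.CoGrothendieck.map α).sheafPullback (Type u)
        (totalTopology G K) (totalTopology F J) ⋙ restr F J (Type u) j) :=
    h1.preservesLimit
  exact isLimitOfPreserves ((Pseudofunctor.CoGrothendieck.map α).sheafPullback (Type u)
        (totalTopology G K) (totalTopology F J) ⋙ restr F J (Type u) j) hc

end Groth.Agent.Lib.Helper45.FibSiteLib
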