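import Groth.Agent.Lib.Helper45.FibSite7
import Mathlib.CategoryTheory.Sites.LocallyBijective
import Mathlib.CategoryTheory.Limits.Types.Colimits

/-!
# Fibred sites: bicovering morphisms and the left Kan extension along a fibre inclusion (helper45)

`lan_jointly_surjective`, `lanUnit_injective`, `lanYonedaTo`, `isLocallyInjective_of_lan_map`,
`isLocallySurjective_of_lan_map`, `W_iff_W_lan_map`.
-/

set_option autoImplicit false
set_option backward.isDefEq.respectTransparency false
set_option backward.isDefEq.respectTransparency.types false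
set_option backward.defeqAttrib.useBackward true
universe w v u v₁ u₁ v₂ u₂ v₃ u₃ v₄ u₄

open CategoryTheory CategoryTheory.Limits Opposite Pseudofunctor Pseudofunctor.CoGrothendieck Bicategory

namespace Groth.Agent.Lib.Helper45.FibSiteLib

variable {𝒮 : Type u₁} [Category.{v₁} 𝒮] {F : Pseudofunctor (LocallyDiscrete 𝒮ᵒᵖ) Cat.{v₂, u₂}}

section Lan

variable (i : 𝒮) (R : (F.obj ⟨op i⟩)ᵒᵖ ⥤ Type w)
  [∀ (R : (F.obj ⟨op i⟩)ᵒᵖ ⥤ Type w), (ι F i).op.HasPointwiseLeftKanExtension R]

lemma lan_jointly_surjective (X : ∫ᶜ F) (t : ((ι F i).op.lan.obj R).obj (op X)) :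
    ∃ (U' : F.obj ⟨op i⟩) (k : X ⟶ (ι F i).obj U') (r : R.obj (op U')),
      ((ι F i).op.lan.obj R).map k.op (((ι F i).op.lanUnit.app R).app (op U') r) = t := by
  obtain ⟨d, r, hr⟩ := Types.jointly_surjective_of_isColimit
    ((ι F i).op.isPointwiseLeftKanExtensionLeftKanExtensionUnit R (op X)) t
  exact ⟨d.left.unop, d.hom.unop, r, hr⟩

/-- the cocone used to show that the unit of the left Kan extension is injective. -/
def unitCocone (V' : F.obj ⟨op i⟩) :
    Cocone (CostructuredArrow.proj (ι F i).op (op ((ι F i).obj V')) ⋙ R) where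
  pt := Set (R.obj (op V'))
  ι :=
    { app := fun d => TypeCat.ofHom (fun r =>
        {x | ∃ k' : V' ⟶ d.left.unop, (ι F i).map k' = d.hom.unop ∧ x = R.map k'.op r})
      naturality := by
        intro d d' m
        ext r
        change {x | ∃ k' : V' ⟶ d'.left.unop, (ι F i).map k' = d'.hom.unop ∧
            x = R.map k'.op (R.map m.left r)} =
          {x | ∃ k' : V' ⟶ d.left.unop, (ι F i).map k' = d.hom.unop ∧ x = R.map k'.op r}
        have hw : d'.hom.unop ≫ (ι F i).map m.left.unop = d.hom.unop := by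
          have := congrArg Quiver.Hom.unop (CostructuredArrow.w m)
          simpa using this
        ext x
        constructor
        · rintro ⟨k'', hk'', rfl⟩
          refine ⟨k'' ≫ m.left.unop, ?_, ?_⟩
          · rw [Functor.map_comp, hk'', hw]
          · rw [op_comp, Functor.map_comp_apply, Quiver.Hom.op_unop]
        · rintro ⟨k', hk', rfl⟩
          have hb : d'.hom.unop.base = 𝟙 i := by
            have := congrArg Hom.base (hw.trans hk'.symm)
            simpa using this
          obtain ⟨k'', hk''⟩ := exists_ι_map_eq_of_base_eq_id d'.hom.unop hb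
          refine ⟨k'', hk'', ?_⟩
          have : k' = k'' ≫ m.left.unop := by
            apply ι_map_injective
            rw [Functor.map_comp, hk'', hw, hk']
          rw [this, op_comp, Functor.map_comp_apply, Quiver.Hom.op_unop] }

lemma lanUnit_injective (V' : F.obj ⟨op i⟩) :
    Function.Injective (((ι F i).op.lanUnit.app R).app (op V')) := by
  intro a b hab
  let hc := (ι F i).op.isPointwiseLeftKanExtensionLeftKanExtensionUnit R (op ((ι F i).obj V'))
  let δ := hc.desc (unitCocone i R V')
  have key : ∀ a : R.obj (op V'), δ (((ι F i).op.lanUnit.app R).app (op V') a) = ({a} : Set (R.obj (op V'))) := by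
    intro a
    have h1 := ConcreteCategory.congr_hom
      (hc.fac (unitCocone i R V') (CostructuredArrow.mk (Y := op V') (𝟙 _))) a
    have h2 : δ (((ι F i).op.lanUnit.app R).app (op V') a) =
        {x | ∃ k' : V' ⟶ V', (ι F i).map k' = 𝟙 _ ∧ x = R.map k'.op a} := by
      refine Eq.trans ?_ h1
      change _ = δ (((ι F i).op.lan.obj R).map (𝟙 _) (((ι F i).op.lanUnit.app R).app (op V') a))
      rw [CategoryTheory.Functor.map_id]
      rfl
    rw [h2]
    apply Set.ext
    intro x
    constructor
    · rintro ⟨k', hk', rfl⟩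
      have : k' = 𝟙 V' := by
        apply ι_map_injective
        rw [hk', CategoryTheory.Functor.map_id]
      rw [this]
      simp
    · rintro rfl
      exact ⟨𝟙 _, CategoryTheory.Functor.map_id _ _, by simp⟩
  have := congrArg δ hab
  rw [key, key] at this
  exact Set.singleton_injective this

end Lan

end Groth.Agent.Lib.Helper45.FibSiteLib

namespace Groth.Agent.Lib.Helper45.FibSiteLib

section Small

variable {𝒮 : Type u} [SmallCategory 𝒮] {F : Pseudofunctor (LocallyDiscrete 𝒮ᵒᵖ) Cat.{u, u}}
  (i : 𝒮)

/-- the comparison from the left Kan extension of a representable presheaf to the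
representable presheaf of the total category. -/
noncomputable def lanYonedaTo (U : F.obj ⟨op i⟩) :
    (ι F i).op.lan.obj (yoneda.obj U) ⟶ yoneda.obj ((ι F i).obj U) :=
  (((ι F i).op.lanAdjunction (Type u)).homEquiv _ _).symm (yonedaMap (ι F i) U)

lemma lanYonedaTo_unit (U : F.obj ⟨op i⟩) {V : F.obj ⟨op i⟩} (g : V ⟶ U) :
    (lanYonedaTo i U).app (op ((ι F i).obj V))
      (((ι F i).op.lanUnit.app (yoneda.obj U)).app (op V) g) = (ι F i).map g := by
  have h := ((ι F i).op.lanAdjunction (Type u)).homEquiv_unit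
    (X := yoneda.obj U) (Y := yoneda.obj ((ι F i).obj U)) (f := lanYonedaTo i U)
  rw [lanYonedaTo, Equiv.apply_symm_apply, Functor.lanAdjunction_unit] at h
  have h2 := congrArg (fun t => t.app (op V)) h
  exact (ConcreteCategory.congr_hom h2 g).symm

variable {J : FibSite.Topologies F}

lemma lanUnit_naturality_apply {R R' : (F.obj ⟨op i⟩)ᵒᵖ ⥤ Type u} (u : R ⟶ R')
    (V : F.obj ⟨op i⟩) (r : R.obj (op V)) :
    (((ι F i).op.lan (H := Type u)).map u).app (op ((ι F i).obj V))
      (((ι F i).op.lanUnit.app R).app (op V) r) =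
      ((ι F i).op.lanUnit.app R').app (op V) (u.app (op V) r) := by
  have := congrArg (fun t => t.app (op V)) (((ι F i).op.lanUnit (H := Type u)).naturality u)
  exact (ConcreteCategory.congr_hom this r).symm

lemma lanUnit_map_apply (R : (F.obj ⟨op i⟩)ᵒᵖ ⥤ Type u) {V V' : F.obj ⟨op i⟩} (g : V' ⟶ V)
    (r : R.obj (op V)) :
    ((ι F i).op.lan.obj R).map ((ι F i).map g).op (((ι F i).op.lanUnit.app R).app (op V) r) =
      ((ι F i).op.lanUnit.app R).app (op V') (R.map g.op r) := by
  exact (ConcreteCategory.congr_hom (((ι F i).op.lanUnit.app R).naturality g.op) r).symm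

theorem isLocallyInjective_of_lan_map (hF : FibSite.IsPreFibSite F J)
    {R R' : (F.obj ⟨op i⟩)ᵒᵖ ⥤ Type u} (u : R ⟶ R')
    (h : Presheaf.IsLocallyInjective (FibSite.totalTopology F J)
      (((ι F i).op.lan (H := Type u)).map u)) :
    Presheaf.IsLocallyInjective (J i) u := by
  refine ⟨fun {X} r r' hrr' => ?_⟩
  obtain ⟨V⟩ := X
  have h1 : (((ι F i).op.lan (H := Type u)).map u).app (op ((ι F i).obj V))
      (((ι F i).op.lanUnit.app R).app (op V) r) =
      (((ι F i).op.lan (H := Type u)).map u).app (op ((ι F i).obj V))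
      (((ι F i).op.lanUnit.app R).app (op V) r') := by
    rw [lanUnit_naturality_apply, lanUnit_naturality_apply, hrr']
  have h2 := Presheaf.equalizerSieve_mem (D := Type u) (FD := TypeCat.Fun) (CD := fun X => X)
    (FibSite.totalTopology F J) (((ι F i).op.lan (H := Type u)).map u) _ _ h1
  obtain ⟨T, hT, hTS⟩ := (mem_totalTopology_iff hF _ _).1 h2
  refine (J i).superset_covering ?_ hT
  intro V' g hg
  have h3 := hTS ((ι F i).map g) ⟨V', g, 𝟙 _, hg, (Category.id_comp _).symm⟩
  apply lanUnit_injective i R V'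
  rw [← lanUnit_map_apply, ← lanUnit_map_apply]
  exact h3

theorem isLocallySurjective_of_lan_map (hF : FibSite.IsPreFibSite F J)
    {R : (F.obj ⟨op i⟩)ᵒᵖ ⥤ Type u} {U : F.obj ⟨op i⟩} (u : R ⟶ yoneda.obj U)
    (h : Presheaf.IsLocallySurjective (FibSite.totalTopology F J)
      (((ι F i).op.lan (H := Type u)).map u)) :
    Presheaf.IsLocallySurjective (J i) u := by
  refine ⟨fun {V} g => ?_⟩
  have h2 := Presheaf.imageSieve_mem (FibSite.totalTopology F J)
    (((ι F i).op.lan (H := Type u)).map u) (U := op ((ι F i).obj V))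
    (((ι F i).op.lanUnit.app (yoneda.obj U)).app (op V) g)
  obtain ⟨T, hT, hTS⟩ := (mem_totalTopology_iff hF _ _).1 h2
  refine (J i).superset_covering ?_ hT
  intro V' h hh
  obtain ⟨t, ht⟩ := hTS ((ι F i).map h) ⟨V', h, 𝟙 _, hh, (Category.id_comp _).symm⟩
  obtain ⟨U', k, r, rfl⟩ := lan_jointly_surjective i R _ t
  have e1 : (lanYonedaTo i U).app (op ((ι F i).obj V'))
      ((((ι F i).op.lan (H := Type u)).map u).app (op ((ι F i).obj V'))
        (((ι F i).op.lan.obj R).map k.op (((ι F i).op.lanUnit.app R).app (op U') r))) =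
      k ≫ (ι F i).map (u.app (op U') r) := by
    have n1 := ConcreteCategory.congr_hom
      ((((ι F i).op.lan (H := Type u)).map u).naturality k.op)
      (((ι F i).op.lanUnit.app R).app (op U') r)
    have n2 := ConcreteCategory.congr_hom ((lanYonedaTo i U).naturality k.op)
      (((ι F i).op.lanUnit.app (yoneda.obj U)).app (op U') (u.app (op U') r))
    refine (congrArg (fun t => (lanYonedaTo i U).app (op ((ι F i).obj V')) t) n1).trans ?_
    change (lanYonedaTo i U).app (op ((ι F i).obj V'))
      (((ι F i).op.lan.obj (yoneda.obj U)).map k.op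
        ((((ι F i).op.lan (H := Type u)).map u).app (op ((ι F i).obj U'))
          (((ι F i).op.lanUnit.app R).app (op U') r))) = _
    rw [lanUnit_naturality_apply]
    refine n2.trans ?_
    change (yoneda.obj ((ι F i).obj U)).map k.op ((lanYonedaTo i U).app (op ((ι F i).obj U'))
      (((ι F i).op.lanUnit.app (yoneda.obj U)).app (op U') (u.app (op U') r))) = _
    rw [lanYonedaTo_unit]
    rfl
  have e2 : (lanYonedaTo i U).app (op ((ι F i).obj V'))
      (((ι F i).op.lan.obj (yoneda.obj U)).map ((ι F i).map h).op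
        (((ι F i).op.lanUnit.app (yoneda.obj U)).app (op V) g)) =
      (ι F i).map h ≫ (ι F i).map g := by
    have n2 := ConcreteCategory.congr_hom ((lanYonedaTo i U).naturality ((ι F i).map h).op)
      (((ι F i).op.lanUnit.app (yoneda.obj U)).app (op V) g)
    refine n2.trans ?_
    change (yoneda.obj ((ι F i).obj U)).map ((ι F i).map h).op
      ((lanYonedaTo i U).app (op ((ι F i).obj V))
        (((ι F i).op.lanUnit.app (yoneda.obj U)).app (op V) g)) = _
    rw [lanYonedaTo_unit]
    rfl
  have e3 : k ≫ (ι F i).map (u.app (op U') r) = (ι F i).map h ≫ (ι F i).map g :=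
    e1.symm.trans ((congrArg (fun t => (lanYonedaTo i U).app (op ((ι F i).obj V')) t) ht).trans e2)
  have hb : k.base = 𝟙 i := by
    have := congrArg Hom.base e3
    simpa using this
  obtain ⟨k', rfl⟩ := exists_ι_map_eq_of_base_eq_id k hb
  rw [← Functor.map_comp, ← Functor.map_comp] at e3
  have e4 := ι_map_injective i _ _ e3
  refine ⟨R.map k'.op r, ?_⟩
  have n3 := ConcreteCategory.congr_hom (u.naturality k'.op) r
  refine n3.trans ?_
  exact e4

theorem W_iff_W_lan_map (hF : FibSite.IsPreFibSite F J)
    {R : (F.obj ⟨op i⟩)ᵒᵖ ⥤ Type u} {U : F.obj ⟨op i⟩} (u : R ⟶ yoneda.obj U) :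
    (J i).W u ↔
      (FibSite.totalTopology F J).W (((ι F i).op.lan (H := Type u)).map u) := by
  constructor
  · intro h
    have := isContinuous_ι hF i
    exact Functor.W_map_of_adjunction_of_isContinuous (J i) (FibSite.totalTopology F J)
      (ι F i) _ ((ι F i).op.lanAdjunction (Type u)) u h
  · intro h
    rw [GrothendieckTopology.W_iff_isLocallyBijective] at h ⊢
    exact ⟨isLocallyInjective_of_lan_map i hF u h.1, isLocallySurjective_of_lan_map i hF u h.2⟩

end Small

end Groth.Agent.Lib.Helper45.FibSiteLib
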