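import Groth.Agent.Lib.Helper62.SiteCmpB

/-!
# G3 for helper62's S9074 (helper45): descent along the counit `V ×_Y W ⟶ V`

For `f : W ⟶ Y` generating a covering sieve of `Y` and an abelian sheaf `F` on `C/Y`, with
`ε V := (Over.mapPullbackAdj f).counit.app V : (uu f).obj V ⟶ V`:
`generate_counit_mem` (the singleton `ε V` generates a covering sieve), `map_counit_injective`
(`F(ε V)` is injective), `descent` (a section over `V ×_Y W` which descends locally on `V`
descends).  Auxiliary: `graph`, `graph_map`, `graph_ε`, `ε_left`, `ε_naturality`.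
-/

set_option autoImplicit false
set_option linter.style.haveILetI false

universe u

open CategoryTheory Limits Opposite

namespace Groth.Agent.Lib.Helper45.FibreDescent

open Groth.Agent.Lib.Helper62

variable {C : Type u} [SmallCategory C] (J : GrothendieckTopology C) {W Y : C} (f : W ⟶ Y)
  [HasPullbacksAlong f]

/-- the counit `V ×_Y W ⟶ V` -/
noncomputable abbrev ε (V : Over Y) : (SiteCmpB.uu f).obj V ⟶ V :=
  (Over.mapPullbackAdj f).counit.app V

lemma ε_left (V : Over Y) : (ε f V).left = pullback.fst V.hom f := by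
  simp [ε]

/-- the graph of a morphism `c : Z ⟶ V ×_Y W` over `Y` -/
noncomputable def graph {V Z : Over Y} (c : Z ⟶ (SiteCmpB.uu f).obj V) :
    Z ⟶ (SiteCmpB.uu f).obj Z :=
  Over.homMk (pullback.lift (𝟙 Z.left) (c.left ≫ pullback.snd V.hom f) (by
    have := Over.w c
    simp only [Functor.comp_obj, Over.map_obj_hom, Over.pullback_obj_hom] at this
    rw [Category.id_comp, Category.assoc]
    exact this.symm)) (by
    simp only [Functor.comp_obj, Over.map_obj_hom, Over.pullback_obj_hom]
    rw [← Category.assoc, pullback.lift_snd, Category.assoc]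
    have := Over.w c
    simp only [Functor.comp_obj, Over.map_obj_hom, Over.pullback_obj_hom] at this
    exact this)

lemma graph_map {V Z : Over Y} (c : Z ⟶ (SiteCmpB.uu f).obj V) :
    graph f c ≫ (SiteCmpB.uu f).map (c ≫ ε f V) = c := by
  apply Over.OverMorphism.ext
  simp only [graph, Functor.comp_map, Over.comp_left, Over.map_map_left, Over.pullback_map_left,
    Over.homMk_left]
  apply pullback.hom_ext
  · rw [Category.assoc, pullback.lift_fst, ← Category.assoc, pullback.lift_fst, Category.id_comp,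
      ε_left]
  · rw [Category.assoc, pullback.lift_snd, pullback.lift_snd]

lemma graph_ε {V Z : Over Y} (c : Z ⟶ (SiteCmpB.uu f).obj V) :
    graph f c ≫ ε f Z = 𝟙 Z := by
  apply Over.OverMorphism.ext
  rw [Over.comp_left, ε_left, Over.id_left]
  exact pullback.lift_fst _ _ _

lemma ε_naturality {V V' : Over Y} (a : V' ⟶ V) :
    (SiteCmpB.uu f).map a ≫ ε f V = ε f V' ≫ a :=
  (Over.mapPullbackAdj f).counit.naturality a

variable (hcov : Sieve.ofArrows (fun _ : PUnit.{u+1} => W) (fun _ => f) ∈ J Y)
  (F : Sheaf (J.over Y) AddCommGrpCat.{u})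

include hcov in
theorem generate_counit_mem (V : Over Y) :
    Sieve.generate (Presieve.singleton (ε f V)) ∈ (J.over Y) V := by
  rw [GrothendieckTopology.mem_over_iff]
  refine J.superset_covering ?_ (J.pullback_stable V.hom hcov)
  intro Z g hg
  obtain ⟨W', t, _, ⟨⟨⟩⟩, htf⟩ := hg
  -- `g ≫ V.hom = t ≫ f`
  rw [Sieve.overEquiv_iff]
  let l : Over.mk (g ≫ V.hom) ⟶ (SiteCmpB.uu f).obj V :=
    Over.homMk (pullback.lift g t htf.symm) (by
      simp only [Functor.comp_obj, Over.map_obj_hom, Over.pullback_obj_hom, Over.mk_hom]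
      rw [← Category.assoc, pullback.lift_snd, htf])
  refine ⟨_, l, ε f V, Presieve.singleton.mk, ?_⟩
  apply Over.OverMorphism.ext
  rw [Over.comp_left, ε_left]
  change pullback.lift g t htf.symm ≫ pullback.fst V.hom f = g
  rw [pullback.lift_fst]

include hcov in
theorem map_counit_injective (V : Over Y) :
    Function.Injective (F.obj.map (ε f V).op).hom := by
  intro x y hxy
  refine SiteCmpB.sep F.2 _ (generate_counit_mem J f hcov V) x y ?_
  rintro Z g ⟨Z', a, b, ⟨⟩, rfl⟩
  rw [op_comp, Functor.map_comp]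
  change (F.obj.map a.op).hom ((F.obj.map (ε f V).op).hom x) =
    (F.obj.map a.op).hom ((F.obj.map (ε f V).op).hom y)
  rw [hxy]

include hcov in
theorem descent (V : Over Y) (x : F.obj.obj (op ((SiteCmpB.uu f).obj V))) (R : Sieve V)
    (hR : R ∈ (J.over Y) V)
    (hloc : ∀ ⦃V' : Over Y⦄ (a : V' ⟶ V), R.arrows a →
      ∃ y : F.obj.obj (op V'), (F.obj.map (ε f V').op).hom y =
        (F.obj.map ((SiteCmpB.uu f).map a).op).hom x) :
    ∃ y : F.obj.obj (op V), (F.obj.map (ε f V).op).hom y = x := by
  have hF := ((isSheaf_iff_isSheaf_of_type _ _).1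
    ((Presheaf.isSheaf_iff_isSheaf_forget (J.over Y) F.obj (forget AddCommGrpCat.{u})).1 F.2))
      R hR
  let fam : Presieve.FamilyOfElements (F.obj ⋙ forget AddCommGrpCat.{u}) R.arrows :=
    fun V' a ha => (hloc a ha).choose
  have hfam : ∀ {V' : Over Y} (a : V' ⟶ V) (ha : R.arrows a),
      (F.obj.map (ε f V').op).hom (fam a ha) = (F.obj.map ((SiteCmpB.uu f).map a).op).hom x :=
    fun a ha => (hloc a ha).choose_spec
  have hcompat : fam.Compatible := by
    rw [Presieve.compatible_iff_sieveCompatible]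
    intro V' V'' a g ha
    apply map_counit_injective J f hcov F V''
    rw [hfam (g ≫ a) (R.downward_closed ha g)]
    change _ = (F.obj.map (ε f V'').op).hom ((F.obj.map g.op).hom (fam a ha))
    have h1 : (F.obj.map (ε f V'').op).hom ((F.obj.map g.op).hom (fam a ha)) =
        (F.obj.map ((SiteCmpB.uu f).map g).op).hom ((F.obj.map (ε f V').op).hom (fam a ha)) := by
      have := congrArg (fun k => (F.obj.map k.op).hom (fam a ha)) (ε_naturality f g)
      simp only [op_comp, Functor.map_comp] at this
      exact this.symm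
    rw [h1, hfam a ha, Functor.map_comp, op_comp, Functor.map_comp]
    rfl
  let y : F.obj.obj (op V) := hF.amalgamate fam hcompat
  have hy : ∀ {V' : Over Y} (a : V' ⟶ V) (ha : R.arrows a),
      (F.obj.map a.op).hom y = fam a ha := fun a ha => hF.valid_glue hcompat a ha
  refine ⟨y, ?_⟩
  -- compare on the pullback of `R` along `ε V`
  refine SiteCmpB.sep F.2 _ ((J.over Y).pullback_stable (ε f V) hR) _ _ ?_
  intro Z c hc
  -- `hc : R (c ≫ ε V)`
  have hc' : R.arrows (c ≫ ε f V) := hc
  have e1 : c = graph f c ≫ (SiteCmpB.uu f).map (c ≫ ε f V) := (graph_map f c).symm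
  have lhs : (F.obj.map c.op).hom ((F.obj.map (ε f V).op).hom y) = fam (c ≫ ε f V) hc' := by
    rw [← hy (c ≫ ε f V) hc', op_comp, Functor.map_comp]
    rfl
  have rhs : (F.obj.map c.op).hom x = fam (c ≫ ε f V) hc' := by
    conv_lhs => rw [e1]
    rw [op_comp, Functor.map_comp]
    change (F.obj.map (graph f c).op).hom
      ((F.obj.map ((SiteCmpB.uu f).map (c ≫ ε f V)).op).hom x) = _
    rw [← hfam (c ≫ ε f V) hc']
    change ((F.obj.map (ε f Z).op) ≫ (F.obj.map (graph f c).op)).hom _ = _
    rw [← Functor.map_comp, ← op_comp, graph_ε, op_id, F.obj.map_id]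
    rfl
  rw [lhs, rhs]

end Groth.Agent.Lib.Helper45.FibreDescent
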