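import Mathlib.CategoryTheory.Limits.Final
import Mathlib.CategoryTheory.Limits.IsConnected
import Mathlib.CategoryTheory.FinCategory.Basic
import Mathlib.CategoryTheory.MorphismProperty.Composition
import Mathlib.Data.Finite.Sum

set_option autoImplicit false
set_option backward.isDefEq.respectTransparency false
open CategoryTheory
universe v u

namespace Groth.Agent.Lib.Helper45.FinGen

variable {V Eg : Type} (sE tE : Eg → V)

/-- the incidence category of a finite graph: objects are the edges and the vertices. -/
def JCat (_ _ : Eg → V) : Type := Eg ⊕ V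

/-- morphisms of the incidence category. -/
inductive JHom : JCat sE tE → JCat sE tE → Type
  | id (X : JCat sE tE) : JHom X X
  | src (k : Eg) (y : V) (h : y = sE k) : JHom (Sum.inl k) (Sum.inr y)
  | tgt (k : Eg) (y : V) (h : y = tE k) : JHom (Sum.inl k) (Sum.inr y)

variable {sE tE}

/-- composition. -/
def JHom.comp : ∀ {X Y Z : JCat sE tE}, JHom sE tE X Y → JHom sE tE Y Z → JHom sE tE X Z
  | _, _, _, .id _, g => g
  | _, _, _, .src k y h, .id _ => .src k y h
  | _, _, _, .tgt k y h, .id _ => .tgt k y h

instance : Category (JCat sE tE) where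
  Hom X Y := JHom sE tE X Y
  id X := JHom.id X
  comp f g := JHom.comp f g
  id_comp f := rfl
  comp_id f := by cases f <;> rfl
  assoc f g h := by cases f <;> cases g <;> cases h <;> rfl

/-- a numerical code of a morphism. -/
def JHom.code : ∀ {X Y : JCat sE tE}, JHom sE tE X Y → Fin 3
  | _, _, .id _ => 0
  | _, _, .src _ _ _ => 1
  | _, _, .tgt _ _ _ => 2

lemma JHom.code_injective {X Y : JCat sE tE} : Function.Injective (JHom.code (X := X) (Y := Y)) := by
  intro f g hfg
  cases f with
  | id =>
    cases g with
    | id => rfl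
  | src k y h =>
    cases g with
    | src => rfl
    | tgt => simp [JHom.code] at hfg
  | tgt k y h =>
    cases g with
    | src => simp [JHom.code] at hfg
    | tgt => rfl

instance {X Y : JCat sE tE} : Finite (X ⟶ Y) := Finite.of_injective _ JHom.code_injective

instance [Finite V] [Finite Eg] : Finite (JCat sE tE) := inferInstanceAs (Finite (Eg ⊕ V))

noncomputable instance [Finite V] [Finite Eg] : FinCategory (JCat sE tE) where
  fintypeObj := Fintype.ofFinite _
  fintypeHom _ _ := Fintype.ofFinite _


variable {I : Type u} [Category.{v} I] (o : V ≃ I) (arr : ∀ k, o (sE k) ⟶ o (tE k))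

/-- an edge object. -/
abbrev edge (k : Eg) : JCat sE tE := Sum.inl k

/-- a vertex object. -/
abbrev vert (y : V) : JCat sE tE := Sum.inr y

/-- the object map of the functor to `I`. -/
def FObj : JCat sE tE → I
  | Sum.inl k => o (sE k)
  | Sum.inr y => o y

/-- the morphism map of the functor to `I`. -/
def FMap : ∀ {X Y : JCat sE tE}, JHom sE tE X Y → (FObj o X ⟶ FObj o Y)
  | _, _, .id _ => 𝟙 _
  | _, _, .src k y h => eqToHom (by rw [h]; rfl)
  | _, _, .tgt k y h => arr k ≫ eqToHom (by rw [h]; rfl)

/-- the functor from the incidence category. -/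
def F : JCat sE tE ⥤ I where
  obj := FObj o
  map f := FMap o arr f
  map_id _ := rfl
  map_comp f g := by
    cases f with
    | id => exact (Category.id_comp _).symm
    | src k y h =>
      cases g with
      | id => exact (Category.comp_id _).symm
    | tgt k y h =>
      cases g with
      | id => exact (Category.comp_id _).symm

/-- the source arrow. -/
abbrev srcHom (k : Eg) : (edge k : JCat sE tE) ⟶ vert (sE k) := JHom.src k (sE k) rfl

/-- the target arrow. -/
abbrev tgtHom (k : Eg) : (edge k : JCat sE tE) ⟶ vert (tE k) := JHom.tgt k (tE k) rfl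

lemma F_map_srcHom (k : Eg) : (F o arr).map (srcHom k) = 𝟙 (o (sE k)) := rfl

lemma F_map_tgtHom (k : Eg) : (F o arr).map (tgtHom k) = arr k := Category.comp_id _

section
variable (hgen : ∀ P : MorphismProperty I, P.IsMultiplicative → (∀ k, P (arr k)) → P = ⊤)

include hgen in
lemma isConnected_structuredArrow (i : I) : IsConnected (StructuredArrow i (F o arr)) := by
  have hi : o (o.symm i) = i := o.apply_symm_apply i
  refine IsConnected.of_induct
    (j₀ := StructuredArrow.mk (Y := (vert (o.symm i) : JCat sE tE)) (eqToHom hi.symm)) ?_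
  intro p hp0 hp
  let P : MorphismProperty I := fun x x' g =>
    ∀ (y y' : V) (hy : o y = x) (hy' : o y' = x') (f : i ⟶ o y),
      (StructuredArrow.mk (Y := (vert y : JCat sE tE)) f : StructuredArrow i (F o arr)) ∈ p →
      (StructuredArrow.mk (Y := (vert y' : JCat sE tE))
        (f ≫ eqToHom hy ≫ g ≫ eqToHom hy'.symm) : StructuredArrow i (F o arr)) ∈ p
  have hP : P.IsMultiplicative :=
    { id_mem := by
        intro x y y' hy hy' f hf
        obtain rfl : y = y' := o.injective (hy.trans hy'.symm)
        subst hy
        simpa using hf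
      comp_mem := by
        intro x x' x'' g g' hg hg' y y'' hy hy'' f hf
        have h1 := hg y (o.symm x') hy (o.apply_symm_apply x') f hf
        have h2 := hg' (o.symm x') y'' (o.apply_symm_apply x') hy'' _ h1
        simpa using h2 }
  have hPa : ∀ k, P (arr k) := by
    intro k y y' hy hy' f hf
    obtain rfl : y = sE k := o.injective hy
    obtain rfl : y' = tE k := o.injective hy'
    simp only [eqToHom_refl, Category.id_comp, Category.comp_id]
    let e : StructuredArrow i (F o arr) :=
      StructuredArrow.mk (Y := (edge k : JCat sE tE)) f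
    have m1 : e ⟶ StructuredArrow.mk (Y := (vert (sE k) : JCat sE tE)) f :=
      StructuredArrow.homMk (srcHom k) (by
        change f ≫ (F o arr).map (srcHom k) = f
        rw [F_map_srcHom]; exact Category.comp_id _)
    have m2 : e ⟶ StructuredArrow.mk (Y := (vert (tE k) : JCat sE tE)) (f ≫ arr k) :=
      StructuredArrow.homMk (tgtHom k) (by
        change f ≫ (F o arr).map (tgtHom k) = f ≫ arr k
        rw [F_map_tgtHom])
    exact (hp m2).1 ((hp m1).2 hf)
  have hPtop := hgen P hP hPa
  intro j
  -- reduce to vertex objects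
  have hvert : ∀ (y : V) (f : i ⟶ o y),
      (StructuredArrow.mk (Y := (vert y : JCat sE tE)) f : StructuredArrow i (F o arr)) ∈ p := by
    intro y f
    have hf : P f := by rw [hPtop]; trivial
    have := hf (o.symm i) y hi rfl (eqToHom hi.symm) hp0
    simpa using this
  obtain ⟨⟨⟩, Y, f⟩ := j
  rcases Y with k | y
  · let e : StructuredArrow i (F o arr) :=
      StructuredArrow.mk (Y := (edge k : JCat sE tE)) f
    have m1 : e ⟶ StructuredArrow.mk (Y := (vert (sE k) : JCat sE tE)) f :=
      StructuredArrow.homMk (srcHom k) (by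
        change f ≫ (F o arr).map (srcHom k) = f
        rw [F_map_srcHom]; exact Category.comp_id _)
    exact (hp m1).2 (hvert _ f)
  · exact hvert y f


include hgen in
lemma isConnected_costructuredArrow (i : I) : IsConnected (CostructuredArrow (F o arr) i) := by
  have hi : o (o.symm i) = i := o.apply_symm_apply i
  refine IsConnected.of_induct
    (j₀ := CostructuredArrow.mk (Y := (vert (o.symm i) : JCat sE tE)) (eqToHom hi)) ?_
  intro p hp0 hp
  let P : MorphismProperty I := fun x x' g =>
    ∀ (y y' : V) (hy : o y = x) (hy' : o y' = x') (f : o y' ⟶ i),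
      (CostructuredArrow.mk (Y := (vert y' : JCat sE tE)) f : CostructuredArrow (F o arr) i) ∈ p →
      (CostructuredArrow.mk (Y := (vert y : JCat sE tE))
        (eqToHom hy ≫ g ≫ eqToHom hy'.symm ≫ f) : CostructuredArrow (F o arr) i) ∈ p
  have hP : P.IsMultiplicative :=
    { id_mem := by
        intro x y y' hy hy' f hf
        obtain rfl : y = y' := o.injective (hy.trans hy'.symm)
        subst hy
        simpa using hf
      comp_mem := by
        intro x x' x'' g g' hg hg' y y'' hy hy'' f hf
        have h1 := hg' (o.symm x') y'' (o.apply_symm_apply x') hy'' f hf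
        have h2 := hg y (o.symm x') hy (o.apply_symm_apply x') _ h1
        simpa using h2 }
  have hPa : ∀ k, P (arr k) := by
    intro k y y' hy hy' f hf
    obtain rfl : y = sE k := o.injective hy
    obtain rfl : y' = tE k := o.injective hy'
    simp only [eqToHom_refl, Category.id_comp]
    let e : CostructuredArrow (F o arr) i :=
      CostructuredArrow.mk (Y := (edge k : JCat sE tE)) (arr k ≫ f)
    have m1 : e ⟶ CostructuredArrow.mk (Y := (vert (sE k) : JCat sE tE)) (arr k ≫ f) :=
      CostructuredArrow.homMk (srcHom k) (by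
        change (F o arr).map (srcHom k) ≫ arr k ≫ f = arr k ≫ f
        rw [F_map_srcHom]; exact Category.id_comp _)
    have m2 : e ⟶ CostructuredArrow.mk (Y := (vert (tE k) : JCat sE tE)) f :=
      CostructuredArrow.homMk (tgtHom k) (by
        change (F o arr).map (tgtHom k) ≫ f = arr k ≫ f
        rw [F_map_tgtHom])
    exact (hp m1).1 ((hp m2).2 hf)
  have hPtop := hgen P hP hPa
  intro j
  have hvert : ∀ (y : V) (f : o y ⟶ i),
      (CostructuredArrow.mk (Y := (vert y : JCat sE tE)) f : CostructuredArrow (F o arr) i) ∈ p := by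
    intro y f
    have hf : P f := by rw [hPtop]; trivial
    have := hf y (o.symm i) rfl hi (eqToHom hi) hp0
    simpa using this
  obtain ⟨Y, ⟨⟩, f⟩ := j
  rcases Y with k | y
  · let e : CostructuredArrow (F o arr) i :=
      CostructuredArrow.mk (Y := (edge k : JCat sE tE)) f
    have m1 : e ⟶ CostructuredArrow.mk (Y := (vert (sE k) : JCat sE tE)) f :=
      CostructuredArrow.homMk (srcHom k) (by
        change (F o arr).map (srcHom k) ≫ f = f
        rw [F_map_srcHom]; exact Category.id_comp _)
    exact (hp m1).2 (hvert _ f)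
  · exact hvert y f

include hgen in
theorem exists_finCategory_of_equiv [Finite V] [Finite Eg] :
    ∃ (J : Type) (_ : SmallCategory J) (_ : FinCategory J) (G : J ⥤ I),
      G.Final ∧ G.Initial ∧ (IsConnected J ↔ IsConnected I) ∧ (Nonempty J ↔ Nonempty I) := by
  have hfinal : (F o arr).Final := ⟨fun i => isConnected_structuredArrow o arr hgen i⟩
  have hinitial : (F o arr).Initial := ⟨fun i => isConnected_costructuredArrow o arr hgen i⟩
  refine ⟨JCat sE tE, inferInstance, inferInstance, F o arr, hfinal, hinitial,
    Functor.isConnected_iff_of_final (F o arr), ?_⟩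
  constructor
  · rintro ⟨j⟩
    exact ⟨(F o arr).obj j⟩
  · rintro ⟨x⟩
    exact ⟨(vert (o.symm x) : JCat sE tE)⟩

end

lemma eqToHom_mem (P : MorphismProperty I) [P.IsMultiplicative] {x y : I} (h : x = y) :
    P (eqToHom h) := by
  subst h
  exact P.id_mem x

theorem exists_finCategory [Finite I]
    (gen : Finset (Σ x y : I, x ⟶ y))
    (hgen : ∀ P : MorphismProperty I, P.IsMultiplicative → (∀ a ∈ gen, P a.2.2) → P = ⊤) :
    ∃ (J : Type) (_ : SmallCategory J) (_ : FinCategory J) (G : J ⥤ I),
      G.Final ∧ G.Initial ∧ (IsConnected J ↔ IsConnected I) ∧ (Nonempty J ↔ Nonempty I) := by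
  classical
  obtain ⟨n, ⟨eI⟩⟩ := Finite.exists_equiv_fin I
  let o : Fin n ≃ I := eI.symm
  let eG : Fin gen.card ≃ {a // a ∈ gen} := gen.equivFin.symm
  let sE : Fin gen.card → Fin n := fun k => eI (eG k).1.1
  let tE : Fin gen.card → Fin n := fun k => eI (eG k).1.2.1
  have hs : ∀ k, o (sE k) = (eG k).1.1 := fun k => eI.symm_apply_apply _
  have ht : ∀ k, o (tE k) = (eG k).1.2.1 := fun k => eI.symm_apply_apply _
  let arr : ∀ k, o (sE k) ⟶ o (tE k) := fun k =>
    eqToHom (hs k) ≫ (eG k).1.2.2 ≫ eqToHom (ht k).symm
  refine exists_finCategory_of_equiv (sE := sE) (tE := tE) o arr ?_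
  intro P hP hPa
  refine hgen P hP ?_
  have key : ∀ b : {a // a ∈ gen}, P b.1.2.2 := by
    intro b
    obtain ⟨k, rfl⟩ := eG.surjective b
    have h1 := hPa k
    have h2 : (eG k).1.2.2 = eqToHom (hs k).symm ≫ arr k ≫ eqToHom (ht k) := by
      simp [arr]
    rw [h2]
    exact P.comp_mem _ _ (eqToHom_mem P _) (P.comp_mem _ _ h1 (eqToHom_mem P _))
  intro a ha
  exact key ⟨a, ha⟩

end Groth.Agent.Lib.Helper45.FinGen
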