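import Mathlib

/-!
# D1 for S1057: a module vanishing after tensoring with every member of a jointly surjective flat
family of algebras is zero.
-/

set_option autoImplicit false
set_option linter.style.haveILetI false

universe u

open TensorProduct

namespace Groth.Agent.Lib.Helper45.FlatFamD1

theorem subsingleton_of_forall_subsingleton_tensor {A : Type u} [CommRing A] {T : Type u}
    (B : T → Type u) [∀ t, CommRing (B t)] [∀ t, Algebra A (B t)] [∀ t, Module.Flat A (B t)]
    (hsurj : ∀ p : PrimeSpectrum A, ∃ (t : T) (q : PrimeSpectrum (B t)),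
      PrimeSpectrum.comap (algebraMap A (B t)) q = p)
    (M : Type u) [AddCommGroup M] [Module A M] (h : ∀ t, Subsingleton (B t ⊗[A] M)) :
    Subsingleton M := by
  by_contra hM
  rw [not_subsingleton_iff_nontrivial] at hM
  obtain ⟨x, hx⟩ := exists_ne (0 : M)
  -- annihilator of x
  set I : Ideal A := LinearMap.ker (LinearMap.toSpanSingleton A M x) with hI
  have hIne : I ≠ ⊤ := by
    intro htop
    have : (1 : A) ∈ I := htop ▸ Submodule.mem_top
    rw [hI, LinearMap.mem_ker, LinearMap.toSpanSingleton_apply, one_smul] at this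
    exact hx this
  obtain ⟨m, hm, hIm⟩ := Ideal.exists_le_maximal I hIne
  obtain ⟨t, q, hq⟩ := hsurj ⟨m, hm.isPrime⟩
  -- the injective map A/I → M
  let f : (A ⧸ I) →ₗ[A] M := Submodule.liftQ I (LinearMap.toSpanSingleton A M x) le_rfl
  have hf : Function.Injective f := by
    rw [← LinearMap.ker_eq_bot]
    exact Submodule.ker_liftQ_eq_bot _ _ _ le_rfl
  have hf' : Function.Injective (f.lTensor (B t)) :=
    Module.Flat.lTensor_preserves_injective_linearMap f hf
  haveI := h t
  have h1 : (1 : B t) ⊗ₜ[A] (Ideal.Quotient.mk I 1) = (0 : B t ⊗[A] (A ⧸ I)) :=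
    hf' (Subsingleton.elim _ _)
  -- map B t ⊗ A/I → B t / q
  let g : (A ⧸ I) →ₗ[A] (B t ⧸ q.asIdeal) :=
    Submodule.liftQ I ((Algebra.linearMap A (B t ⧸ q.asIdeal))) (by
      intro a ha
      rw [LinearMap.mem_ker, Algebra.linearMap_apply,
        IsScalarTower.algebraMap_apply A (B t) (B t ⧸ q.asIdeal),
        Ideal.Quotient.algebraMap_eq, Ideal.Quotient.eq_zero_iff_mem]
      have : a ∈ (PrimeSpectrum.comap (algebraMap A (B t)) q).asIdeal := by
        rw [hq]; exact hIm ha
      exact this)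
  let π : B t →ₗ[A] (B t ⧸ q.asIdeal) := (Ideal.Quotient.mkₐ A q.asIdeal).toLinearMap
  let G : B t ⊗[A] (A ⧸ I) →ₗ[A] (B t ⧸ q.asIdeal) :=
    (LinearMap.mul' A (B t ⧸ q.asIdeal)) ∘ₗ (TensorProduct.map π g)
  have h2 : G ((1 : B t) ⊗ₜ[A] (Ideal.Quotient.mk I 1)) = 1 := by
    simp only [G, π, g, LinearMap.comp_apply, TensorProduct.map_tmul, LinearMap.mul'_apply,
      AlgHom.toLinearMap_apply, map_one, one_mul]
    change (Submodule.liftQ I (Algebra.linearMap A (B t ⧸ q.asIdeal)) _) (Submodule.Quotient.mk 1) = 1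
    rw [Submodule.liftQ_apply, Algebra.linearMap_apply, map_one]
  rw [h1, map_zero] at h2
  haveI : Nontrivial (B t ⧸ q.asIdeal) := Ideal.Quotient.nontrivial_iff.2 q.isPrime.ne_top
  exact zero_ne_one h2

end Groth.Agent.Lib.Helper45.FlatFamD1
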