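import Groth.Prelude.Def_SGA4a
import Mathlib.CategoryTheory.Functor.Currying
import Mathlib.CategoryTheory.Sites.Sheaf
import Mathlib.CategoryTheory.Sites.SheafOfTypes

set_option autoImplicit false
set_option backward.isDefEq.respectTransparency false
universe v u

open CategoryTheory CategoryTheory.Limits Opposite CategoryTheory.Prod

namespace Groth.Agent.Lib.Helper45.FunctorTopos

variable {C : Type u} [SmallCategory C] (J : GrothendieckTopology C) (A : Type u) [SmallCategory A]

variable {A} in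
/-- a morphism of the product category from its two components. -/
def homMk {X Y : A × C} (f : X.1 ⟶ Y.1) (g : X.2 ⟶ Y.2) : X ⟶ Y := (f, g)

variable {A} in
@[simp] lemma homMk_fst {X Y : A × C} (f : X.1 ⟶ Y.1) (g : X.2 ⟶ Y.2) : (homMk f g).1 = f := rfl

variable {A} in
@[simp] lemma homMk_snd {X Y : A × C} (f : X.1 ⟶ Y.1) (g : X.2 ⟶ Y.2) : (homMk f g).2 = g := rfl

variable {A} in
lemma homMk_comp {X Y Z : A × C} (f : X.1 ⟶ Y.1) (g : X.2 ⟶ Y.2) (f' : Y.1 ⟶ Z.1)
    (g' : Y.2 ⟶ Z.2) : homMk f g ≫ homMk f' g' = homMk (f ≫ f') (g ≫ g') := rfl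

variable {A} in
/-- the vertical morphism over an object of `A`. -/
abbrev vert (a : A) {c' c : C} (f : c' ⟶ c) : ((a, c') : A × C) ⟶ (a, c) :=
  homMk (X := (a, c')) (Y := (a, c)) (𝟙 a) f

variable {A} in
/-- the slice of a sieve on `A × C` along the identity of the first component. -/
def sliceSieve {X : A × C} (T : Sieve X) : Sieve X.2 where
  arrows c' f := T.arrows (homMk (X := (X.1, c')) (Y := X) (𝟙 X.1) f)
  downward_closed := by
    intro Y Z f hf g
    have h : homMk (X := (X.1, Z)) (Y := X) (𝟙 X.1) (g ≫ f) =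
        homMk (X := (X.1, Z)) (Y := (X.1, Y)) (𝟙 X.1) g ≫
          homMk (X := (X.1, Y)) (Y := X) (𝟙 X.1) f := by
      ext <;> simp
    change T.arrows _
    rw [h]
    exact T.downward_closed hf _

/-- the topology on `A × C` whose covering sieves are those with a covering slice. -/
def prodTopology : GrothendieckTopology (A × C) where
  sieves X := {T | sliceSieve T ∈ J X.2}
  top_mem' X := by
    change sliceSieve ⊤ ∈ J X.2
    have : sliceSieve (⊤ : Sieve X) = ⊤ := by
      ext c' f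
      simp [sliceSieve]
    rw [this]; exact J.top_mem _
  pullback_stable' X Y S f hS := by
    change sliceSieve (S.pullback f) ∈ J Y.2
    refine J.superset_covering ?_ (J.pullback_stable f.2 hS)
    intro c' g hg
    change S.arrows _
    have hg' : S.arrows (homMk (X := (X.1, c')) (Y := X) (𝟙 X.1) (g ≫ f.2)) := hg
    have h : (homMk (X := (Y.1, c')) (Y := Y) (𝟙 Y.1) g ≫ f) =
        homMk (X := (Y.1, c')) (Y := (X.1, c')) f.1 (𝟙 c') ≫
          homMk (X := (X.1, c')) (Y := X) (𝟙 X.1) (g ≫ f.2) := by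
      ext <;> simp
    rw [h]
    exact S.downward_closed hg' _
  transitive' X S hS R hR := by
    change sliceSieve R ∈ J X.2
    refine J.transitive hS _ ?_
    intro c' f hf
    have h1 : sliceSieve (R.pullback (homMk (X := (X.1, c')) (Y := X) (𝟙 X.1) f)) ∈ J c' :=
      hR hf
    refine J.superset_covering ?_ h1
    intro c'' g hg
    change R.arrows _
    have hg' : R.arrows (homMk (X := (X.1, c'')) (Y := (X.1, c')) (𝟙 X.1) g ≫
      homMk (X := (X.1, c')) (Y := X) (𝟙 X.1) f) := hg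
    have h : homMk (X := (X.1, c'')) (Y := X) (𝟙 X.1) (g ≫ f) =
        homMk (X := (X.1, c'')) (Y := (X.1, c')) (𝟙 X.1) g ≫
          homMk (X := (X.1, c')) (Y := X) (𝟙 X.1) f := by
      ext <;> simp
    rw [h]
    exact hg'

lemma mem_prodTopology_iff {X : A × C} (T : Sieve X) :
    T ∈ prodTopology J A X ↔ sliceSieve T ∈ J X.2 := Iff.rfl

variable {A} in
/-- the sieve on `(a, c)` spanned by a sieve on `c`. -/
def spanSieve (a : A) {c : C} (S : Sieve c) : Sieve ((a, c) : A × C) where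
  arrows Y f := S.arrows f.2
  downward_closed := by
    intro Y Z f hf g
    exact S.downward_closed hf g.2

variable {A} in
lemma sliceSieve_spanSieve (a : A) {c : C} (S : Sieve c) : sliceSieve (spanSieve a S) = S := by
  ext c' f
  rfl

variable {J A} in
lemma isSheaf_slice_of_isSheaf (P : (A × C)ᵒᵖ ⥤ Type u)
    (hP : Presieve.IsSheaf (prodTopology J A) P) (a : A) :
    Presieve.IsSheaf J ((Prod.sectR a C).op ⋙ P) := by
  intro c S hS
  have hS' : spanSieve a S ∈ prodTopology J A (a, c) := by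
    rw [mem_prodTopology_iff, sliceSieve_spanSieve]; exact hS
  have h := hP _ hS'
  refine (Presieve.isSeparatedFor_and_exists_isAmalgamation_iff_isSheafFor).1 ⟨?_, ?_⟩
  · -- separated
    intro x t₁ t₂ h₁ h₂
    refine h.isSeparatedFor.ext ?_
    intro Y f hf
    have e : f = homMk (X := Y) (Y := (a, Y.2)) f.1 (𝟙 Y.2) ≫ vert a f.2 := by
      ext <;> simp
    have h₁' : P.map (vert a f.2).op t₁ = x f.2 hf := h₁ f.2 hf
    have h₂' : P.map (vert a f.2).op t₂ = x f.2 hf := h₂ f.2 hf
    rw [e, op_comp, Functor.map_comp, comp_apply, comp_apply, h₁', h₂']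
  · intro x hx
    rw [Presieve.compatible_iff_sieveCompatible] at hx
    let y : Presieve.FamilyOfElements P (spanSieve a S).arrows := fun Y f hf =>
      P.map (homMk (X := Y) (Y := (a, Y.2)) f.1 (𝟙 Y.2)).op (x f.2 hf)
    have hy : y.Compatible := by
      rw [Presieve.compatible_iff_sieveCompatible]
      intro Y Z f g hf
      have hx' : x (g.2 ≫ f.2) (S.downward_closed hf g.2) = P.map (vert a g.2).op (x f.2 hf) :=
        hx f.2 g.2 hf
      change P.map (homMk (X := Z) (Y := (a, Z.2)) (g.1 ≫ f.1) (𝟙 Z.2)).op (x (g.2 ≫ f.2) _) =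
        P.map g.op (P.map (homMk (X := Y) (Y := (a, Y.2)) f.1 (𝟙 Y.2)).op (x f.2 hf))
      rw [hx', ← comp_apply, ← Functor.map_comp, ← op_comp, ← comp_apply, ← Functor.map_comp,
        ← op_comp]
      have e : homMk (X := Z) (Y := (a, Z.2)) (g.1 ≫ f.1) (𝟙 Z.2) ≫ vert a g.2 =
          g ≫ homMk (X := Y) (Y := (a, Y.2)) f.1 (𝟙 Y.2) := by
        ext <;> simp
      rw [e]
    obtain ⟨t, ht⟩ := (h y hy).exists
    refine ⟨t, ?_⟩
    intro c' f hf
    have h3 : P.map (vert a f).op t = y (vert a f) hf := ht (vert a f) hf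
    change P.map (vert a f).op t = _
    rw [h3]
    change P.map (𝟙 ((a, c') : A × C)).op (x f hf) = x f hf
    rw [op_id, CategoryTheory.Functor.map_id]
    rfl


lemma familyOfElements_congr {C : Type*} [Category* C] {P : Cᵒᵖ ⥤ Type u} {X : C} {R : Presieve X}
    (x : Presieve.FamilyOfElements P R) {Y : C} {f g : Y ⟶ X} (e : f = g) (hf : R f) :
    x f hf = x g (e ▸ hf) := by
  subst e; rfl

variable {J A} in
lemma isSheaf_of_isSheaf_slice (P : (A × C)ᵒᵖ ⥤ Type u)
    (hP : ∀ a, Presieve.IsSheaf J ((Prod.sectR a C).op ⋙ P)) :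
    Presieve.IsSheaf (prodTopology J A) P := by
  intro X T hT
  have hT' : sliceSieve T ∈ J X.2 := hT
  have hsl : Presieve.IsSheafFor ((Prod.sectR X.1 C).op ⋙ P) (sliceSieve T).arrows :=
    hP X.1 _ hT'
  refine (Presieve.isSeparatedFor_and_exists_isAmalgamation_iff_isSheafFor).1 ⟨?_, ?_⟩
  · intro x t₁ t₂ h₁ h₂
    refine hsl.isSeparatedFor.ext (t₁ := t₁) (t₂ := t₂) ?_
    intro c' f hf
    exact (h₁ _ hf).trans (h₂ _ hf).symm
  · intro x hx
    rw [Presieve.compatible_iff_sieveCompatible] at hx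
    let x₀ : Presieve.FamilyOfElements ((Prod.sectR X.1 C).op ⋙ P) (sliceSieve T).arrows :=
      fun c' f hf => x (homMk (X := (X.1, c')) (Y := X) (𝟙 X.1) f) hf
    have hx₀ : x₀.Compatible := by
      rw [Presieve.compatible_iff_sieveCompatible]
      intro c' c'' f g hf
      have h1 := hx (homMk (X := (X.1, c')) (Y := X) (𝟙 X.1) f) (vert X.1 g) hf
      have e : vert X.1 g ≫ homMk (X := (X.1, c')) (Y := X) (𝟙 X.1) f =
          homMk (X := (X.1, c'')) (Y := X) (𝟙 X.1) (g ≫ f) := by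
        ext <;> simp
      rw [familyOfElements_congr x e] at h1
      exact h1
    obtain ⟨t, ht⟩ := (hsl x₀ hx₀).exists
    refine ⟨t, ?_⟩
    intro Y f hf
    have hcov : (sliceSieve T).pullback f.2 ∈ J Y.2 := J.pullback_stable f.2 hT'
    refine ((hP Y.1 _ hcov).isSeparatedFor).ext (t₁ := P.map f.op t) (t₂ := x f hf) ?_
    intro c' g hg
    have hg' : T.arrows (homMk (X := (X.1, c')) (Y := X) (𝟙 X.1) (g ≫ f.2)) := hg
    change P.map (vert Y.1 g).op (P.map f.op t) = P.map (vert Y.1 g).op (x f hf)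
    have e : homMk (X := (Y.1, c')) (Y := Y) (𝟙 Y.1) g ≫ f =
        homMk (X := (Y.1, c')) (Y := (X.1, c')) f.1 (𝟙 c') ≫
          homMk (X := (X.1, c')) (Y := X) (𝟙 X.1) (g ≫ f.2) := by
      ext <;> simp
    have h1 := hx f (homMk (X := (Y.1, c')) (Y := Y) (𝟙 Y.1) g) hf
    have h2 := hx (homMk (X := (X.1, c')) (Y := X) (𝟙 X.1) (g ≫ f.2))
      (homMk (X := (Y.1, c')) (Y := (X.1, c')) f.1 (𝟙 c')) hg'
    have h3 : P.map (homMk (X := (X.1, c')) (Y := X) (𝟙 X.1) (g ≫ f.2)).op t =
      x (homMk (X := (X.1, c')) (Y := X) (𝟙 X.1) (g ≫ f.2)) hg' := ht (g ≫ f.2) hg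
    rw [familyOfElements_congr x e] at h1
    change _ = P.map (homMk (X := (Y.1, c')) (Y := Y) (𝟙 Y.1) g).op (x f hf)
    rw [← h1, h2, ← h3, ← comp_apply, ← Functor.map_comp, ← op_comp, ← comp_apply,
      ← Functor.map_comp, ← op_comp, ← e]

variable {J A} in
lemma isSheaf_iff_isSheaf_slice (P : (A × C)ᵒᵖ ⥤ Type u) :
    Presieve.IsSheaf (prodTopology J A) P ↔
      ∀ a, Presieve.IsSheaf J ((Prod.sectR a C).op ⋙ P) :=
  ⟨isSheaf_slice_of_isSheaf P, isSheaf_of_isSheaf_slice P⟩


/-- diagrams of presheaves are presheaves on the product. -/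
def totalEquiv : (Aᵒᵖ ⥤ Cᵒᵖ ⥤ Type u) ≌ ((A × C)ᵒᵖ ⥤ Type u) :=
  Functor.currying.trans (prodOpEquiv A (D := C)).congrLeft.symm

/-- the slice of the total presheaf is the original presheaf. -/
def sliceTotalIso (G : Aᵒᵖ ⥤ Cᵒᵖ ⥤ Type u) (a : A) :
    (Prod.sectR a C).op ⋙ (totalEquiv (C := C) A).functor.obj G ≅ G.obj (op a) :=
  NatIso.ofComponents (fun c => Iso.refl _) (by
    intro c c' f
    dsimp
    change ((Functor.uncurry.obj G).map ((prodOpEquiv A).functor.map (𝟙 a ×ₘ f.unop).op)) ≫ 𝟙 _ =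
      𝟙 _ ≫ _
    rw [Category.comp_id, Category.id_comp]
    change (G.map (𝟙 a).op).app _ ≫ (G.obj (op a)).map f = _
    rw [op_id, CategoryTheory.Functor.map_id]
    exact Category.id_comp _)

/-- the total sheaf of a diagram of sheaves. -/
def sheafTotal : (Aᵒᵖ ⥤ Sheaf J (Type u)) ⥤ Sheaf (prodTopology J A) (Type u) :=
  ObjectProperty.lift _ ((Functor.whiskeringRight _ _ _).obj (sheafToPresheaf J (Type u)) ⋙
    (totalEquiv (C := C) A).functor)
    (fun F => by
      rw [isSheaf_iff_isSheaf_of_type, isSheaf_iff_isSheaf_slice]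
      intro a
      refine Presieve.isSheaf_iso J (sliceTotalIso A _ a).symm ?_
      rw [← isSheaf_iff_isSheaf_of_type]
      exact (F.obj (op a)).property)

/-- `sheafTotal` is fully faithful. -/
def fullyFaithfulSheafTotal : (sheafTotal J A).FullyFaithful :=
  Functor.FullyFaithful.ofCompFaithful (G := sheafToPresheaf (prodTopology J A) (Type u))
    (((fullyFaithfulSheafToPresheaf J (Type u)).whiskeringRight Aᵒᵖ).comp
      (totalEquiv (C := C) A).fullyFaithfulFunctor)

instance : (sheafTotal J A).Full := (fullyFaithfulSheafTotal J A).full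
instance : (sheafTotal J A).Faithful := (fullyFaithfulSheafTotal J A).faithful

instance : (sheafTotal J A).EssSurj where
  mem_essImage Q := by
    let G : Aᵒᵖ ⥤ Cᵒᵖ ⥤ Type u := (totalEquiv (C := C) A).inverse.obj Q.obj
    have hQ : Presieve.IsSheaf (prodTopology J A) Q.obj :=
      (isSheaf_iff_isSheaf_of_type _ _).1 Q.property
    have hG : ∀ a : Aᵒᵖ, Presheaf.IsSheaf J (G.obj a) := by
      intro a
      rw [isSheaf_iff_isSheaf_of_type]
      have h1 := isSheaf_slice_of_isSheaf Q.obj hQ a.unop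
      refine Presieve.isSheaf_iso J ?_ h1
      exact (Functor.isoWhiskerLeft (Prod.sectR a.unop C).op
        ((totalEquiv (C := C) A).counitIso.app Q.obj)).symm ≪≫ sliceTotalIso A G a.unop
    let F : Aᵒᵖ ⥤ Sheaf J (Type u) := ObjectProperty.lift _ G hG
    refine ⟨F, ⟨?_⟩⟩
    exact (fullyFaithfulSheafToPresheaf (prodTopology J A) (Type u)).preimageIso
      ((totalEquiv (C := C) A).counitIso.app Q.obj)

instance : (sheafTotal J A).IsEquivalence where

/-- diagrams of sheaves are sheaves on the product site. -/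
noncomputable def sheafTotalEquiv :
    (Aᵒᵖ ⥤ Sheaf J (Type u)) ≌ Sheaf (prodTopology J A) (Type u) :=
  (sheafTotal J A).asEquivalence

theorem isTopos_functor {E : Type v} [Category.{u} E] (hE : SGA4.IsTopos E)
    (D : Type u) [SmallCategory D] : SGA4.IsTopos (D ⥤ E) := by
  obtain ⟨C, _, J, ⟨e⟩⟩ := hE
  refine ⟨Dᵒᵖ × C, inferInstance, prodTopology J Dᵒᵖ, ⟨?_⟩⟩
  exact (e.congrRight (E := D)).trans (((opOpEquivalence D).congrLeft).symm.trans
    (sheafTotalEquiv J Dᵒᵖ))

end Groth.Agent.Lib.Helper45.FunctorTopos
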