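import Mathlib
import Groth.Agent.Lib.Helper19.Grp.GLnPoints
import Groth.Agent.Lib.Lead.GaTorsor

/-!
# Points of `GL_n` over `Spec B` as invertible matrices (helper45, for lead's S20007)

The analogue for `FrB.GLn n S` of `fnm`/`ptm` in `Lib/Lead/GmTorsor.lean`.

General `T`-points (`T : Over S`): `homOf`, `matOf`, `dOf`, `det_matOf_mul`, `eq_gpt`
(every point is `Helper19.GLnPoints.gpt` of its matrix), `gpt_injective`, `matOf_gpt`,
`matOf_mul`, `matOf_one`, `matOf_comp`, `matOf_injective`.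

`Spec B`-points (`ov R j B`): `fnM`, `fnM_mul`, `fnM_one`, `fnM_comp`, `fnM_injective`,
`exists_pt`.
-/

set_option autoImplicit false
set_option linter.style.haveILetI false
set_option linter.unusedSectionVars false
universe u
open CategoryTheory CategoryTheory.Limits MonoidalCategory CartesianMonoidalCategory MonObj
  AlgebraicGeometry
open scoped TensorProduct

namespace Groth.Agent.Lib.Helper45.GLnOv

open Groth.Agent.Lib.Lead.GaTorsor Groth.Agent.Lib.Helper19.GLnPoints

section General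

variable {S : Scheme.{u}} (n : ℕ)

/-- the morphism over `Spec ℤ` adjoint to a point of `GL_{n,S}` -/
noncomputable def zOf {T : Over S} (c : T ⟶ FrB.GLn n S) :
    (Over.map (IsTerminal.from specULiftZIsTerminal S)).obj T ⟶ FrB.GLZ n :=
  ((Over.mapPullbackAdj (IsTerminal.from specULiftZIsTerminal S)).homEquiv T (FrB.GLZ n)).symm c

/-- the ring hom out of the coordinate ring attached to a point of `GL_n` -/
noncomputable def homOf {T : Over S} (c : T ⟶ FrB.GLn n S) :
    CoordGrp.GLn n (ULift.{u} ℤ) →+* Γ(T.left, ⊤) :=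
  ((Scheme.ΓSpecIso (CommRingCat.of (CoordGrp.GLn n (ULift.{u} ℤ)))).inv ≫
    (zOf n c).left.appTop).hom

theorem zOf_eq {T : Over S} (c : T ⟶ FrB.GLn n S) :
    zOf n c = zpt n (T' := (Over.map (IsTerminal.from specULiftZIsTerminal S)).obj T)
      (homOf n (T := T) c) := by
  apply Over.OverMorphism.ext
  rw [zpt_left]
  have h := Scheme.toSpecΓ_naturality (zOf n c).left
  change (zOf n c).left = T.left.toSpecΓ ≫ Spec.map (CommRingCat.ofHom (homOf n c))
  unfold homOf
  rw [CommRingCat.ofHom_hom, Spec.map_comp, ← Category.assoc]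
  change _ = (((Over.map (IsTerminal.from specULiftZIsTerminal S)).obj T).left.toSpecΓ ≫
    Spec.map (zOf n c).left.appTop) ≫ _
  rw [← h, Category.assoc]
  have h2 := toSpecΓ_SpecMap_ΓSpecIso_inv (CommRingCat.of (CoordGrp.GLn n (ULift.{u} ℤ)))
  erw [h2, Category.comp_id]

theorem eq_homEquiv_zpt {T : Over S} (c : T ⟶ FrB.GLn n S) :
    c = (Over.mapPullbackAdj (IsTerminal.from specULiftZIsTerminal S)).homEquiv T (FrB.GLZ n)
      (zpt n (T' := (Over.map (IsTerminal.from specULiftZIsTerminal S)).obj T)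
        (homOf n (T := T) c)) := by
  rw [← zOf_eq]
  unfold zOf
  rw [Equiv.apply_symm_apply]

/-- the matrix of a point of `GL_n` -/
noncomputable def matOf {T : Over S} (c : T ⟶ FrB.GLn n S) :
    Matrix (Fin n) (Fin n) Γ(T.left, ⊤) :=
  fun i j => homOf n c (CoordGrp.GLn.X i j)

/-- the inverse determinant of a point of `GL_n` -/
noncomputable def dOf {T : Over S} (c : T ⟶ FrB.GLn n S) : Γ(T.left, ⊤) :=
  homOf n c CoordGrp.GLn.Dinv

theorem det_matOf_mul {T : Over S} (c : T ⟶ FrB.GLn n S) : (matOf n c).det * dOf n c = 1 := by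
  have h1 : matOf n c = (homOf n c).mapMatrix (CoordGrp.GLn.genMat n (ULift.{u} ℤ)) := by
    ext i j
    rfl
  rw [h1, ← RingHom.map_det, ← CoordGrp.GLn.det_eq]
  unfold dOf
  rw [← map_mul, CoordGrp.GLn.det_mul_Dinv, map_one]

theorem eq_gpt {T : Over S} (c : T ⟶ FrB.GLn n S) :
    c = gpt n (matOf n c) (dOf n c) (det_matOf_mul n c) := by
  conv_lhs => rw [eq_homEquiv_zpt n c]
  unfold gpt
  congr 2
  apply ringHom_ext_GLn
  · intro i j
    rw [mhom_X]
    rfl
  · rw [mhom_Dinv]
    rfl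

theorem gpt_injective {T : Over S} {M M' : Matrix (Fin n) (Fin n) Γ(T.left, ⊤)}
    {d d' : Γ(T.left, ⊤)} (h : M.det * d = 1) (h' : M'.det * d' = 1)
    (he : gpt n M d h = gpt n M' d' h') : M = M' := by
  have h3 := ((Over.mapPullbackAdj (IsTerminal.from specULiftZIsTerminal S)).homEquiv T
    (FrB.GLZ n)).injective he
  have h4 := zpt_injective n _ _ h3
  ext i j
  have h5 := congrArg (fun φ => φ (CoordGrp.GLn.X i j)) h4
  simp only [mhom_X] at h5
  exact h5

theorem matOf_gpt {T : Over S} (M : Matrix (Fin n) (Fin n) Γ(T.left, ⊤)) (d : Γ(T.left, ⊤))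
    (h : M.det * d = 1) : matOf n (gpt n M d h) = M :=
  (gpt_injective n h (det_matOf_mul n _) (eq_gpt n (gpt n M d h))).symm

theorem matOf_mul {T : Over S} (c c' : T ⟶ FrB.GLn n S) :
    matOf n (c * c') = matOf n c * matOf n c' := by
  conv_lhs => rw [eq_gpt n c, eq_gpt n c', gpt_mul]
  rw [matOf_gpt]

theorem matOf_one {T : Over S} : matOf n (1 : T ⟶ FrB.GLn n S) = 1 := by
  have h2 : (1 : Matrix (Fin n) (Fin n) Γ(T.left, ⊤)).det * 1 = 1 := by
    rw [Matrix.det_one, _root_.mul_one]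
  rw [← gpt_one n 1 h2, matOf_gpt]

theorem matOf_comp {T T₂ : Over S} (g : T₂ ⟶ T) (c : T ⟶ FrB.GLn n S) :
    matOf n (g ≫ c) = g.left.appTop.hom.mapMatrix (matOf n c) := by
  conv_lhs => rw [eq_gpt n c, comp_gpt]
  rw [matOf_gpt]

theorem matOf_injective {T : Over S} {c c' : T ⟶ FrB.GLn n S} (h : matOf n c = matOf n c') :
    c = c' := by
  rw [eq_gpt n c, eq_gpt n c']
  exact gpt_congr n _ _ h

end General

section Ov

variable {S : Scheme.{u}} (R : CommRingCat.{u}) (j : Spec R ⟶ S) (n : ℕ)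
variable {B C : Type u} [CommRing B] [CommRing C] [Algebra R B] [Algebra R C]

/-- `matOf` for a `Spec B`-point, typed over `Γ(Spec B, ⊤)`. -/
noncomputable def matB (c : ov R j B ⟶ FrB.GLn n S) :
    Matrix (Fin n) (Fin n) Γ(Spec (CommRingCat.of B), ⊤) :=
  matOf n c

theorem matB_mul (c c' : ov R j B ⟶ FrB.GLn n S) :
    matB R j n (c * c') = matB R j n c * matB R j n c' := matOf_mul n c c'

theorem matB_one : matB R j n (1 : ov R j B ⟶ FrB.GLn n S) = 1 := matOf_one n

theorem matB_comp (φ : B →ₐ[R] C) (c : ov R j B ⟶ FrB.GLn n S) :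
    matB R j n (ovMap R j φ ≫ c) =
      (Spec.map (CommRingCat.ofHom φ.toRingHom)).appTop.hom.mapMatrix (matB R j n c) :=
  matOf_comp n (ovMap R j φ) c

theorem matB_injective {c c' : ov R j B ⟶ FrB.GLn n S} (h : matB R j n c = matB R j n c') :
    c = c' := matOf_injective n h

theorem matB_gpt (M : Matrix (Fin n) (Fin n) Γ(Spec (CommRingCat.of B), ⊤))
    (d : Γ(Spec (CommRingCat.of B), ⊤)) (h : M.det * d = 1) :
    matB R j n (gpt n (T := ov R j B) M d h) = M := matOf_gpt n (T := ov R j B) M d h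

/-- The invertible matrix attached to a `Spec B`-point of `GL_n`. -/
noncomputable def fnM (c : ov R j B ⟶ FrB.GLn n S) : Matrix (Fin n) (Fin n) B :=
  (Scheme.ΓSpecIso (CommRingCat.of B)).hom.hom.mapMatrix (matB R j n c)

theorem fnM_mul (c c' : ov R j B ⟶ FrB.GLn n S) :
    fnM R j n (c * c') = fnM R j n c * fnM R j n c' := by
  unfold fnM
  rw [matB_mul, map_mul]

theorem fnM_one : fnM R j n (1 : ov R j B ⟶ FrB.GLn n S) = 1 := by
  unfold fnM
  rw [matB_one, map_one]

theorem fnM_comp (φ : B →ₐ[R] C) (c : ov R j B ⟶ FrB.GLn n S) :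
    fnM R j n (ovMap R j φ ≫ c) = φ.toRingHom.mapMatrix (fnM R j n c) := by
  unfold fnM
  rw [matB_comp]
  ext a b
  exact congr($(Scheme.ΓSpecIso_naturality (CommRingCat.ofHom φ.toRingHom)) (matB R j n c a b))

theorem fnM_injective {c c' : ov R j B ⟶ FrB.GLn n S} (h : fnM R j n c = fnM R j n c') :
    c = c' := by
  apply matB_injective R j n
  unfold fnM at h
  have e : ∀ y, (Scheme.ΓSpecIso (CommRingCat.of B)).inv
      ((Scheme.ΓSpecIso (CommRingCat.of B)).hom y) = y :=
    fun y => congr($((Scheme.ΓSpecIso (CommRingCat.of B)).hom_inv_id) y)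
  ext a b
  have h1 := congrFun (congrFun h a) b
  have h2 := congrArg (Scheme.ΓSpecIso (CommRingCat.of B)).inv h1
  simp only [RingHom.mapMatrix_apply, Matrix.map_apply] at h2
  rw [← e (matB R j n c a b), ← e (matB R j n c' a b)]
  exact h2

theorem exists_pt (h h' : Matrix (Fin n) (Fin n) B) (hh : h * h' = 1) :
    ∃ c : ov R j B ⟶ FrB.GLn n S, fnM R j n c = h := by
  have e : ∀ y, (Scheme.ΓSpecIso (CommRingCat.of B)).hom
      ((Scheme.ΓSpecIso (CommRingCat.of B)).inv y) = y :=
    fun y => congr($((Scheme.ΓSpecIso (CommRingCat.of B)).inv_hom_id) y)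
  have hd : ((Scheme.ΓSpecIso (CommRingCat.of B)).inv.hom.mapMatrix h).det *
      (Scheme.ΓSpecIso (CommRingCat.of B)).inv.hom h'.det = 1 := by
    rw [← RingHom.map_det, ← map_mul, ← Matrix.det_mul, hh, Matrix.det_one, map_one]
  refine ⟨gpt n (T := ov R j B) _ _ hd, ?_⟩
  unfold fnM
  rw [matB_gpt]
  ext a b
  exact e (h a b)

end Ov

end Groth.Agent.Lib.Helper45.GLnOv
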