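import Groth.Prelude.Def_SGA4a
import Mathlib.CategoryTheory.Sites.Canonical
import Mathlib.CategoryTheory.Sites.DenseSubsite.Basic
import Mathlib.CategoryTheory.Sites.EffectiveEpimorphic
import Mathlib.CategoryTheory.Limits.VanKampen
import Mathlib.CategoryTheory.Generator.Basic
import Mathlib.CategoryTheory.EffectiveEpi.Basic

set_option autoImplicit false
set_option backward.isDefEq.respectTransparency false
universe w v u

open CategoryTheory CategoryTheory.Limits Opposite

namespace Groth.Agent.Lib.Helper45.Giraud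

variable {E : Type v} [Category.{u} E]

/-- a universally effective epimorphism generates a covering sieve of the canonical topology. -/
lemma generate_singleton_mem_canonical [HasPullbacks E] {X B : E} (π : X ⟶ B)
    (heff : ∀ (B' : E) (g : B' ⟶ B), EffectiveEpi (pullback.snd π g)) :
    Sieve.generate (Presieve.singleton π) ∈ Sheaf.canonicalTopology E B := by
  apply Sheaf.mem_finestTopology_of_forall_isSheafFor
  rintro P ⟨W, rfl⟩ Y f
  rw [← Sieve.pullbackArrows_comm, ← Presieve.isSheafFor_iff_generate, Presieve.pullback_singleton]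
  have := heff Y f
  exact Presieve.IsSheafFor.singleton_of_isRepresentable_of_effectiveEpi _ _

section Cofan

variable {ι : Type w} {Y : ι → E} (c : Cofan Y)
  [∀ (i : ι) (Z : E) (g : Z ⟶ c.pt), HasPullback (c.inj i) g]
  (huniv : IsUniversalColimit c)

include huniv

lemma nonempty_isColimit_baseChange {Z : E} (f : Z ⟶ c.pt) :
    Nonempty (IsColimit (Cofan.mk Z (fun l => pullback.snd (c.inj l) f))) := by
  refine huniv (Cofan.mk Z (fun l => pullback.snd (c.inj l) f))
    (Discrete.natTrans fun l => pullback.fst (c.inj l.as) f) f ?_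
    (NatTrans.Equifibered.of_discrete _) ?_
  · apply NatTrans.ext
    funext ⟨l⟩
    exact pullback.condition
  · rintro ⟨l⟩
    exact (IsPullback.of_hasPullback (c.inj l) f).flip

lemma ofArrows_mem_canonical : Sieve.ofArrows Y c.inj ∈ Sheaf.canonicalTopology E c.pt := by
  apply Sheaf.mem_finestTopology_of_forall_isSheafFor
  rintro P ⟨W, rfl⟩ Z f
  rw [← Sieve.pullbackArrows_comm, ← Presieve.isSheafFor_iff_generate,
    ← Presieve.ofArrows_pullback, Presieve.isSheafFor_arrows_iff]
  intro x _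
  obtain ⟨hZ⟩ := nonempty_isColimit_baseChange c huniv f
  refine ⟨Cofan.IsColimit.desc hZ x, fun l => Cofan.IsColimit.fac hZ x l, fun t ht =>
    Cofan.IsColimit.hom_ext hZ _ _ fun l => ?_⟩
  rw [Cofan.IsColimit.fac]
  exact ht l

end Cofan

section KernelPair

variable [HasPullbacks E]

/-- the kernel pair of a morphism is an equivalence relation. -/
lemma isEquivRel_kernelPair {A X : E} (p : A ⟶ X) :
    SGA4.IsEquivRel (pullback.fst p p) (pullback.snd p p) := by
  intro T
  constructor
  · intro f g hfg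
    simp only [Prod.mk.injEq] at hfg
    exact pullback.hom_ext hfg.1 hfg.2
  · have key : ∀ a b : T ⟶ A, (∃ f : T ⟶ pullback p p, f ≫ pullback.fst p p = a ∧
        f ≫ pullback.snd p p = b) ↔ a ≫ p = b ≫ p := by
      intro a b
      constructor
      · rintro ⟨f, rfl, rfl⟩
        simp [pullback.condition]
      · intro h
        exact ⟨pullback.lift a b h, by simp, by simp⟩
    refine ⟨fun a => (key a a).2 rfl, fun {a b} h => (key b a).2 ((key a b).1 h).symm,
      fun {a b c} h1 h2 => (key a c).2 (((key a b).1 h1).trans ((key b c).1 h2))⟩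

/-- if `π` is a universally effective epimorphism with the same kernel pair as `p = π ≫ m`,
then `m` is a monomorphism. -/
lemma mono_of_isPullback_of_effectiveEpi {R A B X : E} {p₁ p₂ : R ⟶ A} {π : A ⟶ B} (m : B ⟶ X)
    (hR : IsPullback p₁ p₂ (π ≫ m) (π ≫ m)) (hcond : p₁ ≫ π = p₂ ≫ π)
    (heff : ∀ (B' : E) (g : B' ⟶ B), EffectiveEpi (pullback.snd π g)) : Mono m := by
  constructor
  intro T a b hab
  have e1 := heff T a
  have e2 := heff (pullback π a) (pullback.snd π a ≫ b)
  let t₁ := pullback.snd π a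
  let a₁ := pullback.fst π a
  let t₂ := pullback.snd π (t₁ ≫ b)
  let b₂ := pullback.fst π (t₁ ≫ b)
  have ha₁ : a₁ ≫ π = t₁ ≫ a := pullback.condition
  have hb₂ : b₂ ≫ π = t₂ ≫ t₁ ≫ b := pullback.condition
  have h3 : (t₂ ≫ a₁) ≫ π ≫ m = b₂ ≫ π ≫ m := by
    rw [Category.assoc, reassoc_of% ha₁, reassoc_of% hb₂, hab]
  obtain ⟨r, hr1, hr2⟩ : ∃ r, r ≫ p₁ = t₂ ≫ a₁ ∧ r ≫ p₂ = b₂ := ⟨hR.lift _ _ h3, by simp, by simp⟩
  have h4 : (t₂ ≫ a₁) ≫ π = b₂ ≫ π := by
    rw [← hr1, ← hr2, Category.assoc, Category.assoc, hcond]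
  have h5 : t₂ ≫ t₁ ≫ a = t₂ ≫ t₁ ≫ b := by
    rw [← hb₂, ← h4, Category.assoc, ha₁]
  have : Epi t₂ := inferInstanceAs (Epi (pullback.snd π (t₁ ≫ b)))
  have : Epi t₁ := inferInstanceAs (Epi (pullback.snd π a))
  rw [cancel_epi, cancel_epi] at h5
  exact h5

end KernelPair


section Generators

variable [HasFiniteLimits E] {I : Type u} (G : I → E)
  (hb : SGA4.HasDisjointUniversalCoproducts.{v, u} E)
  (hc : ∀ (R A : E) (p₁ p₂ : R ⟶ A), SGA4.IsEquivRel p₁ p₂ →
    SGA4.IsEffectiveUniversalEquivRel p₁ p₂)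
  (hdet : ∀ ⦃X Y : E⦄ (f : X ⟶ Y),
    (∀ (i : I) (h : G i ⟶ Y), ∃! h' : G i ⟶ X, h' ≫ f = h) → IsIso f)

include hc hdet in
/-- a morphism through which every map from a generator factors generates a covering sieve of
the canonical topology. -/
lemma generate_singleton_mem_of_forall_factors {A X : E} (p : A ⟶ X)
    (hp : ∀ (i : I) (h : G i ⟶ X), ∃ h' : G i ⟶ A, h' ≫ p = h) :
    Sieve.generate (Presieve.singleton p) ∈ Sheaf.canonicalTopology E X := by
  obtain ⟨B, π, hpb, hpo, heff⟩ := hc _ _ _ _ (isEquivRel_kernelPair p)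
  let m : B ⟶ X := hpo.desc p p pullback.condition
  have hm : π ≫ m = p := hpo.inl_desc _ _ _
  have hmono : Mono m := by
    refine mono_of_isPullback_of_effectiveEpi (p₁ := pullback.fst p p) (p₂ := pullback.snd p p)
      (π := π) m ?_ hpb.w heff
    rw [hm]
    exact IsPullback.of_hasPullback p p
  have hiso : IsIso m := by
    apply hdet
    intro i h
    obtain ⟨h', hh'⟩ := hp i h
    refine ⟨h' ≫ π, ?_, ?_⟩
    · change (h' ≫ π) ≫ m = h
      rw [Category.assoc, hm, hh']
    · intro y hy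
      have hy' : y ≫ m = h := hy
      rw [← cancel_mono m, hy', Category.assoc, hm, hh']
  have h1 := generate_singleton_mem_canonical π heff
  refine (Sheaf.canonicalTopology E).superset_covering ?_
    ((Sheaf.canonicalTopology E).pullback_stable (inv m) h1)
  rintro Y f ⟨Z, g, _, ⟨⟩, hfac⟩
  refine ⟨_, g, p, ⟨⟩, ?_⟩
  rw [← hm, ← Category.assoc, hfac, Category.assoc, IsIso.inv_hom_id, Category.comp_id]

include hb hc hdet in
lemma coverByImage_mem_canonical (X : E) :
    Sieve.coverByImage (inducedFunctor G) X ∈ Sheaf.canonicalTopology E X := by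
  obtain ⟨c, hcol, _, huniv⟩ := hb (Σ i : I, (G i ⟶ X)) (fun l => G l.1)
  let p : c.pt ⟶ X := Cofan.IsColimit.desc hcol (fun l => l.2)
  have hp : ∀ l : (Σ i : I, (G i ⟶ X)), c.inj l ≫ p = l.2 := fun l =>
    Cofan.IsColimit.fac hcol _ l
  have h1 : Sieve.generate (Presieve.singleton p) ∈ Sheaf.canonicalTopology E X :=
    generate_singleton_mem_of_forall_factors G hc hdet p (fun i h => ⟨c.inj ⟨i, h⟩, hp ⟨i, h⟩⟩)
  have h2 := ofArrows_mem_canonical c huniv
  refine (Sheaf.canonicalTopology E).transitive h1 _ ?_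
  rintro Y f ⟨Z, g, _, ⟨⟩, rfl⟩
  refine (Sheaf.canonicalTopology E).superset_covering ?_
    ((Sheaf.canonicalTopology E).pullback_stable g h2)
  rintro W k ⟨V, a, _, ⟨l⟩, hfac⟩
  refine ⟨⟨(l.1 : InducedCategory E G), a, l.2, ?_⟩⟩
  rw [← hp l, ← Category.assoc, hfac, Category.assoc]

include hb hc hdet in
lemma isCoverDense_inducedFunctor :
    (inducedFunctor G).IsCoverDense (Sheaf.canonicalTopology E) :=
  ⟨fun X => coverByImage_mem_canonical G hb hc hdet X⟩

end Generators

end Groth.Agent.Lib.Helper45.Giraud
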