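import Groth.Agent.Lib.Helper45.GiraudA
import Groth.Agent.Lib.Helper45.CanSite4
import Mathlib.CategoryTheory.Sites.DenseSubsite.InducedTopology
import Mathlib.CategoryTheory.Sites.DenseSubsite.SheafEquiv
import Mathlib.CategoryTheory.Sites.Subcanonical

set_option autoImplicit false
set_option backward.isDefEq.respectTransparency false
universe w v u

open CategoryTheory CategoryTheory.Limits Opposite

namespace Groth.Agent.Lib.Helper45.Giraud

variable {E : Type v} [Category.{u} E] {I : Type u} (G : I → E)

/-- the small category of generators. -/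
abbrev Cg : Type u := InducedCategory E G

/-- the inclusion of the generators. -/
abbrev inc : Cg G ⥤ E := inducedFunctor G

/-- the topology on the generators induced by the canonical topology. -/
def Jg : GrothendieckTopology (Cg G) := (inc G).restrictedTopology (Sheaf.canonicalTopology E)

variable [hdense : (inc G).IsCoverDense (Sheaf.canonicalTopology E)]

instance : (inc G).IsDenseSubsite (Jg G) (Sheaf.canonicalTopology E) := by
  unfold Jg
  infer_instance

lemma mem_Jg_iff {c : Cg G} (S : Sieve c) :
    S ∈ Jg G c ↔ S.functorPushforward (inc G) ∈ Sheaf.canonicalTopology E ((inc G).obj c) :=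
  Functor.mem_restrictedTopology_iff

/-- restriction of sheaves to the generators. -/
noncomputable abbrev res : Sheaf (Sheaf.canonicalTopology E) (Type u) ⥤ Sheaf (Jg G) (Type u) :=
  (inc G).sheafPushforwardContinuous (Type u) (Jg G) (Sheaf.canonicalTopology E)

instance : (res G).IsEquivalence := by
  unfold res
  infer_instance

/-- the comparison functor. -/
noncomputable def Phi : E ⥤ Sheaf (Jg G) (Type u) :=
  (Sheaf.canonicalTopology E).yoneda ⋙ res G

instance : (Phi G).Full := by unfold Phi; infer_instance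
instance : (Phi G).Faithful := by unfold Phi; infer_instance

lemma Phi_obj_obj (X : E) (c : Cg G) : ((Phi G).obj X).obj.obj (op c) = ((inc G).obj c ⟶ X) := rfl


lemma Phi_map_app {X Y : E} (f : X ⟶ Y) (c : Cg G) (x : (inc G).obj c ⟶ X) :
    ((Phi G).map f).hom.app (op c) x = x ≫ f := rfl

lemma Phi_obj_map (X : E) {c c' : Cg G} (g : c' ⟶ c) (x : (inc G).obj c ⟶ X) :
    ((Phi G).obj X).obj.map g.op x = (inc G).map g ≫ x := rfl

/-- sections locally factor through the members of a covering sieve. -/
lemma functorPullback_pullback_mem_Jg {X : E} (S : Sieve X)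
    (hS : S ∈ Sheaf.canonicalTopology E X) {c : Cg G} (x : (inc G).obj c ⟶ X) :
    (S.pullback x).functorPullback (inc G) ∈ Jg G c := by
  rw [mem_Jg_iff]
  exact Functor.IsCoverDense.functorPullback_pushforward_covering
    ⟨S.pullback x, (Sheaf.canonicalTopology E).pullback_stable x hS⟩

/-- a family generating a covering sieve of the canonical topology becomes jointly epimorphic. -/
lemma jEpi_Phi_map_of_ofArrows_mem {ι : Type w} {X : E} {A : ι → E} (g : ∀ l, A l ⟶ X)
    (hg : Sieve.ofArrows A g ∈ Sheaf.canonicalTopology E X) :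
    JEpi (fun l => (Phi G).map (g l)) := by
  apply jEpi_of_ljs
  intro c x
  refine ⟨_, functorPullback_pullback_mem_Jg G _ hg x, ?_⟩
  intro c' f hf
  obtain ⟨_, a, _, ⟨l⟩, hfac⟩ := hf
  exact ⟨l, a, hfac⟩

lemma epi_Phi_map_of_generate_singleton_mem {A X : E} (p : A ⟶ X)
    (hp : Sieve.generate (Presieve.singleton p) ∈ Sheaf.canonicalTopology E X) :
    Epi ((Phi G).map p) := by
  apply epi_of_jEpi_punit.{0}
  apply jEpi_of_ljs
  intro c x
  refine ⟨_, functorPullback_pullback_mem_Jg G _ hp x, ?_⟩
  intro c' f hf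
  obtain ⟨_, a, _, ⟨⟩, hfac⟩ := hf
  exact ⟨PUnit.unit, a, hfac⟩


section Strict

variable (hb : SGA4.HasDisjointUniversalCoproducts.{v, u} E)

/-- the empty family. -/
def emptyFam (E : Type v) [Category.{u} E] : PEmpty.{u + 1} → E := fun l => l.elim

/-- the point of a colimit cofan of the empty family is initial. -/
def isInitialOfIsColimitEmpty (c : Cofan (emptyFam E)) (hc : IsColimit c) : IsInitial c.pt :=
  IsInitial.ofUniqueHom (fun _ => Cofan.IsColimit.desc hc (fun l => l.elim))
    (fun _ _ => Cofan.IsColimit.hom_ext hc _ _ (fun l => l.elim))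

include hb in
/-- initial objects are strict. -/
lemma nonempty_isInitial_of_hom {Z T₀ : E} (hZ : IsInitial Z) (f : T₀ ⟶ Z) :
    Nonempty (IsInitial T₀) := by
  obtain ⟨c, hc, _, huniv⟩ := hb PEmpty.{u + 1} (emptyFam E)
  let f' : T₀ ⟶ c.pt := f ≫ hZ.to c.pt
  let c' : Cofan (emptyFam E) := Cofan.mk T₀ (fun l => l.elim)
  obtain ⟨h⟩ := huniv c' (𝟙 _) f' (by
      apply NatTrans.ext
      funext ⟨l⟩
      exact l.elim) (NatTrans.Equifibered.of_discrete _) (by
      rintro ⟨l⟩
      exact l.elim)
  exact ⟨isInitialOfIsColimitEmpty c' h⟩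

include hb in
lemma bot_mem_canonical_of_isInitial {Z : E} (hZ : IsInitial Z) :
    (⊥ : Sieve Z) ∈ Sheaf.canonicalTopology E Z := by
  apply Sheaf.mem_finestTopology_of_forall_isSheafFor
  rintro P ⟨W, rfl⟩ T₀ f
  obtain ⟨hT⟩ := nonempty_isInitial_of_hom hb hZ f
  intro x hx
  refine ⟨hT.to W, ?_, fun t _ => hT.hom_ext _ _⟩
  intro V g hg
  exact hg.elim

include hb in
lemma isEmptyObj_of_hom_Phi_initial {Z : E} (hZ : IsInitial Z) {W : ToposFin.Sh (Jg G)}
    (w : W ⟶ (Phi G).obj Z) : IsEmptyObj W := by
  intro T a b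
  ext c s
  let x : (inc G).obj c.unop ⟶ Z := w.hom.app c s
  obtain ⟨hc⟩ := nonempty_isInitial_of_hom hb hZ x
  have h0 : (⊥ : Sieve c.unop) ∈ Jg G c.unop := by
    rw [mem_Jg_iff]
    refine (Sheaf.canonicalTopology E).superset_covering bot_le
      (bot_mem_canonical_of_isInitial hb hc)
  apply (((isSheaf_iff_isSheaf_of_type _ _).1 T.2).isSeparated _ h0).ext
  intro V g hg
  exact hg.elim

end Strict


section Limits

variable [HasFiniteLimits E]

instance : PreservesFiniteLimits (Phi G) := by
  unfold Phi
  infer_instance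

end Limits

section Coproducts

variable [HasFiniteLimits E] (hb : SGA4.HasDisjointUniversalCoproducts.{v, u} E)

include hb in
/-- the comparison functor preserves disjoint universal coproducts. -/
lemma nonempty_isColimit_Phi_cofan {ι : Type u} {Y : ι → E} (c : Cofan Y) (hc : IsColimit c)
    (hdisj : CoproductDisjoint Y) (huniv : IsUniversalColimit c) :
    Nonempty (IsColimit (Cofan.mk ((Phi G).obj c.pt) (fun i => (Phi G).map (c.inj i)))) := by
  apply nonempty_isColimit_cofan_of_jEpi_of_disjoint
  · exact jEpi_Phi_map_of_ofArrows_mem G c.inj (ofArrows_mem_canonical c huniv)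
  · intro i
    have : Mono (c.inj i) := hdisj.mono_inj hc i
    infer_instance
  · intro i j hij W u v huv
    have sq : IsPullback ((Phi G).map (pullback.fst (c.inj i) (c.inj j)))
        ((Phi G).map (pullback.snd (c.inj i) (c.inj j)))
        ((Phi G).map (c.inj i)) ((Phi G).map (c.inj j)) :=
      (IsPullback.of_hasPullback (c.inj i) (c.inj j)).map (Phi G)
    obtain ⟨h0⟩ := hdisj.nonempty_isInitial_of_ne hc hij
      (PullbackCone.mk (pullback.fst (c.inj i) (c.inj j)) (pullback.snd (c.inj i) (c.inj j))
        pullback.condition) (pullbackIsPullback _ _)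
    exact isEmptyObj_of_hom_Phi_initial G hb h0 (sq.lift u v huv)

end Coproducts

end Groth.Agent.Lib.Helper45.Giraud
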