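import Groth.Agent.Lib.Helper45.ToposGiraud2
import Mathlib.CategoryTheory.Sites.RegularEpi

/-!
# Giraud axioms for a sheaf topos, part 3 (helper45): quotients by equivalence relations

`quotSheaf hR`, `quotPi hR`, `quotDesc`, `isPullback_quotPi`, `isPushout_quotPi`,
`isEffectiveUniversalEquivRel_sheaf`, `effectiveEpi_of_epi_sheaf`.
-/

set_option autoImplicit false
set_option backward.isDefEq.respectTransparency false
universe w w' v u

open CategoryTheory CategoryTheory.Limits Opposite

namespace Groth.Agent.Lib.Helper45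

variable {C : Type u} [SmallCategory C] {J : GrothendieckTopology C}
variable {R A : ToposFin.Sh J} {p₁ p₂ : R ⟶ A}

/-- the setoid on sections. -/
def quotSetoid (hR : SGA4.IsEquivRel p₁ p₂) (V : Cᵒᵖ) : Setoid (A.obj.obj V) :=
  ⟨secRel p₁ p₂ V, secRel_equivalence hR V⟩

/-- the presheaf quotient of `A` by `R`. -/
def quotPresheaf (hR : SGA4.IsEquivRel p₁ p₂) : Cᵒᵖ ⥤ Type u where
  obj V := Quotient (quotSetoid hR V)
  map {V W} f := TypeCat.ofHom
    (Quotient.map (A.obj.map f) (fun _ _ h => secRel_map f h))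
  map_id V := by
    ext x
    induction x using Quotient.inductionOn with
    | h a => simp [Quotient.map_mk]
  map_comp f g := by
    ext x
    induction x using Quotient.inductionOn with
    | h a => simp [Quotient.map_mk]

/-- the quotient map of presheaves. -/
def quotMap (hR : SGA4.IsEquivRel p₁ p₂) : A.obj ⟶ quotPresheaf hR where
  app V := TypeCat.ofHom (Quotient.mk (quotSetoid hR V))
  naturality V W f := by
    ext a
    rfl

lemma quotMap_eq_iff (hR : SGA4.IsEquivRel p₁ p₂) (V : Cᵒᵖ) (a a' : A.obj.obj V) :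
    (quotMap hR).app V a = (quotMap hR).app V a' ↔ secRel p₁ p₂ V a a' :=
  ⟨fun h => Quotient.exact h, fun h => Quotient.sound h⟩

lemma quotMap_surjective (hR : SGA4.IsEquivRel p₁ p₂) (V : Cᵒᵖ) (x : (quotPresheaf hR).obj V) :
    ∃ a : A.obj.obj V, (quotMap hR).app V a = x := by
  induction x using Quotient.inductionOn with
  | h a => exact ⟨a, rfl⟩

/-- the quotient sheaf. -/
noncomputable def quotSheaf (hR : SGA4.IsEquivRel p₁ p₂) : ToposFin.Sh J :=
  (presheafToSheaf J (Type u)).obj (quotPresheaf hR)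

/-- the quotient morphism. -/
noncomputable def quotPi (hR : SGA4.IsEquivRel p₁ p₂) : A ⟶ quotSheaf hR :=
  ObjectProperty.homMk (quotMap hR ≫ toSheafify J (quotPresheaf hR))

lemma quotPi_app (hR : SGA4.IsEquivRel p₁ p₂) (V : Cᵒᵖ) (a : A.obj.obj V) :
    (quotPi hR).hom.app V a = (toSheafify J (quotPresheaf hR)).app V ((quotMap hR).app V a) := rfl

lemma quotPi_condition (hR : SGA4.IsEquivRel p₁ p₂) : p₁ ≫ quotPi hR = p₂ ≫ quotPi hR := by
  apply Sheaf.hom_ext
  ext V ρ
  change (quotPi hR).hom.app V (p₁.hom.app V ρ) = (quotPi hR).hom.app V (p₂.hom.app V ρ)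
  rw [quotPi_app, quotPi_app]
  congr 1
  exact (quotMap_eq_iff hR V _ _).2 ⟨ρ, rfl, rfl⟩

/-- sections of `A` with the same image in the quotient are locally related. -/
lemma quotPi_eq_imp (hR : SGA4.IsEquivRel p₁ p₂) (V : C) (a a' : A.obj.obj (op V))
    (h : (quotPi hR).hom.app (op V) a = (quotPi hR).hom.app (op V) a') :
    ∃ S ∈ J V, ∀ ⦃W : C⦄ (f : W ⟶ V), S f →
      secRel p₁ p₂ (op W) (A.obj.map f.op a) (A.obj.map f.op a') := by
  rw [quotPi_app, quotPi_app] at h
  have hcov := Presheaf.equalizerSieve_mem (D := Type u) (FD := TypeCat.Fun) (CD := fun X => X)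
    J (toSheafify J (quotPresheaf hR)) (X := op V) _ _ h
  refine ⟨_, hcov, fun W f hf => ?_⟩
  rw [← quotMap_eq_iff hR]
  have h1 := ConcreteCategory.congr_hom ((quotMap hR).naturality f.op) a
  have h2 := ConcreteCategory.congr_hom ((quotMap hR).naturality f.op) a'
  simp only [types_comp_apply] at h1 h2
  rw [h1, h2]
  exact hf

/-- the quotient morphism is locally surjective. -/
lemma ljs_quotPi (hR : SGA4.IsEquivRel p₁ p₂) : LJS (fun _ : PUnit.{1} => quotPi hR) := by
  intro U x
  refine ⟨_, Presheaf.imageSieve_mem J (toSheafify J (quotPresheaf hR)) (U := op U) x, ?_⟩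
  rintro W f ⟨t, ht⟩
  obtain ⟨a, ha⟩ := quotMap_surjective hR (op W) t
  refine ⟨PUnit.unit, a, ?_⟩
  rw [quotPi_app, ha]
  exact ht


instance epi_quotPi (hR : SGA4.IsEquivRel p₁ p₂) : Epi (quotPi hR) :=
  epi_of_jEpi_punit _ (jEpi_of_ljs _ (ljs_quotPi hR))

/-- the map from the presheaf quotient induced by a coequalising morphism. -/
def quotDescPre (hR : SGA4.IsEquivRel p₁ p₂) {Z : ToposFin.Sh J} (h : A ⟶ Z)
    (hh : p₁ ≫ h = p₂ ≫ h) : quotPresheaf hR ⟶ Z.obj where
  app V := TypeCat.ofHom (Quotient.lift (s := quotSetoid hR V) (fun a => h.hom.app V a) (by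
    rintro a a' ⟨ρ, rfl, rfl⟩
    exact ConcreteCategory.congr_hom (congr_app ((sheafToPresheaf J _).congr_map hh) V) ρ))
  naturality V W f := by
    ext x
    induction x using Quotient.inductionOn with
    | h a => exact ConcreteCategory.congr_hom (h.hom.naturality f) a

lemma quotMap_quotDescPre (hR : SGA4.IsEquivRel p₁ p₂) {Z : ToposFin.Sh J} (h : A ⟶ Z)
    (hh : p₁ ≫ h = p₂ ≫ h) : quotMap hR ≫ quotDescPre hR h hh = h.hom := by
  ext V a
  rfl

/-- the induced morphism from the quotient sheaf. -/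
noncomputable def quotDesc (hR : SGA4.IsEquivRel p₁ p₂) {Z : ToposFin.Sh J} (h : A ⟶ Z)
    (hh : p₁ ≫ h = p₂ ≫ h) : quotSheaf hR ⟶ Z :=
  ObjectProperty.homMk (sheafifyLift J (quotDescPre hR h hh) Z.2)

@[reassoc (attr := simp)]
lemma quotPi_quotDesc (hR : SGA4.IsEquivRel p₁ p₂) {Z : ToposFin.Sh J} (h : A ⟶ Z)
    (hh : p₁ ≫ h = p₂ ≫ h) : quotPi hR ≫ quotDesc hR h hh = h := by
  apply Sheaf.hom_ext
  change (quotMap hR ≫ toSheafify J (quotPresheaf hR)) ≫ sheafifyLift J (quotDescPre hR h hh) Z.2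
    = h.hom
  rw [Category.assoc, toSheafify_sheafifyLift, quotMap_quotDescPre]

/-- the coequalizer cofork. -/
noncomputable def quotIsColimit (hR : SGA4.IsEquivRel p₁ p₂) :
    IsColimit (Cofork.ofπ (quotPi hR) (quotPi_condition hR)) :=
  Cofork.IsColimit.mk _ (fun s => quotDesc hR s.π s.condition)
    (fun s => quotPi_quotDesc hR s.π s.condition)
    (fun s m hm => by
      rw [← cancel_epi (quotPi hR)]
      exact hm.trans (quotPi_quotDesc hR s.π s.condition).symm)


lemma effectiveEpi_of_epi_sheaf {X Y : ToposFin.Sh J} (f : X ⟶ Y) [Epi f] : EffectiveEpi f := by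
  rw [← isRegularEpi_iff_effectiveEpi]
  exact IsRegularEpiCategory.regularEpiOfEpi f

lemma effectiveEpi_pullback_snd_quotPi (hR : SGA4.IsEquivRel p₁ p₂) {B' : ToposFin.Sh J}
    (g : B' ⟶ quotSheaf hR) : EffectiveEpi (pullback.snd (quotPi hR) g) := by
  have : Epi (pullback.snd (quotPi hR) g) :=
    epi_of_jEpi_punit _ ((jEpi_of_epi.{0} (quotPi hR)).pullback_snd g)
  exact effectiveEpi_of_epi_sheaf _

lemma isPushout_quotPi (hR : SGA4.IsEquivRel p₁ p₂) :
    IsPushout p₁ p₂ (quotPi hR) (quotPi hR) := by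
  obtain ⟨r, hr1, hr2⟩ := (hR A).2.refl (𝟙 A)
  refine ⟨⟨quotPi_condition hR⟩, ⟨PushoutCocone.IsColimit.mk _ ?_ ?_ ?_ ?_⟩⟩
  · intro s
    refine quotDesc hR s.inl ?_
    have h : s.inl = s.inr := by
      have := congrArg (fun t => r ≫ t) s.condition
      simpa [reassoc_of% hr1, reassoc_of% hr2] using this
    have := s.condition
    rw [← h] at this
    exact this
  · intro s
    exact quotPi_quotDesc hR _ _
  · intro s
    have h : s.inl = s.inr := by
      have := congrArg (fun t => r ≫ t) s.condition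
      simpa [reassoc_of% hr1, reassoc_of% hr2] using this
    exact (quotPi_quotDesc hR _ _).trans h
  · intro s m hm _
    rw [← cancel_epi (quotPi hR)]
    exact hm.trans (quotPi_quotDesc hR _ _).symm


/-- the comparison morphism to the kernel pair of the quotient morphism. -/
noncomputable def quotKer (hR : SGA4.IsEquivRel p₁ p₂) :
    R ⟶ pullback (quotPi hR) (quotPi hR) :=
  pullback.lift p₁ p₂ (quotPi_condition hR)

instance mono_quotKer (hR : SGA4.IsEquivRel p₁ p₂) : Mono (quotKer hR) := by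
  refine ⟨fun {T} f g hfg => ?_⟩
  apply (hR T).1
  simp only [Prod.mk.injEq]
  constructor
  · have := congrArg (fun t => t ≫ pullback.fst (quotPi hR) (quotPi hR)) hfg
    simpa [quotKer] using this
  · have := congrArg (fun t => t ≫ pullback.snd (quotPi hR) (quotPi hR)) hfg
    simpa [quotKer] using this

instance epi_quotKer (hR : SGA4.IsEquivRel p₁ p₂) : Epi (quotKer hR) := by
  apply epi_of_jEpi_punit.{0}
  apply jEpi_of_ljs
  intro U κ
  have sq := IsPullback.of_hasPullback (quotPi hR) (quotPi hR)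
  have hcond : (quotPi hR).hom.app (op U) ((pullback.fst (quotPi hR) (quotPi hR)).hom.app (op U) κ)
      = (quotPi hR).hom.app (op U) ((pullback.snd (quotPi hR) (quotPi hR)).hom.app (op U) κ) :=
    ConcreteCategory.congr_hom (congr_app ((sheafToPresheaf J _).congr_map sq.w) (op U)) κ
  obtain ⟨S, hS, hSx⟩ := quotPi_eq_imp hR U _ _ hcond
  refine ⟨S, hS, fun V f hf => ?_⟩
  obtain ⟨ρ, h1, h2⟩ := hSx f hf
  refine ⟨PUnit.unit, ρ, ?_⟩
  apply section_ext_of_isPullback sq
  · have e : (quotKer hR ≫ pullback.fst (quotPi hR) (quotPi hR)) = p₁ := by simp [quotKer]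
    have e' := ConcreteCategory.congr_hom (congr_app ((sheafToPresheaf J _).congr_map e) (op V)) ρ
    refine e'.trans ?_
    change p₁.hom.app (op V) ρ = _
    rw [h1, map_app_restrict]
  · have e : (quotKer hR ≫ pullback.snd (quotPi hR) (quotPi hR)) = p₂ := by simp [quotKer]
    have e' := ConcreteCategory.congr_hom (congr_app ((sheafToPresheaf J _).congr_map e) (op V)) ρ
    refine e'.trans ?_
    change p₂.hom.app (op V) ρ = _
    rw [h2, map_app_restrict]

lemma isPullback_quotPi (hR : SGA4.IsEquivRel p₁ p₂) :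
    IsPullback p₁ p₂ (quotPi hR) (quotPi hR) := by
  have : IsIso (quotKer hR) := isIso_of_mono_of_epi _
  exact IsPullback.of_iso_pullback ⟨quotPi_condition hR⟩ (asIso (quotKer hR))
    (by simp [quotKer]) (by simp [quotKer])

/-- equivalence relations in a sheaf topos are effective and universal. -/
theorem isEffectiveUniversalEquivRel_sheaf (hR : SGA4.IsEquivRel p₁ p₂) :
    SGA4.IsEffectiveUniversalEquivRel p₁ p₂ :=
  ⟨quotSheaf hR, quotPi hR, isPullback_quotPi hR, isPushout_quotPi hR,
    fun _ g => effectiveEpi_pullback_snd_quotPi hR g⟩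

end Groth.Agent.Lib.Helper45
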