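import Groth.Agent.Lib.Helper45.GiraudB
import Groth.Agent.Lib.Helper45.ToposGiraud3

set_option autoImplicit false
set_option backward.isDefEq.respectTransparency false
universe w v u

open CategoryTheory CategoryTheory.Limits Opposite

namespace Groth.Agent.Lib.Helper45.Giraud

section Topos

variable {C : Type u} [SmallCategory C] {J : GrothendieckTopology C}

lemma effectiveEpi_pullback_snd_sheaf {A B B' : ToposFin.Sh J} (π : A ⟶ B) [Epi π] (g : B' ⟶ B) :
    EffectiveEpi (pullback.snd π g) := by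
  have : Epi (pullback.snd π g) := epi_of_isPullback_sheaf (IsPullback.of_hasPullback π g)
  exact effectiveEpi_of_epi_sheaf _

/-- an epimorphism of sheaves is the coequalizer of its kernel pair. -/
lemma exists_desc_of_epi {R A B Z : ToposFin.Sh J} {p₁ p₂ : R ⟶ A} {π : A ⟶ B} [Epi π]
    (hR : IsPullback p₁ p₂ π π) (h : A ⟶ Z) (hh : p₁ ≫ h = p₂ ≫ h) :
    ∃ ψ : B ⟶ Z, π ≫ ψ = h := by
  have := effectiveEpi_of_epi_sheaf π
  have key : ∀ {W : ToposFin.Sh J} (g₁ g₂ : W ⟶ A), g₁ ≫ π = g₂ ≫ π → g₁ ≫ h = g₂ ≫ h := by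
    intro W g₁ g₂ hg
    have e1 : hR.lift g₁ g₂ hg ≫ p₁ = g₁ := hR.lift_fst _ _ _
    have e2 : hR.lift g₁ g₂ hg ≫ p₂ = g₂ := hR.lift_snd _ _ _
    calc g₁ ≫ h = (hR.lift g₁ g₂ hg ≫ p₁) ≫ h := by rw [e1]
      _ = (hR.lift g₁ g₂ hg ≫ p₂) ≫ h := by rw [Category.assoc, Category.assoc, hh]
      _ = g₂ ≫ h := by rw [e2]
  exact ⟨EffectiveEpi.desc π h key, EffectiveEpi.fac π h key⟩

end Topos

variable {E : Type v} [Category.{u} E] {I : Type u} (G : I → E)
  [hdense : (inc G).IsCoverDense (Sheaf.canonicalTopology E)]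

/-- the morphism from a generator attached to a section. -/
noncomputable def sigmaHom (F : ToposFin.Sh (Jg G)) (c : Cg G) (x : F.obj.obj (op c)) :
    (Phi G).obj ((inc G).obj c) ⟶ F :=
  ObjectProperty.homMk
    { app := fun c' => TypeCat.ofHom
        (fun f : (inc G).obj c'.unop ⟶ (inc G).obj c => F.obj.map (InducedCategory.homMk f).op x)
      naturality := by
        intro c' c'' g
        ext (f : (inc G).obj c'.unop ⟶ (inc G).obj c)
        change F.obj.map (InducedCategory.homMk ((inc G).map g.unop ≫ f)).op x =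
          F.obj.map g (F.obj.map (InducedCategory.homMk f).op x)
        rw [← comp_apply, ← Functor.map_comp]
        rfl }

lemma sigmaHom_app (F : ToposFin.Sh (Jg G)) (c : Cg G) (x : F.obj.obj (op c)) (c' : Cg G)
    (f : (inc G).obj c' ⟶ (inc G).obj c) :
    (sigmaHom G F c x).hom.app (op c') f = F.obj.map (InducedCategory.homMk f).op x := rfl

lemma jEpi_sigmaHom (F : ToposFin.Sh (Jg G)) :
    JEpi (fun l : (Σ c : Cg G, F.obj.obj (op c)) => sigmaHom G F l.1 l.2) := by
  apply jEpi_of_ljs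
  intro c x
  refine ⟨⊤, (Jg G).top_mem c, ?_⟩
  intro c' f _
  refine ⟨⟨c', F.obj.map f.op x⟩, 𝟙 _, ?_⟩
  change F.obj.map (InducedCategory.homMk (𝟙 _)).op (F.obj.map f.op x) = _
  have : (InducedCategory.homMk (𝟙 (G c')) : c' ⟶ c') = 𝟙 c' := rfl
  rw [this, op_id, CategoryTheory.Functor.map_id]
  rfl


section Assembly

variable [HasFiniteLimits E] (hb : SGA4.HasDisjointUniversalCoproducts.{v, u} E)
  (hc : ∀ (R A : E) (p₁ p₂ : R ⟶ A), SGA4.IsEquivRel p₁ p₂ →
    SGA4.IsEffectiveUniversalEquivRel p₁ p₂)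

include hb in
/-- every sheaf is covered by the image of a coproduct of generators. -/
lemma exists_epi_Phi (F : ToposFin.Sh (Jg G)) :
    ∃ (P : E) (p' : (Phi G).obj P ⟶ F), Epi p' := by
  obtain ⟨cP, hcol, hdisj, huniv⟩ :=
    hb (Σ c : Cg G, F.obj.obj (op c)) (fun l => (inc G).obj l.1)
  obtain ⟨hΦ⟩ := nonempty_isColimit_Phi_cofan G hb cP hcol hdisj huniv
  let p' : (Phi G).obj cP.pt ⟶ F :=
    Cofan.IsColimit.desc hΦ (fun l => sigmaHom G F l.1 l.2)
  have hfac : ∀ l, (Phi G).map (cP.inj l) ≫ p' = sigmaHom G F l.1 l.2 := fun l =>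
    Cofan.IsColimit.fac hΦ _ l
  refine ⟨cP.pt, p', ⟨fun {Z} a b hab => ?_⟩⟩
  refine jEpi_sigmaHom G F a b (fun l => ?_)
  change sigmaHom G F l.1 l.2 ≫ a = sigmaHom G F l.1 l.2 ≫ b
  rw [← hfac l, Category.assoc, Category.assoc, hab]

lemma Phi_prod_hom_ext {P P' : E} {W : ToposFin.Sh (Jg G)} (u v : W ⟶ (Phi G).obj (P ⨯ P'))
    (h1 : u ≫ (Phi G).map prod.fst = v ≫ (Phi G).map prod.fst)
    (h2 : u ≫ (Phi G).map prod.snd = v ≫ (Phi G).map prod.snd) : u = v := by
  have hl : IsLimit (BinaryFan.mk ((Phi G).map (prod.fst : P ⨯ P' ⟶ P))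
      ((Phi G).map (prod.snd : P ⨯ P' ⟶ P'))) :=
    (isLimitMapConeBinaryFanEquiv (Phi G) prod.fst prod.snd).1
      (isLimitOfPreserves (Phi G) (prodIsProd P P'))
  exact BinaryFan.IsLimit.hom_ext hl h1 h2

include hb hc in
theorem exists_iso_Phi (F : ToposFin.Sh (Jg G)) : ∃ X : E, Nonempty ((Phi G).obj X ≅ F) := by
  obtain ⟨P, p', hp'⟩ := exists_epi_Phi G hb F
  obtain ⟨Q, q', hq'⟩ := exists_epi_Phi G hb (pullback p' p')
  -- the two maps `Q ⇉ P`
  let q₁ : Q ⟶ P := (Phi G).preimage (q' ≫ pullback.fst p' p')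
  let q₂ : Q ⟶ P := (Phi G).preimage (q' ≫ pullback.snd p' p')
  have hq₁ : (Phi G).map q₁ = q' ≫ pullback.fst p' p' := (Phi G).map_preimage _
  have hq₂ : (Phi G).map q₂ = q' ≫ pullback.snd p' p' := (Phi G).map_preimage _
  let q : Q ⟶ P ⨯ P := prod.lift q₁ q₂
  obtain ⟨R, e, hpbS, hpoS, heffS⟩ := hc _ _ _ _ (isEquivRel_kernelPair q)
  let m : R ⟶ P ⨯ P := hpoS.desc q q pullback.condition
  have hem : e ≫ m = q := hpoS.inl_desc _ _ _
  have hmono : Mono m := by
    refine mono_of_isPullback_of_effectiveEpi (p₁ := pullback.fst q q) (p₂ := pullback.snd q q)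
      (π := e) m ?_ hpbS.w heffS
    rw [hem]
    exact IsPullback.of_hasPullback q q
  let r₁ : R ⟶ P := m ≫ prod.fst
  let r₂ : R ⟶ P := m ≫ prod.snd
  have her₁ : e ≫ r₁ = q₁ := by
    change e ≫ m ≫ prod.fst = q₁
    rw [← Category.assoc, hem]
    exact prod.lift_fst _ _
  have her₂ : e ≫ r₂ = q₂ := by
    change e ≫ m ≫ prod.snd = q₂
    rw [← Category.assoc, hem]
    exact prod.lift_snd _ _
  have hΦe : Epi ((Phi G).map e) :=
    epi_Phi_map_of_generate_singleton_mem G e (generate_singleton_mem_canonical e heffS)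
  have hcoeq : (Phi G).map r₁ ≫ p' = (Phi G).map r₂ ≫ p' := by
    rw [← cancel_epi ((Phi G).map e), ← Category.assoc, ← Category.assoc, ← Functor.map_comp,
      ← Functor.map_comp, her₁, her₂, hq₁, hq₂, Category.assoc, Category.assoc, pullback.condition]
  let θ : (Phi G).obj R ⟶ pullback p' p' := pullback.lift ((Phi G).map r₁) ((Phi G).map r₂) hcoeq
  have hθ₁ : θ ≫ pullback.fst p' p' = (Phi G).map r₁ := pullback.lift_fst _ _ _
  have hθ₂ : θ ≫ pullback.snd p' p' = (Phi G).map r₂ := pullback.lift_snd _ _ _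
  have hθ : (Phi G).map e ≫ θ = q' := by
    apply pullback.hom_ext
    · rw [Category.assoc, hθ₁, ← Functor.map_comp, her₁, hq₁]
    · rw [Category.assoc, hθ₂, ← Functor.map_comp, her₂, hq₂]
  have hθepi : Epi θ := epi_of_epi_fac hθ
  have hθmono : Mono θ := by
    constructor
    intro W u v huv
    have h1 : u ≫ (Phi G).map r₁ = v ≫ (Phi G).map r₁ := by
      rw [← hθ₁, ← Category.assoc, huv, Category.assoc]
    have h2 : u ≫ (Phi G).map r₂ = v ≫ (Phi G).map r₂ := by
      rw [← hθ₂, ← Category.assoc, huv, Category.assoc]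
    have hΦm : Mono ((Phi G).map m) := inferInstance
    rw [← cancel_mono ((Phi G).map m)]
    apply Phi_prod_hom_ext
    · rw [Category.assoc, Category.assoc, ← Functor.map_comp]
      exact h1
    · rw [Category.assoc, Category.assoc, ← Functor.map_comp]
      exact h2
  have hθiso : IsIso θ := isIso_of_mono_of_epi θ
  have hinv₁ : inv θ ≫ (Phi G).map r₁ = pullback.fst p' p' := by
    rw [IsIso.inv_comp_eq, hθ₁]
  have hinv₂ : inv θ ≫ (Phi G).map r₂ = pullback.snd p' p' := by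
    rw [IsIso.inv_comp_eq, hθ₂]
  -- the relation `R ⇉ P` is an equivalence relation
  have key : ∀ (T₀ : E) (a b : T₀ ⟶ P), (∃ f : T₀ ⟶ R, f ≫ r₁ = a ∧ f ≫ r₂ = b) ↔
      (Phi G).map a ≫ p' = (Phi G).map b ≫ p' := by
    intro T₀ a b
    constructor
    · rintro ⟨f, rfl, rfl⟩
      have e1 : (Phi G).map (f ≫ r₁) ≫ p' = (Phi G).map f ≫ (Phi G).map r₁ ≫ p' := by
        rw [Functor.map_comp, Category.assoc]
      have e2 : (Phi G).map (f ≫ r₂) ≫ p' = (Phi G).map f ≫ (Phi G).map r₂ ≫ p' := by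
        rw [Functor.map_comp, Category.assoc]
      rw [e1, e2, hcoeq]
    · intro h
      let t : (Phi G).obj T₀ ⟶ pullback p' p' := pullback.lift _ _ h
      refine ⟨(Phi G).preimage (t ≫ inv θ), ?_, ?_⟩
      · apply (Phi G).map_injective
        rw [Functor.map_comp, Functor.map_preimage, Category.assoc, hinv₁]
        exact pullback.lift_fst _ _ _
      · apply (Phi G).map_injective
        rw [Functor.map_comp, Functor.map_preimage, Category.assoc, hinv₂]
        exact pullback.lift_snd _ _ _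
  have hRel : SGA4.IsEquivRel r₁ r₂ := by
    intro T₀
    constructor
    · intro f g hfg
      simp only [Prod.mk.injEq] at hfg
      rw [← cancel_mono m]
      apply Limits.prod.hom_ext
      · rw [Category.assoc, Category.assoc]; exact hfg.1
      · rw [Category.assoc, Category.assoc]; exact hfg.2
    · refine ⟨fun a => (key T₀ a a).2 rfl, fun {a b} h => (key T₀ b a).2 ((key T₀ a b).1 h).symm,
        fun {a b c} h1 h2 => (key T₀ a c).2 (((key T₀ a b).1 h1).trans ((key T₀ b c).1 h2))⟩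
  obtain ⟨X, π, hpbR, hpoR, heffR⟩ := hc _ _ _ _ hRel
  have hΦπ : Epi ((Phi G).map π) :=
    epi_Phi_map_of_generate_singleton_mem G π (generate_singleton_mem_canonical π heffR)
  have hΦR : IsPullback ((Phi G).map r₁) ((Phi G).map r₂) ((Phi G).map π) ((Phi G).map π) :=
    hpbR.map (Phi G)
  obtain ⟨ψ, hψ⟩ := exists_desc_of_epi hΦR p' hcoeq
  have hψepi : Epi ψ := epi_of_epi_fac hψ
  have hψmono : Mono ψ := by
    refine mono_of_isPullback_of_effectiveEpi (p₁ := (Phi G).map r₁) (p₂ := (Phi G).map r₂)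
      (π := (Phi G).map π) ψ ?_ hΦR.w (fun B' g => effectiveEpi_pullback_snd_sheaf _ g)
    rw [hψ]
    exact IsPullback.of_iso_pullback ⟨hcoeq⟩ (asIso θ) hθ₁ hθ₂
  have hψiso : IsIso ψ := isIso_of_mono_of_epi ψ
  exact ⟨X, ⟨asIso ψ⟩⟩

include hb hc in
lemma essSurj_Phi : (Phi G).EssSurj :=
  ⟨fun F => exists_iso_Phi G hb hc F⟩

include hb hc in
lemma isEquivalence_Phi : (Phi G).IsEquivalence := by
  have := essSurj_Phi G hb hc
  exact { }

end Assembly

/-- the implication from the exactness conditions and a small detecting family to being a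
category of sheaves on a small site. -/
theorem giraud {E : Type v} [Category.{u} E] [HasFiniteLimits E]
    (hb : SGA4.HasDisjointUniversalCoproducts.{v, u} E)
    (hc : ∀ (R A : E) (p₁ p₂ : R ⟶ A), SGA4.IsEquivRel p₁ p₂ →
      SGA4.IsEffectiveUniversalEquivRel p₁ p₂)
    (hd : ∃ P : ObjectProperty E, ObjectProperty.Small.{u} P ∧ P.IsDetecting) :
    SGA4.IsTopos.{v, u} E := by
  obtain ⟨P, hPs, hPd⟩ := hd
  have : Small.{u} (Subtype P) := hPs
  let G : Shrink.{u} (Subtype P) → E := fun i => ((equivShrink (Subtype P)).symm i).1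
  have hdet : ∀ ⦃X Y : E⦄ (f : X ⟶ Y),
      (∀ (i : Shrink.{u} (Subtype P)) (h : G i ⟶ Y), ∃! h' : G i ⟶ X, h' ≫ f = h) → IsIso f := by
    intro X Y f hf
    apply hPd
    intro G' hG' h
    have key : ∀ (i : Shrink.{u} (Subtype P)) (g : Subtype P),
        (equivShrink (Subtype P)).symm i = g → ∀ h : g.1 ⟶ Y, ∃! h' : g.1 ⟶ X, h' ≫ f = h := by
      rintro i g rfl h
      exact hf i h
    exact key (equivShrink (Subtype P) ⟨G', hG'⟩) ⟨G', hG'⟩ (Equiv.symm_apply_apply _ _) h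
  have : (inc G).IsCoverDense (Sheaf.canonicalTopology E) :=
    isCoverDense_inducedFunctor G hb hc hdet
  have := isEquivalence_Phi G hb hc
  exact ⟨Cg G, inferInstance, Jg G, ⟨(Phi G).asEquivalence⟩⟩

end Groth.Agent.Lib.Helper45.Giraud
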