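import Groth.Prelude.Def_SGA4a
import Mathlib.CategoryTheory.Limits.VanKampen
import Mathlib.CategoryTheory.Limits.Shapes.RegularMono
import Mathlib.CategoryTheory.Limits.Preserves.Shapes.Pullbacks
import Mathlib.CategoryTheory.Limits.Preserves.Shapes.Equalizers
import Mathlib.CategoryTheory.Limits.Preserves.Shapes.BinaryProducts
import Mathlib.CategoryTheory.Limits.Preserves.Shapes.Products
import Mathlib.CategoryTheory.Limits.Preserves.Shapes.Terminal
import Mathlib.CategoryTheory.Limits.Preserves.Finite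
import Mathlib.CategoryTheory.EffectiveEpi.Comp

set_option autoImplicit false
set_option backward.isDefEq.respectTransparency false
universe w w' v v₁ v₂ u

open CategoryTheory CategoryTheory.Limits Opposite

namespace Groth.Agent.Lib.Helper45.Glue

section EquivRel

variable {E : Type v} [Category.{u} E] [HasFiniteLimits E]
  {E' : Type v₁} [Category.{u} E'] (F : E ⥤ E') [PreservesFiniteLimits F]

lemma map_prod_hom_ext {P P' : E} {W : E'} (x y : W ⟶ F.obj (P ⨯ P'))
    (h1 : x ≫ F.map prod.fst = y ≫ F.map prod.fst)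
    (h2 : x ≫ F.map prod.snd = y ≫ F.map prod.snd) : x = y := by
  have hl : IsLimit (BinaryFan.mk (F.map (prod.fst : P ⨯ P' ⟶ P))
      (F.map (prod.snd : P ⨯ P' ⟶ P'))) :=
    (isLimitMapConeBinaryFanEquiv F prod.fst prod.snd).1
      (isLimitOfPreserves F (prodIsProd P P'))
  exact BinaryFan.IsLimit.hom_ext hl h1 h2

/-- a functor preserving finite limits preserves equivalence relations. -/
lemma isEquivRel_map {R A : E} {p₁ p₂ : R ⟶ A} (h : SGA4.IsEquivRel p₁ p₂) :
    SGA4.IsEquivRel (F.map p₁) (F.map p₂) := by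
  intro T
  constructor
  · intro f g hfg
    simp only [Prod.mk.injEq] at hfg
    have hm : Mono (prod.lift p₁ p₂) := by
      constructor
      intro W x y hxy
      apply (h W).1
      simp only [Prod.mk.injEq]
      constructor
      · have := congrArg (fun t => t ≫ prod.fst) hxy
        simpa using this
      · have := congrArg (fun t => t ≫ prod.snd) hxy
        simpa using this
    have hFm : Mono (F.map (prod.lift p₁ p₂)) := inferInstance
    rw [← cancel_mono (F.map (prod.lift p₁ p₂))]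
    apply map_prod_hom_ext F
    · rw [Category.assoc, Category.assoc, ← F.map_comp, prod.lift_fst]
      exact hfg.1
    · rw [Category.assoc, Category.assoc, ← F.map_comp, prod.lift_snd]
      exact hfg.2
  · obtain ⟨r, hr₁, hr₂⟩ := (h A).2.refl (𝟙 A)
    obtain ⟨s, hs₁, hs₂⟩ := (h R).2.symm ⟨𝟙 R, Category.id_comp _, Category.id_comp _⟩
    obtain ⟨t, ht₁, ht₂⟩ := (h (pullback p₂ p₁)).2.trans
      (x := pullback.fst p₂ p₁ ≫ p₁) (y := pullback.fst p₂ p₁ ≫ p₂)
      (z := pullback.snd p₂ p₁ ≫ p₂)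
      ⟨pullback.fst p₂ p₁, rfl, rfl⟩ ⟨pullback.snd p₂ p₁, pullback.condition.symm, rfl⟩
    have hpb := (IsPullback.of_hasPullback p₂ p₁).map F
    refine ⟨fun a => ⟨a ≫ F.map r, ?_, ?_⟩, ?_, ?_⟩
    · rw [Category.assoc, ← F.map_comp, hr₁, F.map_id, Category.comp_id]
    · rw [Category.assoc, ← F.map_comp, hr₂, F.map_id, Category.comp_id]
    · rintro a b ⟨f, hf₁, hf₂⟩
      refine ⟨f ≫ F.map s, ?_, ?_⟩
      · rw [Category.assoc, ← F.map_comp, hs₁, hf₂]
      · rw [Category.assoc, ← F.map_comp, hs₂, hf₁]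
    · rintro a b c ⟨f, hf₁, hf₂⟩ ⟨g, hg₁, hg₂⟩
      refine ⟨hpb.lift f g (hf₂.trans hg₁.symm) ≫ F.map t, ?_, ?_⟩
      · rw [Category.assoc, ← F.map_comp, ht₁, F.map_comp, ← Category.assoc, hpb.lift_fst, hf₁]
      · rw [Category.assoc, ← F.map_comp, ht₂, F.map_comp, ← Category.assoc, hpb.lift_snd, hg₂]

end EquivRel

section Single

variable {G : Type v} [Category.{u} G] {E : Type v₁} [Category.{u} E] (P : G ⥤ E)

lemma isIso_map_colimit_desc {K : Type w} [Category.{w'} K] {F : K ⥤ G} [HasColimit F]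
    [PreservesColimit F P] (c : Cocone F) (h : IsColimit (P.mapCocone c)) :
    IsIso (P.map (colimit.desc F c)) := by
  have h0 := isColimitOfPreserves P (colimit.isColimit F)
  have : P.map (colimit.desc F c) = (h0.coconePointUniqueUpToIso h).hom := by
    apply h0.hom_ext
    intro j
    rw [IsColimit.comp_coconePointUniqueUpToIso_hom]
    simp [← P.map_comp]
  rw [this]
  infer_instance

lemma isIso_map_pullback_lift [HasPullbacks G] [PreservesLimitsOfShape WalkingCospan P]
    {W X Y Z : G} {fst : W ⟶ X} {snd : W ⟶ Y} {f : X ⟶ Z} {g : Y ⟶ Z} (w : fst ≫ f = snd ≫ g)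
    (h : IsPullback (P.map fst) (P.map snd) (P.map f) (P.map g)) :
    IsIso (P.map (pullback.lift fst snd w)) := by
  have hpb := (IsPullback.of_hasPullback f g).map P
  have : P.map (pullback.lift fst snd w) = (h.isoIsPullback _ _ hpb).hom := by
    apply hpb.hom_ext
    · rw [IsPullback.isoIsPullback_hom_fst, ← P.map_comp, pullback.lift_fst]
    · rw [IsPullback.isoIsPullback_hom_snd, ← P.map_comp, pullback.lift_snd]
  rw [this]
  infer_instance

lemma isIso_map_equalizer_ι [HasEqualizers G] [PreservesLimitsOfShape WalkingParallelPair P]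
    {X Y : G} (f g : X ⟶ Y) (h : P.map f = P.map g) : IsIso (P.map (equalizer.ι f g)) := by
  have hl := isLimitForkMapOfIsLimit P (equalizer.condition f g) (equalizerIsEqualizer f g)
  exact isIso_limit_cone_parallelPair_of_eq h hl

end Single

section Pair

variable {G : Type v} [Category.{u} G] {E₁ : Type v₁} [Category.{u} E₁]
  {E₂ : Type v₂} [Category.{u} E₂] (P₁ : G ⥤ E₁) (P₂ : G ⥤ E₂)
  (hcons : ∀ ⦃X Y : G⦄ (f : X ⟶ Y), IsIso (P₁.map f) → IsIso (P₂.map f) → IsIso f)

include hcons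

lemma nonempty_isColimit_of_map {K : Type w} [Category.{w'} K] {F : K ⥤ G} [HasColimit F]
    [PreservesColimit F P₁] [PreservesColimit F P₂] (c : Cocone F)
    (h₁ : IsColimit (P₁.mapCocone c)) (h₂ : IsColimit (P₂.mapCocone c)) :
    Nonempty (IsColimit c) := by
  have : IsIso ((colimit.isColimit F).desc c) :=
    hcons _ (isIso_map_colimit_desc P₁ c h₁) (isIso_map_colimit_desc P₂ c h₂)
  exact ⟨IsColimit.ofPointIso (colimit.isColimit F)⟩

lemma isPullback_of_map [HasPullbacks G] [PreservesLimitsOfShape WalkingCospan P₁]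
    [PreservesLimitsOfShape WalkingCospan P₂]
    {W X Y Z : G} {fst : W ⟶ X} {snd : W ⟶ Y} {f : X ⟶ Z} {g : Y ⟶ Z} (w : fst ≫ f = snd ≫ g)
    (h₁ : IsPullback (P₁.map fst) (P₁.map snd) (P₁.map f) (P₁.map g))
    (h₂ : IsPullback (P₂.map fst) (P₂.map snd) (P₂.map f) (P₂.map g)) :
    IsPullback fst snd f g := by
  have : IsIso (pullback.lift fst snd w) :=
    hcons _ (isIso_map_pullback_lift P₁ w h₁) (isIso_map_pullback_lift P₂ w h₂)
  exact IsPullback.of_iso_pullback ⟨w⟩ (asIso (pullback.lift fst snd w))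
    (pullback.lift_fst _ _ _) (pullback.lift_snd _ _ _)

lemma eq_of_map_eq [HasEqualizers G] [PreservesLimitsOfShape WalkingParallelPair P₁]
    [PreservesLimitsOfShape WalkingParallelPair P₂] {X Y : G} (f g : X ⟶ Y)
    (h₁ : P₁.map f = P₁.map g) (h₂ : P₂.map f = P₂.map g) : f = g := by
  have : IsIso (equalizer.ι f g) :=
    hcons _ (isIso_map_equalizer_ι P₁ f g h₁) (isIso_map_equalizer_ι P₂ f g h₂)
  rw [← cancel_epi (equalizer.ι f g)]
  exact equalizer.condition f g

lemma mono_of_map [HasEqualizers G] [PreservesLimitsOfShape WalkingParallelPair P₁]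
    [PreservesLimitsOfShape WalkingParallelPair P₂] {X Y : G} (f : X ⟶ Y)
    (h₁ : Mono (P₁.map f)) (h₂ : Mono (P₂.map f)) : Mono f := by
  constructor
  intro W x y hxy
  apply eq_of_map_eq P₁ P₂ hcons
  · rw [← cancel_mono (P₁.map f), ← P₁.map_comp, ← P₁.map_comp, hxy]
  · rw [← cancel_mono (P₂.map f), ← P₂.map_comp, ← P₂.map_comp, hxy]

end Pair

section Coproducts

lemma isUniversalColimit_of_hb {E : Type v} [Category.{u} E]
    (hb : SGA4.HasDisjointUniversalCoproducts.{v, u} E) {ι : Type u} {F : Discrete ι ⥤ E}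
    (c : Cocone F) (hc : IsColimit c) : IsUniversalColimit c := by
  obtain ⟨c₀, hc₀, _, hu₀⟩ := hb ι (F.obj ∘ Discrete.mk)
  let e : F ≅ Discrete.functor (F.obj ∘ Discrete.mk) := Discrete.natIsoFunctor
  have hu₁ : IsUniversalColimit ((Cocone.precompose e.hom).obj c₀) :=
    hu₀.precompose_isIso e.hom
  have hc₁ : IsColimit ((Cocone.precompose e.hom).obj c₀) :=
    (IsColimit.precomposeHomEquiv e c₀).symm hc₀
  exact hu₁.of_iso (hc₁.uniqueUpToIso hc)

variable {G : Type v} [Category.{u} G] {E : Type v₁} [Category.{u} E] (P : G ⥤ E)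

lemma mono_map_inj (hb : SGA4.HasDisjointUniversalCoproducts.{v₁, u} E) {ι : Type u}
    [PreservesColimitsOfShape (Discrete ι) P] {X : ι → G} {Z : G} (g : ∀ i, X i ⟶ Z)
    (hc : IsColimit (Cofan.mk Z g)) (i : ι) : Mono (P.map (g i)) := by
  obtain ⟨_, _, hdisj, _⟩ := hb ι (fun i => P.obj (X i))
  have hc' : IsColimit (Cofan.mk (P.obj Z) (fun i => P.map (g i))) :=
    (isColimitMapCoconeCofanMkEquiv P X g) (isColimitOfPreserves P hc)
  exact hdisj.mono_inj hc' i

lemma nonempty_isInitial_map_pullback (hb : SGA4.HasDisjointUniversalCoproducts.{v₁, u} E)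
    {ι : Type u} [HasPullbacks G] [PreservesLimitsOfShape WalkingCospan P]
    [PreservesColimitsOfShape (Discrete ι) P] {X : ι → G} {Z : G} (g : ∀ i, X i ⟶ Z)
    (hc : IsColimit (Cofan.mk Z g)) {i j : ι} (hij : i ≠ j) :
    Nonempty (IsInitial (P.obj (pullback (g i) (g j)))) := by
  obtain ⟨_, _, hdisj, _⟩ := hb ι (fun i => P.obj (X i))
  have hc' : IsColimit (Cofan.mk (P.obj Z) (fun i => P.map (g i))) :=
    (isColimitMapCoconeCofanMkEquiv P X g) (isColimitOfPreserves P hc)
  have sq := (IsPullback.of_hasPullback (g i) (g j)).map P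
  exact hdisj.nonempty_isInitial_of_ne hc' hij sq.cone sq.isLimit

end Coproducts

section PairCoproducts

variable {G : Type v} [Category.{u} G] {E₁ : Type v₁} [Category.{u} E₁]
  {E₂ : Type v₂} [Category.{u} E₂] (P₁ : G ⥤ E₁) (P₂ : G ⥤ E₂)
  (hcons : ∀ ⦃X Y : G⦄ (f : X ⟶ Y), IsIso (P₁.map f) → IsIso (P₂.map f) → IsIso f)
  [HasFiniteLimits G] [HasColimitsOfSize.{u, u} G]
  [PreservesFiniteLimits P₁] [PreservesFiniteLimits P₂]
  [PreservesColimitsOfSize.{u, u} P₁] [PreservesColimitsOfSize.{u, u} P₂]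

include hcons in
theorem hasDisjointUniversalCoproducts_of_pair
    (hb₁ : SGA4.HasDisjointUniversalCoproducts.{v₁, u} E₁)
    (hb₂ : SGA4.HasDisjointUniversalCoproducts.{v₂, u} E₂) :
    SGA4.HasDisjointUniversalCoproducts.{v, u} G := by
  intro ι X
  have hc := coproductIsCoproduct X
  have : HasFiniteColimits G := hasFiniteColimits_of_hasColimitsOfSize G
  have : PreservesFiniteColimits P₁ := PreservesColimitsOfSize.preservesFiniteColimits P₁
  have : PreservesFiniteColimits P₂ := PreservesColimitsOfSize.preservesFiniteColimits P₂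
  have hmono : ∀ i, Mono ((Cofan.mk (∐ X) (Sigma.ι X)).inj i) := fun i =>
    mono_of_map P₁ P₂ hcons _ (mono_map_inj P₁ hb₁ _ hc i) (mono_map_inj P₂ hb₂ _ hc i)
  refine ⟨Cofan.mk (∐ X) (Sigma.ι X), hc, ?_, ?_⟩
  · refine CoproductDisjoint.of_cofan hc
      (fun {i j} _ => pullback.cone (Sigma.ι X i) (Sigma.ι X j))
      (fun {i j} _ => pullback.isLimit _ _) (fun {i j} hij => ?_)
    have h₁ := (nonempty_isInitial_map_pullback P₁ hb₁ _ hc hij).some
    have h₂ := (nonempty_isInitial_map_pullback P₂ hb₂ _ hc hij).some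
    have : IsIso (initial.to (pullback (Sigma.ι X i) (Sigma.ι X j))) :=
      hcons _ (isIso_of_isInitial (IsInitial.isInitialObj P₁ _ initialIsInitial) h₁ _)
        (isIso_of_isInitial (IsInitial.isInitialObj P₂ _ initialIsInitial) h₂ _)
    exact IsInitial.ofIso initialIsInitial
      (asIso (initial.to (pullback (Sigma.ι X i) (Sigma.ι X j))))
  · intro F' c' α f h hα H
    have hu₁ : IsUniversalColimit (P₁.mapCocone (Cofan.mk (∐ X) (Sigma.ι X))) :=
      isUniversalColimit_of_hb hb₁ _ (isColimitOfPreserves P₁ hc)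
    have hu₂ : IsUniversalColimit (P₂.mapCocone (Cofan.mk (∐ X) (Sigma.ι X))) :=
      isUniversalColimit_of_hb hb₂ _ (isColimitOfPreserves P₂ hc)
    obtain ⟨k₁⟩ := hu₁ (P₁.mapCocone c') (Functor.whiskerRight α P₁) (P₁.map f)
      (by ext j; simpa using! P₁.congr_map (NatTrans.congr_app h j))
      (hα.whiskerRight P₁) (fun j ↦ (H j).map P₁)
    obtain ⟨k₂⟩ := hu₂ (P₂.mapCocone c') (Functor.whiskerRight α P₂) (P₂.map f)
      (by ext j; simpa using! P₂.congr_map (NatTrans.congr_app h j))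
      (hα.whiskerRight P₂) (fun j ↦ (H j).map P₂)
    exact nonempty_isColimit_of_map P₁ P₂ hcons c' k₁ k₂

end PairCoproducts

section Quotients

variable {E : Type v₁} [Category.{u} E]

lemma isColimit_cofork_of_isPushout {R A B : E} {q₁ q₂ : R ⟶ A} {π : A ⟶ B}
    (hpo : IsPushout q₁ q₂ π π) : Nonempty (IsColimit (Cofork.ofπ π hpo.w)) := by
  refine ⟨Cofork.IsColimit.mk' _ fun s => ⟨hpo.desc s.π s.π s.condition, hpo.inl_desc _ _ _,
    fun {m} hm => hpo.hom_ext ?_ ?_⟩⟩
  · rw [hpo.inl_desc]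
    exact hm
  · rw [hpo.inr_desc]
    exact hm

lemma isPushout_of_coequalizer {R A B : E} {p₁ p₂ : R ⟶ A} {π : A ⟶ B} (w : p₁ ≫ π = p₂ ≫ π)
    (hπ : IsColimit (Cofork.ofπ π w)) (r : A ⟶ R) (hr₁ : r ≫ p₁ = 𝟙 A) (hr₂ : r ≫ p₂ = 𝟙 A) :
    IsPushout p₁ p₂ π π := by
  have key : ∀ s : PushoutCocone p₁ p₂, s.inl = s.inr := fun s => by
    calc s.inl = r ≫ p₁ ≫ s.inl := by rw [← Category.assoc, hr₁, Category.id_comp]
      _ = r ≫ p₂ ≫ s.inr := by rw [s.condition]
      _ = s.inr := by rw [← Category.assoc, hr₂, Category.id_comp]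
  have key2 : ∀ s : PushoutCocone p₁ p₂, p₁ ≫ s.inl = p₂ ≫ s.inl := fun s => by
    rw [s.condition, key s]
  refine ⟨⟨w⟩, ⟨PushoutCocone.IsColimit.mk _
    (fun s => Cofork.IsColimit.desc hπ s.inl (key2 s)) (fun s => ?_) (fun s => ?_)
    (fun s m h1 _ => ?_)⟩⟩
  · exact Cofork.IsColimit.π_desc' hπ _ _
  · rw [← key s]
    exact Cofork.IsColimit.π_desc' hπ _ _
  · apply Cofork.IsColimit.hom_ext hπ
    rw [Cofork.IsColimit.π_desc' hπ]
    exact h1

lemma effectiveEpi_of_isPullback_of_universal [HasPullbacks E] {A B : E} (π : A ⟶ B)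
    (heff : ∀ (B' : E) (g : B' ⟶ B), EffectiveEpi (pullback.snd π g)) {X' B' : E} {a : X' ⟶ A}
    {φ : X' ⟶ B'} {g : B' ⟶ B} (sq : IsPullback a φ π g) : EffectiveEpi φ := by
  have := heff B' g
  have h : φ = sq.isoPullback.hom ≫ pullback.snd π g := by simp
  rw [h]
  infer_instance

variable {G : Type v} [Category.{u} G] (P : G ⥤ E)

lemma isIso_map_coequalizer_desc [HasCoequalizers G]
    [PreservesColimitsOfShape WalkingParallelPair P] {R X Y : G} (k₁ k₂ : R ⟶ X) (f : X ⟶ Y)
    (w : k₁ ≫ f = k₂ ≫ f) (w' : P.map k₁ ≫ P.map f = P.map k₂ ≫ P.map f)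
    (h : IsColimit (Cofork.ofπ (P.map f) w')) : IsIso (P.map (coequalizer.desc f w)) := by
  have hq := isColimitCoforkMapOfIsColimit P (coequalizer.condition k₁ k₂)
    (coequalizerIsCoequalizer k₁ k₂)
  have : P.map (coequalizer.desc f w) = (hq.coconePointUniqueUpToIso h).hom := by
    apply Cofork.IsColimit.hom_ext hq
    have h2 := IsColimit.comp_coconePointUniqueUpToIso_hom hq h WalkingParallelPair.one
    refine Eq.trans ?_ h2.symm
    change P.map (coequalizer.π k₁ k₂) ≫ P.map (coequalizer.desc f w) = P.map f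
    rw [← P.map_comp, coequalizer.π_desc]
  rw [this]
  infer_instance

lemma nonempty_isColimit_map_kernelPair [HasPullbacks G] [HasPullbacks E]
    [PreservesLimitsOfShape WalkingCospan P] {X Y : G} (f : X ⟶ Y) [EffectiveEpi (P.map f)]
    (w' : P.map (pullback.fst f f) ≫ P.map f = P.map (pullback.snd f f) ≫ P.map f) :
    Nonempty (IsColimit (Cofork.ofπ (P.map f) w')) := by
  have sq := (IsPullback.of_hasPullback f f).map P
  exact ⟨isColimitCoforkOfEffectiveEpi (P.map f) sq.cone sq.isLimit⟩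

lemma map_coequalizer_facts [HasFiniteLimits G] [HasFiniteLimits E] [HasCoequalizers G]
    [PreservesFiniteLimits P] [PreservesColimitsOfShape WalkingParallelPair P]
    (hc : ∀ (R A : E) (p₁ p₂ : R ⟶ A), SGA4.IsEquivRel p₁ p₂ →
      SGA4.IsEffectiveUniversalEquivRel p₁ p₂)
    {R A : G} {p₁ p₂ : R ⟶ A} (h : SGA4.IsEquivRel p₁ p₂) :
    IsPullback (P.map p₁) (P.map p₂) (P.map (coequalizer.π p₁ p₂))
      (P.map (coequalizer.π p₁ p₂)) ∧
    ∀ (B' : E) (g : B' ⟶ P.obj (coequalizer p₁ p₂)),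
      EffectiveEpi (pullback.snd (P.map (coequalizer.π p₁ p₂)) g) := by
  obtain ⟨Bk, πk, hpb, hpo, heff⟩ := hc _ _ _ _ (isEquivRel_map P h)
  have hq := isColimitCoforkMapOfIsColimit P (coequalizer.condition p₁ p₂)
    (coequalizerIsCoequalizer p₁ p₂)
  obtain ⟨hq'⟩ := isColimit_cofork_of_isPushout hpo
  let e : Bk ≅ P.obj (coequalizer p₁ p₂) := hq'.coconePointUniqueUpToIso hq
  have he : πk ≫ e.hom = P.map (coequalizer.π p₁ p₂) :=
    IsColimit.comp_coconePointUniqueUpToIso_hom hq' hq WalkingParallelPair.one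
  have he' : P.map (coequalizer.π p₁ p₂) ≫ e.inv = πk := by
    rw [← he, Category.assoc, e.hom_inv_id, Category.comp_id]
  constructor
  · refine hpb.of_iso (Iso.refl _) (Iso.refl _) (Iso.refl _) e ?_ ?_ ?_ ?_
    · simp
    · simp
    · simpa using he
    · simpa using he
  · intro B' g
    have sq := IsPullback.of_hasPullback (P.map (coequalizer.π p₁ p₂)) g
    have sq' : IsPullback (pullback.fst (P.map (coequalizer.π p₁ p₂)) g)
        (pullback.snd (P.map (coequalizer.π p₁ p₂)) g) πk (g ≫ e.inv) := by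
      refine sq.of_iso (Iso.refl _) (Iso.refl _) (Iso.refl _) e.symm ?_ ?_ ?_ ?_
      · simp
      · simp
      · simpa using he'
      · simp
    exact effectiveEpi_of_isPullback_of_universal πk heff sq'

end Quotients

section PairQuotients

variable {G : Type v} [Category.{u} G] {E₁ : Type v₁} [Category.{u} E₁]
  {E₂ : Type v₂} [Category.{u} E₂] (P₁ : G ⥤ E₁) (P₂ : G ⥤ E₂)
  (hcons : ∀ ⦃X Y : G⦄ (f : X ⟶ Y), IsIso (P₁.map f) → IsIso (P₂.map f) → IsIso f)
  [HasFiniteLimits G] [HasColimitsOfSize.{u, u} G] [HasFiniteLimits E₁] [HasFiniteLimits E₂]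
  [PreservesFiniteLimits P₁] [PreservesFiniteLimits P₂]
  [PreservesColimitsOfSize.{u, u} P₁] [PreservesColimitsOfSize.{u, u} P₂]

include hcons in
lemma effectiveEpi_of_map {X Y : G} (f : X ⟶ Y) [EffectiveEpi (P₁.map f)]
    [EffectiveEpi (P₂.map f)] : EffectiveEpi f := by
  have : HasFiniteColimits G := hasFiniteColimits_of_hasColimitsOfSize G
  have : PreservesFiniteColimits P₁ := PreservesColimitsOfSize.preservesFiniteColimits P₁
  have : PreservesFiniteColimits P₂ := PreservesColimitsOfSize.preservesFiniteColimits P₂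
  have w₁ : P₁.map (pullback.fst f f) ≫ P₁.map f = P₁.map (pullback.snd f f) ≫ P₁.map f := by
    rw [← P₁.map_comp, ← P₁.map_comp, pullback.condition]
  have w₂ : P₂.map (pullback.fst f f) ≫ P₂.map f = P₂.map (pullback.snd f f) ≫ P₂.map f := by
    rw [← P₂.map_comp, ← P₂.map_comp, pullback.condition]
  obtain ⟨h₁⟩ := nonempty_isColimit_map_kernelPair P₁ f w₁
  obtain ⟨h₂⟩ := nonempty_isColimit_map_kernelPair P₂ f w₂
  have : IsIso (coequalizer.desc f pullback.condition) :=
    hcons _ (isIso_map_coequalizer_desc P₁ _ _ f pullback.condition w₁ h₁)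
      (isIso_map_coequalizer_desc P₂ _ _ f pullback.condition w₂ h₂)
  have hcol : IsColimit (Cofork.ofπ f pullback.condition) :=
    IsColimit.ofIsoColimit (coequalizerIsCoequalizer (pullback.fst f f) (pullback.snd f f))
      (Cofork.ext (asIso (coequalizer.desc f pullback.condition)) (by simp))
  exact effectiveEpi_of_kernelPair f hcol

include hcons in
theorem isEffectiveUniversalEquivRel_of_pair
    (hc₁ : ∀ (R A : E₁) (p₁ p₂ : R ⟶ A), SGA4.IsEquivRel p₁ p₂ →
      SGA4.IsEffectiveUniversalEquivRel p₁ p₂)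
    (hc₂ : ∀ (R A : E₂) (p₁ p₂ : R ⟶ A), SGA4.IsEquivRel p₁ p₂ →
      SGA4.IsEffectiveUniversalEquivRel p₁ p₂)
    {R A : G} {p₁ p₂ : R ⟶ A} (h : SGA4.IsEquivRel p₁ p₂) :
    SGA4.IsEffectiveUniversalEquivRel p₁ p₂ := by
  have : HasFiniteColimits G := hasFiniteColimits_of_hasColimitsOfSize G
  have : PreservesFiniteColimits P₁ := PreservesColimitsOfSize.preservesFiniteColimits P₁
  have : PreservesFiniteColimits P₂ := PreservesColimitsOfSize.preservesFiniteColimits P₂
  obtain ⟨f₁pb, f₁eff⟩ := map_coequalizer_facts P₁ hc₁ h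
  obtain ⟨f₂pb, f₂eff⟩ := map_coequalizer_facts P₂ hc₂ h
  obtain ⟨r, hr₁, hr₂⟩ := (h A).2.refl (𝟙 A)
  refine ⟨coequalizer p₁ p₂, coequalizer.π p₁ p₂, ?_, ?_, ?_⟩
  · exact isPullback_of_map P₁ P₂ hcons (coequalizer.condition p₁ p₂) f₁pb f₂pb
  · exact isPushout_of_coequalizer (coequalizer.condition p₁ p₂)
      (coequalizerIsCoequalizer p₁ p₂) r hr₁ hr₂
  · intro B' g
    have sq := IsPullback.of_hasPullback (coequalizer.π p₁ p₂) g
    have : EffectiveEpi (P₁.map (pullback.snd (coequalizer.π p₁ p₂) g)) :=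
      effectiveEpi_of_isPullback_of_universal _ f₁eff (sq.map P₁)
    have : EffectiveEpi (P₂.map (pullback.snd (coequalizer.π p₁ p₂) g)) :=
      effectiveEpi_of_isPullback_of_universal _ f₂eff (sq.map P₂)
    exact effectiveEpi_of_map P₁ P₂ hcons _

end PairQuotients

end Groth.Agent.Lib.Helper45.Glue
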