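import Mathlib.CategoryTheory.Presentable.OrthogonalReflection
import Mathlib.CategoryTheory.Presentable.Presheaf
import Mathlib.CategoryTheory.Presentable.Type
import Mathlib.CategoryTheory.Presentable.StrongGenerator
import Mathlib.CategoryTheory.Sites.Sheaf
import Mathlib.CategoryTheory.Sites.IsSheafFor

set_option autoImplicit false
set_option backward.isDefEq.respectTransparency false
universe w v u

open CategoryTheory CategoryTheory.Limits Opposite

namespace Groth.Agent.Lib.Helper45.Glue

lemma exists_regular_ge_forall {ι : Type u} (κs : ι → Cardinal.{u}) (κ₀ : Cardinal.{u}) :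
    ∃ κ : Cardinal.{u}, κ.IsRegular ∧ κ₀ ≤ κ ∧ ∀ i, κs i ≤ κ := by
  obtain ⟨κ, h₁, h₂⟩ := HasCardinalLT.exists_regular_cardinal_forall.{u}
    (Sum.elim (fun _ : Unit => κ₀.ord.ToType) (fun i : ι => (κs i).ord.ToType))
  refine ⟨κ, h₁, le_of_lt ?_, fun i => le_of_lt ?_⟩
  · simpa [hasCardinalLT_iff_cardinal_mk_lt] using h₂ (Sum.inl ⟨⟩)
  · simpa [hasCardinalLT_iff_cardinal_mk_lt] using h₂ (Sum.inr i)

lemma isCardinalLocallyPresentable_congr {A : Type v} [Category.{u} A] {P Q : ObjectProperty A}
    (h : P = Q) (κ : Cardinal.{u}) [Fact κ.IsRegular]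
    (hP : IsCardinalLocallyPresentable P.FullSubcategory κ) :
    IsCardinalLocallyPresentable Q.FullSubcategory κ := by
  subst h
  exact hP

variable {C : Type u} [SmallCategory C] (J : GrothendieckTopology C)

/-- the index type of covering sieves. -/
abbrev CovIdx : Type u := Σ c : C, {S : Sieve c // S ∈ J c}

/-- the inclusions of covering sieves into representable presheaves. -/
def sheafW : MorphismProperty (Cᵒᵖ ⥤ Type u) :=
  MorphismProperty.ofHoms (fun i : CovIdx J => i.2.1.functorInclusion)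

lemma isLocal_sheafW_iff (P : Cᵒᵖ ⥤ Type u) :
    (sheafW J).isLocal P ↔ Presheaf.IsSheaf J P := by
  rw [isSheaf_iff_isSheaf_of_type]
  constructor
  · intro h c S hS
    rw [Presieve.isSheafFor_iff_yonedaSheafCondition]
    intro f
    have := h _ (MorphismProperty.ofHoms.mk (⟨c, S, hS⟩ : CovIdx J))
    exact this.existsUnique f
  · intro h X Y f hf
    obtain ⟨⟨c, S, hS⟩⟩ := hf
    rw [Function.bijective_iff_existsUnique]
    exact Presieve.isSheafFor_iff_yonedaSheafCondition.1 (h S hS)

theorem exists_isCardinalLocallyPresentable_sheaf (κ₀ : Cardinal.{u}) :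
    ∃ (κ : Cardinal.{u}) (_ : Fact κ.IsRegular),
      κ₀ ≤ κ ∧ IsCardinalLocallyPresentable (Sheaf J (Type u)) κ := by
  have hd : ∀ i : CovIdx J, ∃ (κ : Cardinal.{u}) (_ : Fact κ.IsRegular),
      IsCardinalPresentable i.2.1.functor κ := fun i =>
    (inferInstance : IsPresentable.{u} i.2.1.functor).exists_cardinal
  have hc : ∀ i : CovIdx J, ∃ (κ : Cardinal.{u}) (_ : Fact κ.IsRegular),
      IsCardinalPresentable (yoneda.obj i.1) κ := fun i =>
    (inferInstance : IsPresentable.{u} (yoneda.obj i.1)).exists_cardinal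
  choose κd hκd hd' using hd
  choose κc hκc hc' using hc
  obtain ⟨κ, hκ, h₀, hle⟩ := exists_regular_ge_forall (Sum.elim κd κc) κ₀
  have : Fact κ.IsRegular := ⟨hκ⟩
  refine ⟨κ, inferInstance, h₀, ?_⟩
  have hW : ∀ ⦃X Y : Cᵒᵖ ⥤ Type u⦄ (f : X ⟶ Y), sheafW J f →
      IsCardinalPresentable X κ ∧ IsCardinalPresentable Y κ := by
    rintro _ _ _ ⟨i⟩
    have := hκd i
    have := hκc i
    have := hd' i
    have := hc' i
    have h1 : κd i ≤ κ := hle (Sum.inl i)
    have h2 : κc i ≤ κ := hle (Sum.inr i)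
    exact ⟨isCardinalPresentable_of_le _ h1, isCardinalPresentable_of_le _ h2⟩
  have : MorphismProperty.IsSmall.{u} (sheafW J) := by
    unfold sheafW
    infer_instance
  have := MorphismProperty.isLocallyPresentable_isLocal (sheafW J) κ hW
  exact isCardinalLocallyPresentable_congr
    (funext fun P => propext (isLocal_sheafW_iff J P)) κ this

end Groth.Agent.Lib.Helper45.Glue
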