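import Groth.Agent.Lib.Helper45.ToposFin7
import Mathlib.CategoryTheory.Sites.Pullback

/-!
# Finiteness conditions in a sheaf topos, part 8 (helper45): inverse image of representables
-/

set_option autoImplicit false
set_option backward.isDefEq.respectTransparency false
universe w w' v u

open CategoryTheory CategoryTheory.Limits Opposite

namespace Groth.Agent.Lib.Helper45

variable {C : Type u} [SmallCategory C] {J : GrothendieckTopology C}
variable {D : Type u} [SmallCategory D] {K : GrothendieckTopology D}

lemma bijective_eval_etaSec (V : C) (Z : ToposFin.Sh J) :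
    Function.Bijective (fun φ : ToposFin.eps J V ⟶ Z => φ.hom.app (op V) (etaSec J V)) :=
  ⟨fun φ ψ h => eps_hom_ext φ ψ h, fun s => ⟨secMap s, secMap_app_etaSec s⟩⟩

/-- an object corepresenting sections over `Y` is isomorphic to `eps J Y`. -/
lemma nonempty_iso_eps_of_bijective {E : ToposFin.Sh J} {Y : C} (η : E.obj.obj (op Y))
    (h : ∀ Z : ToposFin.Sh J, Function.Bijective (fun φ : E ⟶ Z => φ.hom.app (op Y) η)) :
    Nonempty (E ≅ ToposFin.eps J Y) := by
  obtain ⟨ψ, hψ⟩ := (h (ToposFin.eps J Y)).2 (etaSec J Y)
  dsimp only at hψ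
  refine ⟨⟨ψ, secMap η, ?_, ?_⟩⟩
  · apply (h E).1
    dsimp only
    simp only [ObjectProperty.FullSubcategory.comp_hom, NatTrans.comp_app, types_comp_apply,
      ObjectProperty.FullSubcategory.id_hom, NatTrans.id_app, types_id_apply]
    rw [hψ, secMap_app_etaSec]
  · apply eps_hom_ext
    simp only [ObjectProperty.FullSubcategory.comp_hom, NatTrans.comp_app, types_comp_apply,
      ObjectProperty.FullSubcategory.id_hom, NatTrans.id_app, types_id_apply]
    rw [secMap_app_etaSec, hψ]

/-- the inverse image of a representable sheaf along a continuous functor. -/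
lemma nonempty_sheafPullback_eps_iso (G : C ⥤ D) [Functor.IsContinuous G J K]
    [(G.sheafPushforwardContinuous (Type u) J K).IsRightAdjoint] (X : C) :
    Nonempty ((G.sheafPullback (Type u) J K).obj (ToposFin.eps J X) ≅ ToposFin.eps K (G.obj X)) := by
  let adj := G.sheafAdjunctionContinuous (Type u) J K
  let η : ((G.sheafPullback (Type u) J K).obj (ToposFin.eps J X)).obj.obj (op (G.obj X)) :=
    (adj.unit.app (ToposFin.eps J X)).hom.app (op X) (etaSec J X)
  refine nonempty_iso_eps_of_bijective η fun Z => ?_
  have h1 := (bijective_eval_etaSec X ((G.sheafPushforwardContinuous (Type u) J K).obj Z)).comp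
    (adj.homEquiv (ToposFin.eps J X) Z).bijective
  have h2 : (fun φ : (G.sheafPullback (Type u) J K).obj (ToposFin.eps J X) ⟶ Z =>
      φ.hom.app (op (G.obj X)) η) =
      (fun ψ : ToposFin.eps J X ⟶ (G.sheafPushforwardContinuous (Type u) J K).obj Z =>
        ψ.hom.app (op X) (etaSec J X)) ∘ (adj.homEquiv (ToposFin.eps J X) Z) := by
    funext φ
    simp only [Function.comp_apply, Adjunction.homEquiv_unit]
    rfl
  rw [h2]
  exact h1

/-- the sheaves `eps J X` form a generating set. -/
lemma isGenerating_range_eps (J : GrothendieckTopology C) :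
    ToposFin.IsGenerating (Set.range fun X : C => ToposFin.eps J X) := by
  intro X
  exact ⟨_, _, fun p : Σ V : C, X.obj.obj (op V) => secMap p.2, fun p => ⟨p.1, rfl⟩,
    (jEpi_iff_forall _).1 (jEpi_secMap X)⟩

end Groth.Agent.Lib.Helper45
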