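import Groth.Agent.Lib.Helper45.GlueA
import Groth.Agent.Lib.Helper45.GlueB
import Groth.Agent.Lib.Helper45.GiraudC
import Groth.Agent.Lib.Helper45.ToposFin8
import Mathlib.CategoryTheory.Limits.Comma

set_option autoImplicit false
set_option backward.isDefEq.respectTransparency false
universe w w' v u

open CategoryTheory CategoryTheory.Limits Opposite

namespace Groth.Agent.Lib.Helper45.Glue

section CommaLimits

variable {Jc : Type w} [Category.{w'} Jc] {A : Type*} [Category* A] {B : Type*} [Category* B]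
  {T : Type*} [Category* T] {L : A ⥤ T} {R : B ⥤ T}

instance preservesLimitsOfShape_fst [HasLimitsOfShape Jc A] [HasLimitsOfShape Jc B]
    [PreservesLimitsOfShape Jc R] : PreservesLimitsOfShape Jc (Comma.fst L R) where
  preservesLimit {F} :=
    preservesLimit_of_preserves_limit_cone
      (Comma.coneOfPreservesIsLimit F (limit.isLimit _) (limit.isLimit _))
      (limit.isLimit _)

instance preservesLimitsOfShape_snd [HasLimitsOfShape Jc A] [HasLimitsOfShape Jc B]
    [PreservesLimitsOfShape Jc R] : PreservesLimitsOfShape Jc (Comma.snd L R) where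
  preservesLimit {F} :=
    preservesLimit_of_preserves_limit_cone
      (Comma.coneOfPreservesIsLimit F (limit.isLimit _) (limit.isLimit _))
      (limit.isLimit _)

instance preservesFiniteLimits_fst [HasFiniteLimits A] [HasFiniteLimits B]
    [PreservesFiniteLimits R] : PreservesFiniteLimits (Comma.fst L R) where
  preservesFiniteLimits _ _ _ := inferInstance

instance preservesFiniteLimits_snd [HasFiniteLimits A] [HasFiniteLimits B]
    [PreservesFiniteLimits R] : PreservesFiniteLimits (Comma.snd L R) where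
  preservesFiniteLimits _ _ _ := inferInstance

instance preservesColimitsOfSize_fst [HasColimitsOfSize.{w', w} A] [HasColimitsOfSize.{w', w} B]
    [PreservesColimitsOfSize.{w', w} L] : PreservesColimitsOfSize.{w', w} (Comma.fst L R) where
  preservesColimitsOfShape := inferInstance

instance preservesColimitsOfSize_snd [HasColimitsOfSize.{w', w} A] [HasColimitsOfSize.{w', w} B]
    [PreservesColimitsOfSize.{w', w} L] : PreservesColimitsOfSize.{w', w} (Comma.snd L R) where
  preservesColimitsOfShape := inferInstance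

lemma comma_isIso_of {X Y : Comma L R} (f : X ⟶ Y) (h₁ : IsIso ((Comma.fst L R).map f))
    (h₂ : IsIso ((Comma.snd L R).map f)) : IsIso f := by
  have h₁' : IsIso f.left := h₁
  have h₂' : IsIso f.right := h₂
  have : f = (Comma.isoMk (asIso f.left) (asIso f.right) f.w).hom := by
    ext <;> rfl
  rw [this]
  infer_instance

end CommaLimits

section Glued

variable {C D : Type u} [SmallCategory C] [SmallCategory D] {J : GrothendieckTopology C}
  {K : GrothendieckTopology D} (ρ : ToposFin.Sh J ⥤ ToposFin.Sh K)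

/-- the glued category. -/
abbrev Gl : Type (u + 1) := Comma (𝟭 (ToposFin.Sh K)) ρ

/-- the structure morphism of an object of the glued category. -/
abbrev str {ρ : ToposFin.Sh J ⥤ ToposFin.Sh K} (Z : Gl ρ) : Z.left ⟶ ρ.obj Z.right := Z.hom

lemma str_naturality {ρ : ToposFin.Sh J ⥤ ToposFin.Sh K} {Z Z' : Gl ρ} (f : Z ⟶ Z') :
    f.left ≫ str Z' = str Z ≫ ρ.map f.right := f.w

section Exactness

variable [PreservesFiniteLimits ρ]

lemma hb_glued : SGA4.HasDisjointUniversalCoproducts.{u + 1, u} (Gl ρ) :=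
  hasDisjointUniversalCoproducts_of_pair (Comma.fst (𝟭 (ToposFin.Sh K)) ρ)
    (Comma.snd (𝟭 (ToposFin.Sh K)) ρ)
    (fun _ _ f h₁ h₂ => comma_isIso_of f h₁ h₂)
    (hasDisjointUniversalCoproducts_sheaf K) (hasDisjointUniversalCoproducts_sheaf J)

lemma hc_glued (R A : Gl ρ) (p₁ p₂ : R ⟶ A) (h : SGA4.IsEquivRel p₁ p₂) :
    SGA4.IsEffectiveUniversalEquivRel p₁ p₂ :=
  isEffectiveUniversalEquivRel_of_pair (Comma.fst (𝟭 (ToposFin.Sh K)) ρ)
    (Comma.snd (𝟭 (ToposFin.Sh K)) ρ)
    (fun _ _ f h₁ h₂ => comma_isIso_of f h₁ h₂)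
    (fun _ _ _ _ hR => isEffectiveUniversalEquivRel_sheaf hR)
    (fun _ _ _ _ hR => isEffectiveUniversalEquivRel_sheaf hR) h

end Exactness

section Generators

/-- generators of the first kind. -/
noncomputable def gen1 (X₀ : ToposFin.Sh J) : Gl ρ :=
  { left := ⊥_ (ToposFin.Sh K), right := X₀, hom := initial.to _ }

/-- generators of the second kind. -/
noncomputable def gen2 (X₀ : ToposFin.Sh J) (d : D) (b : (ρ.obj X₀).obj.obj (op d)) : Gl ρ :=
  { left := ToposFin.eps K d, right := X₀, hom := secMap b }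

variable {ρ}

noncomputable def gen1Hom {Z : Gl ρ} {X₀ : ToposFin.Sh J} (g : X₀ ⟶ Z.right) : gen1 ρ X₀ ⟶ Z :=
  { left := initial.to _, right := g, w := initialIsInitial.hom_ext _ _ }

noncomputable def gen2Hom {Z : Gl ρ} {X₀ : ToposFin.Sh J} {d : D} {b : (ρ.obj X₀).obj.obj (op d)}
    (y : Z.left.obj.obj (op d)) (g : X₀ ⟶ Z.right)
    (h : (str Z).hom.app (op d) y = (ρ.map g).hom.app (op d) b) : gen2 ρ X₀ d b ⟶ Z :=
  { left := secMap y, right := g, w := by
      change secMap y ≫ str Z = secMap b ≫ ρ.map g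
      rw [secMap_comp, secMap_comp, h] }

variable (ρ)

/-- the index type of the family of generators. -/
abbrev GenIdx (P : ObjectProperty (ToposFin.Sh J)) : Type (u + 1) :=
  Subtype P ⊕ Σ (X₀ : Subtype P) (d : D), (ρ.obj X₀.1).obj.obj (op d)

/-- the family of generators. -/
noncomputable def genFam (P : ObjectProperty (ToposFin.Sh J)) : GenIdx ρ P → Gl ρ
  | Sum.inl X₀ => gen1 ρ X₀.1
  | Sum.inr ⟨X₀, d, b⟩ => gen2 ρ X₀.1 d b

lemma injective_app_of_isIso {F F' : ToposFin.Sh K} (φ : F ⟶ F') [IsIso φ] (U : Dᵒᵖ) :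
    Function.Injective (φ.hom.app U) := by
  intro x y hxy
  have h1 := congrArg (fun t => t.hom.app U x) (IsIso.hom_inv_id φ)
  have h2 := congrArg (fun t => t.hom.app U y) (IsIso.hom_inv_id φ)
  have e1 : (inv φ).hom.app U (φ.hom.app U x) = x := h1
  have e2 : (inv φ).hom.app U (φ.hom.app U y) = y := h2
  rw [← e1, ← e2, hxy]

theorem isDetecting_genFam (P : ObjectProperty (ToposFin.Sh J))
    (hcov : ∀ (X : ToposFin.Sh J) (d : D) (z : (ρ.obj X).obj.obj (op d)), ∃ S ∈ K d,
      ∀ ⦃d' : D⦄ (e : d' ⟶ d), S e → ∃ (X₀ : ToposFin.Sh J) (_ : P X₀) (g : X₀ ⟶ X)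
        (b : (ρ.obj X₀).obj.obj (op d')),
        (ρ.map g).hom.app (op d') b = (ρ.obj X).obj.map e.op z)
    (hdet : ∀ ⦃X X' : ToposFin.Sh J⦄ (f : X ⟶ X'),
      (∀ X₀, P X₀ → Function.Bijective (fun g : X₀ ⟶ X => g ≫ f)) → IsIso f) :
    (ObjectProperty.ofObj (genFam ρ P)).IsDetecting := by
  intro Z Z' f hf
  -- the right component is an isomorphism
  have hright : IsIso f.right := by
    apply hdet
    intro X₀ hX₀
    rw [Function.bijective_iff_existsUnique]
    intro g
    obtain ⟨h', hh', huniq⟩ := hf _ (ObjectProperty.ofObj_apply _ (Sum.inl ⟨X₀, hX₀⟩))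
      (gen1Hom g)
    refine ⟨h'.right, congrArg CommaMorphism.right hh', ?_⟩
    intro g'' hg''
    have h3 : gen1Hom g'' = h' := huniq (gen1Hom g'') (by
      refine CommaMorphism.ext ?_ ?_
      · exact initialIsInitial.hom_ext _ _
      · exact hg'')
    exact (congrArg CommaMorphism.right h3)
  have hρ : IsIso (ρ.map f.right) := inferInstance
  -- the lifting property against generators of the second kind
  have h2 : ∀ (X₀ : ToposFin.Sh J) (hX₀ : P X₀) (d : D) (b : (ρ.obj X₀).obj.obj (op d))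
      (y' : Z'.left.obj.obj (op d)) (g : X₀ ⟶ Z'.right)
      (hcomm : (str Z').hom.app (op d) y' = (ρ.map g).hom.app (op d) b),
      ∃ y : Z.left.obj.obj (op d), f.left.hom.app (op d) y = y' := by
    intro X₀ hX₀ d b y' g hcomm
    obtain ⟨h', hh', -⟩ := hf _ (ObjectProperty.ofObj_apply _ (Sum.inr ⟨⟨X₀, hX₀⟩, d, b⟩))
      (gen2Hom y' g hcomm)
    refine ⟨h'.left.hom.app (op d) (etaSec K d), ?_⟩
    have h3 : h'.left ≫ f.left = secMap y' := congrArg CommaMorphism.left hh'
    have h4 := congrArg (fun t => t.hom.app (op d) (etaSec K d)) h3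
    exact h4.trans (secMap_app_etaSec y')
  have h2u : ∀ (X₀ : ToposFin.Sh J) (hX₀ : P X₀) (d : D) (b : (ρ.obj X₀).obj.obj (op d))
      (y₁ y₂ : Z.left.obj.obj (op d)) (g' : X₀ ⟶ Z.right)
      (hc₁ : (str Z).hom.app (op d) y₁ = (ρ.map g').hom.app (op d) b)
      (hc₂ : (str Z).hom.app (op d) y₂ = (ρ.map g').hom.app (op d) b)
      (heq : f.left.hom.app (op d) y₁ = f.left.hom.app (op d) y₂), y₁ = y₂ := by
    intro X₀ hX₀ d b y₁ y₂ g' hc₁ hc₂ heq
    obtain ⟨h', -, huniq⟩ := hf _ (ObjectProperty.ofObj_apply _ (Sum.inr ⟨⟨X₀, hX₀⟩, d, b⟩))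
      (gen2Hom y₁ g' hc₁ ≫ f)
    have e1 : gen2Hom y₁ g' hc₁ = h' := huniq _ rfl
    have e2 : gen2Hom y₂ g' hc₂ = h' := huniq _ (by
      refine CommaMorphism.ext ?_ ?_
      · change secMap y₂ ≫ f.left = secMap y₁ ≫ f.left
        rw [secMap_comp, secMap_comp, heq]
      · rfl)
    have e3 : secMap y₁ = secMap y₂ := congrArg CommaMorphism.left (e1.trans e2.symm)
    have e4 := congrArg (fun t => t.hom.app (op d) (etaSec K d)) e3
    exact (secMap_app_etaSec y₁).symm.trans (e4.trans (secMap_app_etaSec y₂))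
  -- the left component is an epimorphism
  have hepi : Epi f.left := by
    apply epi_of_jEpi_punit.{0} f.left
    rw [jEpi_iff_ljs]
    intro d y'
    obtain ⟨S, hS, hSz⟩ := hcov Z'.right d ((str Z').hom.app (op d) y')
    refine ⟨S, hS, fun d' e he => ?_⟩
    obtain ⟨X₀, hX₀, g, b, hb⟩ := hSz e he
    obtain ⟨y, hy⟩ := h2 X₀ hX₀ d' b (Z'.left.obj.map e.op y') g (by
      rw [map_app_restrict, hb])
    exact ⟨PUnit.unit, y, hy⟩
  -- the left component is a monomorphism
  have hmono : Mono f.left := by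
    refine ⟨fun {W} a₁ a₂ ha => ?_⟩
    ext U t
    obtain ⟨d⟩ := U
    have heq : f.left.hom.app (op d) (a₁.hom.app (op d) t) = f.left.hom.app (op d) (a₂.hom.app (op d) t) :=
      congrArg (fun s => s.hom.app (op d) t) ha
    have hz : (str Z).hom.app (op d) (a₁.hom.app (op d) t) = (str Z).hom.app (op d) (a₂.hom.app (op d) t) := by
      apply injective_app_of_isIso (ρ.map f.right) (op d)
      have n1 := congrArg (fun s => s.hom.app (op d) (a₁.hom.app (op d) t)) (str_naturality f)
      have n2 := congrArg (fun s => s.hom.app (op d) (a₂.hom.app (op d) t)) (str_naturality f)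
      have n1' : (str Z').hom.app (op d) (f.left.hom.app (op d) (a₁.hom.app (op d) t)) =
        (ρ.map f.right).hom.app (op d) ((str Z).hom.app (op d) (a₁.hom.app (op d) t)) := n1
      have n2' : (str Z').hom.app (op d) (f.left.hom.app (op d) (a₂.hom.app (op d) t)) =
        (ρ.map f.right).hom.app (op d) ((str Z).hom.app (op d) (a₂.hom.app (op d) t)) := n2
      rw [← n1', ← n2', heq]
    obtain ⟨S, hS, hSz⟩ := hcov Z.right d ((str Z).hom.app (op d) (a₁.hom.app (op d) t))
    apply (((isSheaf_iff_isSheaf_of_type _ _).1 Z.left.2).isSeparated _ hS).ext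
    intro d' e he
    obtain ⟨X₀, hX₀, g, b, hb⟩ := hSz e he
    refine h2u X₀ hX₀ d' b _ _ g ?_ ?_ ?_
    · exact (map_app_restrict (str Z) e _).trans hb.symm
    · exact (map_app_restrict (str Z) e _).trans ((congrArg _ hz.symm).trans hb.symm)
    · exact (map_app_restrict f.left e _).trans
        ((congrArg _ heq).trans (map_app_restrict f.left e _).symm)
  have hleft : IsIso f.left := isIso_of_mono_of_epi f.left
  exact comma_isIso_of f hleft hright

end Generators

section Final

lemma jEpi_of_isColimit {Jc : Type w} [Category.{w'} Jc] {F : Jc ⥤ ToposFin.Sh K} (c : Cocone F)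
    (hc : IsColimit c) : JEpi (fun j => c.ι.app j) := by
  intro Z a b hab
  exact hc.hom_ext hab

theorem glued_isTopos [PreservesFiniteLimits ρ] [ρ.IsAccessible.{u}] :
    SGA4.IsTopos.{u + 1, u} (Comma (𝟭 (Sheaf K (Type u))) ρ) := by
  obtain ⟨κ₀, hκ₀, hacc⟩ := Functor.IsAccessible.exists_cardinal (F := ρ)
  obtain ⟨κ, hκ, hle, hlp⟩ := exists_isCardinalLocallyPresentable_sheaf J κ₀
  have hacc' : ρ.IsCardinalAccessible κ := Functor.isCardinalAccessible_of_le ρ hle
  obtain ⟨P, hPs, hP⟩ := HasCardinalFilteredGenerator.exists_small_generator (Sheaf J (Type u)) κ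
  have hcov : ∀ (X : ToposFin.Sh J) (d : D) (z : (ρ.obj X).obj.obj (op d)), ∃ S ∈ K d,
      ∀ ⦃d' : D⦄ (e : d' ⟶ d), S e → ∃ (X₀ : ToposFin.Sh J) (_ : P X₀) (g : X₀ ⟶ X)
        (b : (ρ.obj X₀).obj.obj (op d')),
        (ρ.map g).hom.app (op d') b = (ρ.obj X).obj.map e.op z := by
    intro X d z
    obtain ⟨Jc, _, _, ⟨p⟩⟩ := hP.exists_colimitsOfShape X
    have : PreservesColimitsOfShape Jc ρ := ρ.preservesColimitsOfShape_of_isCardinalAccessible κ Jc
    have hcol : IsColimit (ρ.mapCocone (Cocone.mk X p.ι)) := isColimitOfPreserves ρ p.isColimit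
    have hljs := ljs_of_jEpi _ (jEpi_of_isColimit _ hcol)
    obtain ⟨S, hS, hSz⟩ := hljs d z
    refine ⟨S, hS, fun d' e he => ?_⟩
    obtain ⟨j, y, hy⟩ := hSz e he
    exact ⟨p.diag.obj j, p.prop_diag_obj j, p.ι.app j, y, hy⟩
  have hdet : ∀ ⦃X X' : ToposFin.Sh J⦄ (f : X ⟶ X'),
      (∀ X₀, P X₀ → Function.Bijective (fun g : X₀ ⟶ X => g ≫ f)) → IsIso f := by
    intro X X' f hf
    have hsg := hP.isStrongGenerator
    have hmono : Mono f := by
      refine ⟨fun {W} x y hxy => ?_⟩
      apply hsg.isSeparating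
      intro G₀ hG₀ h
      apply (hf G₀ hG₀).1
      change (h ≫ x) ≫ f = (h ≫ y) ≫ f
      rw [Category.assoc, Category.assoc, hxy]
    exact hsg.isIso_of_mono f (fun G₀ hG₀ => (hf G₀ hG₀).2)
  have : Small.{u} (GenIdx ρ P) := inferInstance
  exact Giraud.giraud (hb_glued ρ) (hc_glued ρ)
    ⟨ObjectProperty.ofObj (genFam ρ P), inferInstance, isDetecting_genFam ρ P hcov hdet⟩

end Final

end Glued

end Groth.Agent.Lib.Helper45.Glue
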