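import Mathlib.CategoryTheory.Adjunction.FullyFaithful
import Mathlib.CategoryTheory.Comma.Basic
import Mathlib.CategoryTheory.Limits.Shapes.Pullback.IsPullback.Basic
import Mathlib.CategoryTheory.Limits.Preserves.Shapes.Pullbacks

/-!
# Gluing a category from two jointly conservative localizations (helper45)

Abstract Artin gluing: given adjunctions `jS ⊣ jL`, `iS ⊣ iL` with fully faithful right adjoints,
`jS ⋙`-image of `iL` terminal, `jS`, `iS` jointly conservative and preserving pullbacks, the
functor `glueFunctor : E ⥤ Comma (𝟭 F) (jL ⋙ iS)` is an equivalence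
(`Gluing.nonempty_glue_equivalence`); `Gluing.isPullback_fracture` is the fracture square.
-/

set_option autoImplicit false
universe v₁ v₂ v₃ v₄ u₁ u₂ u₃ u₄

open CategoryTheory CategoryTheory.Limits

namespace Groth.Agent.Lib.Helper45.Gluing

variable {E : Type u₁} [Category.{v₁} E] {F : Type u₂} [Category.{v₂} F]
  {O : Type u₃} [Category.{v₃} O]
  {jS : E ⥤ O} {jL : O ⥤ E} (adjJ : jS ⊣ jL) {iS : E ⥤ F} {iL : F ⥤ E} (adjI : iS ⊣ iL)

variable (iS) in
/-- the gluing functor `X ↦ (i^* X, j^* X, i^* X ⟶ i^* j_* j^* X)`. -/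
@[simps]
def glueFunctor : E ⥤ Comma (𝟭 F) (jL ⋙ iS) where
  obj X := { left := iS.obj X, right := jS.obj X, hom := iS.map (adjJ.unit.app X) }
  map {X X₂} f :=
    { left := iS.map f
      right := jS.map f
      w := by
        dsimp
        rw [← iS.map_comp, ← iS.map_comp]
        congr 1
        exact adjJ.unit.naturality f }

/-- a functor preserving a pullback sends the comparison morphism of a square whose image is cartesian
to an isomorphism. -/
lemma isIso_map_lift {D : Type u₄} [Category.{v₄} D] (G : E ⥤ D) {A B C' T : E} {h : A ⟶ C'}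
    {k : B ⟶ C'} [HasPullback h k] [PreservesLimit (cospan h k) G] (a : T ⟶ A) (b : T ⟶ B)
    (w : a ≫ h = b ≫ k) (sq : IsPullback (G.map a) (G.map b) (G.map h) (G.map k)) :
    IsIso (G.map (pullback.lift a b w)) := by
  have sq1 := (IsPullback.of_hasPullback h k).map G
  have e : G.map (pullback.lift a b w) = (sq.isoIsPullback _ _ sq1).hom := by
    apply sq1.hom_ext
    · rw [← G.map_comp, pullback.lift_fst, IsPullback.isoIsPullback_hom_fst]
    · rw [← G.map_comp, pullback.lift_snd, IsPullback.isoIsPullback_hom_snd]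
  rw [e]
  infer_instance

lemma isIso_of_isTerminal {D : Type u₄} [Category.{v₄} D] {A B : D} (hA : IsTerminal A)
    (hB : IsTerminal B) (f : A ⟶ B) : IsIso f := by
  have : f = (hA.uniqueUpToIso hB).hom := hB.hom_ext _ _
  rw [this]
  infer_instance

section

variable [iL.Full] [iL.Faithful] [jL.Full] [jL.Faithful]

lemma isIso_iS_map_unit (X : E) : IsIso (iS.map (adjI.unit.app X)) := by
  have e : iS.map (adjI.unit.app X) ≫ adjI.counit.app (iS.obj X) = 𝟙 _ :=
    adjI.left_triangle_components X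
  have : IsIso (iS.map (adjI.unit.app X) ≫ adjI.counit.app (iS.obj X)) := by
    rw [e]
    infer_instance
  exact IsIso.of_isIso_comp_right _ (adjI.counit.app (iS.obj X))

omit [iL.Full] [iL.Faithful] [jL.Full] [jL.Faithful] in
lemma fracture_comm (X : E) :
    adjI.unit.app X ≫ iL.map (iS.map (adjJ.unit.app X)) =
      adjJ.unit.app X ≫ adjI.unit.app (jL.obj (jS.obj X)) :=
  (adjI.unit.naturality (adjJ.unit.app X)).symm

variable [HasPullbacks E] [PreservesLimitsOfShape WalkingCospan jS]
  [PreservesLimitsOfShape WalkingCospan iS]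
  (hT : ∀ Y : F, IsTerminal (jS.obj (iL.obj Y)))
  (hcons : ∀ {X Y : E} (m : X ⟶ Y), IsIso (jS.map m) → IsIso (iS.map m) → IsIso m)

include hT hcons

/-- the fracture square of an object. -/
theorem isPullback_fracture (X : E) :
    IsPullback (adjI.unit.app X) (adjJ.unit.app X) (iL.map (iS.map (adjJ.unit.app X)))
      (adjI.unit.app (jL.obj (jS.obj X))) := by
  have w := fracture_comm adjJ adjI X
  have h1 : IsIso (jS.map (pullback.lift _ _ w)) := by
    apply isIso_map_lift
    have : IsIso (jS.map (adjJ.unit.app X)) := isIso_iS_map_unit adjJ X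
    have : IsIso (jS.map (iL.map (iS.map (adjJ.unit.app X)))) :=
      isIso_of_isTerminal (hT _) (hT _) _
    exact IsPullback.of_vert_isIso ⟨by rw [← jS.map_comp, ← jS.map_comp, w]⟩
  have h2 : IsIso (iS.map (pullback.lift _ _ w)) := by
    apply isIso_map_lift
    have : IsIso (iS.map (adjI.unit.app X)) := isIso_iS_map_unit adjI X
    have : IsIso (iS.map (adjI.unit.app (jL.obj (jS.obj X)))) := isIso_iS_map_unit adjI _
    exact IsPullback.of_horiz_isIso ⟨by rw [← iS.map_comp, ← iS.map_comp, w]⟩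
  have : IsIso (pullback.lift _ _ w) := hcons _ h1 h2
  exact IsPullback.of_iso_pullback ⟨w⟩ (asIso (pullback.lift _ _ w))
    (pullback.lift_fst _ _ _) (pullback.lift_snd _ _ _)

include adjI in
lemma faithful_glueFunctor : (glueFunctor adjJ iS).Faithful := by
  refine ⟨fun {X X₂} f g hfg => ?_⟩
  have hl : iS.map f = iS.map g := congrArg CommaMorphism.left hfg
  have hr : jS.map f = jS.map g := congrArg CommaMorphism.right hfg
  apply (isPullback_fracture adjJ adjI hT hcons X₂).hom_ext
  · have e1 := adjI.unit.naturality f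
    have e2 := adjI.unit.naturality g
    dsimp at e1 e2
    rw [e1, e2, hl]
  · have e1 := adjJ.unit.naturality f
    have e2 := adjJ.unit.naturality g
    dsimp at e1 e2
    rw [e1, e2, hr]

include adjI in
lemma exists_glue_preimage {X X₂ : E} (a : iS.obj X ⟶ iS.obj X₂) (b : jS.obj X ⟶ jS.obj X₂)
    (hw : a ≫ iS.map (adjJ.unit.app X₂) = iS.map (adjJ.unit.app X) ≫ iS.map (jL.map b)) :
    ∃ f : X ⟶ X₂, iS.map f = a ∧ jS.map f = b := by
  have sq := isPullback_fracture adjJ adjI hT hcons X₂
  have hcond : (adjI.unit.app X ≫ iL.map a) ≫ iL.map (iS.map (adjJ.unit.app X₂)) =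
      (adjJ.unit.app X ≫ jL.map b) ≫ adjI.unit.app (jL.obj (jS.obj X₂)) := by
    rw [Category.assoc, ← iL.map_comp, hw, ← iS.map_comp]
    exact (adjI.unit.naturality (adjJ.unit.app X ≫ jL.map b)).symm
  let f : X ⟶ X₂ := sq.lift _ _ hcond
  have hf1 : f ≫ adjI.unit.app X₂ = adjI.unit.app X ≫ iL.map a := sq.lift_fst _ _ _
  have hf2 : f ≫ adjJ.unit.app X₂ = adjJ.unit.app X ≫ jL.map b := sq.lift_snd _ _ _
  refine ⟨f, ?_, ?_⟩
  · apply (adjI.homEquiv _ _).injective
    rw [Adjunction.homEquiv_unit, Adjunction.homEquiv_unit, ← hf1]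
    exact (adjI.unit.naturality f).symm
  · apply (adjJ.homEquiv _ _).injective
    rw [Adjunction.homEquiv_unit, Adjunction.homEquiv_unit, ← hf2]
    exact (adjJ.unit.naturality f).symm

include adjI in
lemma full_glueFunctor : (glueFunctor adjJ iS).Full := by
  refine ⟨fun {X X₂} t => ?_⟩
  obtain ⟨f, h1, h2⟩ := exists_glue_preimage adjJ adjI hT hcons t.left t.right t.w
  exact ⟨f, CommaMorphism.ext h1 h2⟩

include adjI in
omit hcons in
lemma essSurj_glueFunctor : (glueFunctor adjJ iS).EssSurj := by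
  refine ⟨fun A => ?_⟩
  obtain ⟨Y, X', φ⟩ := A
  dsimp at φ
  let G := pullback (iL.map φ) (adjI.unit.app (jL.obj X'))
  let p₁ : G ⟶ iL.obj Y := pullback.fst _ _
  let p₂ : G ⟶ jL.obj X' := pullback.snd _ _
  have hc : p₁ ≫ iL.map φ = p₂ ≫ adjI.unit.app (jL.obj X') := pullback.condition
  have sqI : IsPullback (iS.map p₁) (iS.map p₂) (iS.map (iL.map φ))
      (iS.map (adjI.unit.app (jL.obj X'))) := (IsPullback.of_hasPullback _ _).map iS
  have sqJ : IsPullback (jS.map p₁) (jS.map p₂) (jS.map (iL.map φ))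
      (jS.map (adjI.unit.app (jL.obj X'))) := (IsPullback.of_hasPullback _ _).map jS
  have h1 : IsIso (iS.map p₁) := by
    have : IsIso (iS.map (adjI.unit.app (jL.obj X'))) := isIso_iS_map_unit adjI _
    exact sqI.isIso_fst_of_isIso
  have h2 : IsIso (jS.map p₂) := by
    have : IsIso (jS.map (iL.map φ)) := isIso_of_isTerminal (hT _) (hT _) _
    exact sqJ.isIso_snd_of_isIso
  let a : iS.obj G ≅ Y := asIso (iS.map p₁) ≪≫ asIso (adjI.counit.app Y)
  let b : jS.obj G ≅ X' := asIso (jS.map p₂) ≪≫ asIso (adjJ.counit.app X')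
  refine ⟨G, ⟨Comma.isoMk a b ?_⟩⟩
  change (iS.map p₁ ≫ adjI.counit.app Y) ≫ φ =
    iS.map (adjJ.unit.app G) ≫ iS.map (jL.map (jS.map p₂ ≫ adjJ.counit.app X'))
  have e1 : adjJ.unit.app G ≫ jL.map (jS.map p₂ ≫ adjJ.counit.app X') = p₂ := by
    rw [jL.map_comp, ← Category.assoc]
    have := adjJ.unit.naturality p₂
    dsimp at this
    rw [← this, Category.assoc]
    have t := adjJ.right_triangle_components X'
    rw [t, Category.comp_id]
  have e2 : adjI.counit.app Y ≫ φ = iS.map (iL.map φ) ≫ adjI.counit.app _ :=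
    (adjI.counit.naturality φ).symm
  rw [← iS.map_comp, e1, Category.assoc, e2, ← Category.assoc, ← iS.map_comp, hc, iS.map_comp,
    Category.assoc]
  have t := adjI.left_triangle_components (jL.obj X')
  rw [t, Category.comp_id]

include adjI adjJ in
/-- the gluing equivalence. -/
theorem nonempty_glue_equivalence : Nonempty (E ≌ Comma (𝟭 F) (jL ⋙ iS)) := by
  have := faithful_glueFunctor adjJ adjI hT hcons
  have := full_glueFunctor adjJ adjI hT hcons
  have := essSurj_glueFunctor adjJ adjI hT
  have : (glueFunctor adjJ iS).IsEquivalence := {}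
  exact ⟨(glueFunctor adjJ iS).asEquivalence⟩

end

end Groth.Agent.Lib.Helper45.Gluing
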