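import Groth.Prelude.Def_NonAbH1
import Mathlib.CategoryTheory.Sites.Point.Basic

/-!
# Torsors under Godement-type sheaves of groups have sections (general site)

Let `(D, K)` be a site with a family of points `Ψ k`, and `G` a sheaf of groups on it whose sections
over `V` are "functions on the points of `V`": there are evaluation homomorphisms
`ev k ψ : G(V) →* A k` for `ψ ∈ (Ψ k).fiber V`, natural in `V`, such that `G(V) → ∏_{k, ψ} A k` is
bijective (`EvalData`).  Then a `G`-pseudo-torsor `P` that has sections on the members of a covering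
sieve of an object `T` has a section over `T` (`nonempty_of_locally`): the Čech cocycle of the local
sections is split explicitly by evaluating at chosen lifts of the points.
-/

set_option autoImplicit false
set_option linter.style.haveILetI false
set_option linter.unusedSectionVars false
set_option backward.isDefEq.respectTransparency false

open CategoryTheory Opposite

namespace Groth.Agent.Lib.Helper45.Godement

universe w w₁ w₂ v u

section Pt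

variable {D : Type u} [Category.{v} D] {K : GrothendieckTopology D}
  (Ψ : GrothendieckTopology.Point.{w₂} K)

lemma exists_common {V₁ V₂ : D} (y₁ : Ψ.fiber.obj V₁) (y₂ : Ψ.fiber.obj V₂) :
    ∃ (Z : D) (a : Z ⟶ V₁) (b : Z ⟶ V₂) (z : Ψ.fiber.obj Z),
      Ψ.fiber.map a z = y₁ ∧ Ψ.fiber.map b z = y₂ := by
  let e₁ : Ψ.fiber.Elements := ⟨V₁, y₁⟩
  let e₂ : Ψ.fiber.Elements := ⟨V₂, y₂⟩
  exact ⟨(IsCofiltered.min e₁ e₂).1, (IsCofiltered.minToLeft e₁ e₂).1,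
    (IsCofiltered.minToRight e₁ e₂).1, (IsCofiltered.min e₁ e₂).2,
    (IsCofiltered.minToLeft e₁ e₂).2, (IsCofiltered.minToRight e₁ e₂).2⟩

lemma exists_equalize {V V' : D} (y : Ψ.fiber.obj V) (f g : V ⟶ V')
    (h : Ψ.fiber.map f y = Ψ.fiber.map g y) :
    ∃ (Z : D) (e : Z ⟶ V) (z : Ψ.fiber.obj Z), Ψ.fiber.map e z = y ∧ e ≫ f = e ≫ g := by
  let a : Ψ.fiber.Elements := ⟨V, y⟩
  let b : Ψ.fiber.Elements := ⟨V', Ψ.fiber.map f y⟩
  let f' : a ⟶ b := ⟨f, rfl⟩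
  let g' : a ⟶ b := ⟨g, h.symm⟩
  exact ⟨(IsCofiltered.eq f' g').1, (IsCofiltered.eqHom f' g').1, (IsCofiltered.eq f' g').2,
    (IsCofiltered.eqHom f' g').2, congrArg Subtype.val (IsCofiltered.eq_condition f' g')⟩

/-- Two lifts with the same image have a common refinement over the target. -/
lemma exists_cospan {V₁ V₂ V : D} (f₁ : V₁ ⟶ V) (f₂ : V₂ ⟶ V) (y₁ : Ψ.fiber.obj V₁)
    (y₂ : Ψ.fiber.obj V₂) (h : Ψ.fiber.map f₁ y₁ = Ψ.fiber.map f₂ y₂) :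
    ∃ (Z : D) (a : Z ⟶ V₁) (b : Z ⟶ V₂) (z : Ψ.fiber.obj Z),
      Ψ.fiber.map a z = y₁ ∧ Ψ.fiber.map b z = y₂ ∧ a ≫ f₁ = b ≫ f₂ := by
  obtain ⟨Z, a, b, z, ha, hb⟩ := exists_common Ψ y₁ y₂
  obtain ⟨Z', e, z', he, hee⟩ := exists_equalize Ψ z (a ≫ f₁) (b ≫ f₂) (by
    rw [Functor.map_comp_apply, Functor.map_comp_apply, ha, hb, h])
  refine ⟨Z', e ≫ a, e ≫ b, z', ?_, ?_, by simpa using hee⟩
  · rw [Functor.map_comp_apply, he, ha]
  · rw [Functor.map_comp_apply, he, hb]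

end Pt

variable {D : Type u} [Category.{v} D] {K : GrothendieckTopology D}
  {I : Type w₁} (Ψ : I → GrothendieckTopology.Point.{w₂} K) (A : I → Type w) [∀ k, Group (A k)]
  (G : Sheaf K GrpCat.{w})

/-- Evaluation data exhibiting `G(V)` as the product of the `A k` over all lifts of the points
`Ψ k` to `V`. -/
structure EvalData where
  ev : ∀ (k : I) {V : D} (_ : (Ψ k).fiber.obj V), G.obj.obj (op V) →* A k
  ev_map : ∀ (k : I) {V V' : D} (f : V' ⟶ V) (ψ' : (Ψ k).fiber.obj V') (g : G.obj.obj (op V)),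
    ev k ψ' (G.obj.map f.op g) = ev k ((Ψ k).fiber.map f ψ') g
  inj : ∀ {V : D} (g g' : G.obj.obj (op V)), (∀ k ψ, ev k ψ g = ev k ψ g') → g = g'
  surj : ∀ {V : D} (e : ∀ k, (Ψ k).fiber.obj V → A k),
    ∃ g : G.obj.obj (op V), ∀ k ψ, ev k ψ g = e k ψ

variable {Ψ A G}
variable {P : NonAbH1.GSheaf G} (hP : P.IsPseudoTorsor)

/-- The difference of two local sections on a common refinement. -/
noncomputable def dif {V V' Z : D} (q : P.P.obj.obj (op V)) (q' : P.P.obj.obj (op V'))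
    (a : Z ⟶ V) (b : Z ⟶ V') : G.obj.obj (op Z) :=
  (hP (op Z) (P.P.obj.map b.op q') (P.P.obj.map a.op q)).exists.choose

lemma dif_spec {V V' Z : D} (q : P.P.obj.obj (op V)) (q' : P.P.obj.obj (op V'))
    (a : Z ⟶ V) (b : Z ⟶ V') :
    P.smul (dif hP q q' a b) (P.P.obj.map b.op q') = P.P.obj.map a.op q :=
  (hP (op Z) (P.P.obj.map b.op q') (P.P.obj.map a.op q)).exists.choose_spec

lemma dif_unique {V V' Z : D} (q : P.P.obj.obj (op V)) (q' : P.P.obj.obj (op V'))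
    (a : Z ⟶ V) (b : Z ⟶ V') (g : G.obj.obj (op Z))
    (hg : P.smul g (P.P.obj.map b.op q') = P.P.obj.map a.op q) : g = dif hP q q' a b :=
  (hP (op Z) (P.P.obj.map b.op q') (P.P.obj.map a.op q)).unique hg (dif_spec hP q q' a b)

lemma map_map_op {V Z Z' : D} (q : P.P.obj.obj (op V)) (a : Z ⟶ V) (c : Z' ⟶ Z) :
    P.P.obj.map c.op (P.P.obj.map a.op q) = P.P.obj.map (c ≫ a).op q := by
  rw [op_comp, Functor.map_comp_apply]

lemma dif_map {V V' Z Z' : D} (q : P.P.obj.obj (op V)) (q' : P.P.obj.obj (op V'))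
    (a : Z ⟶ V) (b : Z ⟶ V') (c : Z' ⟶ Z) :
    G.obj.map c.op (dif hP q q' a b) = dif hP q q' (c ≫ a) (c ≫ b) := by
  apply dif_unique
  rw [← map_map_op, ← map_map_op, ← P.map_smul, dif_spec]

lemma dif_mul {V V' V'' Z : D} (q : P.P.obj.obj (op V)) (q' : P.P.obj.obj (op V'))
    (q'' : P.P.obj.obj (op V'')) (a : Z ⟶ V) (b : Z ⟶ V') (c : Z ⟶ V'') :
    dif hP q q' a b * dif hP q' q'' b c = dif hP q q'' a c := by
  apply dif_unique
  rw [P.mul_smul, dif_spec, dif_spec]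

variable (E : EvalData Ψ A G)

/-- The evaluation of the difference at a point of a refinement only depends on the two lifts of
the point it induces. -/
lemma ev_dif_indep {V V' Z Z' : D} (q : P.P.obj.obj (op V)) (q' : P.P.obj.obj (op V'))
    (a : Z ⟶ V) (b : Z ⟶ V') (a' : Z' ⟶ V) (b' : Z' ⟶ V') (k : I)
    (z : (Ψ k).fiber.obj Z) (z' : (Ψ k).fiber.obj Z')
    (h₁ : (Ψ k).fiber.map a z = (Ψ k).fiber.map a' z')
    (h₂ : (Ψ k).fiber.map b z = (Ψ k).fiber.map b' z') :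
    E.ev k z (dif hP q q' a b) = E.ev k z' (dif hP q q' a' b') := by
  obtain ⟨W₁, c, c', w₁, hc, hc', hcc⟩ := exists_cospan (Ψ k) a a' z z' h₁
  obtain ⟨W₂, e, w₂, he, hee⟩ := exists_equalize (Ψ k) w₁ (c ≫ b) (c' ≫ b') (by
    rw [Functor.map_comp_apply, Functor.map_comp_apply, hc, hc', h₂])
  have h1 : E.ev k z (dif hP q q' a b) = E.ev k w₂ (dif hP q q' ((e ≫ c) ≫ a) ((e ≫ c) ≫ b)) := by
    rw [← dif_map, E.ev_map, Functor.map_comp_apply, he, hc]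
  have h2 : E.ev k z' (dif hP q q' a' b') =
      E.ev k w₂ (dif hP q q' ((e ≫ c') ≫ a') ((e ≫ c') ≫ b')) := by
    rw [← dif_map, E.ev_map, Functor.map_comp_apply, he, hc']
  rw [h1, h2]
  have e1 : (e ≫ c) ≫ a = (e ≫ c') ≫ a' := by simp [hcc]
  have e2 : (e ≫ c) ≫ b = (e ≫ c') ≫ b' := by simpa using hee
  rw [e1, e2]

/-- A pseudo-torsor under a Godement-type sheaf of groups which has sections on the members of a
covering sieve of `T` has a section over `T`. -/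
theorem nonempty_of_locally (hP : P.IsPseudoTorsor) (E : EvalData Ψ A G)
    {T : D} (S : Sieve T) (hS : S ∈ K T)
    (hne : ∀ ⦃V : D⦄ (f : V ⟶ T), S f → Nonempty (P.P.obj.obj (op V))) :
    Nonempty (P.P.obj.obj (op T)) := by
  classical
  -- local sections
  let p : ∀ ⦃V : D⦄ (f : V ⟶ T), S f → P.P.obj.obj (op V) := fun V f hf => (hne f hf).some
  -- chosen lifts of the points of `T`
  have hl : ∀ (k : I) (ψ : (Ψ k).fiber.obj T), ∃ (V₀ : D) (f₀ : V₀ ⟶ T) (_ : S f₀)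
      (ψ₀ : (Ψ k).fiber.obj V₀), (Ψ k).fiber.map f₀ ψ₀ = ψ :=
    fun k ψ => (Ψ k).jointly_surjective S hS ψ
  choose V₀ f₀ hf₀ ψ₀ hψ₀ using hl
  -- chosen spans
  have hsp : ∀ ⦃V : D⦄ (f : V ⟶ T) (k : I) (ψ : (Ψ k).fiber.obj V),
      ∃ (Z : D) (a : Z ⟶ V₀ k ((Ψ k).fiber.map f ψ)) (b : Z ⟶ V) (z : (Ψ k).fiber.obj Z),
        (Ψ k).fiber.map a z = ψ₀ k ((Ψ k).fiber.map f ψ) ∧ (Ψ k).fiber.map b z = ψ :=
    fun V f k ψ => exists_common (Ψ k) _ _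
  choose Z a b z hza hzb using hsp
  -- the correcting sections
  have hh : ∀ ⦃V : D⦄ (f : V ⟶ T) (hf : S f), ∃ g : G.obj.obj (op V), ∀ k ψ,
      E.ev k ψ g = E.ev k (z f k ψ) (dif hP (p _ (hf₀ k ((Ψ k).fiber.map f ψ))) (p f hf)
        (a f k ψ) (b f k ψ)) := fun V f hf => E.surj _
  choose h hh using hh
  -- the glued family
  let x : Presieve.FamilyOfElements P.P.obj S.arrows := fun V f hf => P.smul (h f hf) (p f hf)
  have hx : x.Compatible := by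
    intro Y₁ Y₂ W g₁ g₂ f₁ f₂ h₁ h₂ hcomm
    change P.P.obj.map g₁.op (P.smul (h f₁ h₁) (p f₁ h₁)) =
      P.P.obj.map g₂.op (P.smul (h f₂ h₂) (p f₂ h₂))
    rw [P.map_smul, P.map_smul, ← dif_spec hP (p f₁ h₁) (p f₂ h₂) g₁ g₂, ← P.mul_smul]
    congr 1
    apply E.inj
    intro k t
    rw [map_mul, E.ev_map, E.ev_map, hh, hh]
    -- notation
    have hT : (Ψ k).fiber.map f₁ ((Ψ k).fiber.map g₁ t) =
        (Ψ k).fiber.map f₂ ((Ψ k).fiber.map g₂ t) := by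
      rw [← Functor.map_comp_apply, ← Functor.map_comp_apply, hcomm]
    generalize hv₁ : (Ψ k).fiber.map g₁ t = v₁
    generalize hv₂ : (Ψ k).fiber.map g₂ t = v₂
    rw [hv₁, hv₂] at hT
    -- refine the chosen span for `v₁` and `W` over `Y₁`
    obtain ⟨W₁, c₁, c, w₁, hc₁, hc, hcc⟩ := exists_cospan (Ψ k) (b f₁ k v₁) g₁ (z f₁ k v₁) t
      (by rw [hzb, hv₁])
    have e1 : E.ev k (z f₁ k v₁) (dif hP (p _ (hf₀ k ((Ψ k).fiber.map f₁ v₁))) (p f₁ h₁)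
        (a f₁ k v₁) (b f₁ k v₁)) =
        E.ev k w₁ (dif hP (p _ (hf₀ k ((Ψ k).fiber.map f₁ v₁))) (p f₁ h₁)
          (c₁ ≫ a f₁ k v₁) (c₁ ≫ b f₁ k v₁)) := by
      rw [← dif_map, E.ev_map, hc₁]
    have e2 : E.ev k t (dif hP (p f₁ h₁) (p f₂ h₂) g₁ g₂) =
        E.ev k w₁ (dif hP (p f₁ h₁) (p f₂ h₂) (c ≫ g₁) (c ≫ g₂)) := by
      rw [← dif_map, E.ev_map, hc]
    rw [e1, e2, ← map_mul, hcc, dif_mul]
    -- now compare with the chosen span for `v₂`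
    have key : ∀ (τ₁ τ₂ : (Ψ k).fiber.obj T) (_ : τ₁ = τ₂) {Z₁ Z₂ : D}
        (a₁ : Z₁ ⟶ V₀ k τ₁) (b₁ : Z₁ ⟶ Y₂) (a₂ : Z₂ ⟶ V₀ k τ₂) (b₂ : Z₂ ⟶ Y₂)
        (z₁ : (Ψ k).fiber.obj Z₁) (z₂ : (Ψ k).fiber.obj Z₂),
        (Ψ k).fiber.map a₁ z₁ = ψ₀ k τ₁ → (Ψ k).fiber.map a₂ z₂ = ψ₀ k τ₂ →
        (Ψ k).fiber.map b₁ z₁ = (Ψ k).fiber.map b₂ z₂ →
        E.ev k z₁ (dif hP (p _ (hf₀ k τ₁)) (p f₂ h₂) a₁ b₁) =
          E.ev k z₂ (dif hP (p _ (hf₀ k τ₂)) (p f₂ h₂) a₂ b₂) := by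
      intro τ₁ τ₂ hτ
      subst hτ
      intro Z₁ Z₂ a₁ b₁ a₂ b₂ z₁ z₂ e₁ e₂ e₃
      exact ev_dif_indep hP E _ _ _ _ _ _ k z₁ z₂ (e₁.trans e₂.symm) e₃
    apply key _ _ hT
    · rw [Functor.map_comp_apply, hc₁, hza]
    · rw [hza]
    · rw [Functor.map_comp_apply, hc, hv₂, hzb]
  obtain ⟨s, -⟩ := ((isSheaf_iff_isSheaf_of_type _ _).1 P.P.property S hS x hx).exists
  exact ⟨s⟩

end Groth.Agent.Lib.Helper45.Godement
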