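import Groth.Agent.Lib.Helper45.Godement1
import Groth.Agent.Lib.Lead.NonAbBoundary
import Mathlib.CategoryTheory.Sites.Point.Over
import Mathlib.Algebra.Category.Grp.Limits

/-!
# The Godement sheaf of groups of a family of points, and triviality of its torsors

For a family of points `Φ i` of a site `(C, J)` and groups `A i`, the presheaf
`W ↦ ∏_i (A i)^{(Φ i).fiber W}` is a sheaf of groups `Godement.sheaf Φ A`.  Its restriction to every
`Over U` carries evaluation data for the points `(Φ i).over ū`, hence all its torsors over all `U`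
are trivial (`torsor_isTrivial`).
-/

set_option autoImplicit false
set_option linter.style.haveILetI false
set_option linter.unusedSectionVars false
set_option backward.isDefEq.respectTransparency false

open CategoryTheory Opposite Limits

namespace Groth.Agent.Lib.Helper45.Godement

universe w v u

/-- A pseudo-torsor with a section over a terminal object is trivial. -/
theorem isTrivial_of_section {D : Type u} [Category.{v} D] {K : GrothendieckTopology D}
    [K.HasSheafCompose (forget GrpCat.{w})] {G : Sheaf K GrpCat.{w}} (P : NonAbH1.GSheaf G)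
    (hP : P.IsPseudoTorsor) {T : D} (hT : IsTerminal T) (s : P.P.obj.obj (op T)) :
    P.IsTrivial := by
  let sV : ∀ V : Dᵒᵖ, P.P.obj.obj V := fun V => P.P.obj.map (hT.from V.unop).op s
  have sV_map : ∀ {V V' : Dᵒᵖ} (f : V ⟶ V'), P.P.obj.map f (sV V) = sV V' := by
    intro V V' f
    change P.P.obj.map f (P.P.obj.map _ s) = P.P.obj.map _ s
    rw [← Functor.map_comp_apply]
    congr 3
    apply Quiver.Hom.unop_inj
    exact hT.hom_ext _ _
  let φ : NonAbH1.GSheaf.trivial G ⟶ P :=
    { hom := ObjectProperty.homMk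
        { app := fun V => TypeCat.ofHom (fun g => P.smul (NonAbH1.GSheaf.toGrp g) (sV V))
          naturality := by
            intro V V' f
            ext g
            change P.smul (G.obj.map f (NonAbH1.GSheaf.toGrp g)) (sV V') =
              P.P.obj.map f (P.smul (NonAbH1.GSheaf.toGrp g) (sV V))
            rw [P.map_smul, sV_map] }
      map_smul := by
        intro V g p
        change P.smul (g * NonAbH1.GSheaf.toGrp p) (sV V) = P.smul g (P.smul _ (sV V))
        rw [P.mul_smul] }
  refine Lead.NonAb.nonempty_iso_of_bijective φ (fun V => ⟨?_, ?_⟩)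
  · intro g g' h
    change P.smul (NonAbH1.GSheaf.toGrp g) (sV V) = P.smul (NonAbH1.GSheaf.toGrp g') (sV V) at h
    exact (hP V (sV V) _).unique h rfl
  · intro q
    obtain ⟨g, hg, -⟩ := hP V (sV V) q
    exact ⟨NonAbH1.GSheaf.ofGrp g, hg⟩

section Site

variable {C : Type (u + 1)} [Category.{u} C] {J : GrothendieckTopology C}
  {I : Type u} (Φ : I → GrothendieckTopology.Point.{u} J) (A : I → Type (u + 1))
  [∀ i, Group (A i)]

/-- Sections of the Godement sheaf: functions on the lifts of the points. -/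
abbrev Sec (W : C) : Type (u + 1) := ∀ i, (Φ i).fiber.obj W → A i

/-- The Godement presheaf of groups. -/
def presheaf : Cᵒᵖ ⥤ GrpCat.{u + 1} where
  obj W := GrpCat.of (Sec Φ A W.unop)
  map {W W'} f := GrpCat.ofHom
    { toFun := fun g i w => g i ((Φ i).fiber.map f.unop w)
      map_one' := rfl
      map_mul' := fun _ _ => rfl }
  map_id W := by
    ext g i w
    change g i ((Φ i).fiber.map (𝟙 _) w) = g i w
    simp
  map_comp f g := by
    ext h i w
    change h i ((Φ i).fiber.map (g.unop ≫ f.unop) w) =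
      h i ((Φ i).fiber.map f.unop ((Φ i).fiber.map g.unop w))
    simp

theorem isSheaf : Presheaf.IsSheaf J (presheaf Φ A) := by
  rw [Presheaf.isSheaf_iff_isSheaf_forget J _ (forget GrpCat.{u + 1}), isSheaf_iff_isSheaf_of_type]
  intro W S hS x hx
  let x' : ∀ ⦃Y : C⦄ (f : Y ⟶ W), S f → Sec Φ A Y := fun Y f hf => x f hf
  have wd : ∀ (i : I) {Y₁ Y₂ : C} (f₁ : Y₁ ⟶ W) (f₂ : Y₂ ⟶ W) (h₁ : S f₁) (h₂ : S f₂)
      (y₁ : (Φ i).fiber.obj Y₁) (y₂ : (Φ i).fiber.obj Y₂),
      (Φ i).fiber.map f₁ y₁ = (Φ i).fiber.map f₂ y₂ → x' f₁ h₁ i y₁ = x' f₂ h₂ i y₂ := by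
    intro i Y₁ Y₂ f₁ f₂ h₁ h₂ y₁ y₂ h
    obtain ⟨Z, a, b, z, ha, hb, hab⟩ := exists_cospan (Φ i) f₁ f₂ y₁ y₂ h
    have h3 := hx a b h₁ h₂ hab
    have h4 := congrFun (congrFun h3 i) z
    change x' f₁ h₁ i ((Φ i).fiber.map a z) = x' f₂ h₂ i ((Φ i).fiber.map b z) at h4
    rwa [ha, hb] at h4
  have hl : ∀ (i : I) (w : (Φ i).fiber.obj W), ∃ (Y : C) (f : Y ⟶ W) (_ : S f)
      (y : (Φ i).fiber.obj Y), (Φ i).fiber.map f y = w :=
    fun i w => (Φ i).jointly_surjective S hS w
  choose Y f hf y hy using hl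
  let t : Sec Φ A W := fun i w => x' (f i w) (hf i w) i (y i w)
  refine ⟨t, ?_, ?_⟩
  · intro Y' g hg
    funext i v
    exact wd i _ _ _ _ _ _ (hy i _)
  · intro t' ht'
    funext i w
    have h5 := congrFun (congrFun (ht' (f i w) (hf i w)) i) (y i w)
    change (t' : Sec Φ A W) i ((Φ i).fiber.map (f i w) (y i w)) = x' (f i w) (hf i w) i (y i w) at h5
    rwa [hy] at h5

/-- The Godement sheaf of groups. -/
def sheaf : Sheaf J GrpCat.{u + 1} := ⟨presheaf Φ A, isSheaf Φ A⟩

variable [LocallySmall.{u} C]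

/-- The evaluation data of the restriction of the Godement sheaf to `Over U`. -/
def evalData (U : C) : EvalData (D := Over U) (K := J.over U)
    (I := Σ i, (Φ i).fiber.obj U) (fun k => (Φ k.1).over k.2) (fun k => A k.1)
    ((sheaf Φ A).over U) where
  ev k {V} ψ :=
    { toFun := fun g => (g : Sec Φ A V.left) k.1 ψ.1
      map_one' := rfl
      map_mul' := fun _ _ => rfl }
  ev_map k {V V'} f ψ' g := rfl
  inj {V} g g' h := by
    funext i v
    exact h ⟨i, (Φ i).fiber.map V.hom v⟩
      ⟨v, (FunctorToTypes.mem_fromOverSubfunctor_iff _ _ _).2 rfl⟩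
  surj {V} e := by
    have key : ∀ (i : I) (ū : (Φ i).fiber.obj U) (v : (Φ i).fiber.obj V.left)
        (hv : v ∈ (FunctorToTypes.fromOverSubfunctor (Φ i).fiber ū).obj V),
        e ⟨i, (Φ i).fiber.map V.hom v⟩
          ⟨v, (FunctorToTypes.mem_fromOverSubfunctor_iff _ _ _).2 rfl⟩ = e ⟨i, ū⟩ ⟨v, hv⟩ := by
      intro i ū v hv
      have hv' := (FunctorToTypes.mem_fromOverSubfunctor_iff _ _ _).1 hv
      subst hv'
      rfl
    refine ⟨fun i v => e ⟨i, (Φ i).fiber.map V.hom v⟩
      ⟨v, (FunctorToTypes.mem_fromOverSubfunctor_iff _ _ _).2 rfl⟩, ?_⟩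
    rintro ⟨i, ū⟩ ⟨v, hv⟩
    exact key i ū v hv

/-- Every torsor under the Godement sheaf over every object is trivial. -/
theorem torsor_isTrivial (U : C) [(J.over U).HasSheafCompose (forget GrpCat.{u + 1})]
    (P : NonAbH1.Torsor ((sheaf Φ A).over U)) : P.IsTrivial := by
  obtain ⟨hPT, hLN⟩ := P.isTorsor
  obtain ⟨S, hS, hne⟩ := hLN (Over.mk (𝟙 U))
  obtain ⟨s⟩ := nonempty_of_locally hPT (evalData Φ A U) S hS hne
  exact isTrivial_of_section P.toGSheaf hPT Over.mkIdTerminal s

end Site

end Groth.Agent.Lib.Helper45.Godement
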