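import Groth.Agent.Lib.Helper45.Godement2
import Mathlib.Algebra.Category.MonCat.Colimits
import Mathlib.Algebra.Category.MonCat.FilteredColimits
import Mathlib.AlgebraicGeometry.Sites.EtalePoint

/-!
# Embedding a sheaf of groups into the Godement sheaf of its stalks

The stalks are formed in monoids (Mathlib has all colimits of monoids) and the groups `A i` are the
unit groups of the stalk monoids.  If the family of points detects covering sieves the germ map
`F ⟶ Godement.sheaf Φ (St Φ F)` is injective on sections.  The points of the small étale site of a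
scheme given by separable closures of the residue fields detect covering sieves.
-/

set_option autoImplicit false
set_option linter.style.haveILetI false
set_option linter.unusedSectionVars false
set_option backward.isDefEq.respectTransparency false

open CategoryTheory Opposite Limits

namespace Groth.Agent.Lib.Helper45.Godement

universe u

noncomputable instance hasColimitsMon : HasColimitsOfSize.{u, u} MonCat.{u + 1} :=
  hasColimitsOfSizeShrink.{u, u, u + 1, u + 1} MonCat.{u + 1}

instance preservesFilteredMon : PreservesFilteredColimitsOfSize.{u, u} (forget MonCat.{u + 1}) :=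
  preservesFilteredColimitsOfSize_shrink.{u, u + 1, u, u + 1} (forget MonCat.{u + 1})

section Site

variable {C : Type (u + 1)} [Category.{u} C] {J : GrothendieckTopology C} [LocallySmall.{u} C]
  {I : Type u} (Φ : I → GrothendieckTopology.Point.{u} J) (F : Sheaf J GrpCat.{u + 1})

/-- The underlying presheaf of monoids. -/
abbrev monPsh : Cᵒᵖ ⥤ MonCat.{u + 1} := F.obj ⋙ forget₂ GrpCat MonCat

/-- The stalk monoid. -/
noncomputable abbrev stalkMon (i : I) : MonCat.{u + 1} := (Φ i).presheafFiber.obj (monPsh F)

/-- The stalk group: units of the stalk monoid. -/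
abbrev St (i : I) : Type (u + 1) := (stalkMon Φ F i)ˣ

/-- The germ homomorphism. -/
noncomputable def germ (i : I) (W : C) (w : (Φ i).fiber.obj W) :
    F.obj.obj (op W) →* St Φ F i :=
  (Units.map ((Φ i).toPresheafFiber W w (monPsh F)).hom).comp
    (toUnits (G := F.obj.obj (op W))).toMonoidHom

lemma germ_val (i : I) (W : C) (w : (Φ i).fiber.obj W) (s : F.obj.obj (op W)) :
    ((germ Φ F i W w s : St Φ F i) : stalkMon Φ F i) =
      (Φ i).toPresheafFiber W w (monPsh F) s := rfl

lemma germ_map (i : I) {W W' : C} (f : W' ⟶ W) (w' : (Φ i).fiber.obj W')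
    (s : F.obj.obj (op W)) :
    germ Φ F i W' w' (F.obj.map f.op s) = germ Φ F i W ((Φ i).fiber.map f w') s := by
  apply Units.ext
  rw [germ_val, germ_val]
  exact (Φ i).toPresheafFiber_w_apply f w' (monPsh F) s

/-- The germ map to the Godement sheaf. -/
noncomputable def toGodement : F ⟶ sheaf Φ (St Φ F) :=
  ObjectProperty.homMk
    { app := fun W => GrpCat.ofHom
        { toFun := fun s i w => germ Φ F i W.unop w s
          map_one' := by
            funext i w
            exact map_one _
          map_mul' := fun s t => by
            funext i w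
            exact map_mul _ s t }
      naturality := by
        intro W W' f
        ext s
        apply (show ∀ a b : Sec Φ (St Φ F) W'.unop, (∀ i w, a i w = b i w) → a = b from
          fun a b h => funext fun i => funext fun w => h i w)
        intro i w
        exact germ_map Φ F i f.unop w s }

lemma toGodement_apply (W : C) (s : F.obj.obj (op W)) (i : I) (w : (Φ i).fiber.obj W) :
    ((toGodement Φ F).hom.app (op W) s : Sec Φ (St Φ F) W) i w = germ Φ F i W w s := rfl

/-- If the points detect covering sieves, the germ map is injective on sections. -/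
theorem toGodement_injective [J.HasSheafCompose (forget GrpCat.{u + 1})]
    (hcov : ∀ ⦃W : C⦄ (S : Sieve W), (∀ (i : I) (w : (Φ i).fiber.obj W),
      ∃ (Y : C) (g : Y ⟶ W) (_ : S g) (y : (Φ i).fiber.obj Y), (Φ i).fiber.map g y = w) → S ∈ J W)
    (W : Cᵒᵖ) : Function.Injective ((toGodement Φ F).hom.app W) := by
  intro s s' h
  let S : Sieve W.unop :=
    { arrows := fun Y g => F.obj.map g.op s = F.obj.map g.op s'
      downward_closed := by
        intro Y Z g hg k
        rw [op_comp, Functor.map_comp_apply, Functor.map_comp_apply]
        exact congrArg _ hg }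
  have hS : S ∈ J W.unop := by
    apply hcov
    intro i w
    have h1 : germ Φ F i W.unop w s = germ Φ F i W.unop w s' := by
      have := congrFun (congrFun h i) w
      exact this
    have h2 := congrArg Units.val h1
    rw [germ_val, germ_val] at h2
    obtain ⟨Y, g, y, hy, hg⟩ := ((Φ i).toPresheafFiber_eq_iff' (P := monPsh F) W.unop w s s').1 h2
    exact ⟨Y, g, hg, y, hy⟩
  exact (Presheaf.IsSheaf.isSeparated F.property) W.unop S hS s s' (fun Y g hg => hg)

end Site

section Etale

open AlgebraicGeometry

variable (X : Scheme.{u})

/-- The geometric point over `x` with values in a separable closure of the residue field. -/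
noncomputable def geomPt (x : X) : X.smallEtaleTopology.Point :=
  Scheme.pointSmallEtale ((Scheme.SpecToEquivOfField (SeparableClosure (X.residueField x)) _).2
    ⟨x, CommRingCat.ofHom (algebraMap (X.residueField x) _)⟩)

/-- The geometric points detect covering sieves of the small étale site. -/
theorem geomPt_cov ⦃W : X.Etale⦄ (R : Sieve W)
    (hR : ∀ (x : X) (w : (geomPt X x).fiber.obj W),
      ∃ (Y : X.Etale) (g : Y ⟶ W) (_ : R g) (y : (geomPt X x).fiber.obj Y),
        (geomPt X x).fiber.map g y = w) : R ∈ X.smallEtaleTopology W := by
  obtain ⟨α, T, f, rfl⟩ := R.exists_eq_ofArrows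
  rw [Scheme.ofArrows_mem_smallEtaleTopology_iff]
  ext x
  simp only [Set.mem_iUnion, Set.mem_range, Set.mem_univ, iff_true]
  have key : ∀ (x₀ : X) (x : W.left), x₀ = W.hom x → ∃ i y, (f i).left y = x := by
    intro x₀ x hx₀
    have hi : ((Scheme.SpecToEquivOfField (SeparableClosure (X.residueField x₀)) _).2
        ⟨x₀, CommRingCat.ofHom (algebraMap (X.residueField x₀) _)⟩) default = W.hom x := by
      rw [← hx₀]
      simp [Scheme.SpecToEquivOfField]
    obtain ⟨x', hx'⟩ := Scheme.pointSmallEtaleFiberObjToPreimage_surjective _ hi W ⟨x, by simp⟩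
    rw [Subtype.ext_iff] at hx'
    simp only [Functor.id_obj, Scheme.pointSmallEtaleFiberObjToPreimage_coe,
      Scheme.Etale.forget_obj_left] at hx'
    subst hx'
    obtain ⟨Y, g, ⟨Z, p, _, ⟨a⟩, rfl⟩, y, rfl⟩ := hR x₀ x'
    exact ⟨a, (Scheme.pointSmallEtaleFiberObjToPreimage _ hi (y ≫ p.hom)).1, rfl⟩
  exact key _ x rfl

end Etale

end Groth.Agent.Lib.Helper45.Godement
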