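import Mathlib.CategoryTheory.Abelian.GrothendieckCategory.Basic
import Mathlib.CategoryTheory.Abelian.GrothendieckCategory.Subobject
import Mathlib.CategoryTheory.Subobject.NoetherianObject
import Mathlib.CategoryTheory.Limits.Preserves.Filtered
import Mathlib.CategoryTheory.Limits.Preserves.Finite
import Mathlib.CategoryTheory.Adjunction.Basic
import Mathlib.CategoryTheory.Adjunction.Limits
import Mathlib.CategoryTheory.Functor.ReflectsIso.Balanced
import Mathlib.CategoryTheory.Functor.EpiMono

set_option autoImplicit false
set_option backward.isDefEq.respectTransparency false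
set_option linter.unusedSectionVars false
universe w u₁ u₂
open CategoryTheory CategoryTheory.Limits

namespace Groth.Agent.Lib.Helper45.GrothTransfer

variable {A : Type u₁} [Category.{w} A] [Abelian A]
  {B : Type u₂} [Category.{w} B] [Abelian B]
  (F : A ⥤ B) [F.Additive] [F.Faithful] [PreservesFiniteLimits F] [PreservesFiniteColimits F]

include F in
lemma reflectsIsomorphisms : F.ReflectsIsomorphisms := inferInstance

lemma reflectsFiniteLimits : ReflectsFiniteLimits F where
  reflects J _ _ := by
    have := reflectsIsomorphisms F
    exact reflectsLimitsOfShape_of_reflectsIsomorphisms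

lemma ab5_of_functor [HasColimitsOfSize.{w, w} A] [HasColimitsOfSize.{w, w} B]
    [AB5OfSize.{w, w} B] {G : B ⥤ A} (adj : F ⊣ G) : AB5OfSize.{w, w} A where
  ofShape J _ _ := by
    have := reflectsFiniteLimits F
    have : PreservesColimitsOfSize.{w, w} F := adj.leftAdjoint_preservesColimits
    exact HasExactColimitsOfShape.domain_of_functor J F

/-- the image under `F` of a subobject. -/
noncomputable def subMap (a : A) (S : Subobject a) : Subobject (F.obj a) :=
  Subobject.mk (F.map S.arrow)

lemma subMap_le_iff (a : A) (S S' : Subobject a) : subMap F a S ≤ subMap F a S' ↔ S ≤ S' := by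
  constructor
  · intro h
    have e := Subobject.ofMkLEMk_comp h
    have hz : S.arrow ≫ cokernel.π S'.arrow = 0 := by
      apply F.map_injective
      rw [F.map_comp, ← e, Category.assoc, ← F.map_comp, cokernel.condition, F.map_zero,
        F.map_zero, comp_zero]
    exact Subobject.le_of_comm (Abelian.monoLift S'.arrow S.arrow hz)
      (Abelian.monoLift_comp _ _ _)
  · intro h
    exact Subobject.mk_le_mk_of_comm (F.map (Subobject.ofLE S S' h))
      (by rw [← F.map_comp, Subobject.ofLE_arrow])

lemma subMap_strictMono (a : A) : StrictMono (subMap F a) := by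
  intro S S' h
  rw [lt_iff_le_not_ge] at h ⊢
  rw [subMap_le_iff, subMap_le_iff]
  exact h

lemma subMap_injective (a : A) : Function.Injective (subMap F a) := by
  intro S S' h
  exact le_antisymm ((subMap_le_iff F a S S').1 h.le) ((subMap_le_iff F a S' S).1 h.ge)

include F in
lemma wellPowered_of_functor [WellPowered.{w} B] : WellPowered.{w} A where
  subobject_small a := small_of_injective (subMap_injective F a)

lemma isNoetherianObject_of_map (a : A) [IsNoetherianObject (F.obj a)] : IsNoetherianObject a :=
  ObjectProperty.is_of_prop _ (subMap_strictMono F a).wellFoundedGT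

end Groth.Agent.Lib.Helper45.GrothTransfer
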