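import Groth.Agent.Lib.Helper45.GrothTransfer1
import Mathlib.CategoryTheory.Limits.FunctorCategory.Basic
import Mathlib.CategoryTheory.Limits.Shapes.Pullback.IsPullback.Basic
import Mathlib.CategoryTheory.Limits.Constructions.Filtered
import Mathlib.CategoryTheory.Filtered.Connected

set_option autoImplicit false
set_option backward.isDefEq.respectTransparency false
set_option linter.unusedSectionVars false
universe w u₁ u₂
open CategoryTheory CategoryTheory.Limits

namespace Groth.Agent.Lib.Helper45.GrothTransfer

section PB

variable {𝒜 : Type u₁} [Category.{w} 𝒜] [Abelian 𝒜] {I : Type w} [SmallCategory I] [IsFiltered I]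
  [HasColimitsOfShape I 𝒜] [HasExactColimitsOfShape I 𝒜]

attribute [local instance] IsFiltered.isConnected

/-- pulling back a filtered colimit cocone along a morphism gives a colimit cocone. -/
theorem exists_pullback_cocone {X : 𝒜} {D : I ⥤ 𝒜} (c : Cocone D) (hc : IsColimit c)
    (p : X ⟶ c.pt) :
    ∃ (E : I ⥤ 𝒜) (φ : E ⟶ (Functor.const I).obj X) (ψ : E ⟶ D),
      (∀ i, IsPullback (φ.app i) (ψ.app i) p (c.ι.app i)) ∧ Nonempty (IsColimit (Cocone.mk X φ)) := by
  let α : (Functor.const I).obj X ⟶ (Functor.const I).obj c.pt := (Functor.const I).map p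
  let β : D ⟶ (Functor.const I).obj c.pt := c.ι
  have sq : IsPullback (pullback.fst α β) (pullback.snd α β) α β := IsPullback.of_hasPullback α β
  refine ⟨pullback α β, pullback.fst α β, pullback.snd α β, fun i => ?_, ?_⟩
  · exact sq.map ((evaluation I 𝒜).obj i)
  · have sqc := sq.map (colim : (I ⥤ 𝒜) ⥤ 𝒜)
    let kZ : colimit ((Functor.const I).obj c.pt) ⟶ c.pt :=
      colimit.desc _ (constCocone I c.pt)
    let kX : colimit ((Functor.const I).obj X) ⟶ X :=
      colimit.desc _ (constCocone I X)
    have hkZ : IsIso kZ := by
      have : kZ = (IsColimit.coconePointUniqueUpToIso (colimit.isColimit _)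
        (isColimitConstCocone I c.pt)).hom := rfl
      rw [this]; infer_instance
    have hkX : IsIso kX := by
      have : kX = (IsColimit.coconePointUniqueUpToIso (colimit.isColimit _)
        (isColimitConstCocone I X)).hom := rfl
      rw [this]; infer_instance
    have h1 : colim.map β ≫ kZ = (IsColimit.coconePointUniqueUpToIso (colimit.isColimit D) hc).hom := by
      apply colimit.hom_ext
      intro i
      simp [kZ, β]
    have h2 : IsIso (colim.map β) := by
      have : IsIso (colim.map β ≫ kZ) := by rw [h1]; infer_instance
      exact IsIso.of_isIso_comp_right (colim.map β) kZ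
    have h3 : IsIso (colim.map (pullback.fst α β)) := sqc.isIso_fst_of_isIso
    have h4 : colimit.desc (pullback α β) (Cocone.mk X (pullback.fst α β)) =
        colim.map (pullback.fst α β) ≫ kX := by
      apply colimit.hom_ext
      intro i
      simp [kX]
    have h5 : IsIso ((colimit.isColimit (pullback α β)).desc (Cocone.mk X (pullback.fst α β))) := by
      change IsIso (colimit.desc (pullback α β) (Cocone.mk X (pullback.fst α β)))
      rw [h4]; infer_instance
    exact ⟨IsColimit.ofPointIso (colimit.isColimit (pullback α β))⟩

end PB

end Groth.Agent.Lib.Helper45.GrothTransfer
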