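import Groth.Agent.Lib.Helper45.GrothTransfer2
import Mathlib.CategoryTheory.Subobject.Limits
import Mathlib.CategoryTheory.Generator.Basic

set_option autoImplicit false
set_option backward.isDefEq.respectTransparency false
set_option linter.unusedSectionVars false
universe w u₁ u₂
open CategoryTheory CategoryTheory.Limits

namespace Groth.Agent.Lib.Helper45.GrothTransfer

section FG

variable {B : Type u₂} [Category.{w} B] [Abelian B] [HasColimitsOfSize.{w, w} B]
  [AB5OfSize.{w, w} B] {ι : Type w} (s : ι → B)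

/-- quotients of finite sums of members of the family. -/
def FG (b : B) : Prop :=
  ∃ (n : ℕ) (idx : Fin n → ι) (π : (∐ fun j : Fin n => s (idx j)) ⟶ b), Epi π

variable (hsep : ∀ ⦃X Y : B⦄ (f g : X ⟶ Y), (∀ (i : ι) (h : s i ⟶ X), h ≫ f = h ≫ g) → f = g)

include hsep in
lemma isGrothendieckAbelian_of_separating : IsGrothendieckAbelian.{w} B where
  hasSeparator := by
    have hS : ObjectProperty.IsSeparating (ObjectProperty.ofObj s) := by
      intro X Y f g h
      apply hsep
      intro i k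
      exact h (s i) ⟨i⟩ k
    exact ⟨∐ s, hS.isSeparator_coproduct⟩

variable (Y : B)

/-- the sum of the maps in a finite set of maps to `Y`. -/
noncomputable def sumMap (σ : Finset (Σ i, s i ⟶ Y)) :
    (∐ fun h : {h // h ∈ σ} => s h.1.1) ⟶ Y :=
  Sigma.desc (fun h => h.1.2)

/-- the subobject generated by a finite set of maps. -/
noncomputable def genSub (σ : Finset (Σ i, s i ⟶ Y)) : Subobject Y :=
  imageSubobject (sumMap s Y σ)

lemma genSub_mono : Monotone (genSub s Y) := by
  intro σ τ h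
  let r : (∐ fun h : {h // h ∈ σ} => s h.1.1) ⟶ (∐ fun h : {h // h ∈ τ} => s h.1.1) :=
    Sigma.desc (fun k => Sigma.ι (fun h : {h // h ∈ τ} => s h.1.1) ⟨k.1, h k.2⟩)
  have e : sumMap s Y σ = r ≫ sumMap s Y τ := by
    apply Sigma.hom_ext
    intro k
    simp [sumMap, r]
  change imageSubobject (sumMap s Y σ) ≤ imageSubobject (sumMap s Y τ)
  rw [e]
  exact imageSubobject_comp_le _ _

lemma genSub_fg (σ : Finset (Σ i, s i ⟶ Y)) : FG s ((genSub s Y σ : Subobject Y) : B) := by
  classical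
  let e : Fin σ.card ≃ {h // h ∈ σ} := σ.equivFin.symm
  refine ⟨σ.card, fun j => (e j).1.1,
    (Sigma.reindex e (fun h : {h // h ∈ σ} => s h.1.1)).hom ≫
      factorThruImageSubobject (sumMap s Y σ), ?_⟩
  infer_instance

lemma factors_genSub (i : ι) (h : s i ⟶ Y) : (genSub s Y {⟨i, h⟩}).Factors h := by
  have e : h = Sigma.ι (fun k : {k // k ∈ ({⟨i, h⟩} : Finset (Σ i, s i ⟶ Y))} => s k.1.1)
      ⟨⟨i, h⟩, Finset.mem_singleton_self _⟩ ≫ sumMap s Y {⟨i, h⟩} := by
    simp [sumMap]
  have hf := imageSubobject_factors_comp_self (f := sumMap s Y {⟨i, h⟩})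
    (Sigma.ι (fun k : {k // k ∈ ({⟨i, h⟩} : Finset (Σ i, s i ⟶ Y))} => s k.1.1)
      ⟨⟨i, h⟩, Finset.mem_singleton_self _⟩)
  rw [← e] at hf
  exact hf

include hsep in
lemma iSup_genSub [IsGrothendieckAbelian.{w} B] : (⨆ σ, genSub s Y σ) = ⊤ := by
  have hepi : Epi (⨆ σ, genSub s Y σ).arrow := by
    refine ⟨fun {Z} f g hfg => hsep f g fun i h => ?_⟩
    let σ₀ : Finset (Σ i, s i ⟶ Y) := {⟨i, h⟩}
    have hle : genSub s Y σ₀ ≤ ⨆ σ, genSub s Y σ := le_iSup (fun σ => genSub s Y σ) σ₀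
    have hf : (⨆ σ, genSub s Y σ).Factors h :=
      Subobject.factors_of_le h hle (factors_genSub s Y i h)
    rw [← Subobject.factorThru_arrow _ _ hf, Category.assoc, Category.assoc, hfg]
  have : IsIso (⨆ σ, genSub s Y σ).arrow := isIso_of_mono_of_epi _
  exact Subobject.eq_top_of_isIso_arrow _

include hsep in
theorem exists_fg_system :
    ∃ (D : Finset (Σ i, s i ⟶ Y) ⥤ B) (ι' : D ⟶ (Functor.const _).obj Y),
      Nonempty (IsColimit (Cocone.mk Y ι')) ∧ ∀ σ, Mono (ι'.app σ) ∧ FG s (D.obj σ) := by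
  classical
  have hB := isGrothendieckAbelian_of_separating s hsep
  let Ffun : Finset (Σ i, s i ⟶ Y) ⥤ MonoOver Y :=
    (genSub_mono s Y).functor ⋙ Subobject.representative
  let c : Cocone (Ffun ⋙ MonoOver.forget Y) :=
    ⟨Over.mk (𝟙 Y), { app := fun σ => Over.mkIdTerminal.from _
                      naturality := fun _ _ _ => Over.mkIdTerminal.hom_ext _ _ }⟩
  have hm : Mono c.pt.hom := by
    change Mono (𝟙 Y)
    infer_instance
  have h : Subobject.mk c.pt.hom = ⨆ σ, Subobject.mk (Ffun.obj σ).obj.hom := by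
    have e1 : Subobject.mk c.pt.hom = ⊤ := (Subobject.top_eq_id Y).symm
    have e2 : ∀ σ, Subobject.mk (Ffun.obj σ).obj.hom = genSub s Y σ := fun σ =>
      Subobject.mk_arrow (genSub s Y σ)
    rw [e1]
    simp only [e2]
    exact (iSup_genSub s hsep Y).symm
  have hc := IsGrothendieckAbelian.isColimitMapCoconeOfSubobjectMkEqISup Ffun c h
  refine ⟨(Ffun ⋙ MonoOver.forget Y) ⋙ Over.forget Y, ((Over.forget Y).mapCocone c).ι, ⟨hc⟩,
    fun σ => ⟨?_, genSub_fg s Y σ⟩⟩
  have e3 : (((Over.forget Y).mapCocone c).ι.app σ) = (genSub s Y σ).arrow := by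
    have := Over.w (c.ι.app σ)
    exact (Category.comp_id _).symm.trans this
  rw [e3]
  infer_instance

end FG

end Groth.Agent.Lib.Helper45.GrothTransfer
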