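import Groth.Agent.Lib.Helper45.GrothTransfer3
import Mathlib.Algebra.Homology.ShortComplex.Exact
import Mathlib.CategoryTheory.EssentiallySmall

set_option autoImplicit false
set_option backward.isDefEq.respectTransparency false
set_option linter.unusedSectionVars false
universe w u₁ u₂
open CategoryTheory CategoryTheory.Limits

namespace Groth.Agent.Lib.Helper45.GrothTransfer

section Quot

variable {B : Type u₂} [Category.{w} B] [Abelian B]

/-- an epimorphism is the cokernel of its kernel subobject. -/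
noncomputable def cokernelKernelSubobjectIso {P Q : B} (π : P ⟶ Q) [Epi π] :
    cokernel (kernelSubobject π).arrow ≅ Q := by
  let S : ShortComplex B := ShortComplex.mk (kernelSubobject π).arrow π (kernelSubobject_arrow_comp π)
  have hS : S.Exact := by
    apply ShortComplex.exact_of_f_is_kernel
    refine IsLimit.ofIsoLimit (kernelIsKernel π) ?_
    exact Fork.ext (kernelSubobjectIso π).symm (by simp [S])
  have : Epi S.g := by change Epi π; infer_instance
  exact IsColimit.coconePointUniqueUpToIso (cokernelIsCokernel _) hS.gIsCokernel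

end Quot

section Main

variable {A : Type u₁} [Category.{w} A] [Abelian A] [HasColimitsOfSize.{w, w} A]
  {B : Type u₂} [Category.{w} B] [Abelian B] [HasColimitsOfSize.{w, w} B] [AB5OfSize.{w, w} B]
  {ι : Type w} (s : ι → B)
  (hsep : ∀ ⦃X Y : B⦄ (f g : X ⟶ Y), (∀ (i : ι) (h : s i ⟶ X), h ≫ f = h ≫ g) → f = g)
  (F : A ⥤ B) (G : B ⥤ A) (adj : F ⊣ G) [F.Additive] [F.Faithful]
  [PreservesFiniteLimits F] [PreservesFiniteColimits F] [PreservesFilteredColimitsOfSize.{w, w} G]

include adj in
lemma mono_unit (X : A) : Mono (adj.unit.app X) := by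
  have h : Mono (F.map (adj.unit.app X)) := by
    have : F.map (adj.unit.app X) ≫ adj.counit.app (F.obj X) = 𝟙 _ :=
      adj.left_triangle_components X
    exact mono_of_mono_fac this
  exact F.mono_of_mono_map h

/-- the index type of the family. -/
def Idx : Type (max u₁ u₂ w) :=
  Σ (n : ℕ) (idx : Fin n → ι) (T : Subobject (∐ fun j : Fin n => s (idx j))),
    {S : Subobject (G.obj (cokernel T.arrow)) //
      Mono (F.map S.arrow ≫ adj.counit.app (cokernel T.arrow))}

/-- the family. -/
noncomputable def fam (k : Idx s F G adj) : A := (k.2.2.2.1 : A)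

include hsep adj in
/-- every object of `A` is a filtered colimit of subobjects whose images lie in finitely
generated subobjects. -/
theorem exists_system (X : A) :
    ∃ (E : Finset (Σ i, s i ⟶ F.obj X) ⥤ A) (φ : E ⟶ (Functor.const _).obj X),
      Nonempty (IsColimit (Cocone.mk X φ)) ∧
      ∀ σ, Mono (φ.app σ) ∧ ∃ (Q : B) (ψ : E.obj σ ⟶ G.obj Q) (q : Q ⟶ F.obj X),
        FG s Q ∧ Mono q ∧ Mono ψ ∧ (F.map ψ ≫ adj.counit.app Q) ≫ q = F.map (φ.app σ) := by
  classical
  have hB := isGrothendieckAbelian_of_separating s hsep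
  have hab5 : AB5OfSize.{w, w} A := ab5_of_functor F adj
  obtain ⟨D, ι', ⟨hcol⟩, hprop⟩ := exists_fg_system s hsep (F.obj X)
  have hGcol : IsColimit (G.mapCocone (Cocone.mk (F.obj X) ι')) := isColimitOfPreserves G hcol
  have hex : HasExactColimitsOfShape (Finset (Σ i, s i ⟶ F.obj X)) A := AB5OfSize.ofShape _
  obtain ⟨E, φ, ψ, hsq, hcolE⟩ := exists_pullback_cocone
    (G.mapCocone (Cocone.mk (F.obj X) ι')) hGcol (adj.unit.app X)
  refine ⟨E, φ, hcolE, fun σ => ?_⟩
  obtain ⟨hmono, hfg⟩ := hprop σ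
  have sq : IsPullback (φ.app σ) (ψ.app σ) (adj.unit.app X) (G.map (ι'.app σ)) := hsq σ
  have hmη := mono_unit F G adj X
  have hψ : Mono (ψ.app σ) := sq.mono_snd_of_mono
  have hGι : Mono (G.map (ι'.app σ)) := by
    have : PreservesLimitsOfSize.{0, 0} G := adj.rightAdjoint_preservesLimits
    infer_instance
  have hφ : Mono (φ.app σ) := sq.mono_fst_of_mono
  refine ⟨hφ, D.obj σ, ψ.app σ, ι'.app σ, hfg, hmono, hψ, ?_⟩
  have h1 := adj.counit_naturality (ι'.app σ)
  have h2 := adj.left_triangle_components X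
  have h3 : F.map (φ.app σ) ≫ F.map (adj.unit.app X) =
      F.map (ψ.app σ) ≫ F.map (G.map (ι'.app σ)) := by
    rw [← F.map_comp, ← F.map_comp, sq.w]
  calc (F.map (ψ.app σ) ≫ adj.counit.app (D.obj σ)) ≫ ι'.app σ
      = F.map (ψ.app σ) ≫ (adj.counit.app (D.obj σ) ≫ ι'.app σ) := Category.assoc _ _ _
    _ = F.map (ψ.app σ) ≫ (F.map (G.map (ι'.app σ)) ≫ adj.counit.app (F.obj X)) :=
        congrArg (fun t => F.map (ψ.app σ) ≫ t) h1.symm
    _ = (F.map (ψ.app σ) ≫ F.map (G.map (ι'.app σ))) ≫ adj.counit.app (F.obj X) :=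
        (Category.assoc _ _ _).symm
    _ = (F.map (φ.app σ) ≫ F.map (adj.unit.app X)) ≫ adj.counit.app (F.obj X) :=
        congrArg (fun t => t ≫ adj.counit.app (F.obj X)) h3.symm
    _ = F.map (φ.app σ) ≫ (F.map (adj.unit.app X) ≫ adj.counit.app (F.obj X)) :=
        Category.assoc _ _ _
    _ = F.map (φ.app σ) ≫ 𝟙 _ := congrArg (fun t => F.map (φ.app σ) ≫ t) h2
    _ = F.map (φ.app σ) := Category.comp_id _

include hsep adj in
theorem exists_small_family :
    ∃ (κ : Type w) (t : κ → A), (∀ k, ∃ (Q : B) (m : F.obj (t k) ⟶ Q), FG s Q ∧ Mono m) ∧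
        ∀ ⦃X Y : A⦄ (f g : X ⟶ Y), (∀ (k : κ) (h : t k ⟶ X), h ≫ f = h ≫ g) → f = g := by
  classical
  have hB := isGrothendieckAbelian_of_separating s hsep
  have hwA : WellPowered.{w} A := wellPowered_of_functor F
  have hsmall : Small.{w} (Idx s F G adj) := by
    unfold Idx
    infer_instance
  refine ⟨Shrink.{w} (Idx s F G adj), fun k => fam s F G adj ((equivShrink _).symm k), ?_, ?_⟩
  · intro k
    change ∃ (Q : B) (m : F.obj (fam s F G adj ((equivShrink _).symm k)) ⟶ Q), FG s Q ∧ Mono m
    generalize (equivShrink (Idx s F G adj)).symm k = k'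
    obtain ⟨n, idx, T, S, hS⟩ := k'
    exact ⟨cokernel T.arrow, F.map S.arrow ≫ adj.counit.app (cokernel T.arrow),
      ⟨n, idx, cokernel.π T.arrow, inferInstance⟩, hS⟩
  · intro X Y f g hyp
    have hyp' : ∀ (k' : Idx s F G adj) (h : fam s F G adj k' ⟶ X), h ≫ f = h ≫ g := by
      intro k' h
      obtain ⟨k, rfl⟩ := (equivShrink (Idx s F G adj)).symm.surjective k'
      exact hyp k h
    obtain ⟨E, φ, ⟨hcolE⟩, hE⟩ := exists_system s hsep F G adj X
    apply hcolE.hom_ext
    intro σ
    change φ.app σ ≫ f = φ.app σ ≫ g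
    obtain ⟨hφ, Q, ψ, q, ⟨n, idx, π, hπ⟩, hq, hψ, heq⟩ := hE σ
    have hm : Mono (F.map ψ ≫ adj.counit.app Q) := by
      have : Mono ((F.map ψ ≫ adj.counit.app Q) ≫ q) := by
        rw [heq]; infer_instance
      exact mono_of_mono _ q
    let θ := cokernelKernelSubobjectIso π
    let j : E.obj σ ⟶ G.obj (cokernel (kernelSubobject π).arrow) := ψ ≫ G.map θ.inv
    have hj : Mono j := mono_comp _ _
    have hcond : Mono (F.map (Subobject.mk j).arrow ≫
        adj.counit.app (cokernel (kernelSubobject π).arrow)) := by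
      have e : F.map (Subobject.mk j).arrow ≫ adj.counit.app (cokernel (kernelSubobject π).arrow) =
          F.map (Subobject.underlyingIso j).hom ≫
            (F.map ψ ≫ adj.counit.app Q) ≫ θ.inv := by
        have h1 := adj.counit_naturality θ.inv
        rw [← Subobject.underlyingIso_hom_comp_eq_mk j, F.map_comp, F.map_comp, Category.assoc,
          Category.assoc, Category.assoc]
        exact congrArg (fun t => F.map (Subobject.underlyingIso j).hom ≫ F.map ψ ≫ t) h1
      rw [e]
      infer_instance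
    let k' : Idx s F G adj := ⟨n, idx, kernelSubobject π, Subobject.mk j, hcond⟩
    let e : E.obj σ ≅ fam s F G adj k' := (Subobject.underlyingIso j).symm
    have := hyp' k' (e.inv ≫ φ.app σ)
    rw [← cancel_epi e.inv]
    simpa using this

end Main

end Groth.Agent.Lib.Helper45.GrothTransfer
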