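import Groth.Agent.Lib.Helper45.GrothTransfer4
import Groth.Agent.Lib.Helper13.NoethSerre

set_option autoImplicit false
set_option backward.isDefEq.respectTransparency false
set_option linter.unusedSectionVars false
universe w u₁ u₂
open CategoryTheory CategoryTheory.Limits

namespace Groth.Agent.Lib.Helper45.GrothTransfer

open Groth.Agent.Lib.Helper13.NoethSerre

section Noeth

variable {B : Type u₂} [Category.{w} B] [Abelian B]

lemma isNoetherianObject_sigma : ∀ (n : ℕ) (X : Fin n → B), (∀ j, IsNoetherianObject (X j)) →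
    IsNoetherianObject (∐ X) := by
  intro n
  induction n with
  | zero =>
    intro X _
    apply isNoetherianObject_of_isZero
    rw [IsZero.iff_id_eq_zero]
    apply Sigma.hom_ext
    intro j
    exact Fin.elim0 j
  | succ n ih =>
    intro X hX
    have h1 : IsNoetherianObject (∐ fun j : Fin n => X j.castSucc) :=
      ih _ (fun j => hX j.castSucc)
    have h2 : IsNoetherianObject (X (Fin.last n)) := hX _
    let e : (∐ fun j : Fin n => X j.castSucc) ⊞ X (Fin.last n) ⟶ ∐ X :=
      biprod.desc (Sigma.desc fun j => Sigma.ι X j.castSucc) (Sigma.ι X (Fin.last n))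
    have he : Epi e := by
      refine ⟨fun {Z} f g hfg => ?_⟩
      apply Sigma.hom_ext
      intro j
      refine Fin.lastCases ?_ (fun i => ?_) j
      · have := congrArg (fun t => biprod.inr ≫ t) hfg
        simpa [e] using this
      · have := congrArg (fun t => Sigma.ι (fun j : Fin n => X j.castSucc) i ≫ biprod.inl ≫ t) hfg
        simpa [e] using this
    have h3 : IsNoetherianObject ((∐ fun j : Fin n => X j.castSucc) ⊞ X (Fin.last n)) :=
      ObjectProperty.is_of_prop _ (isNoetherianObject.prop_biprod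
        (isNoetherianObject.prop_of_is _) (isNoetherianObject.prop_of_is _))
    exact isNoetherianObject_of_epi e

lemma isNoetherianObject_of_fg [HasColimitsOfSize.{w, w} B] {ι : Type w} (s : ι → B) (hsN : ∀ i, IsNoetherianObject (s i))
    {Q : B} (h : FG s Q) : IsNoetherianObject Q := by
  obtain ⟨n, idx, π, hπ⟩ := h
  have := isNoetherianObject_sigma n (fun j => s (idx j)) (fun j => hsN _)
  exact isNoetherianObject_of_epi π

end Noeth

section Final

variable {A : Type u₁} [Category.{w} A] [Abelian A] [HasColimitsOfSize.{w, w} A]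
  {B : Type u₂} [Category.{w} B] [Abelian B]

theorem isGrothendieckAbelian_of_faithful_exact_leftAdjoint [IsGrothendieckAbelian.{w} B]
    (F : A ⥤ B) (G : B ⥤ A) (adj : F ⊣ G) [F.Additive] [F.Faithful]
    [PreservesFiniteLimits F] [PreservesFiniteColimits F] [PreservesFilteredColimitsOfSize.{w, w} G] :
    IsGrothendieckAbelian.{w} A := by
  let s : PUnit.{w + 1} → B := fun _ => separator B
  have hsep : ∀ ⦃X Y : B⦄ (f g : X ⟶ Y), (∀ (i : PUnit.{w + 1}) (h : s i ⟶ X), h ≫ f = h ≫ g) →
      f = g := by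
    intro X Y f g h
    exact (isSeparator_separator B).def f g (fun k => h PUnit.unit k)
  obtain ⟨κ, t, -, ht⟩ := exists_small_family s hsep F G adj
  have hab5 : AB5OfSize.{w, w} A := ab5_of_functor F adj
  have hS : ObjectProperty.IsSeparating (ObjectProperty.ofObj t) := by
    intro X Y f g h
    apply ht
    intro k u
    exact h (t k) ⟨k⟩ u
  exact { hasSeparator := ⟨∐ t, hS.isSeparator_coproduct⟩ }

variable [HasColimitsOfSize.{w, w} B] [AB5OfSize.{w, w} B]
    {ι : Type w} (s : ι → B) (hsN : ∀ i, IsNoetherianObject (s i))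
    (hsep : ∀ ⦃X Y : B⦄ (f g : X ⟶ Y), (∀ (i : ι) (h : s i ⟶ X), h ≫ f = h ≫ g) → f = g)
    (F : A ⥤ B) (G : B ⥤ A) (adj : F ⊣ G) [F.Additive] [F.Faithful]
    [PreservesFiniteLimits F] [PreservesFiniteColimits F] [PreservesFilteredColimitsOfSize.{w, w} G]

include hsN hsep adj in
theorem ab5_and_exists_noetherian_family :
    AB5OfSize.{w, w} A ∧
      ∃ (κ : Type w) (t : κ → A), (∀ k, IsNoetherianObject (t k)) ∧
        ∀ ⦃X Y : A⦄ (f g : X ⟶ Y), (∀ (k : κ) (h : t k ⟶ X), h ≫ f = h ≫ g) → f = g := by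
  refine ⟨ab5_of_functor F adj, ?_⟩
  obtain ⟨κ, t, h1, h2⟩ := exists_small_family s hsep F G adj
  refine ⟨κ, t, fun k => ?_, h2⟩
  obtain ⟨Q, m, hQ, hm⟩ := h1 k
  have hQn : IsNoetherianObject Q := isNoetherianObject_of_fg s hsN hQ
  have : IsNoetherianObject (F.obj (t k)) := isNoetherianObject_of_mono m
  exact isNoetherianObject_of_map F (t k)

include hsN hsep adj in
theorem isNoetherianObject_iff (a : A) : IsNoetherianObject a ↔ IsNoetherianObject (F.obj a) := by
  constructor
  · intro ha
    classical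
    obtain ⟨E, φ, ⟨hcolE⟩, hE⟩ := exists_system s hsep F G adj a
    have hmono : ∀ σ, Mono (φ.app σ) := fun σ => (hE σ).1
    -- the family of subobjects
    let Sb : Finset (Σ i, s i ⟶ F.obj a) → Subobject a := fun σ => Subobject.mk (φ.app σ)
    have hSb : Monotone Sb := by
      intro σ τ h
      exact Subobject.mk_le_mk_of_comm (E.map (homOfLE h)) (by
        have := φ.naturality (homOfLE h)
        simp only [Functor.const_obj_obj, Functor.const_obj_map, Category.comp_id] at this
        exact this)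
    obtain ⟨M, ⟨σ₀, rfl⟩, hmax⟩ := (inferInstance : WellFoundedGT (Subobject a)).wf.has_min
      (Set.range Sb) ⟨Sb ∅, ⟨∅, rfl⟩⟩
    have hle : ∀ τ, Sb τ ≤ Sb σ₀ := by
      intro τ
      have h1 : Sb σ₀ ≤ Sb (σ₀ ∪ τ) := hSb Finset.subset_union_left
      have h2 : Sb τ ≤ Sb (σ₀ ∪ τ) := hSb Finset.subset_union_right
      have h3 : ¬ (Sb σ₀ < Sb (σ₀ ∪ τ)) := fun h => hmax _ ⟨_, rfl⟩ h
      have h4 : Sb σ₀ = Sb (σ₀ ∪ τ) := by
        by_contra hne
        exact h3 (lt_of_le_of_ne h1 hne)
      rw [h4]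
      exact h2
    let leg : ∀ τ, E.obj τ ⟶ E.obj σ₀ := fun τ => Subobject.ofMkLEMk _ _ (hle τ)
    have hleg : ∀ τ, leg τ ≫ φ.app σ₀ = φ.app τ := fun τ => Subobject.ofMkLEMk_comp (hle τ)
    have hnat : ∀ (τ τ' : Finset (Σ i, s i ⟶ F.obj a)) (u : τ ⟶ τ'), E.map u ≫ leg τ' = leg τ := by
      intro τ τ' u
      rw [← cancel_mono (φ.app σ₀)]
      have := φ.naturality u
      simp only [Functor.const_obj_obj, Functor.const_obj_map, Category.comp_id] at this
      rw [Category.assoc, hleg, hleg, this]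
    let c : Cocone E := ⟨E.obj σ₀, ⟨leg, fun τ τ' u => by
      rw [hnat]
      exact (Category.comp_id _).symm⟩⟩
    have hsplit : hcolE.desc c ≫ φ.app σ₀ = 𝟙 a := by
      apply hcolE.hom_ext
      intro τ
      rw [← Category.assoc, hcolE.fac]
      change leg τ ≫ φ.app σ₀ = φ.app τ ≫ 𝟙 a
      rw [hleg]
      exact (Category.comp_id _).symm
    have hepi : Epi (φ.app σ₀) := epi_of_epi_fac hsplit
    have hiso : IsIso (φ.app σ₀) := isIso_of_mono_of_epi _
    obtain ⟨-, Q, ψ, q, hQ, hq, -, heq⟩ := hE σ₀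
    have hQn : IsNoetherianObject Q := isNoetherianObject_of_fg s hsN hQ
    have hqepi : Epi q := by
      have : IsIso (F.map (φ.app σ₀)) := inferInstance
      have : Epi ((F.map ψ ≫ adj.counit.app Q) ≫ q) := by rw [heq]; infer_instance
      exact epi_of_epi (F.map ψ ≫ adj.counit.app Q) q
    exact isNoetherianObject_of_epi q
  · intro h
    exact isNoetherianObject_of_map F a

end Final

end Groth.Agent.Lib.Helper45.GrothTransfer
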