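import Groth.Prelude.Def_BigSite
import Groth.Agent.Lib.Helper19.LanFlat
set_option autoImplicit false
set_option linter.style.haveILetI false
set_option backward.isDefEq.respectTransparency false
open CategoryTheory CategoryTheory.Limits AlgebraicGeometry Opposite
universe u v

namespace Groth.Agent.Lib.Helper45.ShriekExact

section general


theorem final_discrete {J I : Type*} [Category J] (t : I → J)
    (h1 : ∀ j : J, ∃ i, Nonempty (j ⟶ t i))
    (h2 : ∀ (j : J) (i i' : I) (a : j ⟶ t i) (a' : j ⟶ t i'),
      ∃ e : i = i', a ≫ eqToHom (congrArg t e) = a') :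
    (Discrete.functor t).Final := by
  refine ⟨fun j => ?_⟩
  obtain ⟨i, ⟨a⟩⟩ := h1 j
  have : Nonempty (StructuredArrow j (Discrete.functor t)) :=
    ⟨StructuredArrow.mk (Y := (⟨i⟩ : Discrete I)) (f := a)⟩
  refine zigzag_isConnected (fun x y => ?_)
  obtain ⟨e, he⟩ := h2 j x.right.as y.right.as x.hom y.hom
  refine Zigzag.of_hom (StructuredArrow.homMk (eqToHom (by ext; exact e)) ?_)
  rw [← he]
  congr 1

theorem colim_preservesFiniteLimits_of_final_discrete {J I A : Type*} [Category J] [Category A]
    (t : I → J) [(Discrete.functor t).Final] [HasColimitsOfShape J A]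
    [HasColimitsOfShape (Discrete I) A] [HasFiniteLimits A]
    [HasExactColimitsOfShape (Discrete I) A] :
    PreservesFiniteLimits (colim : (J ⥤ A) ⥤ A) := by
  have : PreservesFiniteLimits
      ((Functor.whiskeringLeft _ _ A).obj (Discrete.functor t) ⋙ colim) :=
    comp_preservesFiniteLimits _ _
  exact preservesFiniteLimits_of_natIso (Functor.Final.colimIso (Discrete.functor t))


variable {C : Type u} [Category.{v} C] {X Y : C} (f : X ⟶ Y)


/-- the family of terminal-in-their-component objects -/
def tObj (V : (Over Y)ᵒᵖ) (φ : V.unop ⟶ Over.mk f) : CostructuredArrow (Over.map f).op V :=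
  CostructuredArrow.mk (Y := op (Over.mk φ.left : Over X))
    (f := (Over.homMk (𝟙 _) (by simpa using Over.w φ) :
      V.unop ⟶ (Over.map f).obj (Over.mk φ.left)).op)

theorem tObj_final (V : (Over Y)ᵒᵖ) : (Discrete.functor (tObj f V)).Final := by
  refine final_discrete _ ?_ ?_
  · intro j
    let W : Over X := j.left.unop
    let g : V.unop ⟶ (Over.map f).obj W := j.hom.unop
    let k : V.unop.left ⟶ W.left := g.left
    have hk : k ≫ W.hom ≫ f = V.unop.hom := by simpa using Over.w g
    let φ : V.unop ⟶ Over.mk f := Over.homMk (k ≫ W.hom) (by simpa using hk)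
    refine ⟨φ, ⟨CostructuredArrow.homMk (Over.homMk k rfl : Over.mk φ.left ⟶ W).op ?_⟩⟩
    apply Quiver.Hom.unop_inj
    ext
    simp [tObj, k, g]
  · intro j φ φ' a a'
    let W : Over X := j.left.unop
    let g : V.unop ⟶ (Over.map f).obj W := j.hom.unop
    have ha : a.left.unop.left = g.left := by
      have := congrArg (fun m => m.unop.left) (CostructuredArrow.w a)
      simpa [tObj] using this
    have ha' : a'.left.unop.left = g.left := by
      have := congrArg (fun m => m.unop.left) (CostructuredArrow.w a')
      simpa [tObj] using this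
    have e : φ = φ' := by
      ext
      have h1 := Over.w a.left.unop
      have h2 := Over.w a'.left.unop
      simp only [tObj, CostructuredArrow.mk_left, unop_op, Over.mk_hom] at h1 h2
      rw [← h1, ← h2, ha, ha']
    subst e
    refine ⟨rfl, ?_⟩
    simp only [eqToHom_refl, Category.comp_id]
    ext
    apply Quiver.Hom.unop_inj
    ext
    rw [ha, ha']

end general

open Groth.Agent.Lib.Helper19 in
theorem lan_preservesFiniteLimits {X Y : Scheme.{u}} (f : X ⟶ Y) :
    PreservesFiniteLimits ((Over.map f).op.lan :
      ((Over X)ᵒᵖ ⥤ AddCommGrpCat.{u+1}) ⥤ ((Over Y)ᵒᵖ ⥤ AddCommGrpCat.{u+1})) := by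
  apply preservesFiniteLimits_of_preservesFiniteLimitsOfSize.{0}
  intro J _ _
  apply preservesLimitsOfShape_of_evaluation _ J
  intro V
  have := tObj_final f V
  have : AB4OfSize.{u} AddCommGrpCat.{u+1} := AB4OfSize_shrink.{u, u+1} _
  have : PreservesFiniteLimits
      (colim : (CostructuredArrow (Over.map f).op V ⥤ AddCommGrpCat.{u+1}) ⥤ _) :=
    colim_preservesFiniteLimits_of_final_discrete (tObj f V)
  exact preservesLimitsOfShape_of_natIso
    (LanFlat.lanEvaluationIsoColim AddCommGrpCat.{u+1} (Over.map f).op V).symm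

theorem main {X Y : Scheme.{u}} (f : X ⟶ Y) (K : Precoverage Scheme.{u}) :
    PreservesFiniteLimits (BigSite.shriekAb K f) := by
  have := lan_preservesFiniteLimits f
  exact Functor.sheafPullbackConstruction.preservesFiniteLimits (Over.map f) AddCommGrpCat.{u+1}
    (QuotSh.J K X) (QuotSh.J K Y)

end Groth.Agent.Lib.Helper45.ShriekExact
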