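import Groth.Prelude.Def_BigSite
import Groth.Agent.Lib.Helper19.LanFlat
import Groth.Agent.Lib.Helper45.ShriekExact
set_option autoImplicit false
set_option linter.style.haveILetI false
open CategoryTheory CategoryTheory.Limits AlgebraicGeometry Opposite
universe u

namespace Groth.Agent.Lib.Helper45.ResInj
open Groth.Agent.Lib.Helper19

attribute [local instance] reflectsLimitsOfShape_of_reflectsIsomorphisms in
theorem lan_a_preservesFiniteLimits (S : Scheme.{u}) :
    PreservesFiniteLimits ((EtFppf.a S).op.lan :
      ((S.Etale)ᵒᵖ ⥤ AddCommGrpCat.{u+1}) ⥤ ((Over S)ᵒᵖ ⥤ AddCommGrpCat.{u+1})) := by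
  haveI : PreservesFiniteLimits (EtFppf.a S) :=
    inferInstanceAs (PreservesFiniteLimits (Scheme.Etale.forget S))
  haveI : RepresentablyFlat (EtFppf.a S) := flat_of_preservesFiniteLimits _
  exact LanFlat.lan_preservesFiniteLimits_of_flat AddCommGrpCat.{u+1} (EtFppf.a S) (fun K J _ _ => by
    haveI : IsFiltered (CostructuredArrow (EtFppf.a S).op K) :=
      IsFiltered.of_equivalence (structuredArrowOpEquivalence (EtFppf.a S) (Opposite.unop K))
    haveI : PreservesFilteredColimitsOfSize.{u, u+1} (forget AddCommGrpCat.{u+1}) :=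
      preservesFilteredColimitsOfSize_shrink.{u+1, u+1, u, u+1} _
    exact filtered_colim_preservesFiniteLimits)

theorem piEtPull_preservesFiniteLimits (S : Scheme.{u}) :
    PreservesFiniteLimits (BigSite.piEtPull Scheme.etalePrecoverage S) := by
  haveI := lan_a_preservesFiniteLimits S
  exact Functor.sheafPullbackConstruction.preservesFiniteLimits (EtFppf.a S) AddCommGrpCat.{u+1}
    S.smallEtaleTopology (QuotSh.J Scheme.etalePrecoverage S)

theorem main (S : Scheme.{u}) (I : BigSite.Ab Scheme.etalePrecoverage S) [Injective I]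
    {T : Scheme.{u}} (f : T ⟶ S) :
    Injective ((BigSite.resEt Scheme.etalePrecoverage S).obj I) ∧
      Injective ((BigSite.resEtAlong Scheme.etalePrecoverage f).obj I) := by
  have h1 : ∀ (S : Scheme.{u}) (I : BigSite.Ab Scheme.etalePrecoverage S) [Injective I],
      Injective ((BigSite.resEt Scheme.etalePrecoverage S).obj I) := by
    intro S I _
    haveI := piEtPull_preservesFiniteLimits S
    exact Injective.injective_of_adjoint (BigSite.piEtAdj Scheme.etalePrecoverage S) I
  refine ⟨h1 S I, ?_⟩
  haveI := Groth.Agent.Lib.Helper45.ShriekExact.main f Scheme.etalePrecoverage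
  haveI : Injective ((BigSite.pullBig Scheme.etalePrecoverage f AddCommGrpCat.{u + 1}).obj I) :=
    Injective.injective_of_adjoint (BigSite.shriekAbAdj Scheme.etalePrecoverage f) I
  exact h1 T _

end Groth.Agent.Lib.Helper45.ResInj
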