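import Groth.Agent.Lib.Helper45.KInjAdj
import Groth.Agent.Lib.Helper45.ResInj
set_option autoImplicit false
set_option linter.style.haveILetI false
open CategoryTheory CategoryTheory.Limits AlgebraicGeometry Opposite
universe u

namespace Groth.Agent.Lib.Helper45.KInjRes

theorem main (S : Scheme.{u})
    (I : CochainComplex (BigSite.Ab Scheme.etalePrecoverage S) ℤ) [I.IsKInjective] {T : Scheme.{u}} (f : T ⟶ S) :
    CochainComplex.IsKInjective (((BigSite.resEt Scheme.etalePrecoverage S).mapHomologicalComplex (ComplexShape.up ℤ)).obj I) ∧
      CochainComplex.IsKInjective (((BigSite.resEtAlong Scheme.etalePrecoverage f).mapHomologicalComplex (ComplexShape.up ℤ)).obj I) := by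
  constructor
  · haveI := ResInj.piEtPull_preservesFiniteLimits S
    haveI : (BigSite.piEtPull Scheme.etalePrecoverage S).Additive :=
      (BigSite.piEtAdj Scheme.etalePrecoverage S).left_adjoint_additive
    haveI : PreservesFiniteColimits (BigSite.piEtPull Scheme.etalePrecoverage S) :=
      
      haveI := (BigSite.piEtAdj Scheme.etalePrecoverage S).leftAdjoint_preservesColimits.{0, 0}
      PreservesColimitsOfSize.preservesFiniteColimits _
    exact KInjAdj.isKInjective_map (BigSite.piEtAdj Scheme.etalePrecoverage S) I
  · haveI := ResInj.piEtPull_preservesFiniteLimits T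
    haveI := ShriekExact.main f Scheme.etalePrecoverage
    let adj := (BigSite.piEtAdj Scheme.etalePrecoverage T).comp
      (BigSite.shriekAbAdj Scheme.etalePrecoverage f)
    haveI : (BigSite.piEtPull Scheme.etalePrecoverage T ⋙
        BigSite.shriekAb Scheme.etalePrecoverage f).Additive := adj.left_adjoint_additive
    haveI : PreservesFiniteColimits (BigSite.piEtPull Scheme.etalePrecoverage T ⋙
        BigSite.shriekAb Scheme.etalePrecoverage f) :=
      haveI := adj.leftAdjoint_preservesColimits.{0, 0}
      PreservesColimitsOfSize.preservesFiniteColimits _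
    haveI : PreservesFiniteLimits (BigSite.piEtPull Scheme.etalePrecoverage T ⋙
        BigSite.shriekAb Scheme.etalePrecoverage f) := comp_preservesFiniteLimits _ _
    exact KInjAdj.isKInjective_map adj I

end Groth.Agent.Lib.Helper45.KInjRes
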