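import Groth.Prelude.Def_KoszulSh
import Mathlib.LinearAlgebra.CliffordAlgebra.Contraction
import Mathlib.LinearAlgebra.ExteriorAlgebra.Grading

/-!
# Koszul boundary `KoszSh.dGen` as contraction in the exterior algebra (helper45, for helper94)

* `contractLeft_ιMulti`: `φ⌋(e₀ ∧ … ∧ e_p) = dGen φ p e` in `ExteriorAlgebra R M`.
* `contractLeft_coe`: any family `D p : ⋀^(p+1) M → ⋀^p M` obeying the Koszul rule on
  decomposables is the restriction of `contractLeft φ`.
* `decompose_contractLeft`: contraction lowers the degree by one (graded projections).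
* `exists_preimage`: exactness of the total contraction (mod scalars) gives exactness of the
  graded Koszul differential in positive degree.
-/

set_option autoImplicit false

open exteriorPower

namespace Groth.Agent.Lib.Helper45.KosExt

variable {R M : Type*} [CommRing R] [AddCommGroup M] [Module R M]

theorem coe_dGen (φ : M →ₗ[R] R) (p : ℕ) (e : Fin (p + 1) → M) :
    ((KoszSh.dGen φ p e : ⋀[R]^p M) : ExteriorAlgebra R M) =
      ∑ i : Fin (p + 1), ((-1 : R) ^ (i : ℕ) * φ (e i)) •
        ExteriorAlgebra.ιMulti R p (fun j => e (i.succAbove j)) := by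
  unfold KoszSh.dGen
  rw [Submodule.coe_sum]
  refine Finset.sum_congr rfl fun i _ => ?_
  rw [Submodule.coe_smul, ιMulti_apply_coe]

theorem contractLeft_ιMulti (φ : M →ₗ[R] R) (p : ℕ) (e : Fin (p + 1) → M) :
    CliffordAlgebra.contractLeft (Q := (0 : QuadraticForm R M)) φ
        (ExteriorAlgebra.ιMulti R (p + 1) e) =
      ((KoszSh.dGen φ p e : ⋀[R]^p M) : ExteriorAlgebra R M) := by
  induction p with
  | zero =>
    rw [coe_dGen, ExteriorAlgebra.ιMulti_succ_apply]
    erw [CliffordAlgebra.contractLeft_ι_mul]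
    simp
  | succ p ih =>
    rw [coe_dGen, Fin.sum_univ_succ]
    conv_lhs => rw [ExteriorAlgebra.ιMulti_succ_apply]
    erw [CliffordAlgebra.contractLeft_ι_mul]
    rw [ih, coe_dGen, Finset.mul_sum]
    simp only [Fin.val_zero, pow_zero, one_mul, Fin.zero_succAbove, Fin.val_succ]
    rw [sub_eq_add_neg, ← Finset.sum_neg_distrib]
    congr 1
    refine Finset.sum_congr rfl fun i _ => ?_
    rw [ExteriorAlgebra.ιMulti_succ_apply (R := R) (v := fun j => e (i.succ.succAbove j))]
    simp only [Fin.succ_succAbove_zero, Matrix.vecTail, Function.comp_def,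
      Fin.succ_succAbove_succ]
    rw [mul_smul_comm, ← neg_smul, pow_succ]
    congr 1
    ring


/-- Contraction by `φ` restricted to `⋀^(p+1) M` is (the coercion of) any linear map `D p`
satisfying the Koszul rule on decomposable elements. -/
theorem contractLeft_coe (φ : M →ₗ[R] R) (D : ∀ p, ⋀[R]^(p + 1) M →ₗ[R] ⋀[R]^p M)
    (hD : ∀ p (e : Fin (p + 1) → M), D p (ιMulti R (p + 1) e) = KoszSh.dGen φ p e)
    (p : ℕ) (z : ⋀[R]^(p + 1) M) :
    CliffordAlgebra.contractLeft (Q := (0 : QuadraticForm R M)) φ (z : ExteriorAlgebra R M) =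
      ((D p z : ⋀[R]^p M) : ExteriorAlgebra R M) := by
  have key : (CliffordAlgebra.contractLeft (Q := (0 : QuadraticForm R M)) φ) ∘ₗ
      (⋀[R]^(p + 1) M).subtype = (⋀[R]^p M).subtype ∘ₗ D p := by
    apply exteriorPower.linearMap_ext
    ext e
    simp only [LinearMap.compAlternatingMap_apply, LinearMap.coe_comp, Function.comp_apply,
      Submodule.coe_subtype, ιMulti_apply_coe]
    rw [hD]
    exact contractLeft_ιMulti φ p e
  exact LinearMap.congr_fun key z

/-- Contraction kills degree zero. -/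
theorem contractLeft_of_mem_zero (φ : M →ₗ[R] R) (z : ExteriorAlgebra R M)
    (hz : z ∈ ⋀[R]^0 M) :
    CliffordAlgebra.contractLeft (Q := (0 : QuadraticForm R M)) φ z = 0 := by
  change z ∈ (LinearMap.range (ExteriorAlgebra.ι R : M →ₗ[R] ExteriorAlgebra R M)) ^ 0 at hz
  rw [pow_zero, Submodule.mem_one] at hz
  obtain ⟨r, rfl⟩ := hz
  exact CliffordAlgebra.contractLeft_algebraMap (Q := (0 : QuadraticForm R M)) φ r

/-- Contraction lowers the degree by one: compatibility with the graded projections. -/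
theorem decompose_contractLeft (φ : M →ₗ[R] R) (D : ∀ p, ⋀[R]^(p + 1) M →ₗ[R] ⋀[R]^p M)
    (hD : ∀ p (e : Fin (p + 1) → M), D p (ιMulti R (p + 1) e) = KoszSh.dGen φ p e)
    (q : ℕ) (y : ExteriorAlgebra R M) :
    ((DirectSum.decompose (fun i : ℕ => ⋀[R]^i M)
        (CliffordAlgebra.contractLeft (Q := (0 : QuadraticForm R M)) φ y) q : ⋀[R]^q M) :
          ExteriorAlgebra R M) =
      ((D q (DirectSum.decompose (fun i : ℕ => ⋀[R]^i M) y (q + 1)) : ⋀[R]^q M) :
          ExteriorAlgebra R M) := by
  induction y using DirectSum.Decomposition.inductionOn fun i => ⋀[R]^i M with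
  | zero => simp
  | add a b ha hb =>
    rw [map_add, DirectSum.decompose_add, DirectSum.decompose_add, DirectSum.add_apply,
      DirectSum.add_apply, map_add, Submodule.coe_add, Submodule.coe_add, ha, hb]
  | @homogeneous i m =>
    cases i with
    | zero =>
      rw [contractLeft_of_mem_zero φ _ m.2, DirectSum.decompose_zero, DirectSum.zero_apply,
        Submodule.coe_zero]
      have : DirectSum.decompose (fun i : ℕ => ⋀[R]^i M) (m : ExteriorAlgebra R M) (q + 1) = 0 := by
        apply Subtype.ext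
        rw [DirectSum.decompose_of_mem_ne (fun i : ℕ => ⋀[R]^i M) m.2 (Nat.succ_ne_zero q).symm, Submodule.coe_zero]
      rw [this, map_zero, Submodule.coe_zero]
    | succ j =>
      rw [contractLeft_coe φ D hD j m]
      by_cases hjq : j = q
      · subst hjq
        rw [DirectSum.decompose_of_mem_same (fun i : ℕ => ⋀[R]^i M) (D j m).2]
        have : DirectSum.decompose (fun i : ℕ => ⋀[R]^i M) (m : ExteriorAlgebra R M) (j + 1) = m := by
          apply Subtype.ext
          rw [DirectSum.decompose_of_mem_same (fun i : ℕ => ⋀[R]^i M) m.2]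
        rw [this]
      · rw [DirectSum.decompose_of_mem_ne (fun i : ℕ => ⋀[R]^i M) (D j m).2 hjq]
        have : DirectSum.decompose (fun i : ℕ => ⋀[R]^i M) (m : ExteriorAlgebra R M) (q + 1) = 0 := by
          apply Subtype.ext
          rw [DirectSum.decompose_of_mem_ne (fun i : ℕ => ⋀[R]^i M) m.2 (fun h => hjq (Nat.succ_injective h)),
            Submodule.coe_zero]
        rw [this, map_zero, Submodule.coe_zero]

theorem exists_preimage (φ : M →ₗ[R] R) (D : ∀ p, ⋀[R]^(p + 1) M →ₗ[R] ⋀[R]^p M)
    (hD : ∀ p (e : Fin (p + 1) → M), D p (ιMulti R (p + 1) e) = KoszSh.dGen φ p e)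
    (htot : ∀ x : ExteriorAlgebra R M,
      CliffordAlgebra.contractLeft (Q := (0 : QuadraticForm R M)) φ x = 0 →
      ∃ (y : ExteriorAlgebra R M) (r : R),
        x = CliffordAlgebra.contractLeft (Q := (0 : QuadraticForm R M)) φ y + algebraMap R _ r)
    (p : ℕ) (x : ⋀[R]^(p + 1) M) (hx : D p x = 0) : ∃ y, D (p + 1) y = x := by
  have h0 : CliffordAlgebra.contractLeft (Q := (0 : QuadraticForm R M)) φ
      (x : ExteriorAlgebra R M) = 0 := by
    rw [contractLeft_coe φ D hD p x, hx, Submodule.coe_zero]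
  obtain ⟨y, r, hy⟩ := htot _ h0
  refine ⟨DirectSum.decompose (fun i : ℕ => ⋀[R]^i M) y (p + 1 + 1), ?_⟩
  apply Subtype.ext
  rw [← decompose_contractLeft φ D hD (p + 1) y]
  have hr : (algebraMap R (ExteriorAlgebra R M) r) ∈ ⋀[R]^0 M := by
    change _ ∈ (LinearMap.range (ExteriorAlgebra.ι R : M →ₗ[R] ExteriorAlgebra R M)) ^ 0
    rw [pow_zero, Submodule.mem_one]
    exact ⟨r, rfl⟩
  have h1 : ((DirectSum.decompose (fun i : ℕ => ⋀[R]^i M) (x : ExteriorAlgebra R M) (p + 1) :
      ⋀[R]^(p + 1) M) : ExteriorAlgebra R M) = x :=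
    DirectSum.decompose_of_mem_same (fun i : ℕ => ⋀[R]^i M) x.2
  rw [← h1, hy, DirectSum.decompose_add, DirectSum.add_apply, Submodule.coe_add,
    DirectSum.decompose_of_mem_ne (fun i : ℕ => ⋀[R]^i M) hr (Nat.succ_ne_zero p).symm, add_zero]

end Groth.Agent.Lib.Helper45.KosExt
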