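import Groth.Agent.Lib.Helper45.ClosedImm1

/-!
# Local bases of locally free modules (`LocBasis`) and: an epimorphism between locally free
modules of the same finite rank is an isomorphism (matrix inverse argument).
-/

set_option autoImplicit false
set_option linter.style.haveILetI false
set_option linter.unusedSectionVars false

universe u

open CategoryTheory CategoryTheory.Limits Opposite ModSite

set_option linter.dupNamespace false

namespace Groth.Agent.Lib.Helper45.LocBasis

open Groth.Agent.Lib.Helper45.QcSum Groth.Agent.Lib.Helper45.FTDict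
  Groth.Agent.Lib.Helper45.ClosedImm

lemma vec_zero_elementwise {R : Type*} [CommRing R] {ι : Type*} [Fintype ι] [DecidableEq ι]
    (M N : ι → ι → R)
    (h : ∀ j k, ∑ l, M j l * N l k = if j = k then 1 else 0) (v : ι → R)
    (hv : ∀ j, ∑ k, M j k * v k = 0) : ∀ k, v k = 0 := by
  have h1 : (Matrix.of M) * (Matrix.of N) = 1 := by
    ext j k
    rw [Matrix.mul_apply, Matrix.one_apply]
    exact h j k
  have h2 : (Matrix.of N) * (Matrix.of M) = 1 := mul_eq_one_comm.1 h1
  have h3 : (Matrix.of M).mulVec v = 0 := by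
    ext j
    exact hv j
  have h4 : v = 0 := by
    calc v = (1 : Matrix ι ι R).mulVec v := (Matrix.one_mulVec v).symm
      _ = (Matrix.of N * Matrix.of M).mulVec v := by rw [h2]
      _ = (Matrix.of N).mulVec ((Matrix.of M).mulVec v) := (Matrix.mulVec_mulVec v _ _).symm
      _ = 0 := by rw [h3, Matrix.mulVec_zero]
  intro k
  rw [h4]
  rfl

variable {C : Type u} [SmallCategory C] {J : GrothendieckTopology C} (O : Sheaf J CommRingCat.{u})

/-- `b` is a basis of `F` restricted to `W`. -/
def LocBasis (F : Mod O) (W : C) {r : ℕ} (b : Fin r → F.val.obj (op W)) : Prop :=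
  ∀ (W' : C) (f : W' ⟶ W) (y : F.val.obj (op W')),
    ∃! c : Fin r → (ringSh O).obj.obj (op W'), y = ∑ k, c k • res O F f (b k)

lemma mono_of_injective {F G : Mod O} (φ : F ⟶ G)
    (h : ∀ (V : C) (x : F.val.obj (op V)), φ.val.app (op V) x = 0 → x = 0) : Mono φ := by
  apply Preadditive.mono_of_cancel_zero
  intro T ψ hψ
  apply hom_ext_app O
  intro Z t
  have h1 : φ.val.app (op Z) (ψ.val.app (op Z) t) = 0 :=
    congrArg (fun θ => θ.val.app (op Z) t) hψ
  exact h Z _ h1

theorem eq_zero_of_locBasis {F G : Mod O} (φ : F ⟶ G) [Epi φ] (W : C) {r : ℕ}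
    (bF : Fin r → F.val.obj (op W)) (bG : Fin r → G.val.obj (op W))
    (hF : LocBasis O F W bF) (hG : LocBasis O G W bG)
    (x : F.val.obj (op W)) (hx : φ.val.app (op W) x = 0) : x = 0 := by
  classical
  choose T hT hT' using fun k => exists_local_lift O φ (bG k)
  refine eq_of_local O F x 0 (Finset.univ.inf T) (finset_inf_mem _ T hT) ?_
  intro W' f hf
  rw [res_zero]
  have hfk : ∀ k, T k f := fun k => (finset_inf_apply _ T f).1 hf k (Finset.mem_univ k)
  choose y hy using fun k => hT' k W' f (hfk k)
  choose N hN using fun k => (hF W' f (y k)).exists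
  choose M hM using fun k => (hG W' f (φ.val.app (op W') (res O F f (bF k)))).exists
  obtain ⟨v, hv⟩ := (hF W' f (res O F f x)).exists
  have hφ : ∀ c : Fin r → (ringSh O).obj.obj (op W'),
      φ.val.app (op W') (∑ k, c k • res O F f (bF k)) =
        ∑ l, (∑ k, c k * M k l) • res O G f (bG l) := by
    intro c
    rw [app_sum]
    simp only [app_smul, hM]
    exact alg_swap c M _
  have huniq : ∀ c c' : Fin r → (ringSh O).obj.obj (op W'),
      ∑ l, c l • res O G f (bG l) = ∑ l, c' l • res O G f (bG l) → c = c' := by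
    intro c c' h
    exact (hG W' f _).unique rfl h
  have h1 : ∀ k l, ∑ j, N k j * M j l = if k = l then 1 else 0 := by
    intro k
    have e1 : φ.val.app (op W') (y k) =
        ∑ l, (∑ j, N k j * M j l) • res O G f (bG l) := by
      conv_lhs => rw [hN k]
      exact hφ (N k)
    rw [hy k] at e1
    have e2 : res O G f (bG k) =
        ∑ l, (if k = l then (1 : (ringSh O).obj.obj (op W')) else 0) • res O G f (bG l) := by
      simp [Finset.sum_ite_eq]
    have := huniq _ _ (e2.symm.trans e1)
    intro l
    exact (congrFun this l).symm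
  have h2 : ∀ l, ∑ k, v k * M k l = 0 := by
    have e1 : φ.val.app (op W') (res O F f x) =
        ∑ l, (∑ k, v k * M k l) • res O G f (bG l) := by
      conv_lhs => rw [hv]
      exact hφ v
    rw [app_res, hx, res_zero] at e1
    have e2 : (0 : G.val.obj (op W')) =
        ∑ l, (0 : (ringSh O).obj.obj (op W')) • res O G f (bG l) := by simp
    have := huniq _ _ (e2.symm.trans e1)
    intro l
    exact (congrFun this l).symm
  have hv0 : ∀ k, v k = 0 := by
    refine vec_zero_elementwise (R := (O.obj.obj (op W') : CommRingCat)) (fun j k => M k j)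
      (fun j k => N k j) ?_ v ?_
    · intro j k
      have h1' : ∑ l, N k l * M l j = if j = k then 1 else 0 := by
        rw [h1 k j]
        simp only [eq_comm]
      refine Eq.trans ?_ h1'
      exact Finset.sum_congr rfl (fun l _ => mul_comm _ _)
    · intro j
      refine Eq.trans ?_ (h2 j)
      exact Finset.sum_congr rfl (fun l _ => mul_comm _ _)
  rw [hv]
  simp [hv0]

theorem locBasis_of_iso (F : Mod O) (U : C) {r : ℕ}
    (α : (restr O U).obj F ≅ SheafOfModules.free (R := ringSh (O.over U)) (ULift.{u} (Fin r)))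
    {W : C} (g : W ⟶ U) :
    ∃ b : Fin r → F.val.obj (op W), LocBasis O F W b := by
  classical
  let Z₁ : Over U := Over.mk g
  let b : Fin r → F.val.obj (op W) := fun k =>
    α.inv.val.app (op Z₁) (basis (O.over U) (ULift.up k) Z₁)
  refine ⟨b, ?_⟩
  intro W' f y
  let Z' : Over U := Over.mk (f ≫ g)
  let q : Z' ⟶ Z₁ := Over.homMk f
  let N : Mod (O.over U) := (restr O U).obj F
  have hb : ∀ k : ULift.{u} (Fin r),
      (α.inv.val.app (op Z') (basis (O.over U) k Z') : F.val.obj (op W')) =
        res O F f (b k.down) := by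
    intro k
    have h := app_res (O.over U) α.inv q (basis (O.over U) k Z₁)
    rw [basis_res] at h
    exact h
  let y' : N.val.obj (op Z') := y
  let t := α.hom.val.app (op Z') y'
  have hinv : α.inv.val.app (op Z') t = y' :=
    congrArg (fun θ => θ.val.app (op Z') y') α.hom_inv_id
  have hcomb : ∀ c : Fin r → (ringSh O).obj.obj (op W'),
      (α.inv.val.app (op Z') (∑ k : ULift.{u} (Fin r),
        (show (ringSh (O.over U)).obj.obj (op Z') from c k.down) • basis (O.over U) k Z') :
          F.val.obj (op W')) =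
        ∑ k : Fin r, c k • res O F f (b k) := by
    intro c
    rw [map_sum]
    rw [← Equiv.sum_comp Equiv.ulift.{u} (fun k : Fin r => c k • res O F f (b k))]
    refine Finset.sum_congr rfl (fun k _ => ?_)
    rw [map_smul, hb k]
    rfl
  have hhi : ∀ s, α.hom.val.app (op Z') (α.inv.val.app (op Z') s) = s := fun s =>
    congrArg (fun θ => θ.val.app (op Z') s) α.inv_hom_id
  let c₀ : Fin r → (ringSh O).obj.obj (op W') := fun k => coord (O.over U) (ULift.up k) Z' t
  refine ⟨c₀, ?_, ?_⟩
  · show y = ∑ k, c₀ k • res O F f (b k)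
    rw [← hcomb c₀]
    have e1 := eq_sum_coord (O.over U) Z' t
    have e2 : α.inv.val.app (op Z') t = α.inv.val.app (op Z')
        (∑ k, coord (O.over U) k Z' t • basis (O.over U) k Z') :=
      congrArg (fun s => α.inv.val.app (op Z') s) e1
    exact hinv.symm.trans e2
  · intro c' hc'
    have h1 : α.inv.val.app (op Z') (∑ k : ULift.{u} (Fin r),
        (show (ringSh (O.over U)).obj.obj (op Z') from c' k.down) • basis (O.over U) k Z') =
        α.inv.val.app (op Z') t :=
      (hcomb c').trans (hc'.symm.trans hinv.symm)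
    have h2 := congrArg (fun s => α.hom.val.app (op Z') s) h1
    simp only [hhi] at h2
    funext k
    have h3 := congrArg (coord (O.over U) (ULift.up k) Z') h2
    rw [coord_comb] at h3
    exact h3

theorem isIso_iff_epi_of_locFree {X : TopCat.{u}} (O : TopCat.Sheaf CommRingCat.{u} X) (r : ℕ)
    {F G : ModSite.Mod O}
    (hF : ∀ x : X, ∃ U : TopologicalSpace.Opens X, x ∈ U ∧
      Nonempty ((ModSite.restr O U).obj F ≅ SheafOfModules.free (ULift.{u} (Fin r))))
    (hG : ∀ x : X, ∃ U : TopologicalSpace.Opens X, x ∈ U ∧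
      Nonempty ((ModSite.restr O U).obj G ≅ SheafOfModules.free (ULift.{u} (Fin r))))
    (φ : F ⟶ G) : IsIso φ ↔ Epi φ := by
  constructor
  · intro h
    infer_instance
  · intro hepi
    have hmono : Mono φ := by
      apply mono_of_injective O
      intro V x hx
      let S : Sieve V :=
        { arrows := fun W _ => ∃ (U₁ U₂ : TopologicalSpace.Opens X) (_ : W ⟶ U₁) (_ : W ⟶ U₂),
            Nonempty ((ModSite.restr O U₁).obj F ≅ SheafOfModules.free (ULift.{u} (Fin r))) ∧
            Nonempty ((ModSite.restr O U₂).obj G ≅ SheafOfModules.free (ULift.{u} (Fin r)))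
          downward_closed := by
            rintro W₁ W₂ f ⟨U₁, U₂, g₁, g₂, h1, h2⟩ k
            exact ⟨U₁, U₂, k ≫ g₁, k ≫ g₂, h1, h2⟩ }
      refine eq_of_local O F x 0 S ?_ ?_
      · intro y hy
        obtain ⟨U₁, hy1, h1⟩ := hF y
        obtain ⟨U₂, hy2, h2⟩ := hG y
        exact ⟨V ⊓ U₁ ⊓ U₂, homOfLE (inf_le_left.trans inf_le_left),
          ⟨U₁, U₂, homOfLE (inf_le_left.trans inf_le_right), homOfLE inf_le_right, h1, h2⟩,
          ⟨⟨hy, hy1⟩, hy2⟩⟩
      · rintro W f ⟨U₁, U₂, g₁, g₂, ⟨α⟩, ⟨β⟩⟩
        rw [res_zero]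
        obtain ⟨bF, hbF⟩ := locBasis_of_iso O F U₁ α g₁
        obtain ⟨bG, hbG⟩ := locBasis_of_iso O G U₂ β g₂
        apply eq_zero_of_locBasis O φ W bF bG hbF hbG
        rw [app_res, hx, res_zero]
    exact isIso_of_mono_of_epi φ

end Groth.Agent.Lib.Helper45.LocBasis
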