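import Mathlib
import Groth.Agent.Lib.Helper51.MS2Defs
import Groth.Agent.Lib.Helper55.GR.Final
import Groth.Agent.Lib.Helper55.FL.GlobalDescent

/-!
# S14068 / MB: from a pre-model of `A → B → C` over a f.g. `ℤ`-subalgebra `A₁ ⊆ A` to a model
`A₃ → B₃ → C₃` with `C₃` flat over `B₃` (the EGA IV 11.2.6 step), via
`Helper55.FL.exists_fg_flat`.
-/

set_option autoImplicit false
set_option linter.style.haveILetI false

universe u

open TensorProduct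

namespace Groth.Agent.Lib.Helper45.MS2MB

section F

variable (k S B₁ C₁ : Type u) [CommRing k] [CommRing S] [CommRing B₁] [CommRing C₁]
  [Algebra k S] [Algebra k B₁] [Algebra B₁ C₁] [Algebra k C₁] [IsScalarTower k B₁ C₁]

attribute [local instance] Algebra.TensorProduct.rightAlgebra

/-- `μ = id ⊗ (B₁ → C₁) : S ⊗[k] B₁ → S ⊗[k] C₁`. -/
noncomputable abbrev mu : S ⊗[k] B₁ →ₐ[S] S ⊗[k] C₁ :=
  Algebra.TensorProduct.map (AlgHom.id S S) (IsScalarTower.toAlgHom k B₁ C₁)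

/-- the ring iso `(S ⊗[k] B₁) ⊗[B₁] C₁ ≃ S ⊗[k] C₁`. -/
noncomputable abbrev theta : (S ⊗[k] B₁) ⊗[B₁] C₁ ≃ₐ[S] S ⊗[k] C₁ :=
  Algebra.IsPushout.cancelBaseChangeAlg k S B₁ (S ⊗[k] B₁) C₁

lemma theta_symm_mu (x : S ⊗[k] B₁) : (theta k S B₁ C₁).symm (mu k S B₁ C₁ x) = x ⊗ₜ 1 := by
  have := Algebra.IsPushout.cancelBaseChange_symm_comp_lTensor k B₁ C₁ S
  exact AlgHom.congr_fun this x

lemma theta_tmul_one (x : S ⊗[k] B₁) : theta k S B₁ C₁ (x ⊗ₜ 1) = mu k S B₁ C₁ x := by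
  rw [← theta_symm_mu, AlgEquiv.apply_symm_apply]

lemma mu_eq_comp : (mu k S B₁ C₁).toRingHom =
    (theta k S B₁ C₁).toAlgHom.toRingHom.comp
      (algebraMap (S ⊗[k] B₁) ((S ⊗[k] B₁) ⊗[B₁] C₁)) := by
  apply RingHom.ext
  intro x
  show mu k S B₁ C₁ x = theta k S B₁ C₁ (x ⊗ₜ 1)
  rw [theta_tmul_one]

theorem flat_tensor_of_flat_mu (h : (mu k S B₁ C₁).toRingHom.Flat) :
    Module.Flat (S ⊗[k] B₁) ((S ⊗[k] B₁) ⊗[B₁] C₁) := by
  rw [← RingHom.flat_algebraMap_iff]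
  have : algebraMap (S ⊗[k] B₁) ((S ⊗[k] B₁) ⊗[B₁] C₁) =
      (theta k S B₁ C₁).symm.toAlgHom.toRingHom.comp (mu k S B₁ C₁).toRingHom := by
    apply RingHom.ext
    intro x
    show _ = (theta k S B₁ C₁).symm (mu k S B₁ C₁ x)
    rw [theta_symm_mu]
    rfl
  rw [this]
  exact RingHom.Flat.comp h (RingHom.Flat.of_bijective (theta k S B₁ C₁).symm.bijective)

theorem flat_mu_of_flat_tensor (h : Module.Flat (S ⊗[k] B₁) ((S ⊗[k] B₁) ⊗[B₁] C₁)) :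
    (mu k S B₁ C₁).toRingHom.Flat := by
  rw [← RingHom.flat_algebraMap_iff] at h
  rw [mu_eq_comp]
  exact RingHom.Flat.comp h (RingHom.Flat.of_bijective (theta k S B₁ C₁).bijective)

theorem finiteType_mu [Algebra.FiniteType B₁ C₁] : (mu k S B₁ C₁).toRingHom.FiniteType := by
  rw [mu_eq_comp]
  refine RingHom.FiniteType.comp
    (RingHom.FiniteType.of_surjective _ (theta k S B₁ C₁).surjective) ?_
  rw [RingHom.finiteType_algebraMap]
  infer_instance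

end F

/-- Every element of `A ⊗[k] M` comes from `A' ⊗[k] M` as soon as `A'` contains a suitable finite
subset of `A`. -/
theorem exists_finset_range {k A M : Type u} [CommRing k] [CommRing A] [Algebra k A]
    [AddCommGroup M] [Module k M] (x : A ⊗[k] M) :
    ∃ s : Finset A, ∀ (A' : Type u) [CommRing A'] [Algebra k A'] (j : A' →ₐ[k] A),
      (↑s : Set A) ⊆ Set.range j →
        x ∈ Set.range (TensorProduct.map j.toLinearMap (LinearMap.id : M →ₗ[k] M)) := by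
  classical
  induction x using TensorProduct.induction_on with
  | zero => exact ⟨∅, fun A' _ _ j _ => ⟨0, map_zero _⟩⟩
  | tmul a m =>
    refine ⟨{a}, fun A' _ _ j hs => ?_⟩
    obtain ⟨a', ha'⟩ := hs (by simp : a ∈ ((↑({a} : Finset A)) : Set A))
    exact ⟨a' ⊗ₜ m, by simp [ha']⟩
  | add x y hx hy =>
    obtain ⟨s, hs⟩ := hx
    obtain ⟨s', hs'⟩ := hy
    refine ⟨s ∪ s', fun A' _ _ j hss => ?_⟩
    obtain ⟨x', hx'⟩ := hs A' j (fun a ha => hss (by simp [Finset.mem_coe.1 ha]))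
    obtain ⟨y', hy'⟩ := hs' A' j (fun a ha => hss (by simp [Finset.mem_coe.1 ha]))
    exact ⟨x' + y', by rw [map_add, hx', hy']⟩


section Main

attribute [local instance] Algebra.TensorProduct.rightAlgebra

/-- stub signature of `Helper55.FL.exists_fg_flat` -/
def FgFlatStmt : Prop :=
  ∀ {k : Type u} [CommRing k] [IsNoetherianRing k] {R : Type u} [CommRing R] [Algebra k R]
    {N : Type u} [CommRing N] [Algebra k N] [Algebra.FiniteType k N],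
    Module.Flat R (R ⊗[k] N) →
      ∃ R₄ : Subalgebra k R, R₄.FG ∧ Module.Flat ↥R₄ (↥R₄ ⊗[k] N)

lemma cancel_one_tmul {k S A M : Type u} [CommRing k] [CommRing S] [CommRing A] [Algebra k S]
    [Algebra S A] [Algebra k A] [IsScalarTower k S A] [CommRing M] [Algebra k M]
    (z : S ⊗[k] M) :
    Algebra.TensorProduct.cancelBaseChange k S A A M ((1 : A) ⊗ₜ[S] z) =
      Algebra.TensorProduct.map (IsScalarTower.toAlgHom k S A) (AlgHom.id k M) z := by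
  induction z using TensorProduct.induction_on with
  | zero => simp
  | tmul a n =>
    rw [Algebra.TensorProduct.cancelBaseChange_tmul, Algebra.TensorProduct.map_tmul,
      Algebra.smul_def, mul_one]
    rfl
  | add x y hx hy => rw [TensorProduct.tmul_add, map_add, map_add, hx, hy]

theorem exists_model_of_premodel_aux (hfg : FgFlatStmt.{u})
    {A B C : Type u} [CommRing A] [CommRing B] [CommRing C]
    [Algebra A B] [Algebra B C] [Algebra A C] [IsScalarTower A B C] [Module.Flat B C]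
    (A₁ : Subalgebra ℤ A) (hA₁ : A₁.FG) {B₁ C₁ : Type u} [CommRing B₁] [CommRing C₁]
    [Algebra A₁ B₁] [Algebra A₁ C₁] [Algebra B₁ C₁] [IsScalarTower A₁ B₁ C₁]
    [Algebra.IsStandardSmooth A₁ B₁] [Algebra.FiniteType B₁ C₁]
    (eB : A ⊗[A₁] B₁ ≃ₐ[A] B) (eC : A ⊗[A₁] C₁ ≃ₐ[A] C)
    (hcompat : ∀ x, eC (Algebra.TensorProduct.map (AlgHom.id A A)
      (IsScalarTower.toAlgHom A₁ B₁ C₁) x) = algebraMap B C (eB x)) (t : C) :
    ∃ (A₃ : Subalgebra ℤ A) (B₃ C₃ : Type u) (_ : CommRing B₃) (_ : CommRing C₃)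
      (_ : Algebra A₃ B₃) (_ : Algebra B₃ C₃) (_ : Algebra A₃ C₃) (_ : IsScalarTower A₃ B₃ C₃)
      (eB₃ : A ⊗[A₃] B₃ ≃+* B) (eC₃ : A ⊗[A₃] C₃ ≃+* C) (t₃ : C₃),
      A₃.FG ∧ Algebra.IsStandardSmooth A₃ B₃ ∧ Module.Flat B₃ C₃ ∧ Algebra.FiniteType B₃ C₃ ∧
      (∀ a : A, eB₃ (a ⊗ₜ 1) = algebraMap A B a) ∧
      (∀ x, eC₃ (Algebra.TensorProduct.map (AlgHom.id A A)
        (IsScalarTower.toAlgHom A₃ B₃ C₃) x) = algebraMap B C (eB₃ x)) ∧
      eC₃ (1 ⊗ₜ t₃) = t := by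
  classical
  -- Step 1: `μ_A` is flat
  have hμA : (mu A₁ A B₁ C₁).toRingHom.Flat := by
    have : (mu A₁ A B₁ C₁).toRingHom =
        (eC.symm.toAlgHom.toRingHom.comp (algebraMap B C)).comp eB.toAlgHom.toRingHom := by
      apply RingHom.ext
      intro x
      show mu A₁ A B₁ C₁ x = eC.symm (algebraMap B C (eB x))
      rw [← hcompat, AlgEquiv.symm_apply_apply]
    rw [this]
    exact RingHom.Flat.comp (RingHom.Flat.of_bijective eB.bijective)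
      (RingHom.Flat.comp (RingHom.flat_algebraMap_iff.2 inferInstance)
        (RingHom.Flat.of_bijective eC.symm.bijective))
  have hfl : Module.Flat (A ⊗[A₁] B₁) ((A ⊗[A₁] B₁) ⊗[B₁] C₁) :=
    flat_tensor_of_flat_mu A₁ A B₁ C₁ hμA
  -- Step 3: Noetherianity
  haveI : Algebra.FiniteType ℤ A₁ := (Subalgebra.fg_iff_finiteType A₁).1 hA₁
  haveI : IsNoetherianRing A₁ := Algebra.FiniteType.isNoetherianRing ℤ _
  haveI : IsNoetherianRing B₁ := Algebra.FiniteType.isNoetherianRing A₁ B₁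
  obtain ⟨R₄, hR₄, hflat₄⟩ := hfg (k := B₁) (R := A ⊗[A₁] B₁) (N := C₁) hfl
  -- Step 4: the finite sets
  obtain ⟨s₄, hs₄⟩ := hR₄
  obtain ⟨g₁, hg₁⟩ := hA₁
  have hS : ∀ y : A ⊗[A₁] B₁, ∃ s : Finset A, ∀ (A' : Type u) [CommRing A'] [Algebra A₁ A']
      (j : A' →ₐ[A₁] A), (↑s : Set A) ⊆ Set.range j →
        y ∈ Set.range (TensorProduct.map j.toLinearMap (LinearMap.id : B₁ →ₗ[A₁] B₁)) :=
    fun y => exists_finset_range y
  choose S hS using hS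
  obtain ⟨St, hSt⟩ := exists_finset_range (k := A₁) (eC.symm t)
  set G : Finset A := g₁ ∪ s₄.biUnion S ∪ St with hG
  set A₃ : Subalgebra ℤ A := Algebra.adjoin ℤ (↑G : Set A) with hA₃
  have h13 : A₁ ≤ A₃ := by
    rw [← hg₁]
    apply Algebra.adjoin_mono
    intro a ha
    simp only [hG, Finset.coe_union, Set.mem_union]
    exact Or.inl (Or.inl ha)
  have hA₃fg : A₃.FG := Subalgebra.fg_adjoin_finset G
  letI alg13 : Algebra A₁ A₃ := (Subalgebra.inclusion h13).toAlgebra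
  haveI tower13 : IsScalarTower A₁ A₃ A := IsScalarTower.of_algebraMap_eq' rfl
  let j : A₃ →ₐ[A₁] A := IsScalarTower.toAlgHom A₁ A₃ A
  have hjinj : Function.Injective j := Subtype.val_injective
  have hjrange : ∀ a ∈ G, a ∈ Set.range j := by
    intro a ha
    exact ⟨⟨a, Algebra.subset_adjoin (Finset.mem_coe.2 ha)⟩, rfl⟩
  -- Step 5: the stage `B₃ = A₃ ⊗ B₁`, injecting into `A ⊗ B₁`
  haveI : Module.Flat A₁ B₁ := inferInstance
  let ι₃ : A₃ ⊗[A₁] B₁ →ₐ[A₁] A ⊗[A₁] B₁ := Algebra.TensorProduct.map j (AlgHom.id A₁ B₁)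
  have hι₃fun : ∀ z, ι₃ z = LinearMap.rTensor B₁ j.toLinearMap z := fun z => rfl
  have hι₃inj : Function.Injective ι₃ := by
    have := Module.Flat.rTensor_preserves_injective_linearMap (M := B₁) j.toLinearMap hjinj
    intro z z' hzz
    exact this (by rw [← hι₃fun, ← hι₃fun, hzz])
  let ι₃B : A₃ ⊗[A₁] B₁ →ₐ[B₁] A ⊗[A₁] B₁ :=
    { ι₃.toRingHom with
      commutes' := fun b => by
        show Algebra.TensorProduct.map j (AlgHom.id A₁ B₁) ((1 : A₃) ⊗ₜ b) = (1 : A) ⊗ₜ b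
        rw [Algebra.TensorProduct.map_tmul, map_one]
        rfl }
  have hι₃B : ∀ z, ι₃B z = ι₃ z := fun z => rfl
  have hle : R₄ ≤ ι₃B.range := by
    rw [← hs₄]
    apply Algebra.adjoin_le
    intro y hy
    obtain ⟨z, hz⟩ := hS y (↥A₃) j (by
      intro a ha
      apply hjrange
      simp only [hG, Finset.mem_union, Finset.mem_biUnion]
      exact Or.inl (Or.inr ⟨y, Finset.mem_coe.1 hy, Finset.mem_coe.1 ha⟩))
    exact ⟨z, hz⟩
  let e₃ : (A₃ ⊗[A₁] B₁) ≃ₐ[B₁] ι₃B.range := AlgEquiv.ofInjective ι₃B hι₃inj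
  let ρ : R₄ →ₐ[B₁] A₃ ⊗[A₁] B₁ := e₃.symm.toAlgHom.comp (Subalgebra.inclusion hle)
  letI algR₄ : Algebra R₄ (A₃ ⊗[A₁] B₁) := ρ.toRingHom.toAlgebra
  haveI towerR₄ : IsScalarTower B₁ R₄ (A₃ ⊗[A₁] B₁) :=
    IsScalarTower.of_algebraMap_eq' ρ.comp_algebraMap.symm
  have hfl₃' : Module.Flat (A₃ ⊗[A₁] B₁) ((A₃ ⊗[A₁] B₁) ⊗[R₄] (R₄ ⊗[B₁] C₁)) := inferInstance
  have hfl₃ : Module.Flat (A₃ ⊗[A₁] B₁) ((A₃ ⊗[A₁] B₁) ⊗[B₁] C₁) :=
    Module.Flat.of_linearEquiv (Algebra.TensorProduct.cancelBaseChange B₁ R₄ (A₃ ⊗[A₁] B₁)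
      (A₃ ⊗[A₁] B₁) C₁).symm.toLinearEquiv
  have hμ₃ : (mu A₁ A₃ B₁ C₁).toRingHom.Flat := flat_mu_of_flat_tensor A₁ A₃ B₁ C₁ hfl₃
  have hμ₃ft : (mu A₁ A₃ B₁ C₁).toRingHom.FiniteType := finiteType_mu A₁ A₃ B₁ C₁
  -- Step 9: algebra structures on `C₃ = A₃ ⊗ C₁`
  letI algB₃C₃ : Algebra (A₃ ⊗[A₁] B₁) (A₃ ⊗[A₁] C₁) := (mu A₁ A₃ B₁ C₁).toRingHom.toAlgebra
  haveI tower₃ : IsScalarTower A₃ (A₃ ⊗[A₁] B₁) (A₃ ⊗[A₁] C₁) :=
    IsScalarTower.of_algebraMap_eq' (mu A₁ A₃ B₁ C₁).comp_algebraMap.symm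
  have hflat₃ : Module.Flat (A₃ ⊗[A₁] B₁) (A₃ ⊗[A₁] C₁) := hμ₃
  have hft₃ : Algebra.FiniteType (A₃ ⊗[A₁] B₁) (A₃ ⊗[A₁] C₁) := hμ₃ft
  let eB₃ : A ⊗[A₃] (A₃ ⊗[A₁] B₁) ≃ₐ[A] B :=
    (Algebra.TensorProduct.cancelBaseChange A₁ A₃ A A B₁).trans eB
  let eC₃ : A ⊗[A₃] (A₃ ⊗[A₁] C₁) ≃ₐ[A] C :=
    (Algebra.TensorProduct.cancelBaseChange A₁ A₃ A A C₁).trans eC
  obtain ⟨t₃, ht₃⟩ := hSt A₃ j (fun a ha => hjrange a (by
    simp only [hG, Finset.mem_union]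
    exact Or.inr (Finset.mem_coe.1 ha)))
  refine ⟨A₃, A₃ ⊗[A₁] B₁, A₃ ⊗[A₁] C₁, inferInstance, inferInstance, inferInstance, algB₃C₃,
    inferInstance, tower₃, eB₃.toRingEquiv, eC₃.toRingEquiv, t₃, hA₃fg, inferInstance, hflat₃,
    hft₃, ?_, ?_, ?_⟩
  · intro a
    show eB₃ (a ⊗ₜ 1) = algebraMap A B a
    rw [← eB₃.commutes a]
    rfl
  · intro x
    show eC₃ (Algebra.TensorProduct.map (AlgHom.id A A)
      (IsScalarTower.toAlgHom A₃ (A₃ ⊗[A₁] B₁) (A₃ ⊗[A₁] C₁)) x) = algebraMap B C (eB₃ x)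
    induction x using TensorProduct.induction_on with
    | zero => simp
    | add x y hx hy => rw [map_add, map_add, map_add, map_add, hx, hy]
    | tmul a y =>
      induction y using TensorProduct.induction_on with
      | zero => simp
      | add y z hy hz =>
        rw [TensorProduct.tmul_add, map_add, map_add, map_add, map_add, hy, hz]
      | tmul a₃ b =>
        rw [Algebra.TensorProduct.map_tmul]
        show eC (Algebra.TensorProduct.cancelBaseChange A₁ A₃ A A C₁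
            (a ⊗ₜ (mu A₁ A₃ B₁ C₁ (a₃ ⊗ₜ b)))) =
          algebraMap B C (eB (Algebra.TensorProduct.cancelBaseChange A₁ A₃ A A B₁
            (a ⊗ₜ (a₃ ⊗ₜ b))))
        rw [Algebra.TensorProduct.map_tmul, Algebra.TensorProduct.cancelBaseChange_tmul,
          Algebra.TensorProduct.cancelBaseChange_tmul, ← hcompat,
          Algebra.TensorProduct.map_tmul]
        rfl
  · show eC (Algebra.TensorProduct.cancelBaseChange A₁ A₃ A A C₁ ((1 : A) ⊗ₜ t₃)) = t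
    rw [cancel_one_tmul]
    have : Algebra.TensorProduct.map (IsScalarTower.toAlgHom A₁ A₃ A) (AlgHom.id A₁ C₁) t₃ =
        eC.symm t := ht₃
    rw [this, AlgEquiv.apply_symm_apply]

theorem fgFlatStmt : FgFlatStmt.{u} := by
  intro k _ _ R _ _ N _ _ _ hfl
  exact Groth.Agent.Lib.Helper55.FL.exists_fg_flat hfl

/-- **MB** (the EGA IV 11.2.6 step). -/
theorem exists_model_of_premodel {A B C : Type u} [CommRing A] [CommRing B] [CommRing C]
    [Algebra A B] [Algebra B C] [Algebra A C] [IsScalarTower A B C] [Module.Flat B C]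
    (A₁ : Subalgebra ℤ A) (hA₁ : A₁.FG) {B₁ C₁ : Type u} [CommRing B₁] [CommRing C₁]
    [Algebra A₁ B₁] [Algebra A₁ C₁] [Algebra B₁ C₁] [IsScalarTower A₁ B₁ C₁]
    [Algebra.IsStandardSmooth A₁ B₁] [Algebra.FiniteType B₁ C₁]
    (eB : A ⊗[A₁] B₁ ≃ₐ[A] B) (eC : A ⊗[A₁] C₁ ≃ₐ[A] C)
    (hcompat : ∀ x, eC (Algebra.TensorProduct.map (AlgHom.id A A)
      (IsScalarTower.toAlgHom A₁ B₁ C₁) x) = algebraMap B C (eB x)) (t : C) :
    ∃ (A₃ : Subalgebra ℤ A) (B₃ C₃ : Type u) (_ : CommRing B₃) (_ : CommRing C₃)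
      (_ : Algebra A₃ B₃) (_ : Algebra B₃ C₃) (_ : Algebra A₃ C₃) (_ : IsScalarTower A₃ B₃ C₃)
      (eB₃ : A ⊗[A₃] B₃ ≃+* B) (eC₃ : A ⊗[A₃] C₃ ≃+* C) (t₃ : C₃),
      A₃.FG ∧ Algebra.IsStandardSmooth A₃ B₃ ∧ Module.Flat B₃ C₃ ∧ Algebra.FiniteType B₃ C₃ ∧
      (∀ a : A, eB₃ (a ⊗ₜ 1) = algebraMap A B a) ∧
      (∀ x, eC₃ (Algebra.TensorProduct.map (AlgHom.id A A)
        (IsScalarTower.toAlgHom A₃ B₃ C₃) x) = algebraMap B C (eB₃ x)) ∧
      eC₃ (1 ⊗ₜ t₃) = t :=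
  exists_model_of_premodel_aux fgFlatStmt A₁ hA₁ eB eC hcompat t

end Main

end Groth.Agent.Lib.Helper45.MS2MB
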