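import Mathlib
import Groth.Agent.Lib.Helper51.MS2Defs

/-!
# S14068 / P4, second half: base change of the conclusion `Concl` along `A₃ → A`,
transported along isomorphisms `A ⊗[A₃] B₃ ≃ B`, `A ⊗[A₃] C₃ ≃ C`.
-/

set_option autoImplicit false
set_option linter.style.haveILetI false

universe u

open TensorProduct
open Groth.Agent.Lib.Helper51.MultiSecDescent Groth.Agent.Lib.Helper51.MS2

namespace Groth.Agent.Lib.Helper45.MS2P4b

theorem concl_of_model {A B C : Type u} [CommRing A] [CommRing B] [CommRing C] [Algebra A B]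
    [Algebra B C] (t : C) {A₃ B₃ C₃ : Type u} [CommRing A₃] [CommRing B₃] [CommRing C₃]
    [Algebra A₃ A] [Algebra A₃ B₃] [Algebra B₃ C₃] [Algebra A₃ C₃] [IsScalarTower A₃ B₃ C₃]
    (hinj : Function.Injective (algebraMap A₃ A))
    (eB : A ⊗[A₃] B₃ ≃+* B) (heB : ∀ a : A, eB (a ⊗ₜ 1) = algebraMap A B a)
    (eC : A ⊗[A₃] C₃ ≃+* C)
    (heC : ∀ x : A ⊗[A₃] B₃,
      eC (Algebra.TensorProduct.map (AlgHom.id A A) (IsScalarTower.toAlgHom A₃ B₃ C₃) x) =
        algebraMap B C (eB x))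
    (t₃ : C₃) (ht : eC (1 ⊗ₜ t₃) = t) (h : Concl A₃ B₃ C₃ t₃) : Concl A B C t := by
  obtain ⟨Q₃, _, φ₃, hEt, hLQ, R₃, _, ψQ₃, ψC₃, hcomm, hflat, hne⟩ := h
  letI algBQ : Algebra B₃ Q₃ := φ₃.toAlgebra
  letI algAQ : Algebra A₃ Q₃ := (φ₃.comp (algebraMap A₃ B₃)).toAlgebra
  haveI : IsScalarTower A₃ B₃ Q₃ := IsScalarTower.of_algebraMap_eq' rfl
  letI algQR : Algebra Q₃ R₃ := ψQ₃.toAlgebra
  letI algAR : Algebra A₃ R₃ := (ψQ₃.comp (φ₃.comp (algebraMap A₃ B₃))).toAlgebra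
  haveI : IsScalarTower A₃ Q₃ R₃ := IsScalarTower.of_algebraMap_eq' rfl
  letI algCR : Algebra C₃ R₃ := ψC₃.toAlgebra
  haveI : IsScalarTower A₃ C₃ R₃ := IsScalarTower.of_algebraMap_eq' (by
    change ψQ₃.comp (φ₃.comp (algebraMap A₃ B₃)) = ψC₃.comp (algebraMap A₃ C₃)
    rw [IsScalarTower.algebraMap_eq A₃ B₃ C₃, ← RingHom.comp_assoc, ← RingHom.comp_assoc, hcomm])
  haveI hEt' : Algebra.Etale A₃ Q₃ := RingHom.etale_algebraMap.1 hEt
  haveI hFl' : Module.Flat A₃ R₃ := RingHom.flat_algebraMap_iff.1 hflat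
  let ψ : B₃ →ₐ[A₃] Q₃ := IsScalarTower.toAlgHom A₃ B₃ Q₃
  let Φ : A ⊗[A₃] B₃ →ₐ[A] A ⊗[A₃] Q₃ := Algebra.TensorProduct.map (AlgHom.id A A) ψ
  let ΨQ : A ⊗[A₃] Q₃ →ₐ[A] A ⊗[A₃] R₃ :=
    Algebra.TensorProduct.map (AlgHom.id A A) (IsScalarTower.toAlgHom A₃ Q₃ R₃)
  let ΨC : A ⊗[A₃] C₃ →ₐ[A] A ⊗[A₃] R₃ :=
    Algebra.TensorProduct.map (AlgHom.id A A) (IsScalarTower.toAlgHom A₃ C₃ R₃)
  have hsymm : ∀ a : A, eB.symm (algebraMap A B a) = a ⊗ₜ 1 := by
    intro a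
    rw [← heB, RingEquiv.symm_apply_apply]
  have hφalg : ∀ a : A, Φ (eB.symm (algebraMap A B a)) = algebraMap A (A ⊗[A₃] Q₃) a := by
    intro a
    rw [hsymm, Algebra.TensorProduct.map_tmul, map_one]
    rfl
  refine ⟨A ⊗[A₃] Q₃, inferInstance, Φ.toRingHom.comp eB.symm.toRingHom, ?_, ?_,
    A ⊗[A₃] R₃, inferInstance, ΨQ.toRingHom, ΨC.toRingHom.comp eC.symm.toRingHom, ?_, ?_, ?_⟩
  · have : (Φ.toRingHom.comp eB.symm.toRingHom).comp (algebraMap A B) =
        algebraMap A (A ⊗[A₃] Q₃) := RingHom.ext hφalg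
    rw [this, RingHom.etale_algebraMap]
    infer_instance
  · have h1 : IsLocQuotHom ψ.toRingHom := by
      obtain ⟨f, hf, hs⟩ := hLQ
      exact ⟨f, hf, hs⟩
    obtain ⟨f, hf, hsurj⟩ := isLocQuotHom_baseChange (A := A) ψ h1
    refine ⟨eB f, ?_, ?_⟩
    · show IsUnit (Φ (eB.symm (eB f)))
      rw [RingEquiv.symm_apply_apply]
      exact hf
    · intro x
      obtain ⟨b, n, hb⟩ := hsurj x
      refine ⟨eB b, n, ?_⟩
      show x * (Φ (eB.symm (eB f))) ^ n = Φ (eB.symm (eB b))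
      rw [RingEquiv.symm_apply_apply, RingEquiv.symm_apply_apply]
      exact hb
  · apply RingHom.ext
    intro b
    obtain ⟨x, rfl⟩ := eB.surjective b
    show ΨQ (Φ (eB.symm (eB x))) = ΨC (eC.symm (algebraMap B C (eB x)))
    rw [RingEquiv.symm_apply_apply, ← heC, RingEquiv.symm_apply_apply]
    induction x using TensorProduct.induction_on with
    | zero => simp
    | tmul a b =>
      simp only [ΨQ, ΨC, Φ, ψ, Algebra.TensorProduct.map_tmul, IsScalarTower.coe_toAlgHom']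
      congr 1
      exact RingHom.congr_fun hcomm b
    | add x y hx hy => rw [map_add, map_add, map_add, map_add, hx, hy]
  · have : ΨQ.toRingHom.comp ((Φ.toRingHom.comp eB.symm.toRingHom).comp (algebraMap A B)) =
        algebraMap A (A ⊗[A₃] R₃) := by
      apply RingHom.ext
      intro a
      show ΨQ (Φ (eB.symm (algebraMap A B a))) = _
      rw [hφalg, AlgHom.commutes]
    rw [this, RingHom.flat_algebraMap_iff]
    infer_instance
  · show ΨC (eC.symm t) ≠ 0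
    rw [← ht, RingEquiv.symm_apply_apply, Algebra.TensorProduct.map_tmul, map_one]
    have hinj' : Function.Injective
        (Algebra.TensorProduct.includeRight : R₃ →ₐ[A₃] A ⊗[A₃] R₃) :=
      Algebra.TensorProduct.includeRight_injective hinj
    intro h0
    apply hne
    apply hinj'
    rw [map_zero]
    exact h0

end Groth.Agent.Lib.Helper45.MS2P4b
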