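import Mathlib

/-! `exists_integral_affine_nhd` (for helper52, S13432): in a locally Noetherian scheme whose stalks
are domains every point has an integral affine open neighbourhood. Mathlib only. -/

set_option autoImplicit false
set_option linter.style.haveILetI false

universe u
open CategoryTheory CategoryTheory.Limits AlgebraicGeometry

namespace Groth.Agent.Lib.Helper45.NeronFinNHD

theorem exists_nhd_res_eq_zero {Y : Scheme.{u}} (U : Y.Opens) (y : Y) (hyU : y ∈ U)
    (s : Finset Γ(Y, U)) (hs : ∀ k ∈ s, Y.presheaf.germ U y hyU k = 0) :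
    ∃ (V : Y.Opens) (hVU : V ≤ U), y ∈ V ∧
      ∀ k ∈ s, Y.presheaf.map (homOfLE hVU).op k = 0 := by
  classical
  induction s using Finset.induction_on with
  | empty => exact ⟨U, le_rfl, hyU, by simp⟩
  | insert a s ha ih =>
    obtain ⟨V, hVU, hyV, hV⟩ := ih (fun k hk => hs k (Finset.mem_insert_of_mem hk))
    have h0 : Y.presheaf.germ U y hyU a = Y.presheaf.germ U y hyU 0 := by
      rw [hs a (Finset.mem_insert_self _ _), map_zero]
    obtain ⟨W, hyW, iU, iV, hW⟩ := TopCat.Presheaf.germ_eq Y.presheaf y hyU hyU a 0 h0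
    refine ⟨V ⊓ W, inf_le_left.trans hVU, ⟨hyV, hyW⟩, ?_⟩
    intro k hk
    rcases Finset.mem_insert.mp hk with rfl | hk
    · have : (homOfLE (inf_le_left.trans hVU : V ⊓ W ≤ U)).op =
          iU.op ≫ (homOfLE (inf_le_right : V ⊓ W ≤ W)).op := rfl
      rw [this, Functor.map_comp, CommRingCat.comp_apply, hW, map_zero, map_zero]
    · have : (homOfLE (inf_le_left.trans hVU : V ⊓ W ≤ U)).op =
          (homOfLE hVU).op ≫ (homOfLE (inf_le_left : V ⊓ W ≤ V)).op := rfl
      rw [this, Functor.map_comp, CommRingCat.comp_apply, hV k hk, map_zero]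

theorem exists_integral_affine_nhd {Y : Scheme.{u}} [IsLocallyNoetherian Y]
    (hY : ∀ y : Y, IsDomain (Y.presheaf.stalk y)) (y : Y) :
    ∃ W : Y.Opens, y ∈ W ∧ IsAffineOpen W ∧ IsIntegral W.toScheme := by
  obtain ⟨_, ⟨U, hU : IsAffineOpen U, rfl⟩, hyU, -⟩ :=
    Y.isBasis_affineOpens.exists_subset_of_mem_open (Set.mem_univ y) isOpen_univ
  haveI : IsNoetherianRing Γ(Y, U) := IsLocallyNoetherian.component_noetherian ⟨U, hU⟩
  haveI := hY y
  set K : Ideal Γ(Y, U) := RingHom.ker (Y.presheaf.germ U y hyU).hom with hK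
  obtain ⟨s, hs⟩ : K.FG := IsNoetherian.noetherian K
  obtain ⟨V, hVU, hyV, hV⟩ := exists_nhd_res_eq_zero U y hyU s (fun k hk => by
    have : k ∈ K := hs ▸ Submodule.subset_span hk
    exact this)
  obtain ⟨f, hfV, hyf⟩ := hU.exists_basicOpen_le ⟨y, hyV⟩ hyU
  have hfU : Y.basicOpen f ≤ U := Y.basicOpen_le f
  -- every element of `K` restricts to zero on `D(f)`
  have hKres : ∀ r ∈ K, Y.presheaf.map (homOfLE hfU).op r = 0 := by
    intro r hr
    have hle : K ≤ RingHom.ker (Y.presheaf.map (homOfLE hfU).op).hom := by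
      rw [← hs, Ideal.span_le]
      intro k hk
      have : (homOfLE hfU).op = (homOfLE hVU).op ≫ (homOfLE hfV).op := rfl
      show Y.presheaf.map (homOfLE hfU).op k = 0
      rw [this, Functor.map_comp, CommRingCat.comp_apply, hV k hk, map_zero]
    exact hle hr
  haveI : IsLocalization.Away f Γ(Y, Y.basicOpen f) := hU.isLocalization_basicOpen f
  have hinj : Function.Injective (Y.presheaf.germ (Y.basicOpen f) y hyf).hom := by
    rw [injective_iff_map_eq_zero]
    intro t ht
    obtain ⟨⟨r, m⟩, hrm⟩ := IsLocalization.surj (Submonoid.powers f) t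
    have hrK : r ∈ K := by
      show Y.presheaf.germ U y hyU r = 0
      have h1 : Y.presheaf.germ U y hyU r =
          Y.presheaf.germ (Y.basicOpen f) y hyf (Y.presheaf.map (homOfLE hfU).op r) :=
        (TopCat.Presheaf.germ_res_apply Y.presheaf (homOfLE hfU) y hyf r).symm
      have h2 : Y.presheaf.map (homOfLE hfU).op r =
          t * algebraMap Γ(Y, U) Γ(Y, Y.basicOpen f) m.1 := hrm.symm
      rw [h1, h2, map_mul]
      erw [ht]
      rw [zero_mul]
    have h3 : t * algebraMap Γ(Y, U) Γ(Y, Y.basicOpen f) m.1 = 0 := by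
      rw [hrm]; exact hKres r hrK
    have hunit : IsUnit (algebraMap Γ(Y, U) Γ(Y, Y.basicOpen f) m.1) :=
      IsLocalization.map_units _ m
    exact (hunit.mul_left_eq_zero).mp h3
  haveI : IsDomain Γ(Y, Y.basicOpen f) := hinj.isDomain _
  refine ⟨Y.basicOpen f, hyf, hU.basicOpen f, ?_⟩
  haveI : IsAffine (Y.basicOpen f).toScheme := hU.basicOpen f
  haveI : Nonempty (Y.basicOpen f).toScheme := ⟨⟨y, hyf⟩⟩
  haveI : IsDomain Γ((Y.basicOpen f).toScheme, ⊤) :=
    MulEquiv.isDomain Γ(Y, Y.basicOpen f)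
      ((Y.basicOpen f).topIso.commRingCatIsoToRingEquiv.toMulEquiv)
  exact isIntegral_of_isAffine_of_isDomain _

end Groth.Agent.Lib.Helper45.NeronFinNHD
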