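import Mathlib
import Groth.Agent.Lib.Helper45.ContrINT
import Groth.Agent.Lib.Helper61.ContrISO

/-!
# SEC for S13432: a rational section of a finite morphism over a normal integral scheme extends.
-/

set_option autoImplicit false
set_option linter.style.haveILetI false

universe u

open CategoryTheory CategoryTheory.Limits AlgebraicGeometry

namespace Groth.Agent.Lib.Helper45.NeronFinSEC

theorem isIso_ι_of_eq_top {X : Scheme.{u}} (U : X.Opens) (hU : U = ⊤) : IsIso U.ι := by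
  subst hU
  exact (inferInstance : IsIso X.topIso.hom)

theorem isIso_ι_restrict {W : Scheme.{u}} (V : W.Opens) : IsIso (V.ι ∣_ V) := by
  have h1 : (V.ι ∣_ V) ≫ V.ι = (V.ι ⁻¹ᵁ V).ι ≫ V.ι := morphismRestrict_ι V.ι V
  have h2 : (V.ι ∣_ V) = (V.ι ⁻¹ᵁ V).ι := (cancel_mono V.ι).1 h1
  rw [h2]
  apply isIso_ι_of_eq_top
  ext x
  simp

theorem exists_section_of_finite {W P : Scheme.{u}} [IsIntegral W]
    (hnor : ∀ w : W, IsIntegrallyClosed (W.presheaf.stalk w)) (p : P ⟶ W) [IsFinite p]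
    (V : W.Opens) (hV : (V : Set W).Nonempty) (σ₀ : V.toScheme ⟶ P) [QuasiCompact σ₀]
    (hσ₀ : σ₀ ≫ p = V.ι) : ∃ σ : W ⟶ P, σ ≫ p = 𝟙 W ∧ V.ι ≫ σ = σ₀ := by
  haveI : Nonempty V.toScheme := by
    obtain ⟨x, hx⟩ := hV
    exact ⟨⟨x, hx⟩⟩
  haveI : IsIntegral V.toScheme := isIntegral_of_isOpenImmersion V.ι
  haveI : IsIntegral σ₀.image := Groth.Agent.Lib.Helper45.ContrINT.isIntegral_image σ₀
  let t : V.toScheme ⟶ σ₀.image := σ₀.toImage
  let p' : σ₀.image ⟶ W := σ₀.imageι ≫ p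
  haveI : IsFinite p' := inferInstance
  have htp : t ≫ p' = V.ι := by
    show σ₀.toImage ≫ σ₀.imageι ≫ p = V.ι
    rw [← Category.assoc, σ₀.toImage_imageι, hσ₀]
  have hiso : IsIso ((t ≫ p') ∣_ V) := by
    rw [htp]
    exact isIso_ι_restrict V
  haveI : IsIso p' :=
    Groth.Agent.Lib.Helper61.ContrISO.isIso_of_isFinite_of_factor hnor t p' V hV hiso
  refine ⟨inv p' ≫ σ₀.imageι, ?_, ?_⟩
  · show (inv p' ≫ σ₀.imageι) ≫ p = 𝟙 W
    rw [Category.assoc]
    exact IsIso.inv_hom_id p'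
  · rw [← htp, Category.assoc, IsIso.hom_inv_id_assoc]
    exact σ₀.toImage_imageι

end Groth.Agent.Lib.Helper45.NeronFinSEC
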