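import Groth.Prelude.Def_Models
import Mathlib.Tactic

set_option autoImplicit false
open Finset

namespace Groth.Agent.Lib.Helper45

open Models Models.NumericalType

variable {n : ℕ}

lemma numType_row (T : Models.NumericalType n) (i : Fin n) :
    ∑ j, T.a i j * T.m j = 0 := by
  have := congrFun T.mulVec_m i
  simpa [Matrix.mulVec, dotProduct] using this

lemma numType_symm (T : Models.NumericalType n) (i j : Fin n) : T.a i j = T.a j i :=
  (T.symm.apply i j).symm

lemma numType_diag_neg (T : Models.NumericalType n) (hn : 2 ≤ n) (i : Fin n) : T.a i i < 0 := by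
  classical
  have hrow := numType_row T i
  obtain ⟨i', hi', j, hj, hne⟩ := T.connected {i} (singleton_nonempty i) (by
    intro h
    have hc : (univ : Finset (Fin n)).card = 1 := by rw [← h]; simp
    simp at hc
    omega)
  rw [mem_singleton] at hi'
  subst hi'
  have hji : j ≠ i' := by simpa using hj
  have hpos : 0 < T.a i' j := lt_of_le_of_ne (T.offDiag_nonneg i' j hji.symm) (Ne.symm hne)
  rw [← Finset.add_sum_erase _ _ (mem_univ i')] at hrow
  have hrest : 0 < ∑ x ∈ univ.erase i', T.a i' x * T.m x := by
    apply Finset.sum_pos'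
    · intro x hx
      exact mul_nonneg (T.offDiag_nonneg i' x (Finset.ne_of_mem_erase hx).symm) (T.m_pos x).le
    · exact ⟨j, Finset.mem_erase.mpr ⟨hji, mem_univ j⟩, mul_pos hpos (T.m_pos j)⟩
  have hm := T.m_pos i'
  by_contra hcon
  push_neg at hcon
  have : 0 ≤ T.a i' i' * T.m i' := mul_nonneg hcon hm.le
  linarith

lemma numType_minusTwo_of_minimal_genus_one (T : Models.NumericalType n) (hn : 2 ≤ n)
    (hmin : T.IsMinimal) (hg : T.genus = 1) (i : Fin n) :
    T.g i = 0 ∧ T.a i i = -2 * T.w i := by
  classical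
  have hd : ∀ j, 0 ≤ 2 * T.w j * (T.g j - 1) - T.a j j ∧
      (2 * T.w j * (T.g j - 1) - T.a j j = 0 → T.g j = 0 ∧ T.a j j = -2 * T.w j) := by
    intro j
    have hneg := numType_diag_neg T hn j
    have hw := T.w_pos j
    have hgj := T.g_nonneg j
    obtain ⟨k, hk⟩ := T.w_dvd j j
    have hk1 : k ≤ -1 := by
      by_contra hcon
      push_neg at hcon
      have : 0 ≤ k := by omega
      have : 0 ≤ T.w j * k := mul_nonneg hw.le this
      linarith
    rcases eq_or_lt_of_le hgj with h0 | hpos
    · have hk2 : k ≤ -2 := by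
        by_contra hcon
        push_neg at hcon
        have hk' : k = -1 := by omega
        apply hmin j
        refine ⟨h0.symm, ?_⟩
        rw [hk, hk']; ring
      constructor
      · rw [← h0, hk]
        nlinarith
      · intro hz
        refine ⟨h0.symm, ?_⟩
        rw [← h0] at hz
        linarith
    · have h1 : 1 ≤ T.g j := hpos
      have : 0 ≤ 2 * T.w j * (T.g j - 1) := by
        apply mul_nonneg (by linarith) (by linarith)
      constructor
      · linarith
      · intro hz
        exfalso
        linarith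
  have hsum : ∑ j, T.m j * (2 * T.w j * (T.g j - 1) - T.a j j) ≤ 0 := by
    have hgen : 1 + (∑ i, T.m i * T.w i * (T.g i - 1)) - (∑ i, T.m i * T.a i i) / 2 = 1 := hg
    have h2 : 2 * (∑ i, T.m i * T.w i * (T.g i - 1)) ≤ ∑ i, T.m i * T.a i i := by omega
    have h3 : ∑ j, T.m j * (2 * T.w j * (T.g j - 1) - T.a j j) =
        2 * (∑ i, T.m i * T.w i * (T.g i - 1)) - ∑ i, T.m i * T.a i i := by
      rw [Finset.mul_sum, ← Finset.sum_sub_distrib]
      apply Finset.sum_congr rfl
      intro x _
      ring
    rw [h3]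
    linarith
  have hnonneg : ∀ j ∈ (univ : Finset (Fin n)), 0 ≤ T.m j * (2 * T.w j * (T.g j - 1) - T.a j j) :=
    fun j _ => mul_nonneg (T.m_pos j).le (hd j).1
  have hzero := (Finset.sum_eq_zero_iff_of_nonneg hnonneg).mp
    (le_antisymm hsum (Finset.sum_nonneg hnonneg)) i (mem_univ i)
  have : 2 * T.w i * (T.g i - 1) - T.a i i = 0 := by
    rcases mul_eq_zero.mp hzero with h | h
    · exact absurd h (T.m_pos i).ne'
    · exact h
  exact (hd i).2 this

end Groth.Agent.Lib.Helper45
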