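import Groth.Agent.Lib.Helper45.PseudoFiltered2
set_option autoImplicit false
set_option backward.isDefEq.respectTransparency false
open CategoryTheory CategoryTheory.Limits Opposite
universe u v

namespace Groth.Agent.Lib.Helper45.PseudoFiltered
open Groth.Agent.Lib.Helper19

attribute [local instance] reflectsLimitsOfShape_of_reflectsIsomorphisms in
/-- large version: `J : Type (u+1)` with `u`-small homs, coefficients `AddCommGrpCat.{u+1}`. -/
theorem colim_preservesFiniteLimits_large (J : Type (u+1)) [Category.{u} J] (h : IsPF J) :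
    PreservesFiniteLimits (colim : (J ⥤ AddCommGrpCat.{u+1}) ⥤ AddCommGrpCat.{u+1}) := by
  have h1 : PreservesFiniteLimits ((proj J).lan :
      (J ⥤ AddCommGrpCat.{u+1}) ⥤ (Discrete (ConnectedComponents J) ⥤ AddCommGrpCat.{u+1})) := by
    apply preservesFiniteLimits_of_preservesFiniteLimitsOfSize.{0}
    intro K _ _
    apply preservesLimitsOfShape_of_evaluation _ K
    intro c
    have := isFiltered_costructuredArrow h c
    have : PreservesFilteredColimitsOfSize.{u, u+1} (forget AddCommGrpCat.{u+1}) :=
      preservesFilteredColimitsOfSize_shrink.{u+1, u+1, u, u+1} _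
    have : PreservesLimitsOfShape K
        (colim : (CostructuredArrow (proj J) c ⥤ AddCommGrpCat.{u+1}) ⥤ _) :=
      filtered_colim_preservesFiniteLimits
    exact preservesLimitsOfShape_of_natIso
      (LanFlat.lanEvaluationIsoColim AddCommGrpCat.{u+1} (proj J) c).symm
  have h2 : PreservesFiniteLimits
      (colim : (Discrete (ConnectedComponents J) ⥤ AddCommGrpCat.{u+1}) ⥤ _) := inferInstance
  have h3 : PreservesFiniteLimits ((proj J).lan ⋙ (colim :
      (Discrete (ConnectedComponents J) ⥤ AddCommGrpCat.{u+1}) ⥤ _)) :=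
    comp_preservesFiniteLimits _ _
  have adj1 : (proj J).lan ⋙ colim ⊣
      Functor.const _ ⋙ (Functor.whiskeringLeft _ _ AddCommGrpCat.{u+1}).obj (proj J) :=
    ((proj J).lanAdjunction _).comp colimConstAdj
  have adj2 := adj1.ofNatIsoRight
    (Functor.constCompWhiskeringLeftIso J (C := AddCommGrpCat.{u+1}) (proj J))
  exact preservesFiniteLimits_of_natIso (adj2.leftAdjointUniq colimConstAdj)

end Groth.Agent.Lib.Helper45.PseudoFiltered

namespace Groth.Agent.Lib.Helper45.PseudoFiltered
open Groth.Agent.Lib.Helper19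

theorem lan_preservesFiniteLimits_large {C D : Type (u+1)} [Category.{u} C] [Category.{u} D]
    (F : C ⥤ D) [HasPullbacks C] [HasEqualizers C]
    [PreservesLimitsOfShape WalkingCospan F] [PreservesLimitsOfShape WalkingParallelPair F] :
    PreservesFiniteLimits (F.op.lan :
      (Cᵒᵖ ⥤ AddCommGrpCat.{u+1}) ⥤ (Dᵒᵖ ⥤ AddCommGrpCat.{u+1})) := by
  apply preservesFiniteLimits_of_preservesFiniteLimitsOfSize.{0}
  intro K _ _
  apply preservesLimitsOfShape_of_evaluation _ K
  intro W
  have := colim_preservesFiniteLimits_large (CostructuredArrow F.op W)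
    (isPF_costructuredArrow_op F W)
  exact preservesLimitsOfShape_of_natIso
    (LanFlat.lanEvaluationIsoColim AddCommGrpCat.{u+1} F.op W).symm

end Groth.Agent.Lib.Helper45.PseudoFiltered
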