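import Groth.Prelude.Def_ProEtS
import Groth.Agent.Lib.Helper45.PseudoFiltered3
set_option autoImplicit false
set_option linter.style.haveILetI false
open CategoryTheory CategoryTheory.Limits AlgebraicGeometry Opposite
universe u

namespace Groth.Agent.Lib.Helper45.ProEtInj
open Groth.Agent.Lib.Helper45.PseudoFiltered

theorem preserves_connected {C : Type*} [Category C] {X Y : C} (f : X ⟶ Y) (J : Type*) [Category J]
    [IsConnected J] : PreservesLimitsOfShape J (Over.map f) := by
  have : PreservesLimitsOfShape J (Over.map f ⋙ Over.forget Y) :=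
    inferInstanceAs (PreservesLimitsOfShape J (Over.forget X))
  exact preservesLimitsOfShape_of_reflects_of_preserves (Over.map f) (Over.forget Y)

theorem main {T S : Scheme.{u}} (f : T ⟶ S)
    [(Scheme.ProEt.forget T ⋙ Over.map f).IsContinuous (Scheme.ProEt.topology T)
      (Scheme.proetaleTopology.over S)]
    (I : Sheaf (Scheme.proetaleTopology.over S) AddCommGrpCat.{u + 1}) [Injective I] :
    Injective (((Scheme.ProEt.forget T ⋙ Over.map f).sheafPushforwardContinuous AddCommGrpCat.{u + 1}
      (Scheme.ProEt.topology T) (Scheme.proetaleTopology.over S)).obj I) := by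
  haveI := preserves_connected f WalkingCospan
  haveI := preserves_connected f WalkingParallelPair
  haveI : PreservesLimitsOfShape WalkingCospan (Scheme.ProEt.forget T ⋙ Over.map f) :=
    comp_preservesLimitsOfShape _ _
  haveI : PreservesLimitsOfShape WalkingParallelPair (Scheme.ProEt.forget T ⋙ Over.map f) :=
    comp_preservesLimitsOfShape _ _
  haveI := lan_preservesFiniteLimits_large (Scheme.ProEt.forget T ⋙ Over.map f)
  haveI : PreservesFiniteLimits ((Scheme.ProEt.forget T ⋙ Over.map f).sheafPullback
      AddCommGrpCat.{u+1} (Scheme.ProEt.topology T) (Scheme.proetaleTopology.over S)) :=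
    Functor.sheafPullbackConstruction.preservesFiniteLimits _ AddCommGrpCat.{u+1} _ _
  exact Injective.injective_of_adjoint
    ((Scheme.ProEt.forget T ⋙ Over.map f).sheafAdjunctionContinuous AddCommGrpCat.{u+1}
      (Scheme.ProEt.topology T) (Scheme.proetaleTopology.over S)) I

end Groth.Agent.Lib.Helper45.ProEtInj
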