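import Mathlib.CategoryTheory.Subobject.ArtinianObject
import Mathlib.CategoryTheory.Limits.Preserves.Finite
import Mathlib.CategoryTheory.Filtered.Basic
import Mathlib.CategoryTheory.Yoneda
import Mathlib.CategoryTheory.Limits.FunctorCategory.Basic
import Mathlib.CategoryTheory.Limits.Types.Colimits
import Mathlib.CategoryTheory.Limits.Types.Filtered
import Mathlib.CategoryTheory.Limits.Types.Equalizers
import Mathlib.CategoryTheory.Limits.Preserves.Shapes.Equalizers
import Mathlib.CategoryTheory.Limits.Preserves.Shapes.BinaryProducts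
import Mathlib.CategoryTheory.Limits.Preserves.Shapes.Terminal
import Mathlib.CategoryTheory.Elements

set_option autoImplicit false
set_option backward.isDefEq.respectTransparency false
set_option linter.unusedSectionVars false
universe u
open CategoryTheory CategoryTheory.Limits Opposite

namespace Groth.Agent.Lib.Helper45.ProRep

variable {C : Type u} [SmallCategory C] [HasFiniteLimits C] (F : C ⥤ Type u) [PreservesFiniteLimits F]

lemma exists_of_map_eq {X Y : C} (f g : X ⟶ Y) (ξ : F.obj X) (h : F.map f ξ = F.map g ξ) :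
    ∃ ζ : F.obj (equalizer f g), F.map (equalizer.ι f g) ζ = ξ := by
  have hl : IsLimit (F.mapCone (Fork.ofι (equalizer.ι f g) (equalizer.condition f g))) :=
    isLimitOfPreserves F (equalizerIsEqualizer f g)
  have hl' := (isLimitMapConeForkEquiv F (equalizer.condition f g)).1 hl
  obtain ⟨ζ, hζ, _⟩ := (Types.type_equalizer_iff_unique _ _).1 ⟨hl'⟩ ξ h
  exact ⟨ζ, hζ⟩

lemma exists_pair {X Y : C} (ξ : F.obj X) (η : F.obj Y) :
    ∃ π : F.obj (X ⨯ Y), F.map prod.fst π = ξ ∧ F.map prod.snd π = η := by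
  have hl : IsLimit (F.mapCone (BinaryFan.mk (prod.fst : X ⨯ Y ⟶ X) prod.snd)) :=
    isLimitOfPreserves F (prodIsProd X Y)
  have hl' := (isLimitMapConeBinaryFanEquiv F (prod.fst : X ⨯ Y ⟶ X) prod.snd).1 hl
  let s : BinaryFan (F.obj X) (F.obj Y) :=
    BinaryFan.mk (P := PUnit.{u+1}) (TypeCat.ofHom fun _ => ξ) (TypeCat.ofHom fun _ => η)
  refine ⟨hl'.lift s PUnit.unit, ?_, ?_⟩
  · exact ConcreteCategory.congr_hom (hl'.fac s ⟨WalkingPair.left⟩) PUnit.unit
  · exact ConcreteCategory.congr_hom (hl'.fac s ⟨WalkingPair.right⟩) PUnit.unit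

lemma nonempty_obj_terminal : Nonempty (F.obj (⊤_ C)) := by
  have h : IsTerminal (F.obj (⊤_ C)) := IsTerminal.isTerminalObj F (⊤_ C) terminalIsTerminal
  exact ⟨(h.from PUnit.{u+1}) PUnit.unit⟩

/-- an element not coming from a proper subobject. -/
def IsMin (X : C) (ξ : F.obj X) : Prop :=
  ∀ (Y : C) (m : Y ⟶ X), Mono m → ξ ∈ Set.range (F.map m) → IsIso m

lemma exists_min (hart : ∀ X : C, IsArtinianObject X) (X : C) (ξ : F.obj X) :
    ∃ (Y : C) (m : Y ⟶ X) (_ : Mono m) (η : F.obj Y), F.map m η = ξ ∧ IsMin F Y η := by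
  have := hart X
  let S : Set (Subobject X) := {A | ξ ∈ Set.range (F.map A.arrow)}
  have htop : (⊤ : Subobject X) ∈ S := by
    refine ⟨F.map (inv (⊤ : Subobject X).arrow) ξ, ?_⟩
    rw [← comp_apply, ← Functor.map_comp, IsIso.inv_hom_id, CategoryTheory.Functor.map_id]
    rfl
  have wf : WellFounded ((· < ·) : Subobject X → Subobject X → Prop) := wellFounded_lt
  have hne : S.Nonempty := ⟨(⊤ : Subobject X), htop⟩
  let A := wf.min S hne
  have hA : A ∈ S := wf.min_mem S hne
  have hmin : ∀ B ∈ S, ¬ B < A := fun B hB => wf.not_lt_min S hB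
  obtain ⟨η, hη⟩ := hA
  refine ⟨(A : C), A.arrow, inferInstance, η, hη, ?_⟩
  intro Y m hm hmem
  obtain ⟨ζ, hζ⟩ := hmem
  have := hm
  let B : Subobject X := Subobject.mk (m ≫ A.arrow)
  have hB : B ∈ S := by
    refine ⟨F.map (Subobject.underlyingIso (m ≫ A.arrow)).inv ζ, ?_⟩
    rw [← comp_apply, ← Functor.map_comp, Subobject.underlyingIso_arrow, Functor.map_comp,
      comp_apply, hζ, hη]
  have hBA : B ≤ A := Subobject.le_of_comm ((Subobject.underlyingIso (m ≫ A.arrow)).hom ≫ m)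
    (by rw [Category.assoc, Subobject.underlyingIso_hom_comp_eq_mk])
  have hAB : A ≤ B := by
    by_contra hne
    exact hmin B hB (lt_of_le_of_ne hBA (fun h => hne (h ▸ le_refl _)))
  let g : (A : C) ⟶ Y := Subobject.ofLE A B hAB ≫ (Subobject.underlyingIso (m ≫ A.arrow)).hom
  have hg : g ≫ m = 𝟙 _ := by
    rw [← cancel_mono A.arrow, Category.assoc, Category.assoc,
      Subobject.underlyingIso_hom_comp_eq_mk, Subobject.ofLE_arrow, Category.id_comp]
  have : IsSplitEpi m := ⟨⟨g, hg⟩⟩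
  exact isIso_of_mono_of_isSplitEpi m


/-- the minimal elements of `F`. -/
structure MinElt where
  /-- the object -/
  X : C
  /-- the element -/
  ξ : F.obj X
  /-- minimality -/
  isMin : IsMin F X ξ

instance : Category (MinElt F) where
  Hom a b := {f : a.X ⟶ b.X // F.map f a.ξ = b.ξ}
  id a := ⟨𝟙 _, by rw [CategoryTheory.Functor.map_id]; rfl⟩
  comp f g := ⟨f.1 ≫ g.1, by rw [Functor.map_comp, comp_apply, f.2, g.2]⟩

variable {F}

@[ext] lemma MinElt.hom_ext {a b : MinElt F} (f g : a ⟶ b) (h : f.1 = g.1) : f = g :=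
  Subtype.ext h

@[simp] lemma MinElt.comp_val {a b c : MinElt F} (f : a ⟶ b) (g : b ⟶ c) :
    (f ≫ g).1 = f.1 ≫ g.1 := rfl

@[simp] lemma MinElt.id_val (a : MinElt F) : (𝟙 a : a ⟶ a).1 = 𝟙 a.X := rfl

lemma MinElt.isIso_equalizer_ι (a : MinElt F) {Y : C} (f g : a.X ⟶ Y)
    (h : F.map f a.ξ = F.map g a.ξ) : f = g := by
  obtain ⟨ζ, hζ⟩ := exists_of_map_eq F f g a.ξ h
  have := a.isMin _ (equalizer.ι f g) inferInstance ⟨ζ, hζ⟩
  exact eq_of_epi_equalizer

lemma MinElt.hom_unique {a b : MinElt F} (f g : a ⟶ b) : f = g := by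
  ext
  exact a.isIso_equalizer_ι f.1 g.1 (f.2.trans g.2.symm)

lemma MinElt.epi {a b : MinElt F} (f : a ⟶ b) : Epi f.1 := by
  constructor
  intro Z g h hgh
  have : F.map g b.ξ = F.map h b.ξ := by
    rw [← f.2, ← comp_apply, ← comp_apply, ← Functor.map_comp, ← Functor.map_comp, hgh]
  exact b.isIso_equalizer_ι g h this

variable (F)

/-- the forgetful functor. -/
def MinElt.D : MinElt F ⥤ C where
  obj a := a.X
  map f := f.1

variable {F}

lemma MinElt.exists_le (hart : ∀ X : C, IsArtinianObject X) (X : C) (ξ : F.obj X) :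
    ∃ (a : MinElt F) (m : a.X ⟶ X), F.map m a.ξ = ξ := by
  obtain ⟨Y, m, _, η, hη, hmin⟩ := exists_min F hart X ξ
  exact ⟨⟨Y, η, hmin⟩, m, hη⟩

lemma MinElt.isCofiltered (hart : ∀ X : C, IsArtinianObject X) : IsCofiltered (MinElt F) := by
  have : IsCofilteredOrEmpty (MinElt F) :=
    { cone_objs := by
        intro a b
        obtain ⟨π, h1, h2⟩ := exists_pair F a.ξ b.ξ
        obtain ⟨c, m, hm⟩ := MinElt.exists_le hart _ π
        refine ⟨c, ⟨m ≫ prod.fst, ?_⟩, ⟨m ≫ prod.snd, ?_⟩, trivial⟩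
        · rw [Functor.map_comp, comp_apply, hm, h1]
        · rw [Functor.map_comp, comp_apply, hm, h2]
      cone_maps := by
        intro a b f g
        exact ⟨a, 𝟙 a, by rw [MinElt.hom_unique f g]⟩ }
  obtain ⟨x⟩ := nonempty_obj_terminal F
  obtain ⟨c, _, _⟩ := MinElt.exists_le hart _ x
  exact { nonempty := ⟨c⟩ }


variable (F) in
/-- the cocone with point `F`. -/
def MinElt.cocone : Cocone ((MinElt.D F).op ⋙ coyoneda) where
  pt := F
  ι :=
    { app := fun a =>
        { app := fun Y => TypeCat.ofHom (fun f : a.unop.X ⟶ Y => F.map f a.unop.ξ)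
          naturality := by
            intro Y Z g
            ext f
            change F.map (f ≫ g) a.unop.ξ = F.map g (F.map f a.unop.ξ)
            rw [Functor.map_comp, comp_apply] }
      naturality := by
        intro a b u
        ext Y (f : a.unop.X ⟶ Y)
        change F.map (u.unop.1 ≫ f) b.unop.ξ = F.map f a.unop.ξ
        rw [Functor.map_comp, comp_apply, u.unop.2] }

lemma MinElt.cocone_ι_app_app (a : (MinElt F)ᵒᵖ) (Y : C) (f : a.unop.X ⟶ Y) :
    ((MinElt.cocone F).ι.app a).app Y f = F.map f a.unop.ξ := rfl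

/-- the cocone is a colimit. -/
noncomputable def MinElt.isColimitCocone (hart : ∀ X : C, IsArtinianObject X) :
    IsColimit (MinElt.cocone F) := by
  have := MinElt.isCofiltered (F := F) hart
  refine evaluationJointlyReflectsColimits _ (fun Y => ?_)
  refine Types.FilteredColimit.isColimitOf _ _ ?_ ?_
  · intro x
    obtain ⟨a, m, hm⟩ := MinElt.exists_le (F := F) hart Y x
    exact ⟨op a, m, hm.symm⟩
  · intro a b (f : a.unop.X ⟶ Y) (g : b.unop.X ⟶ Y) hfg
    have hfg' : F.map f a.unop.ξ = F.map g b.unop.ξ := hfg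
    let c := IsCofiltered.min a.unop b.unop
    let u : c ⟶ a.unop := IsCofiltered.minToLeft _ _
    let v : c ⟶ b.unop := IsCofiltered.minToRight _ _
    refine ⟨op c, u.op, v.op, ?_⟩
    change u.1 ≫ f = v.1 ≫ g
    refine c.isIso_equalizer_ι _ _ ?_
    rw [Functor.map_comp, Functor.map_comp, comp_apply, comp_apply, u.2, v.2]
    exact hfg'

theorem exists_strict_pro (hart : ∀ X : C, IsArtinianObject X) :
    ∃ (J : Type u) (_ : SmallCategory J) (_ : IsCofiltered J) (D : J ⥤ C),
      (∀ ⦃j j' : J⦄ (a : j ⟶ j'), Epi (D.map a)) ∧ Nonempty (F ≅ colimit (D.op ⋙ coyoneda)) :=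
  ⟨MinElt F, inferInstance, MinElt.isCofiltered hart, MinElt.D F, fun _ _ a => MinElt.epi a,
    ⟨IsColimit.coconePointUniqueUpToIso (MinElt.isColimitCocone hart) (colimit.isColimit _)⟩⟩

end Groth.Agent.Lib.Helper45.ProRep
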