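import Mathlib
import Groth.Agent.Lib.Helper19.LanFlat
set_option autoImplicit false
set_option backward.isDefEq.respectTransparency false
open CategoryTheory CategoryTheory.Limits Opposite
universe u v

namespace Groth.Agent.Lib.Helper45.PseudoFiltered

/-- a category which is a disjoint union of filtered categories -/
structure IsPF (J : Type*) [Category J] : Prop where
  span : ∀ {i j j' : J} (a : i ⟶ j) (b : i ⟶ j'), ∃ (k : J) (c : j ⟶ k) (d : j' ⟶ k),
    a ≫ c = b ≫ d
  par : ∀ {j j' : J} (a b : j ⟶ j'), ∃ (k : J) (c : j' ⟶ k), a ≫ c = b ≫ c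

variable {J : Type u} [Category.{v} J]

theorem IsPF.cospan_of_zigzag (h : IsPF J) {j j' : J} (z : Zigzag j j') :
    ∃ (k : J), Nonempty (j ⟶ k) ∧ Nonempty (j' ⟶ k) := by
  induction z with
  | refl => exact ⟨j, ⟨𝟙 _⟩, ⟨𝟙 _⟩⟩
  | tail _ hz ih =>
    rename_i b c
    obtain ⟨k, ⟨a1⟩, ⟨a2⟩⟩ := ih
    rcases hz with ⟨⟨f⟩⟩ | ⟨⟨f⟩⟩
    · -- f : b ⟶ c
      obtain ⟨m, c1, c2, _⟩ := h.span a2 f
      exact ⟨m, ⟨a1 ≫ c1⟩, ⟨c2⟩⟩
    · -- f : c ⟶ b
      exact ⟨k, ⟨a1⟩, ⟨f ≫ a2⟩⟩

/-- the projection to the discrete category of connected components -/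
def proj (J : Type u) [Category.{v} J] : J ⥤ Discrete (ConnectedComponents J) :=
  ConnectedComponents.functorToDiscrete _ id

theorem isFiltered_costructuredArrow (h : IsPF J) (c : Discrete (ConnectedComponents J)) :
    IsFiltered (CostructuredArrow (proj J) c) := by
  have hmk : ∀ x : CostructuredArrow (proj J) c, Quotient.mk (Zigzag.setoid J) x.left = c.as :=
    fun x => (Discrete.eq_of_hom x.hom)
  have mkObj : ∀ (j : J), Quotient.mk (Zigzag.setoid J) j = c.as → CostructuredArrow (proj J) c :=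
    fun j hj => CostructuredArrow.mk (Y := j) (Discrete.eqToHom hj)
  have : Nonempty (CostructuredArrow (proj J) c) := by
    obtain ⟨j, hj⟩ := Quotient.exists_rep c.as
    exact ⟨CostructuredArrow.mk (Y := j) (Discrete.eqToHom hj)⟩
  refine { toIsFilteredOrEmpty := ⟨?_, ?_⟩, nonempty := this }
  · intro x y
    have hz : Zigzag x.left y.left := by
      have := (hmk x).trans (hmk y).symm
      exact Quotient.exact this
    obtain ⟨k, ⟨a⟩, ⟨b⟩⟩ := h.cospan_of_zigzag hz
    have hk : Quotient.mk (Zigzag.setoid J) k = c.as := by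
      rw [← hmk x]
      exact (Quotient.sound (Zigzag.of_hom a)).symm
    refine ⟨CostructuredArrow.mk (Y := k) (Discrete.eqToHom hk),
      CostructuredArrow.homMk a (Subsingleton.elim _ _),
      CostructuredArrow.homMk b (Subsingleton.elim _ _), trivial⟩
  · intro x y a b
    obtain ⟨k, c', hc⟩ := h.par a.left b.left
    have hk : Quotient.mk (Zigzag.setoid J) k = c.as := by
      rw [← hmk y]
      exact (Quotient.sound (Zigzag.of_hom c')).symm
    refine ⟨CostructuredArrow.mk (Y := k) (Discrete.eqToHom hk),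
      CostructuredArrow.homMk c' (Subsingleton.elim _ _), ?_⟩
    ext
    exact hc

end Groth.Agent.Lib.Helper45.PseudoFiltered

namespace Groth.Agent.Lib.Helper45.PseudoFiltered
open Groth.Agent.Lib.Helper19

theorem colim_preservesFiniteLimits (J : Type u) [SmallCategory J] (h : IsPF J) :
    PreservesFiniteLimits (colim : (J ⥤ AddCommGrpCat.{u}) ⥤ AddCommGrpCat.{u}) := by
  have h1 : PreservesFiniteLimits ((proj J).lan :
      (J ⥤ AddCommGrpCat.{u}) ⥤ (Discrete (ConnectedComponents J) ⥤ AddCommGrpCat.{u})) := by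
    apply preservesFiniteLimits_of_preservesFiniteLimitsOfSize.{0}
    intro K _ _
    apply preservesLimitsOfShape_of_evaluation _ K
    intro c
    have := isFiltered_costructuredArrow h c
    exact preservesLimitsOfShape_of_natIso
      (LanFlat.lanEvaluationIsoColim AddCommGrpCat.{u} (proj J) c).symm
  have h2 : PreservesFiniteLimits
      (colim : (Discrete (ConnectedComponents J) ⥤ AddCommGrpCat.{u}) ⥤ _) := inferInstance
  have h3 : PreservesFiniteLimits ((proj J).lan ⋙ (colim :
      (Discrete (ConnectedComponents J) ⥤ AddCommGrpCat.{u}) ⥤ _)) :=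
    comp_preservesFiniteLimits _ _
  have adj1 : (proj J).lan ⋙ colim ⊣
      Functor.const _ ⋙ (Functor.whiskeringLeft _ _ AddCommGrpCat.{u}).obj (proj J) :=
    ((proj J).lanAdjunction _).comp colimConstAdj
  have adj2 := adj1.ofNatIsoRight (Functor.constCompWhiskeringLeftIso J (C := AddCommGrpCat.{u}) (proj J))
  exact preservesFiniteLimits_of_natIso (adj2.leftAdjointUniq colimConstAdj)

end Groth.Agent.Lib.Helper45.PseudoFiltered
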