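import Groth.Agent.Lib.Helper45.PseudoFiltered
set_option autoImplicit false
set_option backward.isDefEq.respectTransparency false
open CategoryTheory CategoryTheory.Limits Opposite
universe u v u' v'

namespace Groth.Agent.Lib.Helper45.PseudoFiltered

variable {C : Type u} [Category.{v} C] {D : Type u'} [Category.{v'} D] (F : C ⥤ D)
  [HasPullbacks C] [HasEqualizers C]
  [PreservesLimitsOfShape WalkingCospan F] [PreservesLimitsOfShape WalkingParallelPair F]

theorem isPF_costructuredArrow_op (W : Dᵒᵖ) : IsPF (CostructuredArrow F.op W) where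
  span := by
    intro i j j' a b
    -- underlying data in C
    let a1 : j.left.unop ⟶ i.left.unop := a.left.unop
    let b1 : j'.left.unop ⟶ i.left.unop := b.left.unop
    have ha : j.hom.unop ≫ F.map a1 = i.hom.unop := by
      have := congrArg Quiver.Hom.unop (CostructuredArrow.w a)
      simpa using this
    have hb : j'.hom.unop ≫ F.map b1 = i.hom.unop := by
      have := congrArg Quiver.Hom.unop (CostructuredArrow.w b)
      simpa using this
    have hl := isLimitOfHasPullbackOfPreservesLimit F a1 b1
    let g : W.unop ⟶ F.obj (pullback a1 b1) :=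
      PullbackCone.IsLimit.lift hl j.hom.unop j'.hom.unop (ha.trans hb.symm)
    have hg1 : g ≫ F.map (pullback.fst a1 b1) = j.hom.unop :=
      PullbackCone.IsLimit.lift_fst hl _ _ _
    have hg2 : g ≫ F.map (pullback.snd a1 b1) = j'.hom.unop :=
      PullbackCone.IsLimit.lift_snd hl _ _ _
    refine ⟨CostructuredArrow.mk (Y := op (pullback a1 b1)) g.op,
      CostructuredArrow.homMk (pullback.fst a1 b1).op ?_,
      CostructuredArrow.homMk (pullback.snd a1 b1).op ?_, ?_⟩
    · apply Quiver.Hom.unop_inj
      simpa using hg1
    · apply Quiver.Hom.unop_inj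
      simpa using hg2
    · ext
      apply Quiver.Hom.unop_inj
      simpa [a1, b1] using (pullback.condition (f := a1) (g := b1))
  par := by
    intro j j' a b
    let a1 : j'.left.unop ⟶ j.left.unop := a.left.unop
    let b1 : j'.left.unop ⟶ j.left.unop := b.left.unop
    have ha : j'.hom.unop ≫ F.map a1 = j.hom.unop := by
      have := congrArg Quiver.Hom.unop (CostructuredArrow.w a)
      simpa using this
    have hb : j'.hom.unop ≫ F.map b1 = j.hom.unop := by
      have := congrArg Quiver.Hom.unop (CostructuredArrow.w b)
      simpa using this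
    have hl := isLimitForkMapOfIsLimit F (equalizer.condition a1 b1) (equalizerIsEqualizer a1 b1)
    let g : W.unop ⟶ F.obj (equalizer a1 b1) :=
      Fork.IsLimit.lift hl j'.hom.unop (ha.trans hb.symm)
    have hg : g ≫ F.map (equalizer.ι a1 b1) = j'.hom.unop :=
      Fork.IsLimit.lift_ι' hl _ _
    refine ⟨CostructuredArrow.mk (Y := op (equalizer a1 b1)) g.op,
      CostructuredArrow.homMk (equalizer.ι a1 b1).op ?_, ?_⟩
    · apply Quiver.Hom.unop_inj
      simpa using hg
    · ext
      apply Quiver.Hom.unop_inj
      simpa [a1, b1] using (equalizer.condition a1 b1)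

end Groth.Agent.Lib.Helper45.PseudoFiltered

namespace Groth.Agent.Lib.Helper45.PseudoFiltered
open Groth.Agent.Lib.Helper19

theorem lan_preservesFiniteLimits {C D : Type u} [SmallCategory C] [SmallCategory D] (F : C ⥤ D)
    [HasPullbacks C] [HasEqualizers C]
    [PreservesLimitsOfShape WalkingCospan F] [PreservesLimitsOfShape WalkingParallelPair F] :
    PreservesFiniteLimits (F.op.lan : (Cᵒᵖ ⥤ AddCommGrpCat.{u}) ⥤ (Dᵒᵖ ⥤ AddCommGrpCat.{u})) := by
  apply preservesFiniteLimits_of_preservesFiniteLimitsOfSize.{0}
  intro K _ _
  apply preservesLimitsOfShape_of_evaluation _ K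
  intro W
  have := colim_preservesFiniteLimits (CostructuredArrow F.op W) (isPF_costructuredArrow_op F W)
  exact preservesLimitsOfShape_of_natIso
    (LanFlat.lanEvaluationIsoColim AddCommGrpCat.{u} F.op W).symm

theorem main {C D : Type u} [SmallCategory C] [SmallCategory D]
    (J : GrothendieckTopology C) (K : GrothendieckTopology D) (F : C ⥤ D)
    [F.IsContinuous J K] [HasPullbacks C] [HasEqualizers C]
    [PreservesLimitsOfShape WalkingCospan F] [PreservesLimitsOfShape WalkingParallelPair F] :
    PreservesFiniteLimits (F.sheafPullback AddCommGrpCat.{u} J K) := by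
  have := lan_preservesFiniteLimits F
  exact Functor.sheafPullbackConstruction.preservesFiniteLimits F AddCommGrpCat.{u} J K

end Groth.Agent.Lib.Helper45.PseudoFiltered
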