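import Groth.Agent.Lib.Helper45.PullOver

/-!
# Pullback/localization compatibility: the case of topological spaces

Instances making `Groth.Agent.Lib.Helper45.PullOver` applicable to `Opens.map f`.
-/

set_option autoImplicit false
set_option linter.style.haveILetI false
set_option linter.unusedSectionVars false
universe u
open CategoryTheory CategoryTheory.Limits TopologicalSpace

namespace Groth.Agent.Lib.Helper45.PullOverTop

instance preservesFiniteLimits_map {X Y : TopCat.{u}} (f : X ⟶ Y) :
    PreservesFiniteLimits (Opens.map f) := by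
  refine ⟨fun J _ _ => ⟨fun {K} => ⟨fun {c} hc => ⟨Preorder.isLimitOfIsGLB _ _ ?_⟩⟩⟩⟩
  have h := Preorder.isGLB_of_isLimit _ hc
  constructor
  · rintro _ ⟨j, rfl⟩
    exact ((Opens.map f).map (c.π.app j)).le
  · intro W hW x hx
    let T : Opens Y := ⟨⋂ j, (K.obj j : Set Y), isOpen_iInter_of_finite (fun j => (K.obj j).isOpen)⟩
    have hT : T ≤ c.pt := h.2 (by
      rintro _ ⟨j, rfl⟩
      exact fun y hy => Set.mem_iInter.mp hy j)
    apply hT
    refine Set.mem_iInter.mpr (fun j => ?_)
    exact hW ⟨j, rfl⟩ hx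

instance continuous_over_post {X Y : TopCat.{u}} (f : X ⟶ Y) (U : Opens Y) :
    Functor.IsContinuous (Over.post (X := U) (Opens.map f))
      ((Opens.grothendieckTopology Y).over U) ((Opens.grothendieckTopology X).over _) := by
  have hcp : CoverPreserving (Opens.grothendieckTopology Y) (Opens.grothendieckTopology X)
      (Opens.map f) := CoverPreserving.of_isContinuous _ _ _
  have : Functor.PreservesOneHypercovers.{u} (Opens.map f) (Opens.grothendieckTopology Y)
      (Opens.grothendieckTopology X) :=
    Functor.PreservesOneHypercovers.of_coverPreserving hcp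
  infer_instance

theorem coversTop_map {X Y : TopCat.{u}} (f : X ⟶ Y) {I : Type u} (V : I → Opens Y)
    (h : (Opens.grothendieckTopology Y).CoversTop V) :
    (Opens.grothendieckTopology X).CoversTop (fun i => (Opens.map f).obj (V i)) := by
  intro W x hx
  obtain ⟨V', g, hg, hxV'⟩ := h ⊤ (f x) trivial
  obtain ⟨i, ⟨hi⟩⟩ := (Sieve.mem_ofObjects_iff ..).mp hg
  refine ⟨W ⊓ (Opens.map f).obj V', homOfLE inf_le_left, ?_, ⟨hx, hxV'⟩⟩
  exact (Sieve.mem_ofObjects_iff ..).mpr ⟨i, ⟨homOfLE (inf_le_right.trans ((Opens.map f).map hi).le)⟩⟩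

end Groth.Agent.Lib.Helper45.PullOverTop
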