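import Mathlib
import Groth.Prelude.Def_AlgSpPerf
import Groth.Prelude.Def_ModSite

/-!
# The module pullback along a morphism of ringed sites preserves free modules.
-/

set_option autoImplicit false
set_option linter.style.haveILetI false
set_option linter.unusedSectionVars false

universe u

open CategoryTheory CategoryTheory.Limits Opposite

namespace Groth.Agent.Lib.Helper45.PullUnit

variable {C : Type u} [SmallCategory C] {J : GrothendieckTopology C}
  {D : Type u} [SmallCategory D] {K : GrothendieckTopology D}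

/-- The terminal sheaf of types. -/
noncomputable def T (J : GrothendieckTopology C) : Sheaf J (Type u) :=
  ⟨(Functor.const Cᵒᵖ).obj PUnit.{u + 1}, by
    rw [isSheaf_iff_isSheaf_of_type]
    intro X S hS x hx
    exact ⟨PUnit.unit, fun _ _ _ => rfl, fun _ _ => rfl⟩⟩

/-- It is terminal. -/
noncomputable def T_isTerminal (J : GrothendieckTopology C) : IsTerminal (T J) :=
  IsTerminal.ofUniqueHom (fun G => ⟨{ app := fun _ => TypeCat.ofHom fun _ => PUnit.unit }⟩)
    (fun G m => by
      apply Sheaf.hom_ext
      ext V x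
      rfl)

/-- `f⁻¹` of the terminal sheaf is terminal. -/
noncomputable def pullT (fn : D ⥤ C) (K : GrothendieckTopology D) (J : GrothendieckTopology C)
    [fn.IsContinuous K J] [PreservesFiniteLimits (fn.sheafPullback (Type u) K J)] :
    (fn.sheafPullback (Type u) K J).obj (T K) ≅ T J :=
  (IsTerminal.isTerminalObj (fn.sheafPullback (Type u) K J) _ (T_isTerminal K)).uniqueUpToIso
    (T_isTerminal J)

/-- Sections as morphisms from the terminal sheaf. -/
def secEquiv (G : Sheaf J (Type u)) : G.obj.sections ≃ (T J ⟶ G) :=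
  (G.obj.sectionsEquivHom PUnit.{u + 1}).trans
    { toFun := fun τ => ⟨τ⟩
      invFun := fun σ => σ.hom
      left_inv := fun _ => rfl
      right_inv := fun _ => rfl }

/-- Restriction of sections along `fn`. -/
def resSec (fn : D ⥤ C) (G : Sheaf J (Type u)) (s : G.obj.sections) : (fn.op ⋙ G.obj).sections :=
  ⟨fun V => s.1 (op (fn.obj V.unop)), fun f => s.2 (fn.map f.unop).op⟩

lemma resSec_bijective (fn : D ⥤ C) (K : GrothendieckTopology D) (J : GrothendieckTopology C)
    [fn.IsContinuous K J] [PreservesFiniteLimits (fn.sheafPullback (Type u) K J)]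
    (G : Sheaf J (Type u)) : Function.Bijective (resSec fn G) := by
  let adj := fn.sheafAdjunctionContinuous (Type u) K J
  let e1 : G.obj.sections ≃ (T J ⟶ G) := secEquiv G
  let e2 : (T J ⟶ G) ≃ ((fn.sheafPullback (Type u) K J).obj (T K) ⟶ G) :=
    (pullT fn K J).homFromEquiv.symm
  let e3 := adj.homEquiv (T K) G
  let e4 : (fn.op ⋙ G.obj).sections ≃ (T K ⟶ (fn.sheafPushforwardContinuous (Type u) K J).obj G) :=
    secEquiv ((fn.sheafPushforwardContinuous (Type u) K J).obj G)
  have h : resSec fn G = e4.symm ∘ e3 ∘ e2 ∘ e1 := by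
    funext s
    apply Subtype.ext
    funext V
    change s.1 (op (fn.obj V.unop)) = (e3 (e2 (e1 s))).hom.app V PUnit.unit
    have h3 : e3 (e2 (e1 s)) = adj.unit.app (T K) ≫
        (fn.sheafPushforwardContinuous (Type u) K J).map ((pullT fn K J).hom ≫ e1 s) :=
      Adjunction.homEquiv_unit _ _ _ _
    rw [h3]
    change s.1 (op (fn.obj V.unop)) = (e1 s).hom.app (op (fn.obj V.unop))
      (((pullT fn K J).hom).hom.app (op (fn.obj V.unop)) ((adj.unit.app (T K)).hom.app V PUnit.unit))
    rfl
  rw [h]
  exact e4.symm.bijective.comp (e3.bijective.comp (e2.bijective.comp e1.bijective))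


section Modules

variable {O_C : Sheaf J CommRingCat.{u}} {O_D : Sheaf K CommRingCat.{u}} (f : ModSite.RMor O_C O_D)

/-- The underlying sheaf of types of a module. -/
noncomputable def typeSheaf (M : ModSite.Mod O_C) : Sheaf J (Type u) :=
  (sheafCompose J (forget AddCommGrpCat.{u})).obj ((SheafOfModules.toSheaf _).obj M)

lemma bijective_pushforwardSections (M : ModSite.Mod O_C) :
    Function.Bijective (SheafOfModules.pushforwardSections f.sharpR (M := M)) :=
  resSec_bijective f.fn K J (typeSheaf M)

instance : IsIso (SheafOfModules.pullbackObjUnitToUnit f.sharpR) := by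
  rw [isIso_iff_coyoneda_map_bijective]
  intro M
  rw [← ((SheafOfModules.pullbackPushforwardAdjunction.{u} f.sharpR).homEquiv _ _).bijective.of_comp_iff',
    ← (SheafOfModules.unitHomEquiv _).bijective.of_comp_iff']
  convert! (bijective_pushforwardSections f M).comp (SheafOfModules.unitHomEquiv _).bijective
  ext g : 1
  dsimp
  rw [SheafOfModules.pushforwardSections_unitHomEquiv, EmbeddingLike.apply_eq_iff_eq,
    Adjunction.homEquiv_naturality_right,
    SheafOfModules.pullbackPushforwardAdjunction_homEquiv_pullbackObjUnitToUnit]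

/-- The pullback of a free sheaf of modules is free. -/
noncomputable def pullFreeIso (I : Type u) :
    f.pull.obj (SheafOfModules.free I) ≅ SheafOfModules.free I :=
  (asIso (sigmaComparison _ _)).symm ≪≫
    Sigma.mapIso (fun _ ↦ asIso (SheafOfModules.pullbackObjUnitToUnit f.sharpR))


theorem main9045 (E : CochainComplex (ModSite.Mod O_D) ℤ)
    (hE : DCoh.IsStrictlyPerfectMod (ModSite.ringSh O_D) E) :
    DCoh.IsStrictlyPerfectMod (ModSite.ringSh O_C)
      ((f.pull.mapHomologicalComplex (ComplexShape.up ℤ)).obj E) := by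
  obtain ⟨⟨a, b, hab⟩, hfree⟩ := hE
  refine ⟨⟨a, b, fun i hi => ?_⟩, fun i => ?_⟩
  · exact Functor.map_isZero f.pull (hab i hi)
  · obtain ⟨n, ι, p, hιp⟩ := hfree i
    refine ⟨n, f.pull.map ι ≫ (pullFreeIso f _).hom, (pullFreeIso f _).inv ≫ f.pull.map p, ?_⟩
    rw [Category.assoc, Iso.hom_inv_id_assoc]
    change f.pull.map ι ≫ f.pull.map p = 𝟙 (f.pull.obj (E.X i))
    rw [← Functor.map_comp, hιp, CategoryTheory.Functor.map_id]

end Modules

end Groth.Agent.Lib.Helper45.PullUnit
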