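import Groth.Prelude.Def_ModSite
import Groth.Prelude.Def_CohCx

/-!
# Quasi-compact objects of a site: finite subcovers
-/

set_option autoImplicit false
set_option linter.style.haveILetI false
set_option linter.unusedSectionVars false

universe u

open CategoryTheory CategoryTheory.Limits Opposite

namespace Groth.Agent.Lib.Helper45.QcSum

variable {C : Type u} [SmallCategory C] {J : GrothendieckTopology C}

/-- The sheaf associated with a representable presheaf. -/
noncomputable abbrev hs (J : GrothendieckTopology C) (W : C) : Sheaf J (Type u) :=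
  (presheafToSheaf J (Type u)).obj (yoneda.obj W)

/-- The section of `hs W` over `V` given by a morphism `V ⟶ W`. -/
noncomputable def el (J : GrothendieckTopology C) {V W : C} (g : V ⟶ W) : (hs J W).obj.obj (op V) :=
  (toSheafify J (yoneda.obj W)).app (op V) g

lemma el_comp {V' V W : C} (h : V' ⟶ V) (g : V ⟶ W) :
    el J (h ≫ g) = (hs J W).obj.map h.op (el J g) := by
  have := NatTrans.naturality_apply (toSheafify J (yoneda.obj W)) h.op g
  simpa [el] using this

lemma map_el {V W W' : C} (g : V ⟶ W) (k : W ⟶ W') :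
    ((presheafToSheaf J (Type u)).map (yoneda.map k)).hom.app (op V) (el J g) = el J (g ≫ k) := by
  have h := toSheafify_naturality J (yoneda.map k)
  have h2 : (yoneda.map k).app (op V) ≫ (toSheafify J (yoneda.obj W')).app (op V) =
      (toSheafify J (yoneda.obj W)).app (op V) ≫ (sheafifyMap J (yoneda.map k)).app (op V) := by
    rw [← NatTrans.comp_app, h, NatTrans.comp_app]
  have := ConcreteCategory.congr_hom h2 g
  simpa [el, sheafifyMap] using this.symm

lemma exists_el (W : C) {U : C} (s : (hs J W).obj.obj (op U)) :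
    ∃ S ∈ J U, ∀ (V : C) (g : V ⟶ U), S g → ∃ w : V ⟶ W, el J w = (hs J W).obj.map g.op s := by
  refine ⟨_, Presheaf.imageSieve_mem J (toSheafify J (yoneda.obj W)) s, ?_⟩
  intro V g hg
  obtain ⟨t, ht⟩ := hg
  exact ⟨t, ht⟩

lemma el_eq {V W : C} (a b : V ⟶ W) (h : el J a = el J b) :
    ∃ S ∈ J V, ∀ (V' : C) (k : V' ⟶ V), S k → k ≫ a = k ≫ b := by
  refine ⟨_, Presheaf.equalizerSieve_mem J (toSheafify J (yoneda.obj W)) a b h, ?_⟩
  intro V' k hk
  exact hk

/-- The sieve of arrows along which a section lies in the image of a family. -/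
def famSieve {K : Sheaf J (Type u)} {I : Type u} {L : I → Sheaf J (Type u)} (f : ∀ i, L i ⟶ K)
    {U : C} (s : K.obj.obj (op U)) : Sieve U where
  arrows V g := ∃ (i : I) (x : (L i).obj.obj (op V)), (f i).hom.app (op V) x = K.obj.map g.op s
  downward_closed := by
    rintro V V' g ⟨i, x, hx⟩ k
    refine ⟨i, (L i).obj.map k.op x, ?_⟩
    have := NatTrans.naturality_apply (f i).hom k.op x
    rw [this, hx, op_comp, Functor.map_comp_apply]

lemma jointlySurjective_of_famSieve {K : Sheaf J (Type u)} {I : Type u} {L : I → Sheaf J (Type u)}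
    (f : ∀ i, L i ⟶ K) (h : ∀ (U : C) (s : K.obj.obj (op U)), famSieve f s ∈ J U) :
    CohCx.JointlySurjective f := fun U s => ⟨famSieve f s, h U s, fun _ _ hg => hg⟩

lemma famSieve_mem_of_jointlySurjective {K : Sheaf J (Type u)} {I : Type u}
    {L : I → Sheaf J (Type u)} (f : ∀ i, L i ⟶ K) (h : CohCx.JointlySurjective f)
    (U : C) (s : K.obj.obj (op U)) : famSieve f s ∈ J U := by
  obtain ⟨S, hS, hS'⟩ := h U s
  exact J.superset_covering (fun V g hg => hS' V g hg) hS

theorem exists_finite_of_generate_mem {W : C} (hW : CohCx.IsQcObject (hs J W)) (R : Presieve W)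
    (hR : Sieve.generate R ∈ J W) :
    ∃ t : Finset (Σ V : C, {g : V ⟶ W // R g}),
      Sieve.ofArrows (fun i : t => i.1.1) (fun i : t => i.1.2.1) ∈ J W := by
  classical
  let I := Σ V : C, {g : V ⟶ W // R g}
  let L : I → Sheaf J (Type u) := fun i => hs J i.1
  let f : ∀ i, L i ⟶ hs J W := fun i => (presheafToSheaf J (Type u)).map (yoneda.map i.2.1)
  have hJS : CohCx.JointlySurjective f := by
    apply jointlySurjective_of_famSieve
    intro U s
    obtain ⟨S, hS, hSs⟩ := exists_el W s
    refine J.transitive hS _ (fun V g hg => ?_)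
    obtain ⟨w, hw⟩ := hSs V g hg
    refine J.superset_covering ?_ (J.pullback_stable w hR)
    intro V' k hk
    obtain ⟨Y, a, b, hb, hab⟩ := hk
    refine ⟨⟨Y, b, hb⟩, el J a, ?_⟩
    change ((presheafToSheaf J (Type u)).map (yoneda.map b)).hom.app (op V') (el J a) = _
    rw [map_el, hab, el_comp, hw, op_comp, Functor.map_comp_apply]
  obtain ⟨t, ht⟩ := hW I L f hJS
  refine ⟨t, ?_⟩
  have h1 := famSieve_mem_of_jointlySurjective _ ht W (el J (𝟙 W))
  refine J.transitive h1 _ (fun V g hg => ?_)
  obtain ⟨i, x, hx⟩ := hg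
  obtain ⟨S₁, hS₁, h₁⟩ := exists_el i.1.1 x
  refine J.transitive hS₁ _ (fun V' h hh => ?_)
  obtain ⟨v, hv⟩ := h₁ V' h hh
  have e1 : el J (v ≫ i.1.2.1) = el J (h ≫ g) := by
    rw [← map_el, hv]
    have := NatTrans.naturality_apply (f i.1).hom h.op x
    change ((f i.1).hom.app (op V')) ((hs J i.1.1).obj.map h.op x) = _
    rw [this, hx, ← el_comp, ← el_comp, Category.comp_id]
  obtain ⟨S₂, hS₂, h₂⟩ := el_eq _ _ e1
  refine J.superset_covering ?_ hS₂
  intro V'' k hk
  change (Sieve.ofArrows _ _) ((k ≫ h) ≫ g)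
  rw [Category.assoc, ← h₂ V'' k hk, ← Category.assoc]
  exact Sieve.downward_closed _ (Sieve.ofArrows_mk _ _ i) _

end Groth.Agent.Lib.Helper45.QcSum
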