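import Groth.Agent.Lib.Helper45.QcSum9

/-!
# Kernels of morphisms between modules of type A
-/

set_option autoImplicit false
set_option linter.style.haveILetI false
set_option linter.unusedSectionVars false

universe u w w' v' u'

open CategoryTheory CategoryTheory.Limits Opposite ModSite

namespace Groth.Agent.Lib.Helper45.QcSum

section AbstractKer

variable {A : Type u'} [Category.{v'} A] [Abelian A]
variable {F G P₀ Q₀ P₁ Q₁ : A} (α : F ⟶ G) (πF : P₀ ⟶ F) (πG : Q₀ ⟶ G) (α₀ : P₀ ⟶ Q₀)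
  (ψF : P₁ ⟶ P₀) (ψG : Q₁ ⟶ Q₀)

/-- The first auxiliary map. -/
noncomputable def phi : P₀ ⊞ Q₁ ⟶ Q₀ := biprod.desc α₀ ψG

/-- The second auxiliary map. -/
noncomputable def phi₂ : P₁ ⊞ Q₁ ⟶ Q₀ := biprod.desc (ψF ≫ α₀) ψG

lemma map_phi : biprod.map ψF (𝟙 Q₁) ≫ phi α₀ ψG = phi₂ α₀ ψF ψG := by
  apply biprod.hom_ext' <;> simp [phi, phi₂]

variable {α πF πG α₀ ψF ψG}

lemma phi_πG (hG : ψG ≫ πG = 0) : phi α₀ ψG ≫ πG = biprod.fst ≫ α₀ ≫ πG := by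
  apply biprod.hom_ext' <;> simp [phi, hG]

variable (α πF πG α₀ ψF ψG) in
/-- The complex `kernel φ₂ ⟶ kernel φ ⟶ kernel α`. -/
noncomputable def kerAlphaSC (hα : α₀ ≫ πG = πF ≫ α) (hF : ψF ≫ πF = 0) (hG : ψG ≫ πG = 0) :
    ShortComplex A where
  X₁ := kernel (phi₂ α₀ ψF ψG)
  X₂ := kernel (phi α₀ ψG)
  X₃ := kernel α
  f := kernel.lift (phi α₀ ψG) (kernel.ι (phi₂ α₀ ψF ψG) ≫ biprod.map ψF (𝟙 Q₁)) (by
    rw [Category.assoc, map_phi, kernel.condition])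
  g := kernel.lift α (kernel.ι (phi α₀ ψG) ≫ biprod.fst ≫ πF) (by
    rw [Category.assoc, Category.assoc, ← hα, ← phi_πG hG, ← Category.assoc, kernel.condition,
      zero_comp])
  zero := by
    rw [← cancel_mono (kernel.ι α), Category.assoc, kernel.lift_ι, ← Category.assoc,
      kernel.lift_ι, zero_comp, Category.assoc]
    have : biprod.map ψF (𝟙 Q₁) ≫ biprod.fst ≫ πF = 0 := by
      rw [← Category.assoc, biprod.map_fst, Category.assoc, hF, comp_zero]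
    rw [this, comp_zero]

lemma kerAlphaSC_exact (hα : α₀ ≫ πG = πF ≫ α) (hF : ψF ≫ πF = 0) (hG : ψG ≫ πG = 0)
    (hF' : Epi (kernel.lift πF ψF hF)) :
    (kerAlphaSC α πF πG α₀ ψF ψG hα hF hG).Exact := by
  rw [ShortComplex.exact_iff_exact_up_to_refinements]
  intro T x₂ hx₂
  change T ⟶ kernel (phi α₀ ψG) at x₂
  change x₂ ≫ kernel.lift α (kernel.ι (phi α₀ ψG) ≫ biprod.fst ≫ πF) _ = 0 at hx₂
  have h0 : (x₂ ≫ kernel.ι (phi α₀ ψG) ≫ biprod.fst) ≫ πF = 0 := by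
    have := hx₂ =≫ kernel.ι α
    simpa using this
  obtain ⟨T₁, π₁, hπ₁, c, hc⟩ := surjective_up_to_refinements_of_epi
    (kernel.lift πF ψF hF) (kernel.lift πF _ h0)
  have hc' : c ≫ ψF = π₁ ≫ x₂ ≫ kernel.ι (phi α₀ ψG) ≫ biprod.fst := by
    have := hc =≫ kernel.ι πF
    simpa using this.symm
  have h1 : biprod.lift c (π₁ ≫ x₂ ≫ kernel.ι (phi α₀ ψG) ≫ biprod.snd) ≫
      biprod.map ψF (𝟙 Q₁) = π₁ ≫ x₂ ≫ kernel.ι (phi α₀ ψG) := by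
    apply biprod.hom_ext
    · simp [hc']
    · simp
  have h2 : biprod.lift c (π₁ ≫ x₂ ≫ kernel.ι (phi α₀ ψG) ≫ biprod.snd) ≫ phi₂ α₀ ψF ψG = 0 := by
    rw [← map_phi, ← Category.assoc, h1, Category.assoc, Category.assoc, kernel.condition,
      comp_zero, comp_zero]
  refine ⟨T₁, π₁, hπ₁, kernel.lift _ _ h2, ?_⟩
  change π₁ ≫ x₂ = kernel.lift _ _ h2 ≫
    kernel.lift (phi α₀ ψG) (kernel.ι (phi₂ α₀ ψF ψG) ≫ biprod.map ψF (𝟙 Q₁)) _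
  rw [← cancel_mono (kernel.ι (phi α₀ ψG)), Category.assoc, Category.assoc, kernel.lift_ι,
    kernel.lift_ι_assoc, h1]

lemma kerAlphaSC_epi_g (hα : α₀ ≫ πG = πF ≫ α) (hF : ψF ≫ πF = 0) (hG : ψG ≫ πG = 0)
    [Epi πF] (hG' : Epi (kernel.lift πG ψG hG)) :
    Epi (kerAlphaSC α πF πG α₀ ψF ψG hα hF hG).g := by
  change Epi (kernel.lift α (kernel.ι (phi α₀ ψG) ≫ biprod.fst ≫ πF) _)
  rw [epi_iff_surjective_up_to_refinements]
  intro T y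
  obtain ⟨T₁, π₁, hπ₁, x, hx⟩ := surjective_up_to_refinements_of_epi πF (y ≫ kernel.ι α)
  have h1 : (x ≫ α₀) ≫ πG = 0 := by
    rw [Category.assoc, hα, ← Category.assoc, ← hx, Category.assoc, Category.assoc,
      kernel.condition, comp_zero, comp_zero]
  obtain ⟨T₂, π₂, hπ₂, b, hb⟩ := surjective_up_to_refinements_of_epi
    (kernel.lift πG ψG hG) (kernel.lift πG _ h1)
  have hb' : b ≫ ψG = π₂ ≫ x ≫ α₀ := by
    have := hb =≫ kernel.ι πG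
    simpa using this.symm
  have h2 : biprod.lift (π₂ ≫ x) (-b) ≫ phi α₀ ψG = 0 := by
    unfold phi
    rw [biprod.lift_desc, Preadditive.neg_comp, hb', Category.assoc]
    simp
  refine ⟨T₂, π₂ ≫ π₁, inferInstance, kernel.lift _ _ h2, ?_⟩
  rw [← cancel_mono (kernel.ι α)]
  simp [hx]

/-- The kernel of `α` is a cokernel of a morphism between the kernels of `φ₂` and `φ`. -/
theorem nonempty_iso_cokernel (hα : α₀ ≫ πG = πF ≫ α) (hF : ψF ≫ πF = 0) (hG : ψG ≫ πG = 0)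
    [Epi πF] (hF' : Epi (kernel.lift πF ψF hF)) (hG' : Epi (kernel.lift πG ψG hG)) :
    Nonempty (cokernel (kerAlphaSC α πF πG α₀ ψF ψG hα hF hG).f ≅ kernel α) := by
  have h1 := kerAlphaSC_exact hα hF hG hF'
  have h2 := kerAlphaSC_epi_g hα hF hG hG'
  exact ⟨IsColimit.coconePointUniqueUpToIso (cokernelIsCokernel _) h1.gIsCokernel⟩

end AbstractKer

section Main

variable {C : Type u} [SmallCategory C] {J : GrothendieckTopology C}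
variable {O : Sheaf J CommRingCat.{u}} {B : Set C}
  (hB₁ : ∀ X : C, ∃ (κ : Type u) (Y : κ → C) (g : ∀ k, Y k ⟶ X),
    Sieve.ofArrows Y g ∈ J X ∧ ∀ k, Y k ∈ B)
  (hB₂ : ∀ U ∈ B, CohCx.IsQcObject ((presheafToSheaf J (Type u)).obj (yoneda.obj U)))
  [HasPullbacks C]
  (hB₃ : ∀ (U U₁ U₂ : C) (f₁ : U₁ ⟶ U) (f₂ : U₂ ⟶ U), U ∈ B → U₁ ∈ B → U₂ ∈ B →
    CohCx.IsQcObject ((presheafToSheaf J (Type u)).obj (yoneda.obj (pullback f₁ f₂))))

include hB₁ hB₂ hB₃ in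
/-- Lifting a morphism out of a finite free module along an epimorphism, after refinement. -/
theorem exists_refinement_lift_map {M N : Mod O} (p : M ⟶ N) [Epi p] {n : ℕ} (U : Fin n → C)
    (hU : ∀ i, U i ∈ B) (s : (∐ fun i => freeOn O (U i)) ⟶ N) :
    ∃ (P' : Mod O) (_ : IsBFree O B P') (ε : P' ⟶ ∐ fun i => freeOn O (U i)) (tt : P' ⟶ M),
      Epi ε ∧ tt ≫ p = ε ≫ s ∧ FGB O B (kernel ε) := by
  obtain ⟨ι, hι, Y, hY, g, t, hcov, ht⟩ := exists_refinement_lift hB₁ hB₂ p U hU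
    (fun i => Sigma.ι (fun i => freeOn O (U i)) i ≫ s)
  have hε : Epi (refMap (O := O) U ι Y g) := epi_refMap U ι Y g hcov
  refine ⟨_, isBFree_sigma (fun q : Σ i, ι i => Y q.1 q.2) (fun q => hY q.1 q.2),
    refMap (O := O) U ι Y g, Sigma.desc (fun q => t q.1 q.2), hε, ?_,
    fgb_kernel_refMap hB₁ hB₃ U hU ι Y hY g hcov⟩
  apply Sigma.hom_ext
  rintro ⟨i, k⟩
  rw [Sigma.ι_desc_assoc, ht, ι_refMap_assoc]

lemma FGB.exists_epi {K : Mod O} (h : FGB O B K) :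
    ∃ (P : Mod O) (_ : IsBFree O B P) (ψ : P ⟶ K), Epi ψ := by
  obtain ⟨n, Z, hZ, r, hr⟩ := h
  refine ⟨_, isBFree_sigma Z hZ, Sigma.desc r, ?_⟩
  apply Preadditive.epi_of_cancel_zero
  intro T h hh
  apply hr
  intro x
  rw [← Sigma.ι_desc r x, Category.assoc, hh, comp_zero]

include hB₁ hB₂ hB₃ in
theorem main9117
    (hker : ∀ (m n : ℕ) (V : Fin m → C) (U : Fin n → C)
      (φ : (∐ fun j => ModSite.freeOn O (V j)) ⟶ ∐ fun i => ModSite.freeOn O (U i)),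
      (∀ j, V j ∈ B) → (∀ i, U i ∈ B) → TypeA O B (kernel φ))
    {F G : Mod O} (α : F ⟶ G) (hF : TypeA O B F) (hG : TypeA O B G) :
    TypeA O B (kernel α) := by
  have hker' : ∀ {P Q : Mod O}, IsBFree O B P → IsBFree O B Q → ∀ φ : P ⟶ Q,
      TypeA O B (kernel φ) := by
    rintro P Q ⟨m, V, hV, ⟨eP⟩⟩ ⟨n, U, hU, ⟨eQ⟩⟩ φ
    have h1 := hker m n V U (eP.inv ≫ φ ≫ eQ.hom) hV hU
    exact h1.of_iso (kernelIsIsoComp eP.inv (φ ≫ eQ.hom) ≪≫ kernelCompMono φ eQ.hom)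
  obtain ⟨nF, UF, hUF, πF, hπF, hKF⟩ := hF.exists_epi
  obtain ⟨nG, UG, hUG, πG, hπG, hKG⟩ := hG.exists_epi
  obtain ⟨P₀', hP₀', ε, α₀, hε, hα₀, hKε⟩ :=
    exists_refinement_lift_map hB₁ hB₂ hB₃ πG UF hUF (πF ≫ α)
  have hKF' : FGB O B (kernel (ε ≫ πF)) :=
    FGB.of_shortExact hB₁ hB₂ (kerCompSC_shortExact ε πF) hKε hKF
  obtain ⟨P₁, hP₁, ψF0, hψF0⟩ := hKF'.exists_epi
  obtain ⟨Q₁, hQ₁, ψG0, hψG0⟩ := hKG.exists_epi
  have hF0 : (ψF0 ≫ kernel.ι (ε ≫ πF)) ≫ (ε ≫ πF) = 0 := by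
    rw [Category.assoc, kernel.condition, comp_zero]
  have hG0 : (ψG0 ≫ kernel.ι πG) ≫ πG = 0 := by
    rw [Category.assoc, kernel.condition, comp_zero]
  have hF' : Epi (kernel.lift (ε ≫ πF) (ψF0 ≫ kernel.ι (ε ≫ πF)) hF0) := by
    have : kernel.lift (ε ≫ πF) (ψF0 ≫ kernel.ι (ε ≫ πF)) hF0 = ψF0 := by
      rw [← cancel_mono (kernel.ι (ε ≫ πF)), kernel.lift_ι]
    rw [this]; exact hψF0
  have hG' : Epi (kernel.lift πG (ψG0 ≫ kernel.ι πG) hG0) := by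
    have : kernel.lift πG (ψG0 ≫ kernel.ι πG) hG0 = ψG0 := by
      rw [← cancel_mono (kernel.ι πG), kernel.lift_ι]
    rw [this]; exact hψG0
  have hα : α₀ ≫ πG = (ε ≫ πF) ≫ α := by rw [hα₀, Category.assoc]
  obtain ⟨e⟩ := nonempty_iso_cokernel hα hF0 hG0 hF' hG'
  have hK : TypeA O B (kernel (phi α₀ (ψG0 ≫ kernel.ι πG))) := hker' (hP₀'.biprod hQ₁) (isBFree_sigma UG hUG) _
  have hK₂ : TypeA O B (kernel (phi₂ α₀ (ψF0 ≫ kernel.ι (ε ≫ πF)) (ψG0 ≫ kernel.ι πG))) :=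
    hker' (hP₁.biprod hQ₁) (isBFree_sigma UG hUG) _
  exact (main9115 hB₁ hB₂ _ hK₂ hK).of_iso e

end Main

end Groth.Agent.Lib.Helper45.QcSum
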