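import Groth.Agent.Lib.Helper45.QcSum10

/-!
# A presented object is a filtered colimit of finitely presented pieces (abstract part)
-/

set_option autoImplicit false
set_option linter.style.haveILetI false
set_option linter.unusedSectionVars false

universe u w w' v' u'

open CategoryTheory CategoryTheory.Limits Opposite

namespace Groth.Agent.Lib.Helper45.QcSum

namespace FinPieces

variable {A : Type u'} [Category.{v'} A] [Abelian A] [HasCoproducts.{w} A]
variable {I Jx : Type w} (X : I → A) (Y : Jx → A)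

/-- The finite subsum indexed by `I₀`. -/
noncomputable def sub (I₀ : Finset I) : A := ∐ fun i : ↥I₀ => X i.1

/-- The inclusion between finite subsums. -/
noncomputable def inc {I₀ I₁ : Finset I} (h : I₀ ⊆ I₁) : sub X I₀ ⟶ sub X I₁ :=
  Sigma.desc (fun i => Sigma.ι (fun i : ↥I₁ => X i.1) ⟨i.1, h i.2⟩)

/-- The inclusion of a finite subsum. -/
noncomputable def incl (I₀ : Finset I) : sub X I₀ ⟶ ∐ X :=
  Sigma.desc (fun i => Sigma.ι X i.1)

/-- The inclusion of a summand. -/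
noncomputable def ιs (I₀ : Finset I) (i : I) (hi : i ∈ I₀) : X i ⟶ sub X I₀ :=
  Sigma.ι (fun i : ↥I₀ => X i.1) ⟨i, hi⟩

lemma sub_hom_ext {I₀ : Finset I} {T : A} (f g : sub X I₀ ⟶ T)
    (h : ∀ i (hi : i ∈ I₀), ιs X I₀ i hi ≫ f = ιs X I₀ i hi ≫ g) : f = g := by
  apply Sigma.hom_ext
  rintro ⟨i, hi⟩
  exact h i hi

@[reassoc (attr := simp)]
lemma ιs_inc {I₀ I₁ : Finset I} (h : I₀ ⊆ I₁) (i : I) (hi : i ∈ I₀) :
    ιs X I₀ i hi ≫ inc X h = ιs X I₁ i (h hi) :=
  Sigma.ι_desc (fun i : ↥I₀ => Sigma.ι (fun i : ↥I₁ => X i.1) ⟨i.1, h i.2⟩) ⟨i, hi⟩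

@[reassoc (attr := simp)]
lemma ιs_incl (I₀ : Finset I) (i : I) (hi : i ∈ I₀) :
    ιs X I₀ i hi ≫ incl X I₀ = Sigma.ι X i :=
  Sigma.ι_desc (fun i : ↥I₀ => Sigma.ι X i.1) ⟨i, hi⟩

@[reassoc (attr := simp)]
lemma inc_inc {I₀ I₁ I₂ : Finset I} (h : I₀ ⊆ I₁) (h' : I₁ ⊆ I₂) :
    inc X h ≫ inc X h' = inc X (h.trans h') := by
  apply sub_hom_ext
  intro i hi
  simp

@[reassoc (attr := simp)]
lemma inc_incl {I₀ I₁ : Finset I} (h : I₀ ⊆ I₁) : inc X h ≫ incl X I₁ = incl X I₀ := by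
  apply sub_hom_ext
  intro i hi
  simp

@[simp]
lemma inc_refl (I₀ : Finset I) : inc X (Finset.Subset.refl I₀) = 𝟙 _ := by
  apply sub_hom_ext
  intro i hi
  simp

/-- The index category of finite pieces. -/
def Lam (I Jx : Type w) : Type w := Finset I × Finset Jx

noncomputable instance : SemilatticeSup (Lam I Jx) := by
  classical
  exact inferInstanceAs (SemilatticeSup (Finset I × Finset Jx))

instance : Nonempty (Lam I Jx) := ⟨((∅ : Finset I), (∅ : Finset Jx))⟩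

variable {X Y}
variable (δ : ∀ j, Y j ⟶ ∐ X) (supp : Jx → Finset I) (δ₀ : ∀ j, Y j ⟶ sub X (supp j))
  (hδ : ∀ j, δ₀ j ≫ incl X (supp j) = δ j)

/-- The generators of a finite piece. -/
def gens [DecidableEq I] (l : Lam I Jx) : Finset I := l.1 ∪ l.2.biUnion supp

lemma gens_mono [DecidableEq I] {l l' : Lam I Jx} (h : l ≤ l') :
    gens supp l ⊆ gens supp l' := by
  unfold gens
  exact Finset.union_subset_union h.1 (Finset.biUnion_subset_biUnion_of_subset_left _ h.2)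

lemma supp_subset_gens [DecidableEq I] (l : Lam I Jx) {j : Jx} (hj : j ∈ l.2) :
    supp j ⊆ gens supp l := by
  unfold gens
  exact (Finset.subset_biUnion_of_mem supp hj).trans Finset.subset_union_right

lemma fst_subset_gens [DecidableEq I] (l : Lam I Jx) : l.1 ⊆ gens supp l :=
  Finset.subset_union_left

variable [DecidableEq I]

/-- The relations of a finite piece. -/
noncomputable def psi (l : Lam I Jx) :
    (∐ fun j : ↥l.2 => Y j.1) ⟶ sub X (gens supp l) :=
  Sigma.desc (fun j => δ₀ j.1 ≫ inc X (supp_subset_gens supp l j.2))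

@[reassoc]
lemma ι_psi (l : Lam I Jx) (j : Jx) (hj : j ∈ l.2) :
    Sigma.ι (fun j : ↥l.2 => Y j.1) ⟨j, hj⟩ ≫ psi supp δ₀ l =
      δ₀ j ≫ inc X (supp_subset_gens supp l hj) :=
  Sigma.ι_desc (fun j : ↥l.2 => δ₀ j.1 ≫ inc X (supp_subset_gens supp l j.2)) ⟨j, hj⟩

/-- The finite pieces. -/
noncomputable def Dobj (l : Lam I Jx) : A := cokernel (psi supp δ₀ l)

/-- The projection to a finite piece. -/
noncomputable def q (l : Lam I Jx) : sub X (gens supp l) ⟶ Dobj supp δ₀ l :=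
  cokernel.π _

instance (l : Lam I Jx) : Epi (q supp δ₀ l) :=
  inferInstanceAs (Epi (cokernel.π (psi supp δ₀ l)))

@[reassoc]
lemma psi_q (l : Lam I Jx) : psi supp δ₀ l ≫ q supp δ₀ l = 0 :=
  cokernel.condition _

lemma psi_inc_q {l l' : Lam I Jx} (h : l ≤ l') :
    psi supp δ₀ l ≫ inc X (gens_mono supp h) ≫ q supp δ₀ l' = 0 := by
  apply Sigma.hom_ext
  rintro ⟨j, hj⟩
  rw [ι_psi_assoc, comp_zero, inc_inc_assoc]
  have := ι_psi_assoc supp δ₀ l' j (h.2 hj) (q supp δ₀ l')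
  rw [psi_q, comp_zero] at this
  exact this.symm

/-- The transition maps. -/
noncomputable def Dmap {l l' : Lam I Jx} (h : l ≤ l') :
    Dobj supp δ₀ l ⟶ Dobj supp δ₀ l' :=
  cokernel.desc _ (inc X (gens_mono supp h) ≫ q supp δ₀ l') (psi_inc_q supp δ₀ h)

@[reassoc (attr := simp)]
lemma q_Dmap {l l' : Lam I Jx} (h : l ≤ l') :
    q supp δ₀ l ≫ Dmap supp δ₀ h = inc X (gens_mono supp h) ≫ q supp δ₀ l' :=
  cokernel.π_desc _ _ _

/-- The diagram of finite pieces. -/
noncomputable def D : Lam I Jx ⥤ A where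
  obj l := Dobj supp δ₀ l
  map f := Dmap supp δ₀ (leOfHom f)
  map_id l := by
    rw [← cancel_epi (q supp δ₀ l), q_Dmap, inc_refl, Category.id_comp, Category.comp_id]
  map_comp f g := by
    rw [← cancel_epi (q supp δ₀ _), q_Dmap, q_Dmap_assoc, q_Dmap, inc_inc_assoc]

variable {F : A} (π : (∐ X) ⟶ F)

include hδ in
lemma psi_incl_π (hπ : ∀ j, δ j ≫ π = 0) (l : Lam I Jx) :
    psi supp δ₀ l ≫ incl X (gens supp l) ≫ π = 0 := by
  apply Sigma.hom_ext
  rintro ⟨j, hj⟩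
  rw [ι_psi_assoc, comp_zero, inc_incl_assoc, ← Category.assoc, hδ, hπ]

/-- The cocone maps. -/
noncomputable def toF (hπ : ∀ j, δ j ≫ π = 0) (l : Lam I Jx) :
    Dobj supp δ₀ l ⟶ F :=
  cokernel.desc _ (incl X (gens supp l) ≫ π) (psi_incl_π δ supp δ₀ hδ π hπ l)

@[reassoc (attr := simp)]
lemma q_toF (hπ : ∀ j, δ j ≫ π = 0) (l : Lam I Jx) :
    q supp δ₀ l ≫ toF δ supp δ₀ hδ π hπ l = incl X (gens supp l) ≫ π :=
  cokernel.π_desc _ _ _

/-- The cocone of finite pieces over `F`. -/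
noncomputable def cocone (hπ : ∀ j, δ j ≫ π = 0) : Cocone (D supp δ₀) where
  pt := F
  ι :=
    { app := fun l => toF δ supp δ₀ hδ π hπ l
      naturality := by
        intro l l' f
        change Dmap supp δ₀ (leOfHom f) ≫ toF δ supp δ₀ hδ π hπ l' =
          toF δ supp δ₀ hδ π hπ l ≫ 𝟙 F
        rw [Category.comp_id, ← cancel_epi (q supp δ₀ l), q_Dmap_assoc, q_toF, q_toF,
          inc_incl_assoc] }

section Colimit

variable (hc : IsCokerFam δ π) (s : Cocone (D supp δ₀))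

/-- The singleton piece. -/
def sing (i : I) : Lam I Jx := (({i} : Finset I), (∅ : Finset Jx))

lemma mem_gens_sing (i : I) : i ∈ gens supp (sing (Jx := Jx) i) :=
  fst_subset_gens supp _ (Finset.mem_singleton_self i)

/-- The component of the induced map. -/
noncomputable def hcomp (i : I) : X i ⟶ s.pt :=
  ιs X (gens supp (sing i)) i (mem_gens_sing supp i) ≫ q supp δ₀ (sing i) ≫ s.ι.app (sing i)

lemma ιs_q_ι_of_le {l l' : Lam I Jx} (h : l ≤ l') (i : I) (hi : i ∈ gens supp l) :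
    ιs X (gens supp l) i hi ≫ q supp δ₀ l ≫ s.ι.app l =
      ιs X (gens supp l') i (gens_mono supp h hi) ≫ q supp δ₀ l' ≫ s.ι.app l' := by
  have hw : Dmap supp δ₀ h ≫ s.ι.app l' = s.ι.app l := s.w (homOfLE h)
  rw [← hw, q_Dmap_assoc, ιs_inc_assoc]

lemma ιs_q_ι (l : Lam I Jx) (i : I) (hi : i ∈ gens supp l) :
    ιs X (gens supp l) i hi ≫ q supp δ₀ l ≫ s.ι.app l = hcomp supp δ₀ s i := by
  unfold hcomp
  rw [ιs_q_ι_of_le supp δ₀ s (le_sup_left : l ≤ l ⊔ sing i) i hi,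
    ιs_q_ι_of_le supp δ₀ s (le_sup_right : sing i ≤ l ⊔ sing i) i (mem_gens_sing supp i)]

/-- The induced map on the big coproduct. -/
noncomputable def hbig : (∐ X) ⟶ s.pt := Sigma.desc (hcomp supp δ₀ s)

lemma incl_hbig (l : Lam I Jx) :
    incl X (gens supp l) ≫ hbig supp δ₀ s = q supp δ₀ l ≫ s.ι.app l := by
  apply sub_hom_ext
  intro i hi
  rw [ιs_incl_assoc, ιs_q_ι]
  exact Sigma.ι_desc _ _

include hδ in
lemma δ_hbig (j : Jx) : δ j ≫ hbig supp δ₀ s = 0 := by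
  let l : Lam I Jx := ((∅ : Finset I), ({j} : Finset Jx))
  have hj : j ∈ l.2 := Finset.mem_singleton_self j
  rw [← hδ j, Category.assoc, ← inc_incl X (supp_subset_gens supp l hj), Category.assoc,
    incl_hbig, ← Category.assoc, ← Category.assoc, ← ι_psi supp δ₀ l j hj, Category.assoc,
    Category.assoc, psi_q_assoc, zero_comp, comp_zero]

/-- The induced map out of `F`. -/
noncomputable def descF : F ⟶ s.pt :=
  (hc.fac (hbig supp δ₀ s) (δ_hbig δ supp δ₀ hδ s)).choose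

lemma π_descF : π ≫ descF δ supp δ₀ hδ π hc s = hbig supp δ₀ s :=
  (hc.fac (hbig supp δ₀ s) (δ_hbig δ supp δ₀ hδ s)).choose_spec

lemma descF_unique (m : F ⟶ s.pt)
    (hm : ∀ l, toF δ supp δ₀ hδ π hc.zero l ≫ m = s.ι.app l) :
    m = descF δ supp δ₀ hδ π hc s := by
  have := hc.epi
  rw [← cancel_epi π, π_descF]
  apply Sigma.hom_ext
  intro i
  have h1 := hm (sing i)
  have h2 : Sigma.ι X i ≫ π ≫ m = hcomp supp δ₀ s i := by
    unfold hcomp
    rw [← h1, q_toF_assoc, ιs_incl_assoc]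
  rw [h2]
  exact (Sigma.ι_desc _ _).symm

/-- The finite pieces form a colimit cocone over `F`. -/
noncomputable def isColimit : IsColimit (cocone δ supp δ₀ hδ π hc.zero) where
  desc s := descF δ supp δ₀ hδ π hc s
  fac s l := by
    change toF δ supp δ₀ hδ π hc.zero l ≫ _ = _
    rw [← cancel_epi (q supp δ₀ l), q_toF_assoc, π_descF, incl_hbig]
  uniq s m hm := descF_unique δ supp δ₀ hδ π hc s m hm

end Colimit

end FinPieces

end Groth.Agent.Lib.Helper45.QcSum
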