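import Groth.Agent.Lib.Helper45.QcSum11

/-!
# Every module is a filtered colimit of modules of type A
-/

set_option autoImplicit false
set_option linter.style.haveILetI false
set_option linter.unusedSectionVars false

universe u w w' v' u'

open CategoryTheory CategoryTheory.Limits Opposite ModSite

namespace Groth.Agent.Lib.Helper45.QcSum

/-- In a colimit cocone of abelian groups over a discrete diagram, a subgroup containing the
images of all components is everything. -/
lemma eq_top_of_isColimit {I : Type w} {K : Discrete I ⥤ AddCommGrpCat.{u}} {d : Cocone K}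
    (hd : IsColimit d) (T : AddSubgroup d.pt) (hT : ∀ (i : Discrete I) (z : K.obj i),
      d.ι.app i z ∈ T) : T = ⊤ := by
  let q : d.pt ⟶ AddCommGrpCat.of (d.pt ⧸ T) := AddCommGrpCat.ofHom (QuotientAddGroup.mk' T)
  have hq : q = 0 := by
    apply hd.hom_ext
    intro i
    ext z
    change QuotientAddGroup.mk' T (d.ι.app i z) = 0
    rw [QuotientAddGroup.mk'_apply, QuotientAddGroup.eq_zero_iff]
    exact hT i z
  rw [eq_top_iff]
  intro p _
  have := ConcreteCategory.congr_hom hq p
  change QuotientAddGroup.mk' T p = 0 at this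
  rwa [QuotientAddGroup.mk'_apply, QuotientAddGroup.eq_zero_iff] at this

variable {C : Type u} [SmallCategory C] {J : GrothendieckTopology C}
variable {O : Sheaf J CommRingCat.{u}}

open FinPieces in
/-- Morphisms from `freeOn O V` with `V` quasi-compact to a direct sum factor through a finite
subsum. -/
theorem exists_factor_finset {V : C}
    (hV : CohCx.IsQcObject ((presheafToSheaf J (Type u)).obj (yoneda.obj V)))
    {I : Type u} (X : I → Mod O) (δ : freeOn O V ⟶ ∐ X) :
    ∃ (I₀ : Finset I) (δ₀ : freeOn O V ⟶ sub X I₀), δ₀ ≫ incl X I₀ = δ := by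
  classical
  have := main9103 O V hV I
  have hd := isColimitOfPreserves (preadditiveCoyoneda.obj (op (freeOn O V)))
    (colimit.isColimit (Discrete.functor X))
  let T : AddSubgroup (freeOn O V ⟶ ∐ X) :=
    { carrier := {δ | ∃ (I₀ : Finset I) (δ₀ : freeOn O V ⟶ sub X I₀), δ₀ ≫ incl X I₀ = δ}
      add_mem' := by
        rintro a b ⟨I₀, a₀, rfl⟩ ⟨I₁, b₀, rfl⟩
        refine ⟨I₀ ∪ I₁, a₀ ≫ inc X Finset.subset_union_left +
          b₀ ≫ inc X Finset.subset_union_right, ?_⟩
        rw [Preadditive.add_comp, Category.assoc, Category.assoc, inc_incl, inc_incl]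
      zero_mem' := ⟨∅, 0, zero_comp⟩
      neg_mem' := by
        rintro a ⟨I₀, a₀, rfl⟩
        exact ⟨I₀, -a₀, Preadditive.neg_comp _ _⟩ }
  have hT : T = ⊤ := by
    refine eq_top_of_isColimit hd T ?_
    rintro ⟨i⟩ z
    change freeOn O V ⟶ X i at z
    refine ⟨{i}, z ≫ ιs X {i} i (Finset.mem_singleton_self i), ?_⟩
    rw [Category.assoc, ιs_incl]
    rfl
  have hδ : δ ∈ T := by rw [hT]; trivial
  exact hδ

variable (B : Set C)
  (hB₁ : ∀ X : C, ∃ (κ : Type u) (Y : κ → C) (g : ∀ k, Y k ⟶ X),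
    Sieve.ofArrows Y g ∈ J X ∧ ∀ k, Y k ∈ B)

include hB₁ in
/-- The sections over members of `B` generate a module. -/
lemma jEpi_allSections (M : Mod O) :
    JEpi (fun p : (Σ U : C, {_s : M.val.obj (op U) // U ∈ B}) => ofSec O p.2.1) := by
  intro T h hh
  have h1 : ∀ (U : C) (_ : U ∈ B) (s : M.val.obj (op U)), h.val.app (op U) s = 0 := by
    intro U hU s
    have := hh ⟨U, s, hU⟩
    rw [ofSec_comp, ← ofSec_zero] at this
    exact ofSec_injective O this
  have h2 : ∀ (V : C) (x : M.val.obj (op V)), h.val.app (op V) x = 0 := by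
    intro V x
    obtain ⟨κ, Y, g, hg, hY⟩ := hB₁ V
    refine sec_ext O T _ hg _ _ ?_
    rintro W f ⟨Z, a, b, ⟨k⟩, rfl⟩
    rw [res_comp, ← app_res, h1 _ (hY k), res_comp, res_zero, res_zero, res_zero]
  apply SheafOfModules.hom_ext
  apply PresheafOfModules.hom_ext
  intro V
  ext x
  exact h2 V.unop x

variable (hB₂ : ∀ U ∈ B, CohCx.IsQcObject ((presheafToSheaf J (Type u)).obj (yoneda.obj U)))

include hB₁ hB₂ in
open FinPieces in
theorem main9114 (F : Mod O) :
    ∃ (Λ : Type u) (_ : SmallCategory Λ) (_ : IsFiltered Λ) (D : Λ ⥤ ModSite.Mod O)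
      (ι : D ⟶ (Functor.const Λ).obj F),
      (∀ l, TypeA O B (D.obj l)) ∧ Nonempty (IsColimit (Cocone.mk F ι)) := by
  classical
  let I := Σ U : C, {_s : F.val.obj (op U) // U ∈ B}
  let X : I → Mod O := fun p => freeOn O p.1
  let π : (∐ X) ⟶ F := Sigma.desc (fun p => ofSec O p.2.1)
  have hπ : Epi π := by
    apply Preadditive.epi_of_cancel_zero
    intro T h hh
    apply jEpi_allSections B hB₁ F
    intro p
    have := Sigma.ι_desc (fun p : I => ofSec O p.2.1) p
    change ofSec O p.2.1 ≫ h = 0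
    rw [← this, Category.assoc]
    exact (congrArg (fun k => Sigma.ι X p ≫ k) hh).trans comp_zero
  let Jx := Σ V : C, {_t : (kernel π).val.obj (op V) // V ∈ B}
  let Y : Jx → Mod O := fun q => freeOn O q.1
  let r : ∀ q : Jx, Y q ⟶ kernel π := fun q => ofSec O q.2.1
  have hr : JEpi r := jEpi_allSections B hB₁ (kernel π)
  let δ : ∀ q : Jx, Y q ⟶ ∐ X := fun q => r q ≫ kernel.ι π
  have hc : IsCokerFam δ π := isCokerFam_of_jEpi_kernel π r hr
  choose supp δ₀ hδ using fun q : Jx => exists_factor_finset (hB₂ q.1 q.2.2) X (δ q)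
  refine ⟨Lam I Jx, inferInstance, inferInstance, FinPieces.D supp δ₀,
    (cocone δ supp δ₀ hδ π hc.zero).ι, ?_, ⟨isColimit δ supp δ₀ hδ π hc⟩⟩
  intro l
  have h1 : IsCokerFam
      (fun j : ↥l.2 => Sigma.ι (fun j : ↥l.2 => Y j.1) j ≫ psi supp δ₀ l)
      (cokernel.π (psi supp δ₀ l)) :=
    isCokerFam_cokernel _ (jEpi_of_isColimit _ (coproductIsCoproduct _)) _
  exact typeA_of_isCokerFam (fun i : ↥(gens supp l) => i.1.1) (fun j : ↥l.2 => j.1.1)
    (fun i => i.1.2.2) (fun j => j.1.2.2) _ _ h1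

end Groth.Agent.Lib.Helper45.QcSum
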