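import Groth.Agent.Lib.Helper45.QcSum1

/-!
# Sections over a quasi-compact object commute with direct sums (abelian sheaves)
-/

set_option autoImplicit false
set_option linter.style.haveILetI false
set_option linter.unusedSectionVars false

universe u

open CategoryTheory CategoryTheory.Limits Opposite

namespace Groth.Agent.Lib.Helper45.QcSum

variable {C : Type u} [SmallCategory C] {J : GrothendieckTopology C}

/-- Sections of a morphism of abelian sheaves, as an additive map, additively in the morphism. -/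
def secHom (A B : Sheaf J AddCommGrpCat.{u}) (V : C) :
    (A ⟶ B) →+ (A.obj.obj (op V) →+ B.obj.obj (op V)) where
  toFun φ := (φ.hom.app (op V)).hom
  map_zero' := rfl
  map_add' _ _ := rfl

/-- Sections of a morphism of abelian sheaves. -/
abbrev sec {A B : Sheaf J AddCommGrpCat.{u}} (φ : A ⟶ B) (V : C) :
    A.obj.obj (op V) →+ B.obj.obj (op V) := secHom A B V φ

lemma sec_comp {A B D : Sheaf J AddCommGrpCat.{u}} (φ : A ⟶ B) (ψ : B ⟶ D) (V : C)
    (x : A.obj.obj (op V)) : sec (φ ≫ ψ) V x = sec ψ V (sec φ V x) := rfl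

lemma sec_id {A : Sheaf J AddCommGrpCat.{u}} (V : C) (x : A.obj.obj (op V)) :
    sec (𝟙 A) V x = x := rfl

lemma sec_zero {A B : Sheaf J AddCommGrpCat.{u}} (V : C) (x : A.obj.obj (op V)) :
    sec (0 : A ⟶ B) V x = 0 := rfl

lemma sec_sum {A B : Sheaf J AddCommGrpCat.{u}} {ι : Type*} (s : Finset ι) (φ : ι → (A ⟶ B))
    (V : C) (x : A.obj.obj (op V)) : sec (∑ i ∈ s, φ i) V x = ∑ i ∈ s, sec (φ i) V x := by
  change secHom A B V (∑ i ∈ s, φ i) x = _
  rw [map_sum, AddMonoidHom.finsetSum_apply]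

lemma sec_res {A B : Sheaf J AddCommGrpCat.{u}} (φ : A ⟶ B) {V V' : C} (g : V' ⟶ V)
    (x : A.obj.obj (op V)) :
    sec φ V' (A.obj.map g.op x) = B.obj.map g.op (sec φ V x) :=
  NatTrans.naturality_apply φ.hom g.op x

section Core

variable {ι : Type u} {f : ι → Sheaf J AddCommGrpCat.{u}} (c : Cofan f) (hc : IsColimit c)

open Classical in
include hc in
/-- The projection of a coproduct to a summand. -/
noncomputable def π (i : ι) : c.pt ⟶ f i :=
  Cofan.IsColimit.desc hc (fun j => if h : j = i then eqToHom (by rw [h]) else 0)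

open Classical in
lemma inj_π (j i : ι) :
    c.inj j ≫ π c hc i = if h : j = i then eqToHom (by rw [h]) else 0 := by
  unfold π
  rw [Cofan.IsColimit.fac]

lemma inj_π_self (i : ι) : c.inj i ≫ π c hc i = 𝟙 _ := by
  rw [inj_π]; simp

lemma inj_π_ne {j i : ι} (h : j ≠ i) : c.inj j ≫ π c hc i = 0 := by
  rw [inj_π]; simp [h]

/-- The idempotent endomorphism of the coproduct projecting to a finite subsum. -/
noncomputable def e (I₀ : Finset ι) : c.pt ⟶ c.pt := ∑ i ∈ I₀, π c hc i ≫ c.inj i

lemma inj_e (j : ι) (I₀ : Finset ι) [Decidable (j ∈ I₀)] :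
    c.inj j ≫ e c hc I₀ = if j ∈ I₀ then c.inj j else 0 := by
  classical
  unfold e
  rw [Preadditive.comp_sum]
  have : ∀ i ∈ I₀, c.inj j ≫ π c hc i ≫ c.inj i = if i = j then c.inj j else 0 := by
    intro i _
    by_cases h : j = i
    · subst h
      rw [reassoc_of% (inj_π_self c hc j)]; simp
    · rw [reassoc_of% (inj_π_ne c hc h)]
      simp [Ne.symm h]
  rw [Finset.sum_congr rfl this, Finset.sum_ite_eq' I₀ j]
  congr

lemma e_π_of_notMem (I₀ : Finset ι) {j : ι} (hj : j ∉ I₀) : e c hc I₀ ≫ π c hc j = 0 := by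
  unfold e
  rw [Preadditive.sum_comp]
  apply Finset.sum_eq_zero
  intro i hi
  have : i ≠ j := fun h => hj (h ▸ hi)
  rw [Category.assoc, inj_π_ne c hc this, comp_zero]

lemma e_e_of_subset {I₀ I₁ : Finset ι} (h : I₀ ⊆ I₁) : e c hc I₀ ≫ e c hc I₁ = e c hc I₀ := by
  classical
  rw [show e c hc I₀ = ∑ i ∈ I₀, π c hc i ≫ c.inj i from rfl, Preadditive.sum_comp]
  apply Finset.sum_congr rfl
  intro i hi
  rw [Category.assoc]
  have : c.inj i ≫ e c hc I₁ = c.inj i := by
    rw [inj_e]; simp [h hi]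
  rw [this]

/-- A section lies in the finite subsum indexed by `I₀`. -/
def InFin (I₀ : Finset ι) {V : C} (x : c.pt.obj.obj (op V)) : Prop := sec (e c hc I₀) V x = x

lemma InFin.mono {I₀ I₁ : Finset ι} (h : I₀ ⊆ I₁) {V : C} {x : c.pt.obj.obj (op V)}
    (hx : InFin c hc I₀ x) : InFin c hc I₁ x := by
  unfold InFin at hx ⊢
  conv_lhs => rw [← hx]
  rw [← sec_comp, e_e_of_subset c hc h, hx]

lemma InFin.π_eq_zero {I₀ : Finset ι} {V : C} {x : c.pt.obj.obj (op V)}
    (hx : InFin c hc I₀ x) {j : ι} (hj : j ∉ I₀) : sec (π c hc j) V x = 0 := by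
  unfold InFin at hx
  rw [← hx, ← sec_comp, e_π_of_notMem c hc I₀ hj, sec_zero]

lemma InFin.res {I₀ : Finset ι} {V V' : C} {x : c.pt.obj.obj (op V)}
    (hx : InFin c hc I₀ x) (g : V' ⟶ V) : InFin c hc I₀ (c.pt.obj.map g.op x) := by
  unfold InFin at hx ⊢
  rw [sec_res, hx]

lemma inFin_inj {I₀ : Finset ι} {i : ι} (hi : i ∈ I₀) {V : C} (z : (f i).obj.obj (op V)) :
    InFin c hc I₀ (sec (c.inj i) V z) := by
  classical
  unfold InFin
  rw [← sec_comp, inj_e]
  simp [hi]

lemma inFin_add {I₀ : Finset ι} {V : C} {x y : c.pt.obj.obj (op V)}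
    (hx : InFin c hc I₀ x) (hy : InFin c hc I₀ y) : InFin c hc I₀ (x + y) := by
  unfold InFin at hx hy ⊢
  rw [map_add, hx, hy]

lemma inFin_neg {I₀ : Finset ι} {V : C} {x : c.pt.obj.obj (op V)}
    (hx : InFin c hc I₀ x) : InFin c hc I₀ (-x) := by
  unfold InFin at hx ⊢
  rw [map_neg, hx]

lemma inFin_zero (I₀ : Finset ι) {V : C} : InFin c hc I₀ (0 : c.pt.obj.obj (op V)) := by
  unfold InFin
  rw [map_zero]

/-- Local finiteness of the sections of a coproduct. -/
def LocFin : Prop :=
  ∀ (V : C) (x : c.pt.obj.obj (op V)), ∃ S ∈ J V, ∀ (V' : C) (g : V' ⟶ V), S g →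
    ∃ I₀ : Finset ι, InFin c hc I₀ (c.pt.obj.map g.op x)

theorem exists_inFin (hLF : LocFin c hc) {W : C} (hW : CohCx.IsQcObject (hs J W))
    (x : c.pt.obj.obj (op W)) : ∃ I₀ : Finset ι, InFin c hc I₀ x := by
  classical
  obtain ⟨S, hS, hx⟩ := hLF W x
  have hgen : Sieve.generate S.arrows ∈ J W := by
    rw [Sieve.generate_sieve]; exact hS
  obtain ⟨t, ht⟩ := exists_finite_of_generate_mem hW S.arrows hgen
  choose Ig hIg using fun (i : Σ V : C, {g : V ⟶ W // S.arrows g}) => hx i.1 i.2.1 i.2.2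
  refine ⟨t.biUnion Ig, ?_⟩
  unfold InFin
  refine Sheaf.isSeparated c.pt W _ ht _ _ ?_
  intro Y g hg
  obtain ⟨Z, a, b, hb, rfl⟩ := hg
  obtain ⟨i⟩ := hb
  rw [op_comp, Functor.map_comp_apply, Functor.map_comp_apply]
  congr 1
  have h1 := (hIg i.1).mono c hc (Finset.subset_biUnion_of_mem Ig i.2)
  unfold InFin at h1
  rw [← sec_res]
  exact h1

section Desc

variable {W : C} (hfin : ∀ x : c.pt.obj.obj (op W), ∃ I₀ : Finset ι, InFin c hc I₀ x)
  (s : Cocone (Discrete.functor f ⋙ (sheafSections J AddCommGrpCat.{u}).obj (op W)))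

/-- The component of a cocone as an additive map. -/
def sι (i : ι) : (f i).obj.obj (op W) →+ s.pt := (s.ι.app ⟨i⟩).hom

include hfin in
lemma support_finite (x : c.pt.obj.obj (op W)) :
    (Function.support fun i => sι s i (sec (π c hc i) W x)).Finite := by
  obtain ⟨I₀, hx⟩ := hfin x
  refine Set.Finite.subset (Finset.finite_toSet I₀) ?_
  intro i hi
  by_contra hi'
  apply hi
  change sι s i (sec (π c hc i) W x) = 0
  rw [hx.π_eq_zero c hc (by simpa using hi'), map_zero]

/-- The map induced on the sections of the coproduct by a cocone. -/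
noncomputable def descHom : c.pt.obj.obj (op W) →+ s.pt :=
  AddMonoidHom.mk' (fun x => ∑ᶠ i, sι s i (sec (π c hc i) W x)) (by
    intro x y
    rw [← finsum_add_distrib (support_finite c hc hfin s x) (support_finite c hc hfin s y)]
    congr 1
    funext i
    rw [map_add, map_add])

lemma descHom_apply (x : c.pt.obj.obj (op W)) :
    descHom c hc hfin s x = ∑ᶠ i, sι s i (sec (π c hc i) W x) := rfl

lemma descHom_inj (j : ι) (z : (f j).obj.obj (op W)) :
    descHom c hc hfin s (sec (c.inj j) W z) = sι s j z := by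
  rw [descHom_apply, finsum_eq_single _ j]
  · rw [← sec_comp, inj_π_self, sec_id]
  · intro i hi
    rw [← sec_comp, inj_π_ne c hc (Ne.symm hi), sec_zero, map_zero]

lemma descHom_unique (m : c.pt.obj.obj (op W) →+ s.pt)
    (hm : ∀ (j : ι) (z : (f j).obj.obj (op W)), m (sec (c.inj j) W z) = sι s j z)
    (x : c.pt.obj.obj (op W)) : m x = descHom c hc hfin s x := by
  obtain ⟨I₀, hx⟩ := hfin x
  have h1 : x = ∑ i ∈ I₀, sec (c.inj i) W (sec (π c hc i) W x) := by
    conv_lhs => rw [← hx]
    unfold e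
    rw [sec_sum]
    rfl
  have h2 : ∀ m' : c.pt.obj.obj (op W) →+ s.pt,
      (∀ (j : ι) (z : (f j).obj.obj (op W)), m' (sec (c.inj j) W z) = sι s j z) →
      m' x = ∑ i ∈ I₀, sι s i (sec (π c hc i) W x) := by
    intro m' hm'
    conv_lhs => rw [h1]
    rw [map_sum]
    exact Finset.sum_congr rfl (fun i _ => hm' i _)
  rw [h2 m hm, h2 _ (descHom_inj c hc hfin s)]

/-- The sections over `W` of a coproduct cocone form a colimit cocone. -/
noncomputable def isColimitMap :
    IsColimit (((sheafSections J AddCommGrpCat.{u}).obj (op W)).mapCocone c) where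
  desc s := AddCommGrpCat.ofHom (descHom c hc hfin s)
  fac s j := by
    obtain ⟨j⟩ := j
    ext z
    exact descHom_inj c hc hfin s j z
  uniq s m hm := by
    ext x
    refine descHom_unique c hc hfin s m.hom (fun j z => ?_) x
    have := ConcreteCategory.congr_hom (hm ⟨j⟩) z
    exact this

end Desc

end Core

section Specific

variable {ι : Type u} (f : ι → Sheaf J AddCommGrpCat.{u})

/-- The presheaf-level colimit cocone. -/
noncomputable abbrev preCocone :
    Cocone (Discrete.functor f ⋙ sheafToPresheaf J AddCommGrpCat.{u}) :=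
  colimit.cocone _

/-- The colimit cofan obtained by sheafification. -/
noncomputable abbrev shCofan : Cofan f := Sheaf.sheafifyCocone (preCocone f)

/-- It is a colimit. -/
noncomputable def shCofanIsColimit : IsColimit (shCofan (J := J) f) :=
  Sheaf.isColimitSheafifyCocone _ (colimit.isColimit _)

lemma shCofan_inj_apply (i : ι) (V : C) (z : (f i).obj.obj (op V)) :
    sec ((shCofan f).inj i) V z =
      (toSheafify J (preCocone f).pt).app (op V) (((preCocone f).ι.app ⟨i⟩).app (op V) z) := by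
  have h := Sheaf.sheafifyCocone_ι_app_val (preCocone f) ⟨i⟩
  have := ConcreteCategory.congr_hom (congrArg (fun φ => φ.app (op V)) h) z
  exact this

/-- The subgroup of presheaf-level sections whose image lies in a finite subsum. -/
noncomputable def goodSubgroup (V : C) : AddSubgroup ((preCocone f).pt.obj (op V)) where
  carrier := {p | ∃ I₀ : Finset ι, InFin (shCofan f) (shCofanIsColimit f) I₀
    ((toSheafify J (preCocone f).pt).app (op V) p)}
  add_mem' := by
    classical
    rintro p q ⟨I₀, hp⟩ ⟨I₁, hq⟩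
    refine ⟨I₀ ∪ I₁, ?_⟩
    rw [map_add]
    exact inFin_add _ _ (hp.mono _ _ Finset.subset_union_left)
      (hq.mono _ _ Finset.subset_union_right)
  zero_mem' := ⟨∅, by rw [map_zero]; exact inFin_zero _ _ _⟩
  neg_mem' := by
    rintro p ⟨I₀, hp⟩
    refine ⟨I₀, ?_⟩
    rw [map_neg]
    exact inFin_neg _ _ hp

lemma goodSubgroup_eq_top (V : C) : goodSubgroup f V = ⊤ := by
  have hEV := isColimitOfPreserves ((evaluation Cᵒᵖ AddCommGrpCat.{u}).obj (op V))
    (colimit.isColimit (Discrete.functor f ⋙ sheafToPresheaf J AddCommGrpCat.{u}))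
  let q : (preCocone f).pt.obj (op V) ⟶
      AddCommGrpCat.of ((preCocone f).pt.obj (op V) ⧸ goodSubgroup f V) :=
    AddCommGrpCat.ofHom (QuotientAddGroup.mk' (goodSubgroup f V))
  have hq : q = 0 := by
    apply hEV.hom_ext
    rintro ⟨i⟩
    ext z
    change QuotientAddGroup.mk' (goodSubgroup f V) (((preCocone f).ι.app ⟨i⟩).app (op V) z) = 0
    rw [QuotientAddGroup.mk'_apply, QuotientAddGroup.eq_zero_iff]
    refine ⟨{i}, ?_⟩
    rw [← shCofan_inj_apply]
    exact inFin_inj _ _ (Finset.mem_singleton_self i) z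
  rw [eq_top_iff]
  intro p _
  have := ConcreteCategory.congr_hom hq p
  change QuotientAddGroup.mk' (goodSubgroup f V) p = 0 at this
  rwa [QuotientAddGroup.mk'_apply, QuotientAddGroup.eq_zero_iff] at this

lemma locFin_shCofan : LocFin (shCofan f) (shCofanIsColimit (J := J) f) := by
  intro V x
  refine ⟨_, Presheaf.imageSieve_mem J (toSheafify J (preCocone f).pt) x, ?_⟩
  intro V' g hg
  obtain ⟨p, hp⟩ := hg
  have hp' : p ∈ goodSubgroup f V' := by rw [goodSubgroup_eq_top]; trivial
  obtain ⟨I₀, hI⟩ := hp'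
  refine ⟨I₀, ?_⟩
  rw [hp] at hI
  exact hI

end Specific

/-- Sections over a quasi-compact object commute with direct sums of abelian sheaves. -/
theorem preservesColimitsOfShape_sections {W : C} (hW : CohCx.IsQcObject (hs J W)) (ι : Type u) :
    PreservesColimitsOfShape (Discrete ι) ((sheafSections J AddCommGrpCat.{u}).obj (op W)) := by
  constructor
  intro K
  let f : ι → Sheaf J AddCommGrpCat.{u} := K.obj ∘ Discrete.mk
  have h : PreservesColimit (Discrete.functor f)
      ((sheafSections J AddCommGrpCat.{u}).obj (op W)) :=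
    preservesColimit_of_preserves_colimit_cocone (shCofanIsColimit f)
      (isColimitMap _ _ (fun x => exists_inFin _ _ (locFin_shCofan f) hW x))
  exact preservesColimit_of_iso_diagram _ (Discrete.natIsoFunctor (F := K)).symm

end Groth.Agent.Lib.Helper45.QcSum
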