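import Groth.Agent.Lib.Helper45.QcSum4

/-!
# Cokernels of families and modules of type A
-/

set_option autoImplicit false
set_option linter.style.haveILetI false
set_option linter.unusedSectionVars false

universe u w w' v' u'

open CategoryTheory CategoryTheory.Limits Opposite ModSite

namespace Groth.Agent.Lib.Helper45.QcSum

section Abstract

variable {A : Type u'} [Category.{v'} A] [Abelian A]

/-- `π` is a cokernel of the family of morphisms `δ`. -/
structure IsCokerFam {κ : Type w} {X : κ → A} {Q M : A} (δ : ∀ x, X x ⟶ Q) (π : Q ⟶ M) :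
    Prop where
  zero : ∀ x, δ x ≫ π = 0
  epi : Epi π
  fac : ∀ {T : A} (h : Q ⟶ T), (∀ x, δ x ≫ h = 0) → ∃ h' : M ⟶ T, π ≫ h' = h

/-- A jointly epimorphic family (tested against zero). -/
def JEpi {κ : Type w} {X : κ → A} {F : A} (u : ∀ x, X x ⟶ F) : Prop :=
  ∀ {T : A} (h : F ⟶ T), (∀ x, u x ≫ h = 0) → h = 0

lemma jEpi_of_isColimit {κ : Type w} {X : κ → A} (c : Cofan X) (hc : IsColimit c) :
    JEpi c.inj := by
  intro T h hh
  apply Cofan.IsColimit.hom_ext hc
  intro x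
  rw [hh x, comp_zero]

lemma JEpi.comp_epi {κ : Type w} {X : κ → A} {F G : A} {u : ∀ x, X x ⟶ F} (hu : JEpi u)
    (p : F ⟶ G) [Epi p] : JEpi (fun x => u x ≫ p) := by
  intro T h hh
  have := hu (p ≫ h) (fun x => by rw [← Category.assoc]; exact hh x)
  rwa [← cancel_epi p, comp_zero]

lemma isCokerFam_cokernel {κ : Type w} {X : κ → A} {P Q : A} (u : ∀ x, X x ⟶ P) (hu : JEpi u)
    (ψ : P ⟶ Q) : IsCokerFam (fun x => u x ≫ ψ) (cokernel.π ψ) where
  zero x := by rw [Category.assoc, cokernel.condition, comp_zero]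
  epi := inferInstance
  fac h hh := by
    have : ψ ≫ h = 0 := hu _ (fun x => by rw [← Category.assoc]; exact hh x)
    exact ⟨cokernel.desc ψ h this, cokernel.π_desc _ _ _⟩

lemma IsCokerFam.comp_iso {κ : Type w} {X : κ → A} {Q M M' : A} {δ : ∀ x, X x ⟶ Q} {π : Q ⟶ M}
    (h : IsCokerFam δ π) (e : M ≅ M') : IsCokerFam δ (π ≫ e.hom) where
  zero x := by rw [← Category.assoc, h.zero, zero_comp]
  epi := by have := h.epi; infer_instance
  fac k hk := by
    obtain ⟨k', hk'⟩ := h.fac k hk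
    exact ⟨e.inv ≫ k', by rw [Category.assoc, e.hom_inv_id_assoc, hk']⟩

lemma IsCokerFam.reindex {κ : Type w} {κ' : Type w'} {X : κ → A} {Q M : A} {δ : ∀ x, X x ⟶ Q}
    {π : Q ⟶ M} (h : IsCokerFam δ π) (e : κ' ≃ κ) : IsCokerFam (fun x' => δ (e x')) π where
  zero x' := h.zero _
  epi := h.epi
  fac k hk := h.fac k (fun x => by
    obtain ⟨x', rfl⟩ := e.surjective x
    exact hk x')

/-- Uniqueness of the cokernel of a family. -/
lemma IsCokerFam.nonempty_iso {κ : Type w} {X : κ → A} {Q M M' : A} {δ : ∀ x, X x ⟶ Q}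
    {π : Q ⟶ M} {π' : Q ⟶ M'} (h : IsCokerFam δ π) (h' : IsCokerFam δ π') :
    ∃ e : M ≅ M', π ≫ e.hom = π' := by
  obtain ⟨a, ha⟩ := h.fac π' h'.zero
  obtain ⟨b, hb⟩ := h'.fac π h.zero
  have := h.epi
  have := h'.epi
  refine ⟨⟨a, b, ?_, ?_⟩, ha⟩
  · rw [← cancel_epi π, ← Category.assoc, ha, hb, Category.comp_id]
  · rw [← cancel_epi π', ← Category.assoc, hb, ha, Category.comp_id]

/-- The cokernel of a morphism between objects presented as cokernels of families. -/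
theorem isCokerFam_cokernel_comp {κ : Type w} {lam : Type w'} {X : κ → A} {Y : lam → A}
    {Q F G : A} {δG : ∀ y, Y y ⟶ Q} {pG : Q ⟶ G} (hG : IsCokerFam δG pG) (α : F ⟶ G)
    (u : ∀ x, X x ⟶ F) (hu : JEpi u) (β : ∀ x, X x ⟶ Q) (hβ : ∀ x, β x ≫ pG = u x ≫ α) :
    IsCokerFam (X := Sum.elim X Y)
      (fun z => Sum.rec (motive := fun z => Sum.elim X Y z ⟶ Q) β δG z)
      (pG ≫ cokernel.π α) where
  zero := by
    rintro (x | y)
    · change β x ≫ pG ≫ cokernel.π α = 0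
      rw [← Category.assoc, hβ, Category.assoc, cokernel.condition, comp_zero]
    · change δG y ≫ pG ≫ cokernel.π α = 0
      rw [← Category.assoc, hG.zero, zero_comp]
  epi := by have := hG.epi; infer_instance
  fac h hh := by
    obtain ⟨h', hh'⟩ := hG.fac h (fun y => hh (Sum.inr y))
    have h0 : α ≫ h' = 0 := by
      apply hu
      intro x
      rw [← Category.assoc, ← hβ, Category.assoc, hh']
      exact hh (Sum.inl x)
    exact ⟨cokernel.desc α h' h0, by rw [Category.assoc, cokernel.π_desc, hh']⟩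

/-- Variant of `isCokerFam_cokernel_comp` for a family indexed by a sum type. -/
theorem isCokerFam_sum {κ : Type w} {lam : Type w'} {W : κ ⊕ lam → A}
    {Q F G : A} (δ : ∀ z, W z ⟶ Q) {pG : Q ⟶ G}
    (hG : IsCokerFam (fun y => δ (Sum.inr y)) pG) (α : F ⟶ G)
    (u : ∀ x, W (Sum.inl x) ⟶ F) (hu : JEpi u) (hβ : ∀ x, δ (Sum.inl x) ≫ pG = u x ≫ α) :
    IsCokerFam δ (pG ≫ cokernel.π α) where
  zero := by
    rintro (x | y)
    · rw [← Category.assoc, hβ, Category.assoc, cokernel.condition, comp_zero]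
    · rw [← Category.assoc]
      have := hG.zero y
      rw [this, zero_comp]
  epi := by have := hG.epi; infer_instance
  fac h hh := by
    obtain ⟨h', hh'⟩ := hG.fac h (fun y => hh (Sum.inr y))
    have h0 : α ≫ h' = 0 := by
      apply hu
      intro x
      rw [← Category.assoc, ← hβ, Category.assoc, hh']
      exact hh (Sum.inl x)
    exact ⟨cokernel.desc α h' h0, by rw [Category.assoc, cokernel.π_desc, hh']⟩

end Abstract

section TypeA

variable {C : Type u} [SmallCategory C] {J : GrothendieckTopology C}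
variable (O : Sheaf J CommRingCat.{u}) (B : Set C)

/-- Modules of the form `Coker(⊕ freeOn V_j → ⊕ freeOn U_i)` with finitely many `U_i, V_j ∈ B`. -/
def TypeA (M : Mod O) : Prop :=
  ∃ (m' n' : ℕ) (V' : Fin m' → C) (U' : Fin n' → C)
    (ψ : (∐ fun j => ModSite.freeOn O (V' j)) ⟶ ∐ fun i => ModSite.freeOn O (U' i)),
    (∀ j, V' j ∈ B) ∧ (∀ i, U' i ∈ B) ∧ Nonempty (M ≅ cokernel ψ)

variable {O B}

theorem typeA_of_isCokerFam {κ₀ : Type w} {κ₁ : Type w'} [Finite κ₀] [Finite κ₁]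
    (U : κ₀ → C) (Z : κ₁ → C) (hU : ∀ a, U a ∈ B) (hZ : ∀ x, Z x ∈ B) {M : Mod O}
    (δ : ∀ x, freeOn O (Z x) ⟶ ∐ fun a => freeOn O (U a))
    (π : (∐ fun a => freeOn O (U a)) ⟶ M) (h : IsCokerFam δ π) : TypeA O B M := by
  obtain ⟨n, ⟨e₀⟩⟩ := Finite.exists_equiv_fin κ₀
  obtain ⟨m, ⟨e₁⟩⟩ := Finite.exists_equiv_fin κ₁
  let f : κ₀ → Mod O := fun a => freeOn O (U a)
  let θ : (∐ fun i : Fin n => freeOn O (U (e₀.symm i))) ≅ ∐ f := Sigma.reindex e₀.symm f
  let ψ : (∐ fun j : Fin m => freeOn O (Z (e₁.symm j))) ⟶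
      ∐ fun i : Fin n => freeOn O (U (e₀.symm i)) :=
    Sigma.desc (fun j => δ (e₁.symm j) ≫ θ.inv)
  refine ⟨m, n, fun j => Z (e₁.symm j), fun i => U (e₀.symm i), ψ, fun j => hZ _, fun i => hU _, ?_⟩
  have h1 : IsCokerFam (fun j : Fin m => Sigma.ι (fun j : Fin m => freeOn O (Z (e₁.symm j))) j ≫ ψ)
      (cokernel.π ψ) :=
    isCokerFam_cokernel _ (jEpi_of_isColimit _ (coproductIsCoproduct _)) ψ
  have h2 : IsCokerFam (fun j : Fin m => Sigma.ι (fun j : Fin m => freeOn O (Z (e₁.symm j))) j ≫ ψ)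
      (θ.hom ≫ π) := by
    have h3 := h.reindex e₁.symm
    refine ⟨fun j => ?_, ?_, fun k hk => ?_⟩
    · rw [Sigma.ι_desc, Category.assoc, θ.inv_hom_id_assoc]
      exact h3.zero j
    · have := h.epi; infer_instance
    · obtain ⟨k', hk'⟩ := h3.fac (θ.inv ≫ k) (fun j => by
        have := hk j
        rw [Sigma.ι_desc, Category.assoc] at this
        exact this)
      exact ⟨k', by rw [Category.assoc, hk', θ.hom_inv_id_assoc]⟩
  obtain ⟨e, -⟩ := h2.nonempty_iso h1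
  exact ⟨e⟩

/-- Data extracted from a module of type A. -/
theorem TypeA.exists_data {M : Mod O} (h : TypeA O B M) :
    ∃ (m' n' : ℕ) (V' : Fin m' → C) (U' : Fin n' → C) (_ : ∀ j, V' j ∈ B) (_ : ∀ i, U' i ∈ B)
      (δ : ∀ j, freeOn O (V' j) ⟶ ∐ fun i => freeOn O (U' i))
      (π : (∐ fun i => freeOn O (U' i)) ⟶ M), IsCokerFam δ π := by
  obtain ⟨m', n', V', U', ψ, hV, hU, ⟨e⟩⟩ := h
  refine ⟨m', n', V', U', hV, hU, fun j => Sigma.ι (fun j => freeOn O (V' j)) j ≫ ψ,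
    cokernel.π ψ ≫ e.inv, ?_⟩
  exact (isCokerFam_cokernel _ (jEpi_of_isColimit _ (coproductIsCoproduct _)) ψ).comp_iso e.symm

section Cokernel

variable
  (hB₁ : ∀ X : C, ∃ (κ : Type u) (Y : κ → C) (g : ∀ k, Y k ⟶ X),
    Sieve.ofArrows Y g ∈ J X ∧ ∀ k, Y k ∈ B)
  (hB₂ : ∀ U ∈ B, CohCx.IsQcObject ((presheafToSheaf J (Type u)).obj (yoneda.obj U)))

include hB₁ hB₂ in
theorem main9115 {F G : Mod O} (α : F ⟶ G) (hF : TypeA O B F) (hG : TypeA O B G) :
    TypeA O B (cokernel α) := by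
  classical
  obtain ⟨mF, nF, VF, UF, hVF, hUF, δF, pF, hFc⟩ := hF.exists_data
  obtain ⟨mG, nG, VG, UG, hVG, hUG, δG, pG, hGc⟩ := hG.exists_data
  have := hFc.epi
  have := hGc.epi
  let s : ∀ i : Fin nF, G.val.obj (op (UF i)) := fun i =>
    (Sigma.ι (fun i => freeOn O (UF i)) i ≫ pF ≫ α).val.app (op (UF i)) (univ O (UF i))
  choose S hS hSl using fun i => exists_local_lift O pG (s i)
  choose t ht using fun i => exists_finite_B_cover B hB₁ hB₂ (hUF i) (S i) (hS i)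
  let κ := Σ i : Fin nF, ↥(t i)
  let Yob : κ → C := fun x => x.2.1.1
  let garr : ∀ x : κ, Yob x ⟶ UF x.1 := fun x => x.2.1.2.1
  have hgS : ∀ x : κ, S x.1 (garr x) := fun x => x.2.1.2.2.1
  have hYB : ∀ x, Yob x ∈ B := fun x => x.2.1.2.2.2
  choose lift hlift using fun x : κ => hSl x.1 (Yob x) (garr x) (hgS x)
  let u : ∀ x : κ, freeOn O (Yob x) ⟶ F := fun x =>
    freeOnMap O (garr x) ≫ Sigma.ι (fun i => freeOn O (UF i)) x.1 ≫ pF
  have hu : JEpi u := by
    intro T h hh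
    rw [← cancel_epi pF, comp_zero]
    apply Sigma.hom_ext
    intro i
    rw [comp_zero]
    refine eq_zero_of_cover O (fun k : ↥(t i) => k.1.2.1) (ht i) _ (fun k => ?_)
    have := hh ⟨i, k⟩
    simpa [u, garr, Category.assoc] using this
  let Z : κ ⊕ Fin mG → C := Sum.elim Yob VG
  let δ : ∀ z, freeOn O (Z z) ⟶ ∐ fun i => freeOn O (UG i) := fun z =>
    match z with
    | Sum.inl x => ofSec O (lift x)
    | Sum.inr y => δG y
  have hβ : ∀ x, δ (Sum.inl x) ≫ pG = u x ≫ α := by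
    intro x
    change ofSec O (lift x) ≫ pG = (freeOnMap O (garr x) ≫ _ ≫ pF) ≫ α
    rw [ofSec_comp, hlift, Category.assoc, Category.assoc, freeOnMap_comp_eq]
  have hmain := isCokerFam_sum (W := fun z => freeOn O (Z z)) δ (pG := pG) hGc α u hu hβ
  exact typeA_of_isCokerFam UG Z hUG (by rintro (x | y); exacts [hYB x, hVG y]) δ _ hmain

end Cokernel

end TypeA

end Groth.Agent.Lib.Helper45.QcSum
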