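import Groth.Agent.Lib.Helper45.QcSum5

/-!
# Modules generated by finitely many sections over members of `B`
-/

set_option autoImplicit false
set_option linter.style.haveILetI false
set_option linter.unusedSectionVars false

universe u w w' v' u'

open CategoryTheory CategoryTheory.Limits Opposite ModSite

namespace Groth.Agent.Lib.Helper45.QcSum

section AbstractKernel

variable {A : Type u'} [Category.{v'} A] [Abelian A]

/-- The canonical short exact sequence of kernels `0 → ker p → ker (p ≫ q) → ker q → 0`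
for an epimorphism `p`. -/
noncomputable def kerCompSC {M N L : A} (p : M ⟶ N) (q : N ⟶ L) : ShortComplex A where
  X₁ := kernel p
  X₂ := kernel (p ≫ q)
  X₃ := kernel q
  f := kernel.lift (p ≫ q) (kernel.ι p) (by rw [← Category.assoc, kernel.condition, zero_comp])
  g := kernel.lift q (kernel.ι (p ≫ q) ≫ p) (by rw [Category.assoc, kernel.condition])
  zero := by
    rw [← cancel_mono (kernel.ι q), Category.assoc, kernel.lift_ι, ← Category.assoc,
      kernel.lift_ι, kernel.condition, zero_comp]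

lemma kerCompSC_shortExact {M N L : A} (p : M ⟶ N) (q : N ⟶ L) [Epi p] :
    (kerCompSC p q).ShortExact where
  exact := by
    rw [ShortComplex.exact_iff_exact_up_to_refinements]
    intro T x₂ hx₂
    change T ⟶ kernel (p ≫ q) at x₂
    change x₂ ≫ kernel.lift q (kernel.ι (p ≫ q) ≫ p) _ = 0 at hx₂
    have h1 : (x₂ ≫ kernel.ι (p ≫ q)) ≫ p = 0 := by
      have := hx₂ =≫ kernel.ι q
      simpa using this
    refine ⟨T, 𝟙 T, inferInstance, kernel.lift p (x₂ ≫ kernel.ι (p ≫ q)) h1, ?_⟩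
    change 𝟙 T ≫ x₂ = kernel.lift p (x₂ ≫ kernel.ι (p ≫ q)) h1 ≫
      kernel.lift (p ≫ q) (kernel.ι p) _
    rw [Category.id_comp, ← cancel_mono (kernel.ι (p ≫ q))]
    simp
  mono_f := by
    change Mono (kernel.lift (p ≫ q) (kernel.ι p) _)
    have : Mono (kernel.lift (p ≫ q) (kernel.ι p)
        (by rw [← Category.assoc, kernel.condition, zero_comp]) ≫ kernel.ι (p ≫ q)) := by
      rw [kernel.lift_ι]; infer_instance
    exact mono_of_mono _ (kernel.ι (p ≫ q))
  epi_g := by
    change Epi (kernel.lift q (kernel.ι (p ≫ q) ≫ p) _)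
    rw [epi_iff_surjective_up_to_refinements]
    intro T y
    obtain ⟨T', π, hπ, x', hx'⟩ := surjective_up_to_refinements_of_epi p (y ≫ kernel.ι q)
    have h1 : x' ≫ p ≫ q = 0 := by
      rw [← Category.assoc, ← hx', Category.assoc, Category.assoc, kernel.condition, comp_zero,
        comp_zero]
    refine ⟨T', π, hπ, kernel.lift (p ≫ q) x' h1, ?_⟩
    rw [← cancel_mono (kernel.ι q)]
    simp [hx']

/-- If `π` is a cokernel of the family `δ`, the induced maps to the kernel of `π` are jointly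
epimorphic. -/
lemma IsCokerFam.jEpi_kernel_lift {κ : Type w} {X : κ → A} {Q M : A} {δ : ∀ x, X x ⟶ Q}
    {π : Q ⟶ M} (h : IsCokerFam δ π) :
    JEpi (fun x => kernel.lift π (δ x) (h.zero x)) := by
  intro T k hk
  -- the subobject generated: use the cokernel of `k`-kernel trick
  have := h.epi
  -- consider `Q ⟶ cokernel (kernel.ι (kernel k) ≫ kernel.ι π)`
  let j : kernel k ⟶ Q := kernel.ι k ≫ kernel.ι π
  have h1 : ∀ x, δ x ≫ cokernel.π j = 0 := by
    intro x
    have : δ x = kernel.lift k (kernel.lift π (δ x) (h.zero x)) (hk x) ≫ j := by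
      simp [j]
    rw [this, Category.assoc, cokernel.condition, comp_zero]
  obtain ⟨c, hc⟩ := h.fac (cokernel.π j) h1
  have h2 : kernel.ι π ≫ cokernel.π j = 0 := by
    rw [← hc, ← Category.assoc, kernel.condition, zero_comp]
  -- hence `kernel.ι π` factors through `j` (as `j` is mono, it is the kernel of its cokernel)
  have hj : Mono j := by dsimp only [j]; infer_instance
  let l : kernel π ⟶ kernel k := Abelian.monoLift j (kernel.ι π) h2
  have hl : l ≫ j = kernel.ι π := Abelian.monoLift_comp j (kernel.ι π) h2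
  have hl' : l ≫ kernel.ι k = 𝟙 _ := by
    rw [← cancel_mono (kernel.ι π), Category.assoc, Category.id_comp]
    exact hl
  calc k = 𝟙 _ ≫ k := (Category.id_comp k).symm
    _ = (l ≫ kernel.ι k) ≫ k := by rw [hl']
    _ = 0 := by rw [Category.assoc, kernel.condition, comp_zero]

/-- Conversely, jointly epimorphic maps to the kernel of an epimorphism exhibit it as a cokernel
of a family. -/
lemma isCokerFam_of_jEpi_kernel {κ : Type w} {X : κ → A} {Q M : A} (π : Q ⟶ M) [Epi π]
    (r : ∀ x, X x ⟶ kernel π) (hr : JEpi r) : IsCokerFam (fun x => r x ≫ kernel.ι π) π where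
  zero x := by rw [Category.assoc, kernel.condition, comp_zero]
  epi := inferInstance
  fac k hk := by
    have : kernel.ι π ≫ k = 0 := hr _ (fun x => by rw [← Category.assoc]; exact hk x)
    exact ⟨Abelian.epiDesc π k this, Abelian.comp_epiDesc π k this⟩

end AbstractKernel

section FGB

variable {C : Type u} [SmallCategory C] {J : GrothendieckTopology C}
variable (O : Sheaf J CommRingCat.{u}) (B : Set C)

/-- A module generated by finitely many sections over members of `B`. -/
def FGB (M : Mod O) : Prop :=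
  ∃ (n : ℕ) (Z : Fin n → C) (_ : ∀ x, Z x ∈ B) (r : ∀ x, freeOn O (Z x) ⟶ M), JEpi r

variable {O B}

lemma FGB.mk' {κ : Type w} [Finite κ] {M : Mod O} (Z : κ → C) (hZ : ∀ x, Z x ∈ B)
    (r : ∀ x, freeOn O (Z x) ⟶ M) (hr : JEpi r) : FGB O B M := by
  obtain ⟨n, ⟨e⟩⟩ := Finite.exists_equiv_fin κ
  refine ⟨n, fun i => Z (e.symm i), fun i => hZ _, fun i => r (e.symm i), ?_⟩
  intro T h hh
  apply hr
  intro x
  obtain ⟨i, rfl⟩ := e.symm.surjective x
  exact hh i

lemma FGB.of_epi {M N : Mod O} (p : M ⟶ N) [Epi p] (h : FGB O B M) : FGB O B N := by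
  obtain ⟨n, Z, hZ, r, hr⟩ := h
  exact ⟨n, Z, hZ, fun x => r x ≫ p, hr.comp_epi p⟩

lemma FGB.of_iso {M N : Mod O} (e : M ≅ N) (h : FGB O B M) : FGB O B N := h.of_epi e.hom

variable
  (hB₁ : ∀ X : C, ∃ (κ : Type u) (Y : κ → C) (g : ∀ k, Y k ⟶ X),
    Sieve.ofArrows Y g ∈ J X ∧ ∀ k, Y k ∈ B)
  (hB₂ : ∀ U ∈ B, CohCx.IsQcObject ((presheafToSheaf J (Type u)).obj (yoneda.obj U)))

include hB₁ hB₂ in
/-- Sections over members of `B` lift along epimorphisms after a finite refinement by members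
of `B`. -/
theorem exists_refinement_lift {M N : Mod O} (p : M ⟶ N) [Epi p] {κ : Type w} (Z : κ → C)
    (hZ : ∀ x, Z x ∈ B) (s : ∀ x, freeOn O (Z x) ⟶ N) :
    ∃ (ι : κ → Type u) (_ : ∀ x, Finite (ι x)) (Y : ∀ x, ι x → C) (_ : ∀ x k, Y x k ∈ B)
      (g : ∀ x k, Y x k ⟶ Z x) (t : ∀ x k, freeOn O (Y x k) ⟶ M),
      (∀ x, Sieve.ofArrows (Y x) (g x) ∈ J (Z x)) ∧
      ∀ x k, t x k ≫ p = freeOnMap O (g x k) ≫ s x := by
  classical
  let sec : ∀ x, N.val.obj (op (Z x)) := fun x => (s x).val.app (op (Z x)) (univ O (Z x))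
  choose S hS hSl using fun x => exists_local_lift O p (sec x)
  choose t ht using fun x => exists_finite_B_cover B hB₁ hB₂ (hZ x) (S x) (hS x)
  choose lift hlift using fun (x : κ) (k : ↥(t x)) => hSl x k.1.1 k.1.2.1 k.1.2.2.1
  refine ⟨fun x => ↥(t x), fun x => inferInstance, fun x k => k.1.1, fun x k => k.1.2.2.2,
    fun x k => k.1.2.1, fun x k => ofSec O (lift x k), ht, ?_⟩
  intro x k
  rw [ofSec_comp, hlift, freeOnMap_comp_eq]

include hB₁ hB₂ in
/-- `FGB` is closed under extensions. -/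
theorem FGB.of_shortExact {S : ShortComplex (Mod O)} (hS : S.ShortExact)
    (h₁ : FGB O B S.X₁) (h₃ : FGB O B S.X₃) : FGB O B S.X₂ := by
  obtain ⟨n₁, Z₁, hZ₁, r₁, hr₁⟩ := h₁
  obtain ⟨n₃, Z₃, hZ₃, r₃, hr₃⟩ := h₃
  have := hS.epi_g
  have := hS.mono_f
  obtain ⟨ι, hι, Y, hY, g, t, hcov, ht⟩ := exists_refinement_lift hB₁ hB₂ S.g Z₃ hZ₃ r₃
  let Z : Fin n₁ ⊕ (Σ x, ι x) → C := Sum.elim Z₁ (fun p => Y p.1 p.2)
  let r : ∀ z, freeOn O (Z z) ⟶ S.X₂ := fun z =>
    match z with
    | Sum.inl i => r₁ i ≫ S.f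
    | Sum.inr p => t p.1 p.2
  refine FGB.mk' Z (by rintro (i | p); exacts [hZ₁ i, hY p.1 p.2]) r ?_
  intro T h hh
  have h1 : S.f ≫ h = 0 := hr₁ _ (fun i => by
    have := hh (Sum.inl i)
    rw [← Category.assoc]
    exact this)
  have h2 : S.g ≫ hS.exact.desc h h1 = h := hS.exact.g_desc h h1
  have h3 : hS.exact.desc h h1 = 0 := by
    apply hr₃
    intro x
    refine eq_zero_of_cover O (g x) (hcov x) _ (fun k => ?_)
    rw [← Category.assoc, ← ht, Category.assoc, h2]
    exact hh (Sum.inr ⟨x, k⟩)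
  rw [← h2, h3, comp_zero]

end FGB

end Groth.Agent.Lib.Helper45.QcSum
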