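import Groth.Agent.Lib.Helper45.QcSum6

/-!
# The kernel of a refinement map between finite free modules is finitely generated
-/

set_option autoImplicit false
set_option linter.style.haveILetI false
set_option linter.unusedSectionVars false

universe u w w' v' u'

open CategoryTheory CategoryTheory.Limits Opposite ModSite

namespace Groth.Agent.Lib.Helper45.QcSum

variable {C : Type u} [SmallCategory C] {J : GrothendieckTopology C}
variable (O : Sheaf J CommRingCat.{u})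

lemma freeOnMap_comp {V' V U : C} (h : V' ⟶ V) (g : V ⟶ U) :
    freeOnMap O (h ≫ g) = freeOnMap O h ≫ freeOnMap O g := by
  have : freeOnMap O g = ofSec O (res O _ g (univ O U)) := rfl
  rw [this, freeOnMap_ofSec, ← res_comp]
  rfl

/-- Gluing of sections of a module along a covering family with pullbacks. -/
lemma exists_glue [HasPullbacks C] (T : Mod O) {U : C} {κ : Type w} (Y : κ → C)
    (g : ∀ k, Y k ⟶ U) (hcov : Sieve.ofArrows Y g ∈ J U) (σ : ∀ k, T.val.obj (op (Y k)))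
    (hσ : ∀ k k', res O T (pullback.fst (g k) (g k')) (σ k) =
      res O T (pullback.snd (g k) (g k')) (σ k')) :
    ∃ τ : T.val.obj (op U), ∀ k, res O T (g k) τ = σ k := by
  let Tsh := (SheafOfModules.toSheaf (ringSh O)).obj T
  have h1 : Presieve.IsSheaf J (Tsh.obj ⋙ forget AddCommGrpCat.{u}) :=
    (isSheaf_iff_isSheaf_of_type _ _).1 ((sheafCompose J (forget AddCommGrpCat.{u})).obj Tsh).property
  have h2 : Presieve.IsSheafFor (Tsh.obj ⋙ forget AddCommGrpCat.{u}) (Presieve.ofArrows Y g) :=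
    (Presieve.isSheafFor_iff_generate _).2 (h1 _ hcov)
  rw [Presieve.isSheafFor_arrows_iff_pullbacks] at h2
  obtain ⟨τ, hτ, -⟩ := h2 σ hσ
  exact ⟨τ, hτ⟩

section Cech

variable {O}
variable {B : Set C}
  (hB₁ : ∀ X : C, ∃ (κ : Type u) (Y : κ → C) (g : ∀ k, Y k ⟶ X),
    Sieve.ofArrows Y g ∈ J X ∧ ∀ k, Y k ∈ B)
  [HasPullbacks C]
  (hB₃ : ∀ (U U₁ U₂ : C) (f₁ : U₁ ⟶ U) (f₂ : U₂ ⟶ U), U ∈ B → U₁ ∈ B → U₂ ∈ B →
    CohCx.IsQcObject ((presheafToSheaf J (Type u)).obj (yoneda.obj (pullback f₁ f₂))))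

/-- The refinement map between finite free modules. -/
noncomputable def refMap {κ : Type w} [Finite κ] (Z : κ → C) (ι : κ → Type u)
    [∀ x, Finite (ι x)] (Y : ∀ x, ι x → C) (g : ∀ x k, Y x k ⟶ Z x) :
    (∐ fun p : Σ x, ι x => freeOn O (Y p.1 p.2)) ⟶ ∐ fun x => freeOn O (Z x) :=
  Sigma.desc (fun p => freeOnMap O (g p.1 p.2) ≫ Sigma.ι (fun x => freeOn O (Z x)) p.1)

@[reassoc]
lemma ι_refMap {κ : Type w} [Finite κ] (Z : κ → C) (ι : κ → Type u)
    [∀ x, Finite (ι x)] (Y : ∀ x, ι x → C) (g : ∀ x k, Y x k ⟶ Z x) (x : κ) (k : ι x) :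
    Sigma.ι (fun p : Σ x, ι x => freeOn O (Y p.1 p.2)) ⟨x, k⟩ ≫ refMap (O := O) Z ι Y g =
      freeOnMap O (g x k) ≫ Sigma.ι (fun x => freeOn O (Z x)) x := by
  unfold refMap
  rw [Sigma.ι_desc]

lemma epi_refMap {κ : Type w} [Finite κ] (Z : κ → C) (ι : κ → Type u)
    [∀ x, Finite (ι x)] (Y : ∀ x, ι x → C) (g : ∀ x k, Y x k ⟶ Z x)
    (hcov : ∀ x, Sieve.ofArrows (Y x) (g x) ∈ J (Z x)) : Epi (refMap (O := O) Z ι Y g) := by
  apply Preadditive.epi_of_cancel_zero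
  intro T h hh
  apply Sigma.hom_ext
  intro x
  rw [comp_zero]
  refine eq_zero_of_cover O (g x) (hcov x) _ (fun k => ?_)
  rw [← Category.assoc, ← ι_refMap, Category.assoc, hh, comp_zero]

section Data

variable {κ : Type w} [Finite κ] {Z : κ → C} {ι : κ → Type u} [∀ x, Finite (ι x)]
  {Y : ∀ x, ι x → C} {g : ∀ x k, Y x k ⟶ Z x}
  (t : ∀ (x : κ) (k k' : ι x), Finset (Σ V : C,
      {a : V ⟶ pullback (g x k) (g x k') // restrB B (⊤ : Sieve _) a}))

/-- The index type of the relations. -/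
structure MuS : Type (max u w) where
  x : κ
  k : ι x
  k' : ι x
  i : ↥(t x k k')

/-- Comparison with a sigma type. -/
def MuS.equiv : MuS t ≃ Σ (x : κ) (k : ι x) (k' : ι x), ↥(t x k k') where
  toFun m := ⟨m.x, m.k, m.k', m.i⟩
  invFun s := ⟨s.1, s.2.1, s.2.2.1, s.2.2.2⟩
  left_inv _ := rfl
  right_inv _ := rfl

instance : Finite (MuS t) := Finite.of_equiv _ (MuS.equiv t).symm

/-- The source object of a relation. -/
abbrev muW (m : MuS t) : C := m.i.1.1

/-- The structure map to the fibre product. -/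
abbrev muA (m : MuS t) : muW t m ⟶ pullback (g m.x m.k) (g m.x m.k') := m.i.1.2.1

lemma muW_mem (m : MuS t) : muW t m ∈ B := m.i.1.2.2.2

/-- The relation morphism. -/
noncomputable def muD (m : MuS t) :
    freeOn O (muW t m) ⟶ ∐ fun p : Σ x, ι x => freeOn O (Y p.1 p.2) :=
  freeOnMap O (muA t m ≫ pullback.fst (g m.x m.k) (g m.x m.k')) ≫
      Sigma.ι (fun p : Σ x, ι x => freeOn O (Y p.1 p.2)) ⟨m.x, m.k⟩ -
    freeOnMap O (muA t m ≫ pullback.snd (g m.x m.k) (g m.x m.k')) ≫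
      Sigma.ι (fun p : Σ x, ι x => freeOn O (Y p.1 p.2)) ⟨m.x, m.k'⟩

lemma muD_refMap (m : MuS t) :
    muD (O := O) t m ≫ refMap (O := O) Z ι Y g = 0 := by
  unfold muD
  rw [Preadditive.sub_comp, Category.assoc, Category.assoc, ι_refMap, ι_refMap,
    ← Category.assoc, ← Category.assoc, ← freeOnMap_comp, ← freeOnMap_comp,
    Category.assoc, Category.assoc, pullback.condition, sub_self]

lemma muD_comp_eq {T : Mod O}
    (h : (∐ fun p : Σ x, ι x => freeOn O (Y p.1 p.2)) ⟶ T) (m : MuS t)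
    (hm : muD (O := O) t m ≫ h = 0) :
    res O T (muA t m ≫ pullback.fst (g m.x m.k) (g m.x m.k'))
      ((Sigma.ι (fun p : Σ x, ι x => freeOn O (Y p.1 p.2)) ⟨m.x, m.k⟩ ≫ h).val.app _
        (univ O _)) =
    res O T (muA t m ≫ pullback.snd (g m.x m.k) (g m.x m.k'))
      ((Sigma.ι (fun p : Σ x, ι x => freeOn O (Y p.1 p.2)) ⟨m.x, m.k'⟩ ≫ h).val.app _
        (univ O _)) := by
  unfold muD at hm
  rw [Preadditive.sub_comp, sub_eq_zero, Category.assoc, Category.assoc,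
    freeOnMap_comp_eq, freeOnMap_comp_eq] at hm
  exact ofSec_injective O hm

lemma fac_refMap
    (ht : ∀ x k k', Sieve.ofArrows (fun i : ↥(t x k k') => i.1.1) (fun i => i.1.2.1) ∈
        J (pullback (g x k) (g x k')))
    (hcov : ∀ x, Sieve.ofArrows (Y x) (g x) ∈ J (Z x)) {T : Mod O}
    (h : (∐ fun p : Σ x, ι x => freeOn O (Y p.1 p.2)) ⟶ T)
    (hh : ∀ m : MuS t, muD (O := O) t m ≫ h = 0) :
    ∃ h' : (∐ fun x => freeOn O (Z x)) ⟶ T, refMap (O := O) Z ι Y g ≫ h' = h := by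
  let σ : ∀ (x : κ) (k : ι x), T.val.obj (op (Y x k)) := fun x k =>
    (Sigma.ι (fun p : Σ x, ι x => freeOn O (Y p.1 p.2)) ⟨x, k⟩ ≫ h).val.app _ (univ O _)
  have hσ : ∀ x k k', res O T (pullback.fst (g x k) (g x k')) (σ x k) =
      res O T (pullback.snd (g x k) (g x k')) (σ x k') := by
    intro x k k'
    refine sec_ext O T _ (ht x k k') _ _ ?_
    rintro V f ⟨V', b, c, ⟨i⟩, rfl⟩
    have hm := muD_comp_eq t h ⟨x, k, k', i⟩ (hh _)
    rw [res_comp, res_comp] at hm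
    rw [res_comp, res_comp]
    exact congrArg (res O T b) hm
  choose τ hτ using fun x => exists_glue O T (Y x) (g x) (hcov x) (σ x) (hσ x)
  refine ⟨Sigma.desc (fun x => ofSec O (τ x)), ?_⟩
  apply Sigma.hom_ext
  rintro ⟨x, k⟩
  rw [← Category.assoc, ι_refMap, Category.assoc, Sigma.ι_desc, freeOnMap_ofSec, hτ]
  exact (eq_ofSec O _).symm

end Data

include hB₁ hB₃ in
theorem exists_isCokerFam_refMap {κ : Type w} [Finite κ] (Z : κ → C) (hZ : ∀ x, Z x ∈ B)
    (ι : κ → Type u) [∀ x, Finite (ι x)] (Y : ∀ x, ι x → C) (hY : ∀ x k, Y x k ∈ B)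
    (g : ∀ x k, Y x k ⟶ Z x) (hcov : ∀ x, Sieve.ofArrows (Y x) (g x) ∈ J (Z x)) :
    ∃ (μ : Type (max u w)) (_ : Finite μ) (W : μ → C) (_ : ∀ m, W m ∈ B)
      (d : ∀ m, freeOn O (W m) ⟶ ∐ fun p : Σ x, ι x => freeOn O (Y p.1 p.2)),
      IsCokerFam d (refMap (O := O) Z ι Y g) := by
  classical
  have hqc : ∀ (x : κ) (k k' : ι x), ∃ t : Finset (Σ V : C,
      {a : V ⟶ pullback (g x k) (g x k') // restrB B (⊤ : Sieve _) a}),
      Sieve.ofArrows (fun i : t => i.1.1) (fun i : t => i.1.2.1) ∈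
        J (pullback (g x k) (g x k')) := fun x k k' =>
    exists_finite_of_generate_mem (hB₃ _ _ _ _ _ (hZ x) (hY x k) (hY x k')) _
      (generate_restrB_mem B hB₁ ⊤ (J.top_mem _))
  choose t ht using hqc
  have hcok : IsCokerFam (muD (O := O) t) (refMap (O := O) Z ι Y g) :=
    { zero := muD_refMap t
      epi := epi_refMap Z ι Y g hcov
      fac := fun h hh => fac_refMap t ht hcov h hh }
  exact ⟨MuS t, inferInstance, muW t, muW_mem t, muD (O := O) t, hcok⟩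

include hB₁ hB₃ in
/-- The kernel of a refinement map is finitely generated. -/
theorem fgb_kernel_refMap {κ : Type w} [Finite κ] (Z : κ → C) (hZ : ∀ x, Z x ∈ B)
    (ι : κ → Type u) [∀ x, Finite (ι x)] (Y : ∀ x, ι x → C) (hY : ∀ x k, Y x k ∈ B)
    (g : ∀ x k, Y x k ⟶ Z x) (hcov : ∀ x, Sieve.ofArrows (Y x) (g x) ∈ J (Z x)) :
    FGB O B (kernel (refMap (O := O) Z ι Y g)) := by
  obtain ⟨μ, hμ, W, hW, d, hd⟩ := exists_isCokerFam_refMap hB₁ hB₃ Z hZ ι Y hY g hcov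
  exact FGB.mk' W hW _ hd.jEpi_kernel_lift

end Cech

end Groth.Agent.Lib.Helper45.QcSum
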