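import Groth.Agent.Lib.Helper45.QcSum7

/-!
# Modules of type A via epimorphisms from finite free modules with finitely generated kernel
-/

set_option autoImplicit false
set_option linter.style.haveILetI false
set_option linter.unusedSectionVars false

universe u w w' v' u'

open CategoryTheory CategoryTheory.Limits Opposite ModSite

namespace Groth.Agent.Lib.Helper45.QcSum

variable {C : Type u} [SmallCategory C] {J : GrothendieckTopology C}
variable (O : Sheaf J CommRingCat.{u}) (B : Set C)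

/-- Finite direct sums of modules `freeOn O U` with `U ∈ B`. -/
def IsBFree (P : Mod O) : Prop :=
  ∃ (n : ℕ) (U : Fin n → C) (_ : ∀ i, U i ∈ B), Nonempty (P ≅ ∐ fun i => freeOn O (U i))

variable {O B}

lemma IsBFree.of_iso {P Q : Mod O} (e : P ≅ Q) (h : IsBFree O B P) : IsBFree O B Q := by
  obtain ⟨n, U, hU, ⟨e'⟩⟩ := h
  exact ⟨n, U, hU, ⟨e.symm ≪≫ e'⟩⟩

lemma isBFree_sigma {κ : Type w} [Finite κ] (U : κ → C) (hU : ∀ a, U a ∈ B) :
    IsBFree O B (∐ fun a => freeOn O (U a)) := by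
  obtain ⟨n, ⟨e⟩⟩ := Finite.exists_equiv_fin κ
  exact ⟨n, fun i => U (e.symm i), fun i => hU _,
    ⟨(Sigma.reindex e.symm (fun a => freeOn O (U a))).symm⟩⟩

lemma IsBFree.biprod {P Q : Mod O} (hP : IsBFree O B P) (hQ : IsBFree O B Q) :
    IsBFree O B (P ⊞ Q) := by
  obtain ⟨n, U, hU, ⟨eP⟩⟩ := hP
  obtain ⟨m, V, hV, ⟨eQ⟩⟩ := hQ
  let W : Fin n ⊕ Fin m → C := Sum.elim U V
  have hW : ∀ z, W z ∈ B := by rintro (i | j); exacts [hU i, hV j]
  let F : Fin n ⊕ Fin m → Mod O := fun z => freeOn O (W z)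
  let inlM : (∐ fun i => freeOn O (U i)) ⟶ ∐ F :=
    Sigma.desc (fun i => Sigma.ι F (Sum.inl i))
  let inrM : (∐ fun j => freeOn O (V j)) ⟶ ∐ F :=
    Sigma.desc (fun j => Sigma.ι F (Sum.inr j))
  let back : ∀ z, F z ⟶ P ⊞ Q := fun z =>
    match z with
    | Sum.inl i => Sigma.ι (fun i => freeOn O (U i)) i ≫ eP.inv ≫ biprod.inl
    | Sum.inr j => Sigma.ι (fun j => freeOn O (V j)) j ≫ eQ.inv ≫ biprod.inr
  let e : P ⊞ Q ≅ ∐ F :=
    { hom := biprod.desc (eP.hom ≫ inlM) (eQ.hom ≫ inrM)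
      inv := Sigma.desc back
      hom_inv_id := by
        apply biprod.hom_ext'
        · rw [biprod.inl_desc_assoc, Category.comp_id, ← cancel_epi eP.inv, Category.assoc,
            Iso.inv_hom_id_assoc]
          apply Sigma.hom_ext
          intro i
          rw [Sigma.ι_desc_assoc]
          exact Sigma.ι_desc back (Sum.inl i)
        · rw [biprod.inr_desc_assoc, Category.comp_id, ← cancel_epi eQ.inv, Category.assoc,
            Iso.inv_hom_id_assoc]
          apply Sigma.hom_ext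
          intro j
          rw [Sigma.ι_desc_assoc]
          exact Sigma.ι_desc back (Sum.inr j)
      inv_hom_id := by
        apply Sigma.hom_ext
        rintro (i | j)
        · rw [Sigma.ι_desc_assoc, Category.comp_id]
          change (Sigma.ι (fun i => freeOn O (U i)) i ≫ eP.inv ≫ biprod.inl) ≫ _ = _
          rw [Category.assoc, Category.assoc, biprod.inl_desc, Iso.inv_hom_id_assoc, Sigma.ι_desc]
        · rw [Sigma.ι_desc_assoc, Category.comp_id]
          change (Sigma.ι (fun j => freeOn O (V j)) j ≫ eQ.inv ≫ biprod.inr) ≫ _ = _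
          rw [Category.assoc, Category.assoc, biprod.inr_desc, Iso.inv_hom_id_assoc, Sigma.ι_desc] }
  exact (isBFree_sigma W hW).of_iso e.symm

/-- A module of type A is a quotient of a finite free module with finitely generated kernel. -/
theorem TypeA.exists_epi {M : Mod O} (h : TypeA O B M) :
    ∃ (n : ℕ) (U : Fin n → C) (_ : ∀ i, U i ∈ B) (π : (∐ fun i => freeOn O (U i)) ⟶ M),
      Epi π ∧ FGB O B (kernel π) := by
  obtain ⟨m', n', V', U', hV, hU, δ, π, hc⟩ := h.exists_data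
  exact ⟨n', U', hU, π, hc.epi, FGB.mk' V' hV _ hc.jEpi_kernel_lift⟩

theorem typeA_of_epi_fgb {P M : Mod O} (hP : IsBFree O B P) (π : P ⟶ M) [Epi π]
    (hK : FGB O B (kernel π)) : TypeA O B M := by
  obtain ⟨n, U, hU, ⟨e⟩⟩ := hP
  have hK' : FGB O B (kernel (e.inv ≫ π)) := hK.of_iso (kernelIsIsoComp e.inv π).symm
  obtain ⟨m, Z, hZ, r, hr⟩ := hK'
  exact typeA_of_isCokerFam U Z hU hZ _ (e.inv ≫ π) (isCokerFam_of_jEpi_kernel _ r hr)

lemma TypeA.of_iso {M N : Mod O} (e : M ≅ N) (h : TypeA O B M) : TypeA O B N := by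
  obtain ⟨m', n', V', U', ψ, hV, hU, ⟨e'⟩⟩ := h
  exact ⟨m', n', V', U', ψ, hV, hU, ⟨e.symm ≪≫ e'⟩⟩

end Groth.Agent.Lib.Helper45.QcSum
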