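import Groth.Agent.Lib.Helper45.QcSum8

/-!
# Modules of type A are closed under extensions
-/

set_option autoImplicit false
set_option linter.style.haveILetI false
set_option linter.unusedSectionVars false

universe u w w' v' u'

open CategoryTheory CategoryTheory.Limits Opposite ModSite

namespace Groth.Agent.Lib.Helper45.QcSum

section AbstractExt

variable {A : Type u'} [Category.{v'} A] [Abelian A]
variable (S : ShortComplex A) {P Q : A} (π₁ : P ⟶ S.X₁) (π₃ : Q ⟶ S.X₃) (tt : Q ⟶ S.X₂)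

/-- The map from `P ⊞ Q` to the middle term of an extension. -/
noncomputable def midMap : P ⊞ Q ⟶ S.X₂ := biprod.desc (π₁ ≫ S.f) tt

variable {S π₁ π₃ tt}

lemma midMap_g (htt : tt ≫ S.g = π₃) : midMap S π₁ tt ≫ S.g = biprod.snd ≫ π₃ := by
  apply biprod.hom_ext'
  · simp [midMap]
  · simp [midMap, htt]

lemma inl_midMap : biprod.inl ≫ midMap S π₁ tt = π₁ ≫ S.f := by simp [midMap]

lemma inr_midMap : biprod.inr ≫ midMap S π₁ tt = tt := by simp [midMap]

lemma epi_midMap (hS : S.ShortExact) [Epi π₁] [Epi π₃] (htt : tt ≫ S.g = π₃) :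
    Epi (midMap S π₁ tt) := by
  have := hS.epi_g
  apply Preadditive.epi_of_cancel_zero
  intro T h hh
  have h1 : S.f ≫ h = 0 := by
    rw [← cancel_epi π₁, comp_zero, ← Category.assoc, ← inl_midMap (tt := tt), Category.assoc, hh,
      comp_zero]
  have h2 : S.g ≫ hS.exact.desc h h1 = h := hS.exact.g_desc h h1
  have h4 : tt ≫ h = 0 := by
    have h5 : (biprod.inr ≫ midMap S π₁ tt) ≫ h = 0 := by rw [Category.assoc, hh, comp_zero]
    rwa [inr_midMap] at h5
  have h3 : hS.exact.desc h h1 = 0 := by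
    rw [← cancel_epi π₃, comp_zero, ← htt, Category.assoc, h2, h4]
  rw [← h2, h3, comp_zero]

variable (S π₁ π₃ tt) in
/-- The sequence of kernels. -/
noncomputable def kerSC (htt : tt ≫ S.g = π₃) : ShortComplex A where
  X₁ := kernel π₁
  X₂ := kernel (midMap S π₁ tt)
  X₃ := kernel π₃
  f := kernel.lift (midMap S π₁ tt) (kernel.ι π₁ ≫ biprod.inl) (by
    rw [Category.assoc, inl_midMap, ← Category.assoc, kernel.condition, zero_comp])
  g := kernel.lift π₃ (kernel.ι (midMap S π₁ tt) ≫ biprod.snd) (by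
    rw [Category.assoc, ← midMap_g htt, ← Category.assoc, kernel.condition, zero_comp])
  zero := by
    rw [← cancel_mono (kernel.ι π₃), Category.assoc, kernel.lift_ι, ← Category.assoc,
      kernel.lift_ι, Category.assoc, biprod.inl_snd, comp_zero, zero_comp]

lemma kerSC_shortExact (hS : S.ShortExact) [Epi π₁] (htt : tt ≫ S.g = π₃) :
    (kerSC S π₁ π₃ tt htt).ShortExact where
  exact := by
    have := hS.mono_f
    rw [ShortComplex.exact_iff_exact_up_to_refinements]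
    intro T x₂ hx₂
    change T ⟶ kernel (midMap S π₁ tt) at x₂
    change x₂ ≫ kernel.lift π₃ (kernel.ι (midMap S π₁ tt) ≫ biprod.snd) _ = 0 at hx₂
    have h0 : x₂ ≫ kernel.ι (midMap S π₁ tt) ≫ biprod.snd = 0 := by
      have := hx₂ =≫ kernel.ι π₃
      simpa using this
    have h1 : x₂ ≫ kernel.ι (midMap S π₁ tt) =
        (x₂ ≫ kernel.ι (midMap S π₁ tt) ≫ biprod.fst) ≫ biprod.inl := by
      apply biprod.hom_ext
      · simp
      · simp [h0]
    have h2 : (x₂ ≫ kernel.ι (midMap S π₁ tt) ≫ biprod.fst) ≫ π₁ = 0 := by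
      rw [← cancel_mono S.f, zero_comp, Category.assoc, ← inl_midMap (tt := tt),
        ← Category.assoc, ← h1, Category.assoc, kernel.condition, comp_zero]
    refine ⟨T, 𝟙 T, inferInstance, kernel.lift π₁ _ h2, ?_⟩
    change 𝟙 T ≫ x₂ = kernel.lift π₁ _ h2 ≫
      kernel.lift (midMap S π₁ tt) (kernel.ι π₁ ≫ biprod.inl) _
    rw [Category.id_comp, ← cancel_mono (kernel.ι (midMap S π₁ tt)), Category.assoc,
      kernel.lift_ι, ← Category.assoc, kernel.lift_ι]
    exact h1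
  mono_f := by
    change Mono (kernel.lift (midMap S π₁ tt) (kernel.ι π₁ ≫ biprod.inl) _)
    have : Mono (kernel.lift (midMap S π₁ tt) (kernel.ι π₁ ≫ biprod.inl)
        (by rw [Category.assoc, inl_midMap, ← Category.assoc, kernel.condition, zero_comp]) ≫
          kernel.ι (midMap S π₁ tt)) := by
      rw [kernel.lift_ι]; infer_instance
    exact mono_of_mono _ (kernel.ι (midMap S π₁ tt))
  epi_g := by
    have := hS.mono_f
    change Epi (kernel.lift π₃ (kernel.ι (midMap S π₁ tt) ≫ biprod.snd) _)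
    rw [epi_iff_surjective_up_to_refinements]
    intro T y
    have h1 : (y ≫ kernel.ι π₃ ≫ tt) ≫ S.g = 0 := by
      rw [Category.assoc, Category.assoc, htt, kernel.condition, comp_zero]
    let z : T ⟶ S.X₁ := hS.exact.lift _ h1
    have hz : z ≫ S.f = y ≫ kernel.ι π₃ ≫ tt := hS.exact.lift_f _ h1
    obtain ⟨T', π, hπ, a, ha⟩ := surjective_up_to_refinements_of_epi π₁ z
    have h2 : biprod.lift (-a) (π ≫ y ≫ kernel.ι π₃) ≫ midMap S π₁ tt = 0 := by
      unfold midMap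
      rw [biprod.lift_desc, Preadditive.neg_comp, ← Category.assoc, ← ha, Category.assoc, hz]
      simp
    refine ⟨T', π, hπ, kernel.lift _ _ h2, ?_⟩
    rw [← cancel_mono (kernel.ι π₃)]
    simp

end AbstractExt

section Main

variable {C : Type u} [SmallCategory C] {J : GrothendieckTopology C}
variable {O : Sheaf J CommRingCat.{u}} {B : Set C}
  (hB₁ : ∀ X : C, ∃ (κ : Type u) (Y : κ → C) (g : ∀ k, Y k ⟶ X),
    Sieve.ofArrows Y g ∈ J X ∧ ∀ k, Y k ∈ B)
  (hB₂ : ∀ U ∈ B, CohCx.IsQcObject ((presheafToSheaf J (Type u)).obj (yoneda.obj U)))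
  [HasPullbacks C]
  (hB₃ : ∀ (U U₁ U₂ : C) (f₁ : U₁ ⟶ U) (f₂ : U₂ ⟶ U), U ∈ B → U₁ ∈ B → U₂ ∈ B →
    CohCx.IsQcObject ((presheafToSheaf J (Type u)).obj (yoneda.obj (pullback f₁ f₂))))

include hB₁ hB₂ hB₃ in
/-- Refinement of an epimorphism from a finite free module: the composite still has finitely
generated kernel. -/
theorem exists_refinement_epi {M N : Mod O} (p : M ⟶ N) [Epi p] {n : ℕ} (U : Fin n → C)
    (hU : ∀ i, U i ∈ B) (π : (∐ fun i => freeOn O (U i)) ⟶ N) [Epi π]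
    (hK : FGB O B (kernel π)) :
    ∃ (P' : Mod O) (_ : IsBFree O B P') (ε : P' ⟶ ∐ fun i => freeOn O (U i)) (tt : P' ⟶ M),
      Epi ε ∧ tt ≫ p = ε ≫ π ∧ FGB O B (kernel (ε ≫ π)) := by
  obtain ⟨ι, hι, Y, hY, g, t, hcov, ht⟩ := exists_refinement_lift hB₁ hB₂ p U hU
    (fun i => Sigma.ι (fun i => freeOn O (U i)) i ≫ π)
  have hε : Epi (refMap (O := O) U ι Y g) := epi_refMap U ι Y g hcov
  refine ⟨_, isBFree_sigma (fun q : Σ i, ι i => Y q.1 q.2) (fun q => hY q.1 q.2),
    refMap (O := O) U ι Y g, Sigma.desc (fun q => t q.1 q.2), hε, ?_, ?_⟩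
  · apply Sigma.hom_ext
    rintro ⟨i, k⟩
    rw [Sigma.ι_desc_assoc, ht, ι_refMap_assoc]
  · have hKε : FGB O B (kernel (refMap (O := O) U ι Y g)) :=
      fgb_kernel_refMap hB₁ hB₃ U hU ι Y hY g hcov
    exact FGB.of_shortExact hB₁ hB₂ (kerCompSC_shortExact (refMap (O := O) U ι Y g) π) hKε hK

include hB₁ hB₂ hB₃ in
theorem main9116 (S : ShortComplex (Mod O)) (hS : S.ShortExact)
    (h₁ : TypeA O B S.X₁) (h₃ : TypeA O B S.X₃) : TypeA O B S.X₂ := by
  obtain ⟨n₁, U₁, hU₁, π₁, hπ₁, hK₁⟩ := h₁.exists_epi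
  obtain ⟨n₃, U₃, hU₃, π₃, hπ₃, hK₃⟩ := h₃.exists_epi
  have := hS.epi_g
  obtain ⟨P', hP', ε, tt, hε, htt, hK₃'⟩ :=
    exists_refinement_epi hB₁ hB₂ hB₃ S.g U₃ hU₃ π₃ hK₃
  have hKmid : FGB O B (kernel (midMap S π₁ tt)) :=
    FGB.of_shortExact hB₁ hB₂ (kerSC_shortExact hS htt) hK₁ hK₃'
  have : Epi (midMap S π₁ tt) := epi_midMap hS htt
  exact typeA_of_epi_fgb ((isBFree_sigma U₁ hU₁).biprod hP') (midMap S π₁ tt) hKmid

end Main

end Groth.Agent.Lib.Helper45.QcSum
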