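import Mathlib

/-!
# M2 for S5339: over a local Artinian base, local quasi-finiteness can be tested on the closed
fibre.
-/

set_option autoImplicit false
set_option linter.style.haveILetI false

universe u

open CategoryTheory CategoryTheory.Limits AlgebraicGeometry

namespace Groth.Agent.Lib.Helper45.QfM2

/-- The spectrum of a local Artinian ring is a single point. -/
theorem eq_closedPoint (A : Type u) [CommRing A] [IsArtinianRing A] [IsLocalRing A]
    (x : PrimeSpectrum A) : x = IsLocalRing.closedPoint A := by
  apply PrimeSpectrum.ext
  haveI : x.asIdeal.IsMaximal := IsArtinianRing.isMaximal_of_isPrime x.asIdeal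
  exact IsLocalRing.eq_maximalIdeal this

theorem surjective_spec_residue (A : Type u) [CommRing A] [IsArtinianRing A] [IsLocalRing A] :
    Function.Surjective
      (Spec.map (CommRingCat.ofHom (algebraMap A (IsLocalRing.ResidueField A)))).base := by
  intro x
  obtain ⟨y⟩ : Nonempty (Spec (CommRingCat.of (IsLocalRing.ResidueField A))) :=
    inferInstanceAs (Nonempty (PrimeSpectrum (IsLocalRing.ResidueField A)))
  refine ⟨y, ?_⟩
  exact (eq_closedPoint A _).trans (eq_closedPoint A x).symm

/-- If the source of a surjective closed immersion is discrete, so is the target. -/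
theorem discreteTopology_of_isClosedImmersion {P X : Scheme.{u}} (p : P ⟶ X)
    [IsClosedImmersion p] (hp : Function.Surjective p.base) [DiscreteTopology P] :
    DiscreteTopology X := by
  let h : P ≃ₜ X := p.isClosedEmbedding.isEmbedding.toHomeomorphOfSurjective hp
  exact h.symm.isEmbedding.discreteTopology

theorem locallyQuasiFinite_of_residue (A : Type u) [CommRing A] [IsArtinianRing A]
    [IsLocalRing A] {X : Scheme.{u}} (f : X ⟶ Spec (CommRingCat.of A)) [LocallyOfFiniteType f]
    [LocallyQuasiFinite (pullback.snd f (Spec.map (CommRingCat.ofHom
      (algebraMap A (IsLocalRing.ResidueField A)))))] : LocallyQuasiFinite f := by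
  set i := Spec.map (CommRingCat.ofHom (algebraMap A (IsLocalRing.ResidueField A))) with hi
  haveI : IsClosedImmersion i :=
    IsClosedImmersion.spec_of_surjective _ IsLocalRing.residue_surjective
  haveI : Surjective i := ⟨surjective_spec_residue A⟩
  -- the closed fibre is discrete
  have hdisc : DiscreteTopology ↥(pullback f i) := by
    obtain ⟨y⟩ : Nonempty (Spec (CommRingCat.of (IsLocalRing.ResidueField A))) :=
      inferInstanceAs (Nonempty (PrimeSpectrum (IsLocalRing.ResidueField A)))
    haveI : Subsingleton (Spec (CommRingCat.of (IsLocalRing.ResidueField A))) :=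
      inferInstanceAs (Subsingleton (PrimeSpectrum (IsLocalRing.ResidueField A)))
    have h1 := (pullback.snd f i).isDiscrete_preimage_singleton y
    have h2 : (pullback.snd f i) ⁻¹' {y} = Set.univ :=
      Set.eq_univ_of_forall (fun z => Subsingleton.elim _ _)
    rw [h2, isDiscrete_univ_iff] at h1
    exact h1
  haveI := hdisc
  haveI : DiscreteTopology X :=
    discreteTopology_of_isClosedImmersion (pullback.fst f i) (pullback.fst f i).surjective
  rw [locallyQuasiFinite_iff_isDiscrete_preimage_singleton]
  intro x
  rw [isDiscrete_iff_discreteTopology]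
  infer_instance

end Groth.Agent.Lib.Helper45.QfM2
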