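import Groth.Agent.Lib.Helper45.LocBasis1
import Mathlib.LinearAlgebra.Matrix.Rank
import Mathlib.Topology.LocallyConstant.Basic
import Mathlib.Algebra.Category.ModuleCat.Sheaf.LocallyFree

/-!
# The rank of a locally free module on a ringed space with nonzero stalks is well defined
and locally constant (matrix rank argument on sections).
-/

set_option autoImplicit false
set_option linter.style.haveILetI false
set_option linter.unusedSectionVars false
set_option linter.dupNamespace false

universe u

open CategoryTheory CategoryTheory.Limits Opposite ModSite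

namespace Groth.Agent.Lib.Helper45.Rank

open Groth.Agent.Lib.Helper45.QcSum Groth.Agent.Lib.Helper45.FTDict
  Groth.Agent.Lib.Helper45.ClosedImm Groth.Agent.Lib.Helper45.LocBasis

lemma le_card_of_mul_eq_one {R : Type*} [CommRing R] [Nontrivial R] {I : Type*} [Fintype I]
    [DecidableEq I] {m : ℕ} (A : I → Fin m → R) (B : Fin m → I → R)
    (h : ∀ j l, ∑ k, B j k * A k l = if j = l then 1 else 0) : m ≤ Fintype.card I := by
  have h1 : (Matrix.of B) * (Matrix.of A) = 1 := by
    ext j l
    rw [Matrix.mul_apply, Matrix.one_apply]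
    exact h j l
  have h2 := Matrix.rank_mul_le_left (Matrix.of B) (Matrix.of A)
  rw [h1, Matrix.rank_one, Fintype.card_fin] at h2
  exact h2.trans (Matrix.rank_le_card_width _)

variable {C : Type u} [SmallCategory C] {J : GrothendieckTopology C} (O : Sheaf J CommRingCat.{u})

theorem le_card_of_isos (F : Mod O) {U U' : C} {I I' : Type u} [Fintype I]
    (α : (restr O U).obj F ≅ SheafOfModules.free (R := ringSh (O.over U)) I)
    (α' : (restr O U').obj F ≅ SheafOfModules.free (R := ringSh (O.over U')) I')
    {W : C} (g : W ⟶ U) (g' : W ⟶ U') (hW : Nontrivial (O.obj.obj (op W)))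
    {m : ℕ} (ι : Fin m ↪ I') : m ≤ Fintype.card I := by
  classical
  let Z : Over U := Over.mk g
  let Z' : Over U' := Over.mk g'
  let N : Mod (O.over U) := (restr O U).obj F
  let N' : Mod (O.over U') := (restr O U').obj F
  -- sections
  let f : Fin m → F.val.obj (op W) := fun j =>
    α'.inv.val.app (op Z') (basis (O.over U') (ι j) Z')
  let gk : I → F.val.obj (op W) := fun k => α.inv.val.app (op Z) (basis (O.over U) k Z)
  let fN : Fin m → N.val.obj (op Z) := f
  let gN' : I → N'.val.obj (op Z') := gk
  let A : I → Fin m → O.obj.obj (op W) := fun k j => coord (O.over U) k Z (α.hom.val.app (op Z) (fN j))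
  let B : Fin m → I → O.obj.obj (op W) := fun j k =>
    coord (O.over U') (ι j) Z' (α'.hom.val.app (op Z') (gN' k))
  refine le_card_of_mul_eq_one (R := O.obj.obj (op W)) A B ?_
  intro j l
  have hinv : ∀ y : N.val.obj (op Z), α.inv.val.app (op Z) (α.hom.val.app (op Z) y) = y :=
    fun y => congrArg (fun θ => θ.val.app (op Z) y) α.hom_inv_id
  have hhi' : ∀ s, α'.hom.val.app (op Z') (α'.inv.val.app (op Z') s) = s := fun s =>
    congrArg (fun θ => θ.val.app (op Z') s) α'.inv_hom_id
  have e1 := eq_sum_coord (O.over U) Z (α.hom.val.app (op Z) (fN l))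
  have e2 : fN l = ∑ k, coord (O.over U) k Z (α.hom.val.app (op Z) (fN l)) •
      α.inv.val.app (op Z) (basis (O.over U) k Z) := by
    have h := congrArg (fun s => α.inv.val.app (op Z) s) e1
    simp only [hinv] at h
    refine h.trans ?_
    rw [map_sum]
    exact Finset.sum_congr rfl (fun k _ => by rw [map_smul])
  let cA : I → (ringSh (O.over U')).obj.obj (op Z') := fun k => A k l
  let fl' : N'.val.obj (op Z') := f l
  have e3 : fl' = ∑ k, cA k • gN' k := e2
  have e4 := congrArg (fun s => α'.hom.val.app (op Z') s) e3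
  simp only [fl', f, hhi'] at e4
  rw [map_sum] at e4
  have e5 := congrArg (coord (O.over U') (ι j) Z') e4
  rw [coord_basis, coord_sum] at e5
  simp only [map_smul, coord_smul] at e5
  have e6 : ∑ k, B j k * A k l = ∑ k, A k l * B j k :=
    Finset.sum_congr rfl (fun k _ => mul_comm _ _)
  rw [e6]
  have e7 : ∑ k, A k l * B j k = if ι l = ι j then 1 else 0 := e5.symm
  refine Eq.trans e7 ?_
  by_cases hjl : j = l
  · subst hjl
    simp
  · rw [if_neg hjl, if_neg]
    intro h
    exact hjl (ι.injective h).symm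

lemma card_le_of_forall_embedding {I I' : Type u} [Fintype I]
    (h : ∀ m : ℕ, (Fin m ↪ I') → m ≤ Fintype.card I) : ENat.card I' ≤ ENat.card I := by
  by_cases hfin : Finite I'
  · have := Fintype.ofFinite I'
    rw [ENat.card_eq_coe_fintype_card, ENat.card_eq_coe_fintype_card]
    have := h (Fintype.card I') (Fintype.equivFin I').symm.toEmbedding
    exact_mod_cast this
  · have : Infinite I' := not_finite_iff_infinite.1 hfin
    exfalso
    have := h (Fintype.card I + 1) ((Fin.valEmbedding).trans (Infinite.natEmbedding I'))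
    omega

section Top

open TopologicalSpace

variable {X : TopCat.{u}} (O : TopCat.Sheaf CommRingCat.{u} X)

lemma nontrivial_sections (hO : ∀ x : X, Nontrivial (O.presheaf.stalk x)) (W : Opens X) (x : X)
    (hx : x ∈ W) : Nontrivial (O.obj.obj (op W)) := by
  refine ⟨⟨0, 1, fun h => ?_⟩⟩
  have h1 := congrArg (O.presheaf.germ W x hx).hom h
  rw [map_zero, map_one] at h1
  exact zero_ne_one h1

theorem card_le_of_isos_top (hO : ∀ x : X, Nontrivial (O.presheaf.stalk x)) (F : ModSite.Mod O)
    (x : X) {U U' : Opens X} (hxU : x ∈ U) (hxU' : x ∈ U') {I I' : Type u}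
    (α : Nonempty ((ModSite.restr O U).obj F ≅ SheafOfModules.free I))
    (α' : Nonempty ((ModSite.restr O U').obj F ≅ SheafOfModules.free I')) :
    ENat.card I' ≤ ENat.card I := by
  obtain ⟨α⟩ := α
  obtain ⟨α'⟩ := α'
  by_cases hfin : Finite I
  · have := Fintype.ofFinite I
    apply card_le_of_forall_embedding
    intro m ι
    exact le_card_of_isos O F α α' (homOfLE (inf_le_left : U ⊓ U' ≤ U))
      (homOfLE (inf_le_right : U ⊓ U' ≤ U'))
      (nontrivial_sections O hO (U ⊓ U') x ⟨hxU, hxU'⟩) ι
  · have : Infinite I := not_finite_iff_infinite.1 hfin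
    rw [ENat.card_eq_top_of_infinite (α := I)]
    exact le_top

theorem exists_rank (hO : ∀ x : X, Nontrivial (O.presheaf.stalk x)) (F : ModSite.Mod O)
    [SheafOfModules.IsLocallyFree (R := ModSite.ringSh O) F] :
    ∃ rk : X → ℕ∞, IsLocallyConstant rk ∧
      ∀ (x : X) (U : Opens X) (I : Type u), x ∈ U →
        Nonempty ((ModSite.restr O U).obj F ≅ SheafOfModules.free I) → ENat.card I = rk x := by
  classical
  obtain ⟨q, hq⟩ := SheafOfModules.IsLocallyFree.exists_isLocallyFreeData (M := F)
  have hloc : ∀ x : X, ∃ (U : Opens X) (I : Type u), x ∈ U ∧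
      Nonempty ((ModSite.restr O U).obj F ≅ SheafOfModules.free I) := by
    intro x
    obtain ⟨V, f, ⟨i, ⟨k⟩⟩, hxV⟩ := q.coversTop ⊤ x trivial
    have := hq.isIso i
    exact ⟨q.X i, (q.generators i).I, leOfHom k hxV, ⟨(asIso (q.generators i).π).symm⟩⟩
  choose U₀ I₀ hxU₀ hα₀ using hloc
  refine ⟨fun x => ENat.card (I₀ x), ?_, ?_⟩
  · rw [IsLocallyConstant.iff_exists_open]
    intro x
    refine ⟨U₀ x, (U₀ x).2, hxU₀ x, fun y hy => ?_⟩
    exact le_antisymm
      (card_le_of_isos_top O hO F y hy (hxU₀ y) (hα₀ x) (hα₀ y))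
      (card_le_of_isos_top O hO F y (hxU₀ y) hy (hα₀ y) (hα₀ x))
  · intro x U I hxU hα
    exact le_antisymm
      (card_le_of_isos_top O hO F x (hxU₀ x) hxU (hα₀ x) hα)
      (card_le_of_isos_top O hO F x hxU (hxU₀ x) hα (hα₀ x))

end Top

end Groth.Agent.Lib.Helper45.Rank
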