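import Mathlib
import Groth.Agent.S4875

/-! `RC` (ring core of S4877, for helper78): over a field `k`, if `b^m τ` dies in every
`C i ⊗[k] R` for a locally separating family `ψ i : A → C i`, then `b^m τ = 0` in `A ⊗[k] R`.
Reduction to a finitely generated subalgebra `R₀ ⊆ R` and `Groth.Agent.S4875.ringF`. -/

set_option autoImplicit false
set_option linter.style.haveILetI false
universe u
open CategoryTheory CategoryTheory.Limits AlgebraicGeometry TensorProduct

namespace Groth.Agent.Lib.Helper45.SDFRC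

section incl
variable {k : Type u} [Field k] (A : Type u) [CommRing A] [Algebra k A] {R : Type u} [CommRing R]
  [Algebra k R]

/-- `A ⊗ R₀ → A ⊗ R` -/
noncomputable abbrev incl (R₀ : Subalgebra k R) : A ⊗[k] R₀ →ₐ[k] A ⊗[k] R :=
  Algebra.TensorProduct.map (AlgHom.id k A) R₀.val

theorem incl_injective (R₀ : Subalgebra k R) : Function.Injective (incl A R₀) := by
  have h : ⇑(incl A R₀) = ⇑(R₀.val.toLinearMap.lTensor A) := by
    funext z
    induction z using TensorProduct.induction_on with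
    | zero => simp
    | tmul a r => simp [incl]
    | add x y hx hy => simp only [map_add, hx, hy]
  rw [h]
  exact Module.Flat.lTensor_preserves_injective_linearMap _ Subtype.val_injective

theorem incl_inclusion {R₁ R₂ : Subalgebra k R} (h : R₁ ≤ R₂) (z : A ⊗[k] R₁) :
    incl A R₂ (Algebra.TensorProduct.map (AlgHom.id k A) (Subalgebra.inclusion h) z) =
      incl A R₁ z := by
  induction z using TensorProduct.induction_on with
  | zero => simp
  | tmul a r => simp [incl]
  | add x y hx hy => simp only [map_add, hx, hy]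

theorem exists_finset (x : A ⊗[k] R) :
    ∃ (S : Finset R) (x₀ : A ⊗[k] Algebra.adjoin k (S : Set R)),
      incl A (Algebra.adjoin k (S : Set R)) x₀ = x := by
  classical
  induction x using TensorProduct.induction_on with
  | zero => exact ⟨∅, 0, map_zero _⟩
  | tmul a r =>
    refine ⟨{r}, a ⊗ₜ ⟨r, Algebra.subset_adjoin (by simp)⟩, by simp [incl]⟩
  | add x y hx hy =>
    obtain ⟨S₁, x₀, hx₀⟩ := hx
    obtain ⟨S₂, y₀, hy₀⟩ := hy
    have h1 : Algebra.adjoin k (S₁ : Set R) ≤ Algebra.adjoin k ((S₁ ∪ S₂ : Finset R) : Set R) :=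
      Algebra.adjoin_mono (by simp)
    have h2 : Algebra.adjoin k (S₂ : Set R) ≤ Algebra.adjoin k ((S₁ ∪ S₂ : Finset R) : Set R) :=
      Algebra.adjoin_mono (by simp)
    refine ⟨S₁ ∪ S₂, Algebra.TensorProduct.map (AlgHom.id k A) (Subalgebra.inclusion h1) x₀ +
      Algebra.TensorProduct.map (AlgHom.id k A) (Subalgebra.inclusion h2) y₀, ?_⟩
    rw [map_add, incl_inclusion, incl_inclusion, hx₀, hy₀]

end incl

theorem RC_core {k : Type u} [Field k] {A R : Type u} [CommRing A] [Algebra k A] [CommRing R]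
    [Algebra k R]
    (b τ : A ⊗[k] R) {Λ : Type u} (C : Λ → Type u) [∀ i, CommRing (C i)] [∀ i, Algebra k (C i)]
    (ψ : ∀ i, A →ₐ[k] C i)
    (hvan : ∀ i, ∃ m : ℕ, (Algebra.TensorProduct.map (ψ i) (AlgHom.id k R) b) ^ m *
      Algebra.TensorProduct.map (ψ i) (AlgHom.id k R) τ = 0)
    (key : ∀ (B : Type u) [CommRing B] [Algebra A B] [Module.Flat A B]
      [Algebra.FinitePresentation A B] (t : B),
       (∀ i, ∀ (R' : Type u) [CommRing R'] (α : C i →+* R') (β : B →+* R'),
          α.comp (ψ i : A →+* C i) = β.comp (algebraMap A B) → β t = 0) → t = 0) :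
    ∃ m : ℕ, b ^ m * τ = 0 := by
  classical
  obtain ⟨S₁, b₁, hb₁⟩ := exists_finset A b
  obtain ⟨S₂, τ₂, hτ₂⟩ := exists_finset A τ
  set R₀ : Subalgebra k R := Algebra.adjoin k ((S₁ ∪ S₂ : Finset R) : Set R) with hR₀
  have h1 : Algebra.adjoin k (S₁ : Set R) ≤ R₀ := Algebra.adjoin_mono (by simp)
  have h2 : Algebra.adjoin k (S₂ : Set R) ≤ R₀ := Algebra.adjoin_mono (by simp)
  set b₀ : A ⊗[k] R₀ :=
    Algebra.TensorProduct.map (AlgHom.id k A) (Subalgebra.inclusion h1) b₁ with hb₀
  set τ₀ : A ⊗[k] R₀ :=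
    Algebra.TensorProduct.map (AlgHom.id k A) (Subalgebra.inclusion h2) τ₂ with hτ₀
  have hb : incl A R₀ b₀ = b := by rw [hb₀, incl_inclusion, hb₁]
  have hτ : incl A R₀ τ₀ = τ := by rw [hτ₀, incl_inclusion, hτ₂]
  haveI : Algebra.FiniteType k R₀ :=
    (Subalgebra.fg_iff_finiteType _).mp (Subalgebra.fg_adjoin_finset _)
  haveI : Algebra.FinitePresentation k R₀ :=
    Algebra.FinitePresentation.of_finiteType.mp inferInstance
  haveI : Algebra.FinitePresentation A (A ⊗[k] R₀) := Algebra.FinitePresentation.baseChange A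
  haveI : Algebra.FinitePresentation (A ⊗[k] R₀) (Localization.Away b₀) :=
    IsLocalization.Away.finitePresentation b₀
  haveI : Algebra.FinitePresentation A (Localization.Away b₀) :=
    Algebra.FinitePresentation.trans A (A ⊗[k] R₀) _
  haveI : Module.Flat (A ⊗[k] R₀) (Localization.Away b₀) :=
    IsLocalization.flat _ (Submonoid.powers b₀)
  haveI : Module.Flat A (Localization.Away b₀) := Module.Flat.trans A (A ⊗[k] R₀) _
  have hzero : algebraMap (A ⊗[k] R₀) (Localization.Away b₀) τ₀ = 0 := by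
    apply key
    intro i R' _ α β hαβ
    obtain ⟨m, hm⟩ := hvan i
    have hsq : ∀ z : A ⊗[k] R₀, Algebra.TensorProduct.map (ψ i) (AlgHom.id k R) (incl A R₀ z) =
        incl (C i) R₀ (Algebra.TensorProduct.map (ψ i) (AlgHom.id k R₀) z) := by
      intro z
      induction z using TensorProduct.induction_on with
      | zero => simp
      | tmul a r => simp [incl]
      | add x y hx hy => simp only [map_add, hx, hy]
    have hm₀ : (Algebra.TensorProduct.map (ψ i) (AlgHom.id k R₀) b₀) ^ m *
        Algebra.TensorProduct.map (ψ i) (AlgHom.id k R₀) τ₀ = 0 := by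
      apply incl_injective (C i) R₀
      rw [map_mul, map_pow, ← hsq, ← hsq, hb, hτ, hm, map_zero]
    have hA : ∀ a : A,
        β (algebraMap (A ⊗[k] R₀) (Localization.Away b₀) (a ⊗ₜ 1)) = α (ψ i a) := by
      intro a
      have := congrArg (fun f => f a) hαβ
      simp only [RingHom.comp_apply] at this
      rw [show (a ⊗ₜ[k] (1 : R₀) : A ⊗[k] R₀) = algebraMap A (A ⊗[k] R₀) a from rfl,
        ← IsScalarTower.algebraMap_apply]
      exact this.symm
    letI : Algebra k R' := (α.comp (algebraMap k (C i))).toAlgebra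
    let α' : C i →ₐ[k] R' := { α with commutes' := fun c => rfl }
    let ρ : R₀ →ₐ[k] R' :=
      { (β.comp (algebraMap (A ⊗[k] R₀) (Localization.Away b₀))).comp
          (Algebra.TensorProduct.includeRight : R₀ →ₐ[k] A ⊗[k] R₀).toRingHom with
        commutes' := fun c => by
          show β (algebraMap (A ⊗[k] R₀) (Localization.Away b₀)
            ((1 : A) ⊗ₜ[k] algebraMap k R₀ c)) = α (algebraMap k (C i) c)
          have : ((1 : A) ⊗ₜ[k] algebraMap k R₀ c : A ⊗[k] R₀) = (algebraMap k A c) ⊗ₜ 1 := by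
            rw [Algebra.algebraMap_eq_smul_one, Algebra.algebraMap_eq_smul_one,
              TensorProduct.smul_tmul]
          rw [this, hA, AlgHom.commutes] }
    have hγ : ∀ z : A ⊗[k] R₀, Algebra.TensorProduct.productMap α' ρ
        (Algebra.TensorProduct.map (ψ i) (AlgHom.id k R₀) z) =
        β (algebraMap (A ⊗[k] R₀) (Localization.Away b₀) z) := by
      intro z
      induction z using TensorProduct.induction_on with
      | zero => simp
      | tmul a r =>
        rw [Algebra.TensorProduct.map_tmul, Algebra.TensorProduct.productMap_apply_tmul]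
        have : (a ⊗ₜ[k] r : A ⊗[k] R₀) = (a ⊗ₜ 1) * (1 ⊗ₜ r) := by
          rw [Algebra.TensorProduct.tmul_mul_tmul, mul_one, one_mul]
        rw [this, map_mul, map_mul, hA]
        rfl
      | add x y hx hy => simp only [map_add, hx, hy]
    have h3 := congrArg (Algebra.TensorProduct.productMap α' ρ) hm₀
    rw [map_mul, map_pow, hγ, hγ, map_zero] at h3
    have hu : IsUnit (β (algebraMap (A ⊗[k] R₀) (Localization.Away b₀) b₀)) :=
      (IsLocalization.Away.algebraMap_isUnit b₀).map β
    exact (hu.pow m).mul_right_eq_zero.mp h3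
  obtain ⟨⟨_, n, rfl⟩, hn⟩ :=
    (IsLocalization.map_eq_zero_iff (Submonoid.powers b₀) _ τ₀).mp hzero
  refine ⟨n, ?_⟩
  rw [← hb, ← hτ, ← map_pow, ← map_mul]
  have hn' : b₀ ^ n * τ₀ = 0 := hn
  rw [hn', map_zero]

theorem RC {k : Type u} [Field k] {A R : Type u} [CommRing A] [Algebra k A] [CommRing R]
    [Algebra k R] (b τ : A ⊗[k] R) {Λ : Type u} (C : Λ → Type u) [∀ i, CommRing (C i)]
    [∀ i, Algebra k (C i)] (ψ : ∀ i, A →ₐ[k] C i)
    (hSL : ∀ (g x : A), (∀ i, ∃ m : ℕ, ψ i g ^ m * ψ i x = 0) → ∃ m : ℕ, g ^ m * x = 0)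
    (hvan : ∀ i, ∃ m : ℕ, (Algebra.TensorProduct.map (ψ i) (AlgHom.id k R) b) ^ m *
      Algebra.TensorProduct.map (ψ i) (AlgHom.id k R) τ = 0) : ∃ m : ℕ, b ^ m * τ = 0 := by
  refine RC_core b τ C ψ hvan ?_
  intro B _ _ _ _ t ht
  obtain ⟨l, hl, hfree⟩ := Groth.Agent.S2591.result (A := A) (B := B) B
  exact Groth.Agent.S4875.ringF (A := A) B l hl hfree C (fun i => (ψ i : A →+* C i))
    (fun g x hx => hSL g x hx) t ht

end Groth.Agent.Lib.Helper45.SDFRC
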