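import Groth.Agent.Lib.Helper21.SepPull
import Groth.Agent.S4875
import Groth.Agent.Lib.Lead.QCohAff8
import Groth.Agent.Lib.Helper2.KerSec

/-! `G2M` (for helper78, S4911): module analogue of `Helper45.SDG2F.G2F`. A separating family of
maps of quasi-coherent modules `u i : F ⟶ G i` is locally separating on sections over an affine
open `U`: if `g ^ m` kills `u i x` for all `i` then some `g ^ m` kills `x`. -/

set_option autoImplicit false
set_option linter.style.haveILetI false

universe u

open AlgebraicGeometry CategoryTheory Opposite TopologicalSpace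
open Scheme.Modules TensorProduct Groth.Agent.Lib.Helper21.QCohSections

namespace Groth.Agent.Lib.Helper45.SDMG2M

theorem G2M {X : Scheme.{u}} (F : X.Modules) [F.IsQuasicoherent] {ι : Type u}
    (G : ι → X.Modules) [∀ i, (G i).IsQuasicoherent] (u : ∀ i, F ⟶ G i)
    (h : ∀ (V : X.Opens) (t : Γ(F, V)), (∀ i, (u i).app V t = 0) → t = 0)
    (U : X.Opens) (hU : IsAffineOpen U) (g : Γ(X, U)) (x : Γ(F, U))
    (hx : ∀ i, ∃ m : ℕ, g ^ m • (appL (u i) U x) = 0) : ∃ m : ℕ, g ^ m • x = 0 := by
  have hloc := Groth.Agent.Lib.Lead.QCohAff.LocOn.of_isQuasicoherent F hU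
  apply hloc.1 g x
  apply h (X.basicOpen g)
  intro i
  obtain ⟨m, hm⟩ := hx i
  rw [Groth.Agent.Lib.Helper2.KerSec.naturality_apply (u i) (homOfLE (X.basicOpen_le g)) x]
  have h1 := congrArg ((G i).presheaf.map (homOfLE (X.basicOpen_le g)).op) hm
  rw [Groth.Agent.Lib.Lead.QCohAff.res_smul, map_zero, map_pow] at h1
  have hu : IsUnit ((X.presheaf.map (homOfLE (X.basicOpen_le g)).op g) ^ m) :=
    (X.toRingedSpace.isUnit_res_basicOpen g).pow m
  have h2 : ((G i).presheaf.map (homOfLE (X.basicOpen_le g)).op) ((u i).app U x) =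
      (↑hu.unit⁻¹ : Γ(X, X.basicOpen g)) •
        ((X.presheaf.map (homOfLE (X.basicOpen_le g)).op g) ^ m •
          ((G i).presheaf.map (homOfLE (X.basicOpen_le g)).op) ((u i).app U x)) := by
    rw [smul_smul, IsUnit.val_inv_mul, one_smul]
  rw [h2]
  erw [h1]
  rw [smul_zero]

end Groth.Agent.Lib.Helper45.SDMG2M
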