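import Mathlib
import Groth.Agent.S4875
import Groth.Agent.Lib.Helper60.SDMPUR

/-! `RCM` (module ring core of S4911, for helper78): over a field `K`, a locally separating family
`φ i : M → N i` of `A`-modules stays separating after `Bu ⊗[A] -` where `Bu = (A ⊗[K] R)[1/b]`.
Reduction to a finitely generated subalgebra `R₀ ⊆ R` and `Groth.Agent.S4875.sep_aux`. -/

set_option autoImplicit false
set_option linter.style.haveILetI false
universe u
open TensorProduct Groth.Agent.Lib.Helper60.SDMPUR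

namespace Groth.Agent.Lib.Helper45.SDMRCM

section fin
variable {K : Type u} [Field K] (A : Type u) [CommRing A] [Algebra K A] {R : Type u} [CommRing R]
  [Algebra K R] (M : Type u) [AddCommGroup M] [Module A M]

theorem inclA_inclusion {R₁ R₂ : Subalgebra K R} (h : R₁ ≤ R₂) (z : A ⊗[K] R₁) :
    inclA A R₂ (Algebra.TensorProduct.map (AlgHom.id A A) (Subalgebra.inclusion h) z) =
      inclA A R₁ z := by
  induction z using TensorProduct.induction_on with
  | zero => simp
  | tmul a r => simp [inclA]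
  | add x y hx hy => simp only [map_add, hx, hy]

theorem exists_finset_ring (x : A ⊗[K] R) :
    ∃ (S : Finset R) (x₀ : A ⊗[K] Algebra.adjoin K (S : Set R)),
      inclA A (Algebra.adjoin K (S : Set R)) x₀ = x := by
  classical
  induction x using TensorProduct.induction_on with
  | zero => exact ⟨∅, 0, map_zero _⟩
  | tmul a r =>
    refine ⟨{r}, a ⊗ₜ ⟨r, Algebra.subset_adjoin (by simp)⟩, by simp [inclA]⟩
  | add x y hx hy =>
    obtain ⟨S₁, x₀, hx₀⟩ := hx
    obtain ⟨S₂, y₀, hy₀⟩ := hy
    have h1 : Algebra.adjoin K (S₁ : Set R) ≤ Algebra.adjoin K ((S₁ ∪ S₂ : Finset R) : Set R) :=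
      Algebra.adjoin_mono (by simp)
    have h2 : Algebra.adjoin K (S₂ : Set R) ≤ Algebra.adjoin K ((S₁ ∪ S₂ : Finset R) : Set R) :=
      Algebra.adjoin_mono (by simp)
    refine ⟨S₁ ∪ S₂, Algebra.TensorProduct.map (AlgHom.id A A) (Subalgebra.inclusion h1) x₀ +
      Algebra.TensorProduct.map (AlgHom.id A A) (Subalgebra.inclusion h2) y₀, ?_⟩
    rw [map_add, inclA_inclusion, inclA_inclusion, hx₀, hy₀]

theorem rT_inclusion {R₁ R₂ : Subalgebra K R} (h : R₁ ≤ R₂) (z : (A ⊗[K] R₁) ⊗[A] M) :
    LinearMap.rTensor M (inclA A R₂).toLinearMap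
      (LinearMap.rTensor M (Algebra.TensorProduct.map (AlgHom.id A A)
        (Subalgebra.inclusion h)).toLinearMap z) =
      LinearMap.rTensor M (inclA A R₁).toLinearMap z := by
  induction z using TensorProduct.induction_on with
  | zero => simp
  | tmul c m =>
    simp only [LinearMap.rTensor_tmul, AlgHom.toLinearMap_apply]
    rw [inclA_inclusion]
  | add x y hx hy => simp only [map_add, hx, hy]

theorem exists_finset_mod (y : (A ⊗[K] R) ⊗[A] M) :
    ∃ (S : Finset R) (y₀ : (A ⊗[K] Algebra.adjoin K (S : Set R)) ⊗[A] M),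
      LinearMap.rTensor M (inclA A (Algebra.adjoin K (S : Set R))).toLinearMap y₀ = y := by
  classical
  induction y using TensorProduct.induction_on with
  | zero => exact ⟨∅, 0, map_zero _⟩
  | tmul c m =>
    obtain ⟨S, c₀, hc₀⟩ := exists_finset_ring A c
    exact ⟨S, c₀ ⊗ₜ m, by simp only [LinearMap.rTensor_tmul, AlgHom.toLinearMap_apply, hc₀]⟩
  | add x y hx hy =>
    obtain ⟨S₁, x₀, hx₀⟩ := hx
    obtain ⟨S₂, y₀, hy₀⟩ := hy
    have h1 : Algebra.adjoin K (S₁ : Set R) ≤ Algebra.adjoin K ((S₁ ∪ S₂ : Finset R) : Set R) :=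
      Algebra.adjoin_mono (by simp)
    have h2 : Algebra.adjoin K (S₂ : Set R) ≤ Algebra.adjoin K ((S₁ ∪ S₂ : Finset R) : Set R) :=
      Algebra.adjoin_mono (by simp)
    refine ⟨S₁ ∪ S₂, LinearMap.rTensor M (Algebra.TensorProduct.map (AlgHom.id A A)
        (Subalgebra.inclusion h1)).toLinearMap x₀ +
      LinearMap.rTensor M (Algebra.TensorProduct.map (AlgHom.id A A)
        (Subalgebra.inclusion h2)).toLinearMap y₀, ?_⟩
    rw [map_add, rT_inclusion, rT_inclusion, hx₀, hy₀]

/-- a common finitely generated subalgebra for a ring element and a module element. -/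
theorem exists_common (b : A ⊗[K] R) (y : (A ⊗[K] R) ⊗[A] M) :
    ∃ (S : Finset R) (b₀ : A ⊗[K] Algebra.adjoin K (S : Set R))
      (y₀ : (A ⊗[K] Algebra.adjoin K (S : Set R)) ⊗[A] M),
      inclA A (Algebra.adjoin K (S : Set R)) b₀ = b ∧
      LinearMap.rTensor M (inclA A (Algebra.adjoin K (S : Set R))).toLinearMap y₀ = y := by
  classical
  obtain ⟨S₁, b₁, hb₁⟩ := exists_finset_ring A b
  obtain ⟨S₂, y₂, hy₂⟩ := exists_finset_mod A M y
  have h1 : Algebra.adjoin K (S₁ : Set R) ≤ Algebra.adjoin K ((S₁ ∪ S₂ : Finset R) : Set R) :=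
    Algebra.adjoin_mono (by simp)
  have h2 : Algebra.adjoin K (S₂ : Set R) ≤ Algebra.adjoin K ((S₁ ∪ S₂ : Finset R) : Set R) :=
    Algebra.adjoin_mono (by simp)
  exact ⟨S₁ ∪ S₂, Algebra.TensorProduct.map (AlgHom.id A A) (Subalgebra.inclusion h1) b₁,
    LinearMap.rTensor M (Algebra.TensorProduct.map (AlgHom.id A A)
        (Subalgebra.inclusion h2)).toLinearMap y₂,
    by rw [inclA_inclusion, hb₁], by rw [rT_inclusion, hy₂]⟩

theorem exists_common' (b : A ⊗[K] R) (y : (A ⊗[K] R) ⊗[A] M) :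
    ∃ (R₀ : Subalgebra K R), R₀.FG ∧ ∃ (b₀ : A ⊗[K] R₀) (y₀ : (A ⊗[K] R₀) ⊗[A] M),
      inclA A R₀ b₀ = b ∧ LinearMap.rTensor M (inclA A R₀).toLinearMap y₀ = y := by
  obtain ⟨S, b₀, y₀, h1, h2⟩ := exists_common A M b y
  exact ⟨_, Subalgebra.fg_adjoin_finset S, b₀, y₀, h1, h2⟩

end fin



section gen
variable {A : Type u} [CommRing A] {T Bu : Type u} [CommRing T] [CommRing Bu] [Algebra A T]
  [Algebra T Bu] [Algebra A Bu] [IsScalarTower A T Bu]
  {M N : Type u} [AddCommGroup M] [Module A M] [AddCommGroup N] [Module A N]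

/-- localization commutes with `⊗[A] N`. -/
theorem isLocalizedModule_rT (b : T) [IsLocalization.Away b Bu] (N : Type u) [AddCommGroup N]
    [Module A N] :
    IsLocalizedModule (Submonoid.powers b)
      (TensorProduct.AlgebraTensorModule.rTensor A N (Algebra.linearMap T Bu)) := by
  haveI : IsLocalizedModule (Submonoid.powers b) (Algebra.linearMap T Bu) :=
    (isLocalizedModule_iff_isLocalization).mpr inferInstance
  infer_instance

theorem C1 (φ : M →ₗ[A] N) (y : T ⊗[A] M) :
    φ.lTensor Bu (TensorProduct.AlgebraTensorModule.rTensor A M (Algebra.linearMap T Bu) y) =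
      TensorProduct.AlgebraTensorModule.rTensor A N (Algebra.linearMap T Bu) (φ.lTensor T y) := by
  induction y using TensorProduct.induction_on with
  | zero => simp
  | tmul c m => simp
  | add x y hx hy => simp only [map_add, hx, hy]

theorem S1 (φ : M →ₗ[A] N) (c : T) (x : Bu ⊗[A] M) :
    φ.lTensor Bu (c • x) = c • φ.lTensor Bu x := by
  induction x using TensorProduct.induction_on with
  | zero => simp
  | tmul β m => simp [TensorProduct.smul_tmul']
  | add x y hx hy => simp only [smul_add, map_add, hx, hy]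

theorem Isemi {T₀ : Type u} [CommRing T₀] [Algebra A T₀] (j : T₀ →ₐ[A] T) (c : T₀)
    (w : T₀ ⊗[A] N) :
    j.toLinearMap.rTensor N (c • w) = j c • j.toLinearMap.rTensor N w := by
  induction w using TensorProduct.induction_on with
  | zero => simp
  | tmul d n => simp [TensorProduct.smul_tmul']
  | add x y hx hy => simp only [smul_add, map_add, hx, hy]

theorem C2 {T₀ : Type u} [CommRing T₀] [Algebra A T₀] (j : T₀ →ₐ[A] T) (φ : M →ₗ[A] N)
    (y₀ : T₀ ⊗[A] M) :
    φ.lTensor T (j.toLinearMap.rTensor M y₀) = j.toLinearMap.rTensor N (φ.lTensor T₀ y₀) := by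
  induction y₀ using TensorProduct.induction_on with
  | zero => simp
  | tmul d n => simp
  | add x y hx hy => simp only [map_add, hx, hy]

theorem C4 (φ : M →ₗ[A] N) (w : T ⊗[A] M) :
    φ.rTensor T (TensorProduct.comm A T M w) = TensorProduct.comm A T N (φ.lTensor T w) := by
  induction w using TensorProduct.induction_on with
  | zero => simp
  | tmul d n => simp
  | add x y hx hy => simp only [map_add, hx, hy]

end gen


theorem RCM {K : Type u} [Field K] {A R : Type u} [CommRing A] [Algebra K A] [CommRing R]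
    [Algebra K R] {Bp Bu : Type u} [CommRing Bp] [CommRing Bu] [Algebra Bp Bu] [Algebra A Bu]
    (θ : A ⊗[K] R ≃+* Bp) (b' : Bp) [IsLocalization.Away b' Bu]
    (hA : ∀ a : A, algebraMap A Bu a = algebraMap Bp Bu (θ (a ⊗ₜ[K] (1 : R))))
    {M : Type u} [AddCommGroup M] [Module A M] {Λ : Type u} (N : Λ → Type u)
    [∀ i, AddCommGroup (N i)] [∀ i, Module A (N i)] (φ : ∀ i, M →ₗ[A] N i)
    (hSL : ∀ (g : A) (x : M), (∀ i, ∃ m : ℕ, g ^ m • φ i x = 0) → ∃ m : ℕ, g ^ m • x = 0)
    (x : Bu ⊗[A] M) (hx : ∀ i, LinearMap.lTensor Bu (φ i) x = 0) : x = 0 := by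
  classical
  letI : Algebra A Bp := (θ.toRingHom.comp (algebraMap A (A ⊗[K] R))).toAlgebra
  haveI : IsScalarTower A Bp Bu := IsScalarTower.of_algebraMap_eq (fun a => hA a)
  let θ' : (A ⊗[K] R) ≃ₐ[A] Bp := { θ with commutes' := fun a => rfl }
  -- localization maps over `Bp`
  haveI hG : ∀ (P : Type u) [AddCommGroup P] [Module A P], IsLocalizedModule (Submonoid.powers b')
      (TensorProduct.AlgebraTensorModule.rTensor A P (Algebra.linearMap Bp Bu)) :=
    fun P _ _ => isLocalizedModule_rT b' P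
  obtain ⟨⟨y, s⟩, hs⟩ := IsLocalizedModule.surj (Submonoid.powers b')
    (TensorProduct.AlgebraTensorModule.rTensor A M (Algebra.linearMap Bp Bu)) x
  -- step 2
  have h2 : ∀ i, ∃ m : ℕ, b' ^ m • (φ i).lTensor Bp y = 0 := by
    intro i
    have h0 : TensorProduct.AlgebraTensorModule.rTensor A (N i) (Algebra.linearMap Bp Bu)
        ((φ i).lTensor Bp y) = 0 := by
      rw [← C1, ← hs]
      show (φ i).lTensor Bu ((s : Bp) • x) = 0
      rw [S1, hx i, smul_zero]
    obtain ⟨⟨_, m, rfl⟩, hm⟩ := (IsLocalizedModule.eq_zero_iff (Submonoid.powers b') _).mp h0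
    exact ⟨m, hm⟩
  -- step 3: finite subalgebra
  obtain ⟨R₀, hfg, b₀, y₀, hb₀, hy₀⟩ := exists_common' A M (θ.symm b')
    (θ'.symm.toLinearMap.rTensor M y)
  let j : (A ⊗[K] R₀) →ₐ[A] Bp := θ'.toAlgHom.comp (inclA A R₀)
  have hjb : j b₀ = b' := by
    show θ (inclA A R₀ b₀) = b'
    rw [hb₀, RingEquiv.apply_symm_apply]
  have hjy : j.toLinearMap.rTensor M y₀ = y := by
    have : j.toLinearMap = θ'.toLinearMap ∘ₗ (inclA A R₀).toLinearMap := rfl
    rw [this, LinearMap.rTensor_comp_apply, hy₀, ← LinearMap.rTensor_comp_apply]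
    have : θ'.toLinearMap ∘ₗ θ'.symm.toLinearMap = LinearMap.id := by
      ext c; simp
    rw [this, LinearMap.rTensor_id_apply]
  have hjinj : ∀ (P : Type u) [AddCommGroup P] [Module A P],
      Function.Injective (j.toLinearMap.rTensor P) := by
    intro P _ _
    have : j.toLinearMap = θ'.toLinearMap ∘ₗ (inclA A R₀).toLinearMap := rfl
    rw [this, LinearMap.rTensor_comp, LinearMap.coe_comp]
    refine Function.Injective.comp ?_ (inclN_injective A R₀ P)
    apply Function.LeftInverse.injective (g := θ'.symm.toLinearMap.rTensor P)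
    intro w
    rw [← LinearMap.rTensor_comp_apply]
    have : θ'.symm.toLinearMap ∘ₗ θ'.toLinearMap = LinearMap.id := by
      ext c; simp
    rw [this, LinearMap.rTensor_id_apply]
  -- step 4
  have h4 : ∀ i, ∃ m : ℕ, b₀ ^ m • (φ i).lTensor (A ⊗[K] R₀) y₀ = 0 := by
    intro i
    obtain ⟨m, hm⟩ := h2 i
    refine ⟨m, hjinj (N i) ?_⟩
    rw [Isemi, ← C2, hjy, map_pow, hjb, hm, map_zero]
  -- step 5: the finitely presented flat algebra `B₀`
  haveI : Algebra.FiniteType K R₀ := (Subalgebra.fg_iff_finiteType _).mp hfg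
  haveI : Algebra.FinitePresentation K R₀ :=
    Algebra.FinitePresentation.of_finiteType.mp inferInstance
  haveI : Algebra.FinitePresentation A (A ⊗[K] R₀) := Algebra.FinitePresentation.baseChange A
  haveI : Algebra.FinitePresentation (A ⊗[K] R₀) (Localization.Away b₀) :=
    IsLocalization.Away.finitePresentation b₀
  haveI : Algebra.FinitePresentation A (Localization.Away b₀) :=
    Algebra.FinitePresentation.trans A (A ⊗[K] R₀) _
  haveI : Module.Flat (A ⊗[K] R₀) (Localization.Away b₀) :=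
    IsLocalization.flat _ (Submonoid.powers b₀)
  haveI : Module.Flat A (Localization.Away b₀) := Module.Flat.trans A (A ⊗[K] R₀) _
  haveI hG₀ : ∀ (P : Type u) [AddCommGroup P] [Module A P],
      IsLocalizedModule (Submonoid.powers b₀)
      (TensorProduct.AlgebraTensorModule.rTensor A P
        (Algebra.linearMap (A ⊗[K] R₀) (Localization.Away b₀))) :=
    fun P _ _ => isLocalizedModule_rT b₀ P
  set x₀ : Localization.Away b₀ ⊗[A] M := TensorProduct.AlgebraTensorModule.rTensor A M
        (Algebra.linearMap (A ⊗[K] R₀) (Localization.Away b₀)) y₀ with hx₀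
  have h5 : ∀ i, (φ i).lTensor (Localization.Away b₀) x₀ = 0 := by
    intro i
    obtain ⟨m, hm⟩ := h4 i
    rw [hx₀, C1]
    exact (IsLocalizedModule.eq_zero_iff (Submonoid.powers b₀) _).mpr ⟨⟨_, m, rfl⟩, hm⟩
  -- step 6
  obtain ⟨l, hl, hfree⟩ := Groth.Agent.S2591.result (A := A) (B := Localization.Away b₀)
    (Localization.Away b₀)
  have h6 := Groth.Agent.S4875.sep_aux (Localization.Away b₀) l hl hfree Λ l.length 0 (by simp)
    M N φ
    (by
      intro a ha p
      have : a = 0 := by simpa using ha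
      rw [this, zero_smul])
    (by
      intro i a ha p
      have : a = 0 := by simpa using ha
      rw [this, zero_smul])
    hSL (TensorProduct.comm A _ M x₀) (fun i => by rw [C4, h5 i, map_zero])
  have hx₀0 : x₀ = 0 := by
    have := congrArg (TensorProduct.comm A _ M).symm h6
    simpa using this
  -- step 7
  obtain ⟨⟨_, m, rfl⟩, hm⟩ := (IsLocalizedModule.eq_zero_iff (Submonoid.powers b₀) _).mp hx₀0
  have h7 : b' ^ m • y = 0 := by
    have hm' : b₀ ^ m • y₀ = 0 := hm
    have := congrArg (j.toLinearMap.rTensor M) hm'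
    rw [Isemi, hjy, map_pow, hjb, map_zero] at this
    exact this
  have h8 : (b' ^ m * (s : Bp)) • x = 0 := by
    rw [mul_smul]
    show b' ^ m • ((s : Bp) • x) = 0
    have hs' : (s : Bp) • x =
        TensorProduct.AlgebraTensorModule.rTensor A M (Algebra.linearMap Bp Bu) y := hs
    rw [hs', ← map_smul, h7, map_zero]
  have hmem : b' ^ m * (s : Bp) ∈ Submonoid.powers b' :=
    Submonoid.mul_mem _ ⟨m, rfl⟩ s.2
  exact IsLocalizedModule.smul_injective
    (TensorProduct.AlgebraTensorModule.rTensor A M (Algebra.linearMap Bp Bu))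
    ⟨_, hmem⟩ (by simpa using h8)

end Groth.Agent.Lib.Helper45.SDMRCM
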