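import Mathlib

/-!
# Filtered colimits of sheaves of sets: local description of sections
-/

set_option autoImplicit false
set_option linter.style.haveILetI false
set_option linter.unusedSectionVars false

universe u

open CategoryTheory CategoryTheory.Limits Opposite

namespace Groth.Agent.Lib.Helper45.SheafColim

variable {C : Type u} [SmallCategory C] (J : GrothendieckTopology C)
  {K : Type u} [SmallCategory K] (F : K ⥤ Sheaf J (Type u)) (c : Cocone F)

/-- The comparison from the presheaf colimit to the sheaf colimit. -/
noncomputable def phi : colimit (F ⋙ sheafToPresheaf J (Type u)) ⟶ c.pt.obj :=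
  colimit.desc _ ((sheafToPresheaf J (Type u)).mapCocone c)

lemma ι_phi (k : K) :
    colimit.ι (F ⋙ sheafToPresheaf J (Type u)) k ≫ phi J F c = (c.ι.app k).hom :=
  colimit.ι_desc _ _

variable {F c} (hc : IsColimit c)

include hc in
lemma W_phi : J.W (phi J F c) := by
  intro Z hZ
  constructor
  · intro a b hab
    have h : (ObjectProperty.homMk a : c.pt ⟶ ⟨Z, hZ⟩) = ObjectProperty.homMk b := by
      apply hc.hom_ext
      intro k
      apply Sheaf.hom_ext
      have := congrArg (fun g => colimit.ι (F ⋙ sheafToPresheaf J (Type u)) k ≫ g) hab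
      simp only [← Category.assoc, ι_phi] at this
      exact this
    exact congrArg (fun g => g.hom) h
  · intro g
    let s : Cocone F :=
      { pt := ⟨Z, hZ⟩
        ι :=
          { app := fun k => ObjectProperty.homMk (colimit.ι (F ⋙ sheafToPresheaf J (Type u)) k ≫ g)
            naturality := fun k k' a => by
              apply Sheaf.hom_ext
              have := colimit.w (F ⋙ sheafToPresheaf J (Type u)) a
              dsimp at this ⊢
              rw [Category.comp_id, ← Category.assoc, this] } }
    refine ⟨(hc.desc s).hom, ?_⟩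
    apply colimit.hom_ext
    intro k
    change colimit.ι _ k ≫ phi J F c ≫ (hc.desc s).hom = _
    rw [← Category.assoc, ι_phi]
    exact congrArg (fun g => g.hom) (hc.fac s k)

variable [IsFiltered K]

include hc in
theorem locInj {V : C} {k : K} (s t : (F.obj k).obj.obj (op V))
    (h : (c.ι.app k).hom.app (op V) s = (c.ι.app k).hom.app (op V) t) :
    ∃ S ∈ J V, ∀ {V' : C} (f : V' ⟶ V), S f → ∃ (k' : K) (a : k ⟶ k'),
      (F.map a).hom.app (op V') ((F.obj k).obj.map f.op s) =
        (F.map a).hom.app (op V') ((F.obj k).obj.map f.op t) := by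
  let G := F ⋙ sheafToPresheaf J (Type u)
  have hW := W_phi J hc
  have hLI := hW.isLocallyInjective
  let x : (colimit G).obj (op V) := (colimit.ι G k).app (op V) s
  let y : (colimit G).obj (op V) := (colimit.ι G k).app (op V) t
  have hxy : (phi J F c).app (op V) x = (phi J F c).app (op V) y := by
    have e := congrArg (fun g => g.app (op V)) (ι_phi J F c k)
    have e1 := ConcreteCategory.congr_hom e s
    have e2 := ConcreteCategory.congr_hom e t
    exact e1.trans (h.trans e2.symm)
  refine ⟨_, hLI.equalizerSieve_mem x y hxy, ?_⟩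
  intro V' f hf
  change (colimit G).map f.op x = (colimit G).map f.op y at hf
  have hcol := isColimitOfPreserves ((evaluation Cᵒᵖ (Type u)).obj (op V')) (colimit.isColimit G)
  have n1 : (colimit G).map f.op x = (colimit.ι G k).app (op V') ((F.obj k).obj.map f.op s) :=
    (ConcreteCategory.congr_hom ((colimit.ι G k).naturality f.op) s).symm
  have n2 : (colimit G).map f.op y = (colimit.ι G k).app (op V') ((F.obj k).obj.map f.op t) :=
    (ConcreteCategory.congr_hom ((colimit.ι G k).naturality f.op) t).symm
  rw [n1, n2] at hf
  obtain ⟨k', a, ha⟩ := (Types.FilteredColimit.isColimit_eq_iff' hcol _ _).1 hf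
  exact ⟨k', a, ha⟩

include hc in
theorem locSurj {V : C} (σ : c.pt.obj.obj (op V)) :
    ∃ S ∈ J V, ∀ {V' : C} (f : V' ⟶ V), S f → ∃ (k : K) (s : (F.obj k).obj.obj (op V')),
      (c.ι.app k).hom.app (op V') s = c.pt.obj.map f.op σ := by
  let G := F ⋙ sheafToPresheaf J (Type u)
  have hW := W_phi J hc
  have hLS := hW.isLocallySurjective
  refine ⟨_, hLS.imageSieve_mem σ, ?_⟩
  rintro V' f ⟨x, hx⟩
  have hcol := isColimitOfPreserves ((evaluation Cᵒᵖ (Type u)).obj (op V')) (colimit.isColimit G)
  obtain ⟨k, s, rfl⟩ := Types.jointly_surjective_of_isColimit hcol x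
  refine ⟨k, s, ?_⟩
  have e := congrArg (fun g => g.app (op V')) (ι_phi J F c k)
  have e1 := ConcreteCategory.congr_hom e s
  exact e1.symm.trans hx

end Groth.Agent.Lib.Helper45.SheafColim
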