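import Groth.Agent.Lib.Helper45.SheafColim

/-!
# Sections of a directed colimit of sheaves of sets on a topological space
-/

set_option autoImplicit false
set_option linter.style.haveILetI false
set_option linter.unusedSectionVars false

universe u

open CategoryTheory CategoryTheory.Limits Opposite TopologicalSpace

namespace Groth.Agent.Lib.Helper45.SheafColimTop

open Groth.Agent.Lib.Helper45.SheafColim

variable {X : TopCat.{u}} {J : Type u} [Preorder J] [Nonempty J] [IsDirected J (· ≤ ·)]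
  (F : J ⥤ X.Sheaf (Type u)) (c : Cocone F)

/-- Restriction of sections. -/
def res (G : X.Sheaf (Type u)) {V' V : Opens X} (h : V' ≤ V) :
    G.obj.obj (op V) → G.obj.obj (op V') := G.obj.map (homOfLE h).op

/-- Transition maps. -/
def tr {i j : J} (h : i ≤ j) (V : Opens X) :
    (F.obj i).obj.obj (op V) → (F.obj j).obj.obj (op V) := (F.map (homOfLE h)).hom.app (op V)

/-- Maps to the colimit. -/
def inc (i : J) (V : Opens X) :
    (F.obj i).obj.obj (op V) → c.pt.obj.obj (op V) := (c.ι.app i).hom.app (op V)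

lemma res_res (G : X.Sheaf (Type u)) {V'' V' V : Opens X} (h' : V'' ≤ V') (h : V' ≤ V)
    (s : G.obj.obj (op V)) : res G h' (res G h s) = res G (h'.trans h) s := by
  change (G.obj.map (homOfLE h).op ≫ G.obj.map (homOfLE h').op) s = _
  rw [← G.obj.map_comp]
  rfl

lemma tr_tr {i j k : J} (h : i ≤ j) (h' : j ≤ k) (V : Opens X) (s : (F.obj i).obj.obj (op V)) :
    tr F h' V (tr F h V s) = tr F (h.trans h') V s := by
  have : F.map (homOfLE (h.trans h')) = F.map (homOfLE h) ≫ F.map (homOfLE h') := by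
    rw [← F.map_comp]; rfl
  change _ = (F.map (homOfLE (h.trans h'))).hom.app (op V) s
  rw [this]
  rfl

lemma tr_res {i j : J} (h : i ≤ j) {V' V : Opens X} (hV : V' ≤ V)
    (s : (F.obj i).obj.obj (op V)) :
    tr F h V' (res (F.obj i) hV s) = res (F.obj j) hV (tr F h V s) :=
  ConcreteCategory.congr_hom ((F.map (homOfLE h)).hom.naturality (homOfLE hV).op) s

lemma inc_res (i : J) {V' V : Opens X} (hV : V' ≤ V) (s : (F.obj i).obj.obj (op V)) :
    inc F c i V' (res (F.obj i) hV s) = res c.pt hV (inc F c i V s) :=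
  ConcreteCategory.congr_hom ((c.ι.app i).hom.naturality (homOfLE hV).op) s

lemma inc_tr {i j : J} (h : i ≤ j) (V : Opens X) (s : (F.obj i).obj.obj (op V)) :
    inc F c j V (tr F h V s) = inc F c i V s := by
  have := c.w (homOfLE h)
  have h2 := congrArg (fun g => g.hom.app (op V)) this
  exact ConcreteCategory.congr_hom h2 s

/-- Local injectivity, pointwise form. -/
def INJ (V : Opens X) : Prop :=
  ∀ (i : J) (s t : (F.obj i).obj.obj (op V)), inc F c i V s = inc F c i V t →
    ∃ (j : J) (h : i ≤ j), tr F h V s = tr F h V t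

variable {F c} (hc : IsColimit c)

include hc in
lemma locInj' {V : Opens X} {i : J} (s t : (F.obj i).obj.obj (op V))
    (h : inc F c i V s = inc F c i V t) (x : X) (hx : x ∈ V) :
    ∃ (V' : Opens X) (hV' : V' ≤ V), x ∈ V' ∧ ∃ (j : J) (hij : i ≤ j),
      tr F hij V' (res (F.obj i) hV' s) = tr F hij V' (res (F.obj i) hV' t) := by
  obtain ⟨S, hS, hS'⟩ := locInj (Opens.grothendieckTopology X) hc s t h
  obtain ⟨V', f, hf, hxV'⟩ := hS x hx
  obtain ⟨j, a, ha⟩ := hS' f hf
  exact ⟨V', f.le, hxV', j, a.le, ha⟩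

include hc in
lemma locSurj' {V : Opens X} (σ : c.pt.obj.obj (op V)) (x : X) (hx : x ∈ V) :
    ∃ (V' : Opens X) (hV' : V' ≤ V), x ∈ V' ∧ ∃ (i : J) (s : (F.obj i).obj.obj (op V')),
      inc F c i V' s = res c.pt hV' σ := by
  obtain ⟨S, hS, hS'⟩ := locSurj (Opens.grothendieckTopology X) hc σ
  obtain ⟨V', f, hf, hxV'⟩ := hS x hx
  obtain ⟨i, s, hs⟩ := hS' f hf
  exact ⟨V', f.le, hxV', i, s, hs⟩

include hc in
/-- Injective transition maps give `INJ`. -/
lemma inj_of_injective
    (hinj : ∀ (i j : J) (h : i ⟶ j) (V : Opens X), Function.Injective ((F.map h).1.app (op V)))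
    (V : Opens X) (i : J) (s t : (F.obj i).obj.obj (op V)) (h : inc F c i V s = inc F c i V t) :
    s = t := by
  choose V' hV' hxV' j hij hj using locInj' hc s t h
  refine TopCat.Sheaf.eq_of_locally_eq' (F.obj i) (fun x : V => V' x.1 x.2) V
    (fun x => homOfLE (hV' x.1 x.2)) ?_ s t ?_
  · intro x hx
    exact Opens.mem_iSup.2 ⟨⟨x, hx⟩, hxV' x hx⟩
  · intro x
    exact hinj i (j x.1 x.2) (homOfLE (hij x.1 x.2)) (V' x.1 x.2) (hj x.1 x.2)

include hc in
lemma INJ_of_injective
    (hinj : ∀ (i j : J) (h : i ⟶ j) (V : Opens X), Function.Injective ((F.map h).1.app (op V)))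
    (V : Opens X) : INJ F c V := fun i s t h =>
  ⟨i, le_rfl, congrArg _ (inj_of_injective hc hinj V i s t h)⟩

include hc in
lemma INJ_of_isCompact (V : Opens X) (hV : IsCompact (V : Set X)) : INJ F c V := by
  intro i s t h
  choose V' hV' hxV' j hij hj using locInj' hc s t h
  obtain ⟨T, hT⟩ := hV.elim_finite_subcover (fun x : V => ((V' x.1 x.2 : Opens X) : Set X))
    (fun x => (V' x.1 x.2).isOpen) (fun x hx => Set.mem_iUnion.2 ⟨⟨x, hx⟩, hxV' x hx⟩)
  obtain ⟨k, hk⟩ := Finite.exists_le (fun o : Option T => match o with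
    | none => i
    | some x => j x.1.1 x.1.2)
  have hik : i ≤ k := hk none
  have hjk : ∀ x : T, j x.1.1 x.1.2 ≤ k := fun x => hk (some x)
  refine ⟨k, hik, ?_⟩
  refine TopCat.Sheaf.eq_of_locally_eq' (F.obj k) (fun x : T => V' x.1.1 x.1.2) V
    (fun x => homOfLE (hV' x.1.1 x.1.2)) ?_ _ _ ?_
  · intro x hx
    obtain ⟨y, hy⟩ := Set.mem_iUnion.1 (hT hx)
    obtain ⟨hyT, hxy⟩ := Set.mem_iUnion.1 hy
    exact Opens.mem_iSup.2 ⟨⟨y, hyT⟩, hxy⟩
  · intro x
    have e := congrArg (tr F (hjk x) (V' x.1.1 x.1.2)) (hj x.1.1 x.1.2)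
    rw [tr_tr, tr_tr, tr_res, tr_res] at e
    exact e

include hc in
/-- Gluing local lifts. -/
lemma exists_lift {ι : Type*} [Finite ι] (U : Opens X) (W : ι → Opens X) (hW : ∀ a, W a ≤ U)
    (hcov : U ≤ iSup W) (hINJ : ∀ a b, INJ F c (W a ⊓ W b)) (σ : c.pt.obj.obj (op U))
    (hloc : ∀ a, ∃ (i : J) (s : (F.obj i).obj.obj (op (W a))),
      inc F c i (W a) s = res c.pt (hW a) σ) :
    ∃ (i : J) (s : (F.obj i).obj.obj (op U)), inc F c i U s = σ := by
  choose i s hs using hloc
  obtain ⟨i0, hi0⟩ := Finite.exists_le i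
  let s' : ∀ a, (F.obj i0).obj.obj (op (W a)) := fun a => tr F (hi0 a) (W a) (s a)
  have hs' : ∀ a, inc F c i0 (W a) (s' a) = res c.pt (hW a) σ := fun a => by
    rw [inc_tr]; exact hs a
  have hpair : ∀ p : ι × ι, ∃ (l : J) (hl : i0 ≤ l),
      tr F hl (W p.1 ⊓ W p.2) (res (F.obj i0) inf_le_left (s' p.1)) =
        tr F hl (W p.1 ⊓ W p.2) (res (F.obj i0) inf_le_right (s' p.2)) := by
    intro p
    apply hINJ p.1 p.2
    rw [inc_res, inc_res, hs', hs', res_res, res_res]
  choose l hl hl' using hpair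
  obtain ⟨i1, hi1⟩ := Finite.exists_le (fun o : Option (ι × ι) => match o with
    | none => i0
    | some p => l p)
  have h01 : i0 ≤ i1 := hi1 none
  have hl1 : ∀ p, l p ≤ i1 := fun p => hi1 (some p)
  let s'' : ∀ a, (F.obj i1).obj.obj (op (W a)) := fun a => tr F h01 (W a) (s' a)
  have hcompat : TopCat.Presheaf.IsCompatible (F.obj i1).obj W s'' := by
    intro a b
    have e := congrArg (tr F (hl1 (a, b)) (W a ⊓ W b)) (hl' (a, b))
    rw [tr_tr, tr_tr, tr_res, tr_res] at e
    exact e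
  obtain ⟨g, hg, -⟩ := TopCat.Sheaf.existsUnique_gluing' (F.obj i1) W U
    (fun a => homOfLE (hW a)) hcov s'' hcompat
  refine ⟨i1, g, ?_⟩
  refine TopCat.Sheaf.eq_of_locally_eq' c.pt W U (fun a => homOfLE (hW a)) hcov _ _ ?_
  intro a
  have e1 : res c.pt (hW a) (inc F c i1 U g) = inc F c i1 (W a) (s'' a) := by
    rw [← inc_res]
    exact congrArg _ (hg a)
  have e2 : inc F c i1 (W a) (s'' a) = res c.pt (hW a) σ := by
    rw [inc_tr]; exact hs' a
  exact e1.trans e2

end Groth.Agent.Lib.Helper45.SheafColimTop
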