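import Groth.Agent.Lib.Helper45.SheafColimTop

/-!
# The canonical map from the colimit of sections to the sections of the colimit
-/

set_option autoImplicit false
set_option linter.style.haveILetI false
set_option linter.unusedSectionVars false

universe u

open CategoryTheory CategoryTheory.Limits Opposite TopologicalSpace

namespace Groth.Agent.Lib.Helper45.SheafColimTop

variable {X : TopCat.{u}} {J : Type u} [Preorder J] [Nonempty J] [IsDirected J (· ≤ ·)]
  (F : J ⥤ X.Sheaf (Type u)) (c : Cocone F)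

/-- The evaluation functor. -/
noncomputable abbrev ev (U : Opens X) : X.Sheaf (Type u) ⥤ Type u :=
  TopCat.Sheaf.forget (Type u) X ⋙ (evaluation (Opens X)ᵒᵖ (Type u)).obj (op U)

/-- The comparison map. -/
noncomputable abbrev Psi (U : Opens X) : colimit (F ⋙ ev U) → (ev U).obj c.pt :=
  colimit.desc (F ⋙ ev U) ((ev U).mapCocone c)

lemma Psi_ι (U : Opens X) (i : J) (s : (F.obj i).obj.obj (op U)) :
    Psi F c U (colimit.ι (F ⋙ ev U) i s) = inc F c i U s :=
  ConcreteCategory.congr_hom (colimit.ι_desc ((ev U).mapCocone c) i) s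

lemma ι_tr (U : Opens X) {i j : J} (h : i ≤ j) (s : (F.obj i).obj.obj (op U)) :
    colimit.ι (F ⋙ ev U) j (tr F h U s) = colimit.ι (F ⋙ ev U) i s :=
  ConcreteCategory.congr_hom (colimit.w (F ⋙ ev U) (homOfLE h)) s

lemma Psi_injective (U : Opens X) (h : INJ F c U) : Function.Injective (Psi F c U) := by
  intro y y' hyy'
  obtain ⟨i, s, rfl⟩ := Types.jointly_surjective' y
  obtain ⟨j, t, rfl⟩ := Types.jointly_surjective' y'
  obtain ⟨k, hik, hjk⟩ := exists_ge_ge i j
  rw [← ι_tr F U hik s, ← ι_tr F U hjk t] at hyy' ⊢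
  rw [Psi_ι, Psi_ι] at hyy'
  obtain ⟨l, hkl, hl⟩ := h k _ _ hyy'
  rw [← ι_tr F U hkl, ← ι_tr F U hkl (tr F hjk U t), hl]

lemma Psi_surjective (U : Opens X)
    (h : ∀ σ : c.pt.obj.obj (op U), ∃ (i : J) (s : (F.obj i).obj.obj (op U)), inc F c i U s = σ) :
    Function.Surjective (Psi F c U) := by
  intro σ
  obtain ⟨i, s, hs⟩ := h σ
  exact ⟨colimit.ι (F ⋙ ev U) i s, (Psi_ι F c U i s).trans hs⟩

variable {F c} (hc : IsColimit c)

include hc in
theorem main (U : Opens X) :
    ((∀ (i j : J) (h : i ⟶ j) (V : Opens X), Function.Injective ((F.map h).1.app (op V))) →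
      Function.Injective (Psi F c U)) ∧
    (IsCompact (U : Set X) → Function.Injective (Psi F c U)) ∧
    (IsCompact (U : Set X) →
      (∀ (i j : J) (h : i ⟶ j) (V : Opens X), Function.Injective ((F.map h).1.app (op V))) →
      Function.Bijective (Psi F c U)) ∧
    ((∀ 𝒱 : Set (Opens X), (⨆ V ∈ 𝒱, V) = U →
        ∃ (m : ℕ) (W : Fin m → Opens X), (∀ j, ∃ V ∈ 𝒱, W j ≤ V) ∧ (⨆ j, W j) = U ∧
          ∀ j j', IsCompact ((W j ⊓ W j' : Opens X) : Set X)) →
      Function.Bijective (Psi F c U)) := by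
  refine ⟨fun hinj => Psi_injective F c U (INJ_of_injective hc hinj U),
    fun hU => Psi_injective F c U (INJ_of_isCompact hc U hU), ?_, ?_⟩
  · intro hU hinj
    refine ⟨Psi_injective F c U (INJ_of_injective hc hinj U), Psi_surjective F c U ?_⟩
    intro σ
    choose V' hV' hxV' i s hs using locSurj' hc σ
    obtain ⟨T, hT⟩ := hU.elim_finite_subcover (fun x : U => ((V' x.1 x.2 : Opens X) : Set X))
      (fun x => (V' x.1 x.2).isOpen) (fun x hx => Set.mem_iUnion.2 ⟨⟨x, hx⟩, hxV' x hx⟩)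
    refine exists_lift hc U (fun x : T => V' x.1.1 x.1.2) (fun x => hV' x.1.1 x.1.2) ?_
      (fun a b => INJ_of_injective hc hinj _) σ (fun x => ⟨_, _, hs x.1.1 x.1.2⟩)
    intro x hx
    obtain ⟨y, hy⟩ := Set.mem_iUnion.1 (hT hx)
    obtain ⟨hyT, hxy⟩ := Set.mem_iUnion.1 hy
    exact Opens.mem_iSup.2 ⟨⟨y, hyT⟩, hxy⟩
  · intro H
    have hUc : IsCompact (U : Set X) := by
      obtain ⟨m, W, -, hsup, hcomp⟩ := H {U} (by simp)
      have : (U : Set X) = ⋃ j, (W j : Set X) := by
        rw [← hsup, Opens.coe_iSup]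
      rw [this]
      apply isCompact_iUnion
      intro j
      have := hcomp j j
      rwa [inf_idem] at this
    refine ⟨Psi_injective F c U (INJ_of_isCompact hc U hUc), Psi_surjective F c U ?_⟩
    intro σ
    choose V' hV' hxV' i s hs using locSurj' hc σ
    obtain ⟨m, W, hW, hsup, hcomp⟩ := H (Set.range (fun x : U => V' x.1 x.2)) (by
      apply le_antisymm
      · apply iSup₂_le
        rintro _ ⟨x, rfl⟩
        exact hV' x.1 x.2
      · intro x hx
        rw [Opens.mem_iSup]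
        refine ⟨V' x hx, ?_⟩
        rw [Opens.mem_iSup]
        exact ⟨⟨⟨x, hx⟩, rfl⟩, hxV' x hx⟩)
    have hW' : ∀ j, ∃ x : U, W j ≤ V' x.1 x.2 := by
      intro j
      obtain ⟨_, ⟨x, rfl⟩, hx⟩ := hW j
      exact ⟨x, hx⟩
    choose x hx using hW'
    have hWU : ∀ j, W j ≤ U := fun j => (hx j).trans (hV' _ _)
    refine exists_lift hc U W hWU (by rw [hsup])
      (fun a b => INJ_of_isCompact hc _ (hcomp a b)) σ ?_
    intro j
    refine ⟨i (x j).1 (x j).2, res (F.obj _) (hx j) (s (x j).1 (x j).2), ?_⟩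
    rw [inc_res, hs, res_res]

end Groth.Agent.Lib.Helper45.SheafColimTop
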