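import Mathlib.CategoryTheory.Localization.CalculusOfFractions
import Mathlib.CategoryTheory.Comma.Over.Basic

/-!
# Localization of a slice category under a calculus of right fractions (helper45)

`SliceLoc.isEquivalence_of_slice`: the comparison functor from the localization of `Over S` at the
morphisms lying over `W` to `Over (L.obj S)` is an equivalence.
-/

set_option autoImplicit false
universe v₁ v₂ v₃ u₁ u₂ u₃

open CategoryTheory

namespace Groth.Agent.Lib.Helper45.SliceLoc

variable {C : Type u₁} [Category.{v₁} C] (W : MorphismProperty C) (S : C)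

/-- the morphisms of the slice whose underlying morphism lies in `W`. -/
abbrev WS : MorphismProperty (Over S) := W.inverseImage (Over.forget S)

instance [W.HasRightCalculusOfFractions] : (WS W S).HasRightCalculusOfFractions where
  exists_rightFraction X Y φ := by
    let φ₀ : W.LeftFraction X.left Y.left := ⟨φ.f.left, φ.s.left, φ.hs⟩
    obtain ⟨ψ₀, h⟩ := φ₀.exists_rightFraction
    have h' : ψ₀.s ≫ φ.f.left = ψ₀.f ≫ φ.s.left := h
    refine ⟨⟨(Over.homMk ψ₀.s rfl : Over.mk (ψ₀.s ≫ X.hom) ⟶ X), ψ₀.hs,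
      Over.homMk ψ₀.f ?_⟩, ?_⟩
    · dsimp
      rw [← Over.w φ.s, ← reassoc_of% h', Over.w φ.f]
    · ext
      exact h'
  ext X Y Y' f₁ f₂ s hs h := by
    obtain ⟨X', t, ht, fac⟩ := MorphismProperty.HasRightCalculusOfFractions.ext f₁.left f₂.left
      s.left hs (congrArg CommaMorphism.left h)
    exact ⟨Over.mk (t ≫ X.hom), Over.homMk t rfl, ht, by ext; exact fac⟩


variable {W S}
variable {D : Type u₂} [Category.{v₂} D] (L : C ⥤ D) [L.IsLocalization W]

lemma inverts_post : (WS W S).IsInvertedBy (Over.post (X := S) L) := by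
  intro X Y s hs
  have : IsIso (L.map s.left) := Localization.inverts L W _ hs
  have : IsIso ((Over.forget _).map ((Over.post (X := S) L).map s)) := this
  exact isIso_of_reflects_iso _ (Over.forget _)

/-- the underlying fraction. -/
def underlying {X Y : Over S} (z : (WS W S).RightFraction X Y) : W.RightFraction X.left Y.left :=
  ⟨z.s.left, z.hs, z.f.left⟩

lemma map_post_left {X Y : Over S} (z : (WS W S).RightFraction X Y) :
    Over.Hom.left (z.map (Over.post (X := S) L) (inverts_post L)) =
      (underlying z).map L (Localization.inverts L W) := by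
  have h : (Over.post (X := S) L).map z.s ≫ z.map (Over.post (X := S) L) (inverts_post L) =
      (Over.post (X := S) L).map z.f := z.map_s_comp_map _ _
  have h' : L.map z.s.left ≫ Over.Hom.left (z.map (Over.post (X := S) L) (inverts_post L)) =
      L.map z.f.left := congrArg CommaMorphism.left h
  have : IsIso (L.map z.s.left) := Localization.inverts L W _ z.hs
  have h'' : L.map z.s.left ≫ (underlying z).map L (Localization.inverts L W) = L.map z.f.left :=
    (underlying z).map_s_comp_map L (Localization.inverts L W)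
  exact (cancel_epi (L.map z.s.left)).1 (h'.trans h''.symm)

variable [W.HasRightCalculusOfFractions]

/-- faithfulness at the level of fractions. -/
lemma rel_of_map_post_eq {X Y : Over S} (z₁ z₂ : (WS W S).RightFraction X Y)
    (h : z₁.map (Over.post (X := S) L) (inverts_post L) =
      z₂.map (Over.post (X := S) L) (inverts_post L)) :
    MorphismProperty.RightFractionRel z₁ z₂ := by
  have h' : (underlying z₁).map L (Localization.inverts L W) =
      (underlying z₂).map L (Localization.inverts L W) := by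
    rw [← map_post_left, ← map_post_left, h]
  rw [MorphismProperty.RightFraction.map_eq_iff] at h'
  have key : ∃ (Z : C) (t₁ : Z ⟶ z₁.X'.left) (t₂ : Z ⟶ z₂.X'.left),
      t₁ ≫ z₁.s.left = t₂ ≫ z₂.s.left ∧ t₁ ≫ z₁.f.left = t₂ ≫ z₂.f.left ∧
        W (t₁ ≫ z₁.s.left) := by
    obtain ⟨Z, t₁, t₂, hst, hft, ht⟩ := h'
    exact ⟨Z, t₁, t₂, hst, hft, ht⟩
  obtain ⟨Z, t₁, t₂, hst', hft', ht⟩ := key
  refine ⟨Over.mk (t₁ ≫ z₁.X'.hom), Over.homMk t₁ rfl, Over.homMk t₂ ?_, ?_, ?_, ?_⟩
  · dsimp
    rw [← Over.w z₂.s, ← reassoc_of% hst', Over.w z₁.s]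
  · ext
    exact hst'
  · ext
    exact hft'
  · exact ht


/-- fullness at the level of fractions. -/
lemma exists_fraction_map_post_eq {X Y : Over S}
    (ψ : (Over.post (X := S) L).obj X ⟶ (Over.post (X := S) L).obj Y) :
    ∃ z : (WS W S).RightFraction X Y, ψ = z.map (Over.post (X := S) L) (inverts_post L) := by
  let g : L.obj X.left ⟶ L.obj Y.left := ψ.left
  have hw : g ≫ L.map Y.hom = L.map X.hom := Over.w ψ
  obtain ⟨z₀, hz₀⟩ := Localization.exists_rightFraction L W g
  have h1 : L.map z₀.s ≫ g = L.map z₀.f := by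
    rw [hz₀]
    exact z₀.map_s_comp_map L (Localization.inverts L W)
  have h2 : L.map (z₀.f ≫ Y.hom) = L.map (z₀.s ≫ X.hom) := by
    rw [L.map_comp, L.map_comp, ← h1, Category.assoc, hw]
  obtain ⟨X'', t, ht, fac⟩ := (MorphismProperty.map_eq_iff_precomp L W _ _).1 h2
  have fac' : t ≫ z₀.f ≫ Y.hom = t ≫ z₀.s ≫ X.hom := fac
  let z : (WS W S).RightFraction X Y :=
    ⟨(Over.homMk (t ≫ z₀.s) rfl : Over.mk ((t ≫ z₀.s) ≫ X.hom) ⟶ X),
      W.comp_mem _ _ ht z₀.hs,
      Over.homMk (t ≫ z₀.f) (by
        dsimp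
        rw [Category.assoc, fac', Category.assoc])⟩
  refine ⟨z, ?_⟩
  have : IsIso (L.map (t ≫ z₀.s)) := Localization.inverts L W _ (W.comp_mem _ _ ht z₀.hs)
  have h3 : L.map (t ≫ z₀.s) ≫ (underlying z).map L (Localization.inverts L W) =
      L.map (t ≫ z₀.f) := (underlying z).map_s_comp_map L (Localization.inverts L W)
  have h4 : g = (underlying z).map L (Localization.inverts L W) := by
    apply (cancel_epi (L.map (t ≫ z₀.s))).1
    rw [h3, L.map_comp, Category.assoc, h1, ← L.map_comp]
  ext
  exact h4.trans (map_post_left L z).symm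

include W in
lemma essSurj_post : (Over.post (X := S) L).EssSurj := by
  refine ⟨fun T => ?_⟩
  have := Localization.essSurj L W
  let i₀ : L.obj (L.objPreimage T.left) ≅ T.left := L.objObjPreimageIso T.left
  obtain ⟨z, hz⟩ := Localization.exists_rightFraction L W (i₀.hom ≫ T.hom)
  have h1 : L.map z.s ≫ i₀.hom ≫ T.hom = L.map z.f := by
    rw [hz]
    exact z.map_s_comp_map L (Localization.inverts L W)
  have : IsIso (L.map z.s) := Localization.inverts L W _ z.hs
  let e : L.obj z.X' ≅ T.left := asIso (L.map z.s) ≪≫ i₀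
  have he : e.hom ≫ T.hom = L.map z.f := by
    change (L.map z.s ≫ i₀.hom) ≫ T.hom = _
    rw [Category.assoc, h1]
  exact ⟨Over.mk z.f, ⟨Over.isoMk e he⟩⟩


variable {E : Type u₃} [Category.{v₃} E] (L' : Over S ⥤ E) [L'.IsLocalization (WS W S)]
  (Φ : E ⥤ Over (L.obj S)) (e : L' ⋙ Φ ≅ Over.post L)

omit [W.HasRightCalculusOfFractions] in
lemma map_fraction {X Y : Over S} (z : (WS W S).RightFraction X Y) :
    Φ.map (z.map L' (Localization.inverts L' (WS W S))) =
      e.hom.app X ≫ z.map (Over.post (X := S) L) (inverts_post L) ≫ e.inv.app Y := by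
  have : IsIso (L'.map z.s) := Localization.inverts L' (WS W S) _ z.hs
  rw [← cancel_epi (Φ.map (L'.map z.s)), ← Φ.map_comp, z.map_s_comp_map]
  have n1 : Φ.map (L'.map z.s) ≫ e.hom.app X = e.hom.app z.X' ≫ (Over.post (X := S) L).map z.s :=
    e.hom.naturality z.s
  have n2 : Φ.map (L'.map z.f) ≫ e.hom.app Y = e.hom.app z.X' ≫ (Over.post (X := S) L).map z.f :=
    e.hom.naturality z.f
  rw [reassoc_of% n1, z.map_s_comp_map_assoc, ← reassoc_of% n2, Iso.hom_inv_id_app]
  exact (Category.comp_id _).symm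

include e W L' in
theorem isEquivalence_of_slice : Φ.IsEquivalence := by
  have hL' : L'.EssSurj := Localization.essSurj L' (WS W S)
  have hfaith : Φ.Faithful := by
    refine ⟨fun {A B} m₁ m₂ h => ?_⟩
    let a : L'.obj (L'.objPreimage A) ≅ A := L'.objObjPreimageIso A
    let b : L'.obj (L'.objPreimage B) ≅ B := L'.objObjPreimageIso B
    obtain ⟨z₁, hz₁⟩ := Localization.exists_rightFraction L' (WS W S) (a.hom ≫ m₁ ≫ b.inv)
    obtain ⟨z₂, hz₂⟩ := Localization.exists_rightFraction L' (WS W S) (a.hom ≫ m₂ ≫ b.inv)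
    have h' : Φ.map (a.hom ≫ m₁ ≫ b.inv) = Φ.map (a.hom ≫ m₂ ≫ b.inv) := by
      simp only [Functor.map_comp, h]
    rw [hz₁, hz₂, map_fraction L L' Φ e, map_fraction L L' Φ e] at h'
    have h'' : z₁.map (Over.post (X := S) L) (inverts_post L) =
        z₂.map (Over.post (X := S) L) (inverts_post L) := by
      have := congrArg (fun k => e.inv.app _ ≫ k ≫ e.hom.app _) h'
      simpa using this
    have hrel := rel_of_map_post_eq L z₁ z₂ h''
    have heq : a.hom ≫ m₁ ≫ b.inv = a.hom ≫ m₂ ≫ b.inv := by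
      rw [hz₁, hz₂]
      exact (MorphismProperty.RightFraction.map_eq_iff L' (WS W S) z₁ z₂).2 hrel
    have := congrArg (fun k => a.inv ≫ k ≫ b.hom) heq
    simpa using this
  have hfull : Φ.Full := by
    refine ⟨fun {A B} ψ => ?_⟩
    let a : L'.obj (L'.objPreimage A) ≅ A := L'.objObjPreimageIso A
    let b : L'.obj (L'.objPreimage B) ≅ B := L'.objObjPreimageIso B
    obtain ⟨z, hz⟩ := exists_fraction_map_post_eq (W := W) L
      (e.inv.app _ ≫ Φ.map a.hom ≫ ψ ≫ Φ.map b.inv ≫ e.hom.app _)
    refine ⟨a.inv ≫ z.map L' (Localization.inverts L' (WS W S)) ≫ b.hom, ?_⟩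
    rw [Φ.map_comp, Φ.map_comp, map_fraction L L' Φ e, ← hz]
    simp [← Functor.map_comp_assoc, ← Functor.map_comp]
  have hess : Φ.EssSurj := by
    refine ⟨fun T => ?_⟩
    have := essSurj_post (W := W) (S := S) L
    let X := (Over.post (X := S) L).objPreimage T
    exact ⟨L'.obj X, ⟨e.app X ≪≫ (Over.post (X := S) L).objObjPreimageIso T⟩⟩
  exact {}

end Groth.Agent.Lib.Helper45.SliceLoc
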