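import Mathlib.CategoryTheory.Generator.Basic
import Mathlib.CategoryTheory.Subobject.Lattice
import Mathlib.CategoryTheory.Subobject.WellPowered
import Mathlib.CategoryTheory.Limits.Shapes.Diagonal
import Mathlib.Logic.Small.Set

set_option autoImplicit false
set_option backward.isDefEq.respectTransparency false
universe w v u

open CategoryTheory CategoryTheory.Limits

namespace Groth.Agent.Lib.Helper45.SmallDetect

theorem exists_small_detecting
    {E : Type u} [Category.{v} E] [HasPullbacks E] {κ : Type v} (G : κ → E)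
    (hG : (ObjectProperty.ofObj G).IsDetecting) {I : Type w} (Y : I → E)
    (hY : (ObjectProperty.ofObj Y).IsDetecting) :
    ∃ J : Set I, Small.{v} J ∧ (ObjectProperty.ofObj (fun j : J => Y j)).IsDetecting := by
  classical
  have hwp : WellPowered.{v} E := wellPowered_of_isDetecting hG
  have key : ∀ (k : κ) (A : Subobject (G k)), A ≠ ⊤ →
      ∃ (j : I) (h : Y j ⟶ G k), ¬ A.Factors h := by
    intro k A hA
    by_contra hcon
    push Not at hcon
    apply hA
    rw [← Subobject.isIso_arrow_iff_eq_top]
    apply hY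
    rintro _ ⟨j⟩ h
    refine ⟨A.factorThru h (hcon j h), Subobject.factorThru_arrow _ _ _, fun h' hh' => ?_⟩
    rw [← cancel_mono A.arrow, Subobject.factorThru_arrow]
    exact hh'
  choose jf hf hjf using key
  let φ : (Σ k : κ, {A : Subobject (G k) // A ≠ ⊤}) → I := fun t => jf t.1 t.2.1 t.2.2
  refine ⟨Set.range φ, inferInstance, ?_⟩
  have hmono : ∀ ⦃X X' : E⦄ (m : X ⟶ X') [Mono m],
      (∀ (j : Set.range φ) (h : Y j ⟶ X'), ∃ h', h' ≫ m = h) → IsIso m := by
    intro X X' m _ hm
    apply hG
    rintro _ ⟨k⟩ g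
    have hA : Subobject.mk (pullback.snd m g) = ⊤ := by
      by_contra hne
      apply hjf k _ hne
      obtain ⟨h', hh'⟩ := hm ⟨jf k _ hne, ⟨⟨k, _, hne⟩, rfl⟩⟩ (hf k _ hne ≫ g)
      rw [Subobject.mk_factors_iff]
      exact ⟨pullback.lift h' (hf k _ hne) hh', pullback.lift_snd _ _ _⟩
    have hiso : IsIso (pullback.snd m g) := (Subobject.isIso_iff_mk_eq_top _).2 hA
    refine ⟨inv (pullback.snd m g) ≫ pullback.fst m g, ?_, ?_⟩
    · change (inv (pullback.snd m g) ≫ pullback.fst m g) ≫ m = g
      rw [Category.assoc, pullback.condition, IsIso.inv_hom_id_assoc]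
    · intro y hy
      have hy' : y ≫ m = g := hy
      rw [← cancel_mono m, hy', Category.assoc, pullback.condition, IsIso.inv_hom_id_assoc]
  intro X X' f hf'
  have hΔ : IsIso (pullback.diagonal f) := by
    apply hmono
    intro j h
    have hab : h ≫ pullback.fst f f = h ≫ pullback.snd f f := by
      obtain ⟨h', -, huniq⟩ := hf' _ (ObjectProperty.ofObj_apply _ j)
        (h ≫ pullback.fst f f ≫ f)
      have e1 : h ≫ pullback.fst f f = h' := huniq _ (by simp)
      have e2 : h ≫ pullback.snd f f = h' := huniq _ (by simp [pullback.condition])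
      rw [e1, e2]
    refine ⟨h ≫ pullback.fst f f, ?_⟩
    apply pullback.hom_ext
    · simp
    · simp [hab]
  have hfs : pullback.fst f f = pullback.snd f f := by
    rw [← cancel_epi (pullback.diagonal f)]
    simp
  have hm : Mono f := by
    refine ⟨fun {W} x y hxy => ?_⟩
    have h1 : pullback.lift x y hxy ≫ pullback.fst f f = x := pullback.lift_fst _ _ _
    have h2 : pullback.lift x y hxy ≫ pullback.snd f f = y := pullback.lift_snd _ _ _
    exact h1.symm.trans ((congrArg (fun t => pullback.lift x y hxy ≫ t) hfs).trans h2)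
  exact hmono f (fun j h => (hf' _ (ObjectProperty.ofObj_apply _ j) h).exists)

end Groth.Agent.Lib.Helper45.SmallDetect
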