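import Groth.Prelude.Def_FibClv
import Mathlib.CategoryTheory.Bicategory.Grothendieck
import Mathlib.CategoryTheory.Bicategory.Functor.LocallyDiscrete

set_option autoImplicit false
set_option backward.isDefEq.respectTransparency false
universe v₁ v₂ u₁ u₂

open CategoryTheory CategoryTheory.Functor Opposite Bicategory FibCat

namespace Groth.Agent.Lib.Helper45.Split

variable {𝒮 : Type u₁} [Category.{v₁} 𝒮] {𝒳 : Type u₂} [Category.{v₂} 𝒳] {p : 𝒳 ⥤ 𝒮}
  (K : FibCat.Cleavage p)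

lemma fiber_eqToHom {S : 𝒮} {a b : p.Fiber S} (e : a = b) :
    Fiber.fiberInclusion.map (eqToHom e) = eqToHom (congrArg Subtype.val e) := by
  subst e
  rfl

section
variable {K} (hK : K.IsSplitting)
include hK

lemma inverseImage_id (S : 𝒮) : K.inverseImage (𝟙 S) = 𝟭 _ := by
  refine Functor.ext (fun a => Subtype.ext (hK.1 a.2).1) (fun a b φ => ?_)
  apply Fiber.hom_ext
  simp only [Functor.map_comp, fiber_eqToHom, Cleavage.inverseImage_map, Functor.id_map]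
  apply IsCartesian.ext p (𝟙 S) (K.lift b.2 (𝟙 S))
  have eb := (hK.1 b.2).2
  have ea := (hK.1 a.2).2
  simp only [IsCartesian.fac, Category.assoc]
  rw [eb, ea]
  simp

lemma inverseImage_comp {S T U : 𝒮} (f : T ⟶ S) (g : U ⟶ T) :
    K.inverseImage (g ≫ f) = K.inverseImage f ⋙ K.inverseImage g := by
  refine Functor.ext (fun a => Subtype.ext (hK.2 f g a.2).1.symm) (fun a b φ => ?_)
  apply Fiber.hom_ext
  simp only [Functor.map_comp, fiber_eqToHom, Cleavage.inverseImage_map, Functor.comp_map]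
  apply IsCartesian.ext p (g ≫ f) (K.lift b.2 (g ≫ f))
  have eb := (hK.2 f g b.2).2
  have ea := (hK.2 f g a.2).2
  simp only [IsCartesian.fac, Category.assoc]
  rw [← eb, IsCartesian.fac_assoc, Category.assoc, IsCartesian.fac, reassoc_of% ea]
  simp

lemma inv_id_obj {S : 𝒮} (a : p.Fiber S) : (K.inverseImage (𝟙 S)).obj a = a := by
  rw [inverseImage_id hK]
  rfl

lemma inv_comp_obj {S T U : 𝒮} (f : T ⟶ S) (g : U ⟶ T) (a : p.Fiber S) :
    (K.inverseImage g).obj ((K.inverseImage f).obj a) = (K.inverseImage (g ≫ f)).obj a := by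
  rw [inverseImage_comp hK]
  rfl

/-- the strict functor of fibres of a split fibration. -/
noncomputable def Fsp : 𝒮ᵒᵖ ⥤ Cat.{v₂, u₂} where
  obj U := Cat.of (p.Fiber U.unop)
  map h := (K.inverseImage h.unop).toCatHom
  map_id U := by
    change (K.inverseImage (𝟙 U.unop)).toCatHom = _
    rw [inverseImage_id hK]
    rfl
  map_comp f g := by
    change (K.inverseImage (g.unop ≫ f.unop)).toCatHom = _
    rw [inverseImage_comp hK]
    rfl

/-- the associated pseudofunctor. -/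
noncomputable abbrev Φs : LocallyDiscrete 𝒮ᵒᵖ ⥤ᵖ Cat.{v₂, u₂} := (Fsp hK).toPseudofunctor'

end

open Pseudofunctor.CoGrothendieck

variable {K} {hK : K.IsSplitting}

/-- the fibre component of an object. -/
def fib (X : ∫ᶜ (Φs hK)) : p.Fiber X.base := X.fiber

/-- the fibre component of a morphism. -/
noncomputable def fibHom {X Y : ∫ᶜ (Φs hK)} (m : X ⟶ Y) : fib X ⟶ (K.inverseImage m.base).obj (fib Y) := m.fiber

/-- the total morphism. -/
noncomputable def tot {X Y : ∫ᶜ (Φs hK)} (m : X ⟶ Y) : (fib X).1 ⟶ (fib Y).1 :=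
  Fiber.fiberInclusion.map (fibHom m) ≫ K.lift (fib Y).2 m.base

instance {X Y : ∫ᶜ (Φs hK)} (m : X ⟶ Y) : p.IsHomLift m.base (tot m) := by
  unfold tot
  infer_instance

lemma fibHom_id (X : ∫ᶜ (Φs hK)) :
    fibHom (𝟙 X) = eqToHom (inv_id_obj hK (fib X)).symm := by
  unfold fibHom
  simp

lemma fibHom_comp {X Y Z : ∫ᶜ (Φs hK)} (m : X ⟶ Y) (n : Y ⟶ Z) :
    fibHom (m ≫ n) = fibHom m ≫ (K.inverseImage m.base).map (fibHom n) ≫
      eqToHom (inv_comp_obj hK n.base m.base (fib Z)) := by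
  unfold fibHom
  simp
  rfl

@[simp] lemma tot_id (X : ∫ᶜ (Φs hK)) : tot (𝟙 X) = 𝟙 (fib X).1 := by
  unfold tot
  rw [fibHom_id, fiber_eqToHom]
  change _ ≫ K.lift (fib X).2 (𝟙 X.base) = _
  rw [(hK.1 (fib X).2).2]
  simp

@[simp] lemma tot_comp {X Y Z : ∫ᶜ (Φs hK)} (m : X ⟶ Y) (n : Y ⟶ Z) :
    tot (m ≫ n) = tot m ≫ tot n := by
  unfold tot
  rw [fibHom_comp]
  change _ ≫ K.lift (fib Z).2 (m.base ≫ n.base) = _
  simp only [Functor.map_comp, fiber_eqToHom, Category.assoc, Cleavage.inverseImage_map]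
  rw [← (hK.2 n.base m.base (fib Z).2).2, IsCartesian.fac_assoc]
  simp

lemma base_eq_of_isHomLift {R S : 𝒮} {a b : 𝒳} (f f' : R ⟶ S) (φ : a ⟶ b) [p.IsHomLift f φ]
    [p.IsHomLift f' φ] : f = f' := by
  rw [IsHomLift.fac p f φ, IsHomLift.fac p f' φ]

lemma tot_ext {X Y : ∫ᶜ (Φs hK)} (m m' : X ⟶ Y) (ht : tot m = tot m') : m = m' := by
  have hb : m.base = m'.base := by
    have : p.IsHomLift m'.base (tot m) := by
      rw [ht]
      infer_instance
    exact base_eq_of_isHomLift (p := p) m.base m'.base (tot m)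
  obtain ⟨g, φ⟩ := m
  obtain ⟨g', φ'⟩ := m'
  dsimp at hb
  subst hb
  have : φ = φ' := by
    apply Fiber.hom_ext (a := fib X) (b := (K.inverseImage g).obj (fib Y))
    exact IsCartesian.ext p g (K.lift (fib Y).2 g) _ _ ht
  subst this
  rfl

/-- constructor for morphisms of the total category. -/
noncomputable def homMk {X Y : ∫ᶜ (Φs hK)} (g : X.base ⟶ Y.base) (ψ : (fib X).1 ⟶ (fib Y).1)
    [p.IsHomLift g ψ] : X ⟶ Y :=
  { base := g
    fiber := (⟨IsCartesian.map p g (K.lift (fib Y).2 g) ψ, inferInstance⟩ :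
      fib X ⟶ (K.inverseImage g).obj (fib Y)) }

@[simp] lemma homMk_base {X Y : ∫ᶜ (Φs hK)} (g : X.base ⟶ Y.base) (ψ : (fib X).1 ⟶ (fib Y).1)
    [p.IsHomLift g ψ] : (homMk g ψ).base = g := rfl

@[simp] lemma tot_homMk {X Y : ∫ᶜ (Φs hK)} (g : X.base ⟶ Y.base) (ψ : (fib X).1 ⟶ (fib Y).1)
    [p.IsHomLift g ψ] : tot (homMk g ψ) = ψ :=
  IsCartesian.fac p g (K.lift (fib Y).2 g) ψ

variable (hK) in
/-- the functor from the total category. -/
noncomputable def Ψs : ∫ᶜ (Φs hK) ⥤ 𝒳 where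
  obj X := (fib X).1
  map m := tot m

variable (hK) in
/-- the functor to the total category. -/
noncomputable def Φf : 𝒳 ⥤ ∫ᶜ (Φs hK) where
  obj x := ⟨p.obj x, (⟨x, rfl⟩ : p.Fiber (p.obj x))⟩
  map {x y} φ := homMk (X := ⟨p.obj x, (⟨x, rfl⟩ : p.Fiber (p.obj x))⟩)
    (Y := ⟨p.obj y, (⟨y, rfl⟩ : p.Fiber (p.obj y))⟩) (p.map φ) φ
  map_id x := by
    apply tot_ext
    rw [tot_homMk, tot_id]
    rfl
  map_comp φ ψ := by
    apply tot_ext
    rw [tot_comp, tot_homMk]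
    erw [tot_homMk, tot_homMk]

lemma Φf_comp_Ψs : Φf hK ⋙ Ψs hK = 𝟭 𝒳 := by
  refine Functor.ext (fun _ => rfl) (fun x y φ => ?_)
  simp only [eqToHom_refl, Category.comp_id, Category.id_comp, Functor.id_map]
  exact tot_homMk (X := ⟨p.obj x, (⟨x, rfl⟩ : p.Fiber (p.obj x))⟩)
    (Y := ⟨p.obj y, (⟨y, rfl⟩ : p.Fiber (p.obj y))⟩) (p.map φ) φ

lemma Φf_comp_forget : Φf hK ⋙ forget (Φs hK) = p := rfl

instance : (Ψs hK).Faithful where
  map_injective h := tot_ext _ _ h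

lemma Ψs_obj_injective : Function.Injective (Ψs hK).obj := by
  intro X Y h
  obtain ⟨U, x⟩ := X
  obtain ⟨V, y⟩ := Y
  change (x : p.Fiber U).1 = (y : p.Fiber V).1 at h
  have hUV : U = V := by
    have h1 : p.obj (x : p.Fiber U).1 = U := (x : p.Fiber U).2
    have h2 : p.obj (y : p.Fiber V).1 = V := (y : p.Fiber V).2
    rw [← h1, ← h2, h]
  subst hUV
  have : x = y := Subtype.ext h
  subst this
  rfl

lemma eq_of_comp_eq {A : Type*} [Category A] {B : Type*} [Category B] {X : Type*} [Category X]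
    (G G' : A ⥤ B) (Ψ : B ⥤ X) [Ψ.Faithful] (hinj : Function.Injective Ψ.obj)
    (h : G ⋙ Ψ = G' ⋙ Ψ) : G = G' := by
  refine Functor.ext (fun a => hinj (Functor.congr_obj h a)) (fun a b f => ?_)
  apply Ψ.map_injective
  have := Functor.congr_hom h f
  simpa [eqToHom_map] using this

lemma Ψs_comp_Φf : Ψs hK ⋙ Φf hK = 𝟭 _ := by
  apply eq_of_comp_eq _ _ (Ψs hK) Ψs_obj_injective
  rw [Functor.assoc, Φf_comp_Ψs]
  rfl

theorem split_iso (p : 𝒳 ⥤ 𝒮) [p.IsFibered] (K : FibCat.Cleavage p) (hK : K.IsSplitting) :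
    ∃ (F : 𝒮ᵒᵖ ⥤ Cat.{v₂, u₂})
      (Φ : 𝒳 ⥤ Pseudofunctor.CoGrothendieck F.toPseudofunctor')
      (Ψ : Pseudofunctor.CoGrothendieck F.toPseudofunctor' ⥤ 𝒳),
      Φ ⋙ Ψ = 𝟭 𝒳 ∧ Ψ ⋙ Φ = 𝟭 _ ∧ Φ ⋙ Pseudofunctor.CoGrothendieck.forget F.toPseudofunctor' = p :=
  ⟨Fsp hK, Φf hK, Ψs hK, Φf_comp_Ψs, Ψs_comp_Φf, Φf_comp_forget⟩

end Groth.Agent.Lib.Helper45.Split
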