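import Groth.Prelude.Def_FibClv
import Mathlib.CategoryTheory.Bicategory.Grothendieck
import Mathlib.CategoryTheory.Bicategory.Functor.LocallyDiscrete

/-!
Helper45: the canonical cleavage of the total category of a strict functor into `Cat` is a
splitting, and splittings transport along an isomorphism of categories over the base.
-/

set_option autoImplicit false
set_option backward.isDefEq.respectTransparency false
set_option linter.style.haveILetI false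
set_option linter.unusedSectionVars false
universe v₁ v₂ v₃ u₁ u₂ u₃

open CategoryTheory CategoryTheory.Functor Opposite Bicategory FibCat Pseudofunctor
  Pseudofunctor.CoGrothendieck

namespace Groth.Agent.Lib.Helper45.SplitB

variable {𝒮 : Type u₁} [Category.{v₁} 𝒮] (F : 𝒮ᵒᵖ ⥤ Cat.{v₂, u₂})

/-- the canonical cleavage. -/
abbrev K0 : FibCat.Cleavage (CoGrothendieck.forget F.toPseudofunctor') :=
  FibCat.Cleavage.ofCoGrothendieck F.toPseudofunctor'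

variable {F}

lemma F'_map {X Y : LocallyDiscrete 𝒮ᵒᵖ} (f : X ⟶ Y) :
    F.toPseudofunctor'.map f = F.map f.as := rfl

lemma F'_mapId (X : LocallyDiscrete 𝒮ᵒᵖ) :
    F.toPseudofunctor'.mapId X = eqToIso (by rw [F'_map]; exact F.map_id _) := rfl

lemma F'_mapComp {X Y Z : LocallyDiscrete 𝒮ᵒᵖ} (f : X ⟶ Y) (g : Y ⟶ Z) :
    F.toPseudofunctor'.mapComp f g = eqToIso (by rw [F'_map, F'_map, F'_map]; exact F.map_comp _ _) := rfl

lemma eqToHom_base {a b : ∫ᶜ F.toPseudofunctor'} (h : a = b) :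
    (eqToHom h).base = eqToHom (congrArg (fun x => x.base) h) := by
  subst h
  rfl

lemma eqToHom_fiber {a b : ∫ᶜ F.toPseudofunctor'} (h : a = b) :
    (eqToHom h).fiber = eqToHom (by subst h; rw [F'_map]; exact (congrArg (fun G : Cat.Hom _ _ => G.toFunctor.obj a.fiber) (F.map_id _)).symm) := by
  subst h
  simp

lemma mk_eq {R : 𝒮} {x y : F.toPseudofunctor'.obj ⟨op R⟩} (h : x = y) :
    (⟨R, x⟩ : ∫ᶜ F.toPseudofunctor') = ⟨R, y⟩ := by
  subst h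
  rfl

lemma K0_obj {R S : 𝒮} (a : ∫ᶜ F.toPseudofunctor') (ha : a.base = S) (f : R ⟶ S) :
    (K0 F).obj ha f = ⟨R, (F.map (f ≫ eqToHom ha.symm).op).toFunctor.obj a.fiber⟩ := rfl

lemma K0_lift_base {R S : 𝒮} (a : ∫ᶜ F.toPseudofunctor') (ha : a.base = S) (f : R ⟶ S) :
    ((K0 F).lift ha f).base = f ≫ eqToHom ha.symm := rfl

lemma K0_lift_fiber {R S : 𝒮} (a : ∫ᶜ F.toPseudofunctor') (ha : a.base = S) (f : R ⟶ S) :
    ((K0 F).lift ha f).fiber = 𝟙 _ := rfl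

lemma K0_normalised : (K0 F).IsNormalised := by
  intro S a ha
  subst ha
  have h : (K0 F).obj (a := a) rfl (𝟙 a.base) = a := by
    rw [K0_obj]
    obtain ⟨S, x⟩ := a
    apply mk_eq
    simp
  refine ⟨h, ?_⟩
  apply Hom.ext
  · rw [K0_lift_fiber, eqToHom_fiber, eqToHom_trans]
    simp
  · rw [K0_lift_base, eqToHom_base]
    simp
    rfl

lemma K0_splitting : (K0 F).IsSplitting := by
  refine ⟨K0_normalised, ?_⟩
  intro S T U f g a ha
  subst ha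
  have h : (K0 F).obj ((K0 F).obj_proj rfl f) g = (K0 F).obj (a := a) rfl (g ≫ f) := by
    rw [K0_obj _ _ g, K0_obj _ _ (g ≫ f)]
    apply mk_eq
    change (F.map _).toFunctor.obj ((F.map _).toFunctor.obj a.fiber) = _
    simp
  refine ⟨h, ?_⟩
  apply Hom.ext
  · simp [K0_lift_fiber, eqToHom_fiber]
  · simp [K0_lift_base, eqToHom_base]

end Groth.Agent.Lib.Helper45.SplitB

namespace Groth.Agent.Lib.Helper45.SplitC

variable {𝒮 : Type u₁} [Category.{v₁} 𝒮] {𝒳 : Type u₂} [Category.{v₂} 𝒳]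
  {𝒴 : Type u₃} [Category.{v₃} 𝒴] (q : 𝒴 ⥤ 𝒮) (Φ : 𝒳 ⥤ 𝒴)

lemma isHomLift_comp_iff {R S : 𝒮} (f : R ⟶ S) {b a : 𝒳} (φ : b ⟶ a) :
    (Φ ⋙ q).IsHomLift f φ ↔ q.IsHomLift f (Φ.map φ) := by
  constructor
  · intro h
    cases h
    exact IsHomLift.map q (Φ.map φ)
  · intro h
    exact IsHomLift.of_fac (Φ ⋙ q) f φ (IsHomLift.domain_eq q f (Φ.map φ))
      (IsHomLift.codomain_eq q f (Φ.map φ)) (IsHomLift.fac q f (Φ.map φ))

lemma isCartesian_of_map [Φ.Full] [Φ.Faithful] {R S : 𝒮} (f : R ⟶ S) {b a : 𝒳} (φ : b ⟶ a)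
    [h : q.IsCartesian f (Φ.map φ)] : (Φ ⋙ q).IsCartesian f φ where
  toIsHomLift := (isHomLift_comp_iff q Φ f φ).2 inferInstance
  universal_property {b'} φ' hφ' := by
    have : q.IsHomLift f (Φ.map φ') := (isHomLift_comp_iff q Φ f φ').1 hφ'
    refine ⟨Φ.preimage (IsCartesian.map q f (Φ.map φ) (Φ.map φ')), ⟨?_, ?_⟩, ?_⟩
    · rw [isHomLift_comp_iff, Φ.map_preimage]
      infer_instance
    · apply Φ.map_injective
      rw [Φ.map_comp, Φ.map_preimage, IsCartesian.fac]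
    · rintro χ ⟨h1, h2⟩
      apply Φ.map_injective
      rw [Φ.map_preimage]
      have : q.IsHomLift (𝟙 R) (Φ.map χ) := (isHomLift_comp_iff q Φ _ χ).1 h1
      apply IsCartesian.map_uniq
      rw [← Φ.map_comp, h2]

lemma isCartesian_eqToHom_comp {R S : 𝒮} (f : R ⟶ S) {b b' a : 𝒴} (e : b' = b) (ψ : b ⟶ a)
    [h : q.IsCartesian f ψ] : q.IsCartesian f (eqToHom e ≫ ψ) := by
  subst e
  simpa using h

variable (Ψ : 𝒴 ⥤ 𝒳) (h₁ : Φ ⋙ Ψ = 𝟭 𝒳) (h₂ : Ψ ⋙ Φ = 𝟭 𝒴) (K0 : Cleavage q)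

include h₁ h₂ in
lemma full_faithful : Φ.Full ∧ Φ.Faithful := by
  let e : 𝒳 ≌ 𝒴 := CategoryTheory.Equivalence.mk Φ Ψ (eqToIso h₁.symm) (eqToIso h₂)
  exact ⟨inferInstanceAs e.functor.Full, inferInstanceAs e.functor.Faithful⟩

lemma K0_congr {R T : 𝒮} {X X' : 𝒴} (e : X' = X) (hX : q.obj X = T) (hX' : q.obj X' = T)
    (g : R ⟶ T) :
    ∃ h : K0.obj hX' g = K0.obj hX g, K0.lift hX' g = eqToHom h ≫ K0.lift hX g ≫ eqToHom e.symm := by
  subst e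
  exact ⟨rfl, by simp⟩

lemma map_ΨΦ {X Y : 𝒴} (m : X ⟶ Y) :
    Φ.map (Ψ.map m) = eqToHom (Functor.congr_obj h₂ X) ≫ m ≫ eqToHom (Functor.congr_obj h₂ Y).symm :=
  Functor.congr_hom h₂ m

/-- the transported cleavage. -/
def KT : Cleavage (Φ ⋙ q) where
  obj {_ _ a} ha f := Ψ.obj (K0.obj (a := Φ.obj a) ha f)
  lift {_ _ a} ha f := Ψ.map (K0.lift (a := Φ.obj a) ha f) ≫ eqToHom (Functor.congr_obj h₁ a)
  isCartesian {R S a} ha f := by
    obtain ⟨_, _⟩ := full_faithful Φ Ψ h₁ h₂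
    have : q.IsCartesian f (Φ.map (Ψ.map (K0.lift (a := Φ.obj a) ha f) ≫
        eqToHom (Functor.congr_obj h₁ a))) := by
      rw [Φ.map_comp, map_ΨΦ Φ Ψ h₂, eqToHom_map, Category.assoc, Category.assoc, eqToHom_trans,
        eqToHom_refl, Category.comp_id]
      exact isCartesian_eqToHom_comp q f _ _
    exact isCartesian_of_map q Φ f _

lemma KT_splitting (hK0 : K0.IsSplitting) : (KT q Φ Ψ h₁ h₂ K0).IsSplitting := by
  obtain ⟨hN, hS⟩ := hK0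
  refine ⟨?_, ?_⟩
  · intro S a ha
    obtain ⟨h0, e0⟩ := @hN S (Φ.obj a) ha
    refine ⟨(congrArg Ψ.obj h0).trans (Functor.congr_obj h₁ a), ?_⟩
    change Ψ.map (K0.lift (a := Φ.obj a) ha (𝟙 S)) ≫ eqToHom _ = _
    rw [e0, eqToHom_map, eqToHom_trans]
  · intro S T U f g a ha
    obtain ⟨hc, ec⟩ := K0_congr q K0 (Functor.congr_obj h₂ (K0.obj (a := Φ.obj a) ha f))
      (K0.obj_proj (a := Φ.obj a) ha f) ((KT q Φ Ψ h₁ h₂ K0).obj_proj ha f) g
    obtain ⟨hs, es⟩ := @hS S T U f g (Φ.obj a) ha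
    refine ⟨(congrArg Ψ.obj (hc.trans hs)), ?_⟩
    change (Ψ.map (K0.lift (a := Φ.obj (Ψ.obj (K0.obj (a := Φ.obj a) ha f))) _ g) ≫ eqToHom _) ≫
      (Ψ.map (K0.lift (a := Φ.obj a) ha f) ≫ eqToHom _) =
      eqToHom _ ≫ Ψ.map (K0.lift (a := Φ.obj a) ha (g ≫ f)) ≫ eqToHom _
    rw [ec]
    simp only [Functor.map_comp, eqToHom_map, Category.assoc, eqToHom_trans_assoc, eqToHom_refl,
      Category.id_comp]
    rw [← Ψ.map_comp_assoc, es]
    simp [eqToHom_map]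

include h₁ h₂ in
theorem exists_splitting (hK0 : K0.IsSplitting) : ∃ K : Cleavage (Φ ⋙ q), K.IsSplitting :=
  ⟨KT q Φ Ψ h₁ h₂ K0, KT_splitting q Φ Ψ h₁ h₂ K0 hK0⟩

end Groth.Agent.Lib.Helper45.SplitC

namespace Groth.Agent.Lib.Helper45.SplitB

open Groth.Agent.Lib.Helper45.SplitC in
theorem main19866 {𝒮 : Type u₁} [Category.{v₁} 𝒮] {𝒳 : Type u₂} [Category.{v₂} 𝒳]
    (p : 𝒳 ⥤ 𝒮) (F : 𝒮ᵒᵖ ⥤ Cat.{v₂, u₂})
    (Φ : 𝒳 ⥤ Pseudofunctor.CoGrothendieck F.toPseudofunctor')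
    (Ψ : Pseudofunctor.CoGrothendieck F.toPseudofunctor' ⥤ 𝒳)
    (h₁ : Φ ⋙ Ψ = 𝟭 𝒳) (h₂ : Ψ ⋙ Φ = 𝟭 _)
    (h₃ : Φ ⋙ Pseudofunctor.CoGrothendieck.forget F.toPseudofunctor' = p) :
    ∃ K : FibCat.Cleavage p, K.IsSplitting := by
  subst h₃
  exact exists_splitting _ Φ Ψ h₁ h₂ (K0 F) K0_splitting

end Groth.Agent.Lib.Helper45.SplitB
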