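import Groth.Agent.Lib.Helper45.Rank1
import Groth.Agent.Lib.Helper45.FTDict4

/-!
# A finitely presented module whose stalk at a point is free of rank `r` is free of rank `r`
on a neighbourhood (general small site with a point; spreading out of germ equations).
-/

set_option autoImplicit false
set_option linter.style.haveILetI false
set_option linter.unusedSectionVars false
set_option linter.dupNamespace false

universe u

open CategoryTheory CategoryTheory.Limits Opposite ModSite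

namespace Groth.Agent.Lib.Helper45.StalkFree

open Groth.Agent.Lib.Helper45.QcSum Groth.Agent.Lib.Helper45.FTDict
  Groth.Agent.Lib.Helper45.ClosedImm Groth.Agent.Lib.Helper45.LocBasis

lemma alg_indep {R : Type*} [CommRing R] {r n m' : ℕ} (c : Fin r → R) (G : Fin r → Fin n → R)
    (A : Fin n → Fin r → R) (Rr : Fin m' → Fin n → R) (d : Fin m' → R)
    (E2 : ∀ k k', ∑ j, G k j * A j k' = if k = k' then 1 else 0)
    (E3 : ∀ l k, ∑ j, Rr l j * A j k = 0)
    (hd : ∀ j, ∑ k, c k * G k j = ∑ l, d l * Rr l j) (k' : Fin r) : c k' = 0 := by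
  calc c k' = ∑ k, c k * (if k = k' then 1 else 0) := by simp
    _ = ∑ k, c k * ∑ j, G k j * A j k' := by simp only [E2]
    _ = ∑ j, (∑ k, c k * G k j) * A j k' := by
        simp only [Finset.mul_sum, Finset.sum_mul]
        rw [Finset.sum_comm]
        exact Finset.sum_congr rfl (fun j _ => Finset.sum_congr rfl (fun k _ => by ring))
    _ = ∑ j, (∑ l, d l * Rr l j) * A j k' := by simp only [hd]
    _ = ∑ l, d l * ∑ j, Rr l j * A j k' := by
        simp only [Finset.mul_sum, Finset.sum_mul]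
        rw [Finset.sum_comm]
        exact Finset.sum_congr rfl (fun j _ => Finset.sum_congr rfl (fun k _ => by ring))
    _ = 0 := by simp only [E3, mul_zero, Finset.sum_const_zero]

variable {C : Type u} [SmallCategory C] {J : GrothendieckTopology C} (O : Sheaf J CommRingCat.{u})

lemma ring_eq_of_local {V : C} (a a' : (ringSh O).obj.obj (op V)) (S : Sieve V) (hS : S ∈ J V)
    (h : ∀ (W : C) (f : W ⟶ V), S f → (ringSh O).obj.map f.op a = (ringSh O).obj.map f.op a') :
    a = a' := by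
  have h1 : Presieve.IsSheaf J (O.obj ⋙ forget CommRingCat.{u}) :=
    (isSheaf_iff_isSheaf_of_type _ _).1 ((sheafCompose J (forget CommRingCat.{u})).obj O).property
  exact (h1 S hS).isSeparatedFor.ext (fun W f hf => h W f hf)

/-- the sections `b` are locally independent over `U`. -/
def LocIndep (F : Mod O) (U : C) {r : ℕ} (b : Fin r → F.val.obj (op U)) : Prop :=
  ∀ (V : C) (f : V ⟶ U) (c : Fin r → (ringSh O).obj.obj (op V)),
    ∑ k, c k • res O F f (b k) = 0 → c = 0

theorem locGen_locIndep_of_data (F : Mod O) (U : C) {n m' r : ℕ} (s : Fin n → F.val.obj (op U))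
    (ρ : Fin m' → Fin n → (ringSh O).obj.obj (op U)) (b : Fin r → F.val.obj (op U))
    (a : Fin n → Fin r → (ringSh O).obj.obj (op U))
    (g : Fin r → Fin n → (ringSh O).obj.obj (op U))
    (hs : LocGen O F U s) (hρ : RelGen O F U s ρ)
    (H1 : ∀ k, b k = ∑ j, g k j • s j) (E1 : ∀ j, s j = ∑ k, a j k • b k)
    (E2 : ∀ k k', ∑ j, g k j * a j k' = if k = k' then 1 else 0)
    (E3 : ∀ l k, ∑ j, ρ l j * a j k = 0) :
    LocGen O F U b ∧ LocIndep O F U b := by
  classical
  constructor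
  · intro V f t
    obtain ⟨S, hS, hS'⟩ := hs V f t
    refine ⟨S, hS, fun W h hh => ?_⟩
    obtain ⟨c, hc⟩ := hS' W h hh
    refine ⟨fun k => ∑ j, c j * (ringSh O).obj.map (h ≫ f).op (a j k), ?_⟩
    rw [hc, ← alg_swap]
    refine Finset.sum_congr rfl (fun j _ => ?_)
    congr 1
    conv_lhs => rw [E1 j]
    rw [res_sum]
    exact Finset.sum_congr rfl (fun k _ => res_smul O F _ _ _)
  · intro V f c hc
    have h1 : ∑ j, (∑ k, c k * (ringSh O).obj.map f.op (g k j)) • res O F f (s j) = 0 := by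
      rw [← hc, ← alg_swap]
      refine Finset.sum_congr rfl (fun k _ => ?_)
      congr 1
      conv_rhs => rw [H1 k]
      rw [res_sum]
      exact Finset.sum_congr rfl (fun j _ => (res_smul O F _ _ _).symm)
    obtain ⟨T, hT, hT'⟩ := hρ.2 V f (fun j => ∑ k, c k * (ringSh O).obj.map f.op (g k j)) h1
    funext k'
    refine ring_eq_of_local O (c k') 0 T hT (fun W h hh => ?_)
    obtain ⟨d, hd⟩ := hT' W h hh
    rw [map_zero]
    refine alg_indep (R := (O.obj.obj (op W) : CommRingCat))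
      (fun k => (ringSh O).obj.map h.op (c k))
      (fun k j => (ringSh O).obj.map (h ≫ f).op (g k j))
      (fun j k => (ringSh O).obj.map (h ≫ f).op (a j k))
      (fun l j => (ringSh O).obj.map (h ≫ f).op (ρ l j)) d ?_ ?_ ?_ k'
    · intro k k''
      have e := congrArg ((ringSh O).obj.map (h ≫ f).op) (E2 k k'')
      rw [map_sum] at e
      simp only [map_mul] at e
      refine e.trans ?_
      split_ifs
      · exact map_one _
      · exact map_zero _
    · intro l k
      have e := congrArg ((ringSh O).obj.map (h ≫ f).op) (E3 l k)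
      rw [map_sum, map_zero] at e
      simp only [map_mul] at e
      exact e
    · intro j
      have e := hd j
      rw [map_sum] at e
      simp only [map_mul, ← Omap_comp] at e
      exact e

theorem iso_of_locGen_locIndep (F : Mod O) (U : C) {r : ℕ} (b : Fin r → F.val.obj (op U))
    (hb : LocGen O F U b) (hi : LocIndep O F U b) :
    Nonempty ((restr O U).obj F ≅
      SheafOfModules.free (R := ringSh (O.over U)) (ULift.{u} (Fin r))) := by
  classical
  let N : Mod (O.over U) := (restr O U).obj F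
  let σ : ULift.{u} (Fin r) → N.sections := fun i => overSection O F U (b i.down)
  let ψ : SheafOfModules.free (R := ringSh (O.over U)) (ULift.{u} (Fin r)) ⟶ N :=
    N.freeHomEquiv.symm σ
  have hepi : Epi ψ := epi_of_locGen O F U b hb
  have hmono : Mono ψ := by
    apply mono_of_injective (O.over U)
    intro Z t ht
    rw [app_eq_sum (O.over U) N σ Z t] at ht
    let c : Fin r → (ringSh O).obj.obj (op Z.left) := fun k => coord (O.over U) (ULift.up k) Z t
    have h1 : ∑ k : Fin r, c k • res O F Z.hom (b k) = 0 := by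
      refine Eq.trans ?_ ht
      exact (Equiv.sum_comp Equiv.ulift.{u} (fun k => c k • res O F Z.hom (b k))).symm
    have h2 := hi Z.left Z.hom c h1
    apply ext_coord (O.over U) Z
    intro i
    have h3 : coord (O.over U) i Z t = 0 := congrFun h2 i.down
    rw [h3]
    exact (map_zero ((proj (R := ringSh (O.over U)) i).val.app (op Z)).hom).symm
  have : IsIso ψ := isIso_of_mono_of_epi ψ
  exact ⟨(asIso ψ).symm⟩

section Stalk

open Groth.Agent.Lib.Helper42.StalkFlat

variable {O}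

lemma exists_common_germRing_eq' (p : GrothendieckTopology.Point.{u} J) {ι : Type} [Fintype ι]
    (X : C) (x : p.fiber.obj X) (z₁ z₂ : ι → O.obj.obj (op X))
    (h : ∀ i, germRing p X x (z₁ i) = germRing p X x (z₂ i)) :
    ∃ (Y : C) (g : Y ⟶ X) (y : p.fiber.obj Y), p.fiber.map g y = x ∧
      ∀ i, (O.obj.map g.op).hom (z₁ i) = (O.obj.map g.op).hom (z₂ i) := by
  obtain ⟨Y, g, y, hy, hY⟩ := exists_common_germRing_eq p (Fintype.card ι) X x
    (z₁ ∘ (Fintype.equivFin ι).symm) (z₂ ∘ (Fintype.equivFin ι).symm) (fun i => h _)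
  refine ⟨Y, g, y, hy, fun i => ?_⟩
  have := hY (Fintype.equivFin ι i)
  simpa using this

lemma fiber_map_comp (p : GrothendieckTopology.Point.{u} J) {X Y Z : C} (g : Y ⟶ X) (h : Z ⟶ Y)
    (z : p.fiber.obj Z) (y : p.fiber.obj Y) (x : p.fiber.obj X) (hz : p.fiber.map h z = y)
    (hy : p.fiber.map g y = x) : p.fiber.map (h ≫ g) z = x := by
  rw [Functor.map_comp]
  change p.fiber.map g (p.fiber.map h z) = x
  rw [hz, hy]

theorem exists_locBasis_of_stalk (F : Mod O) (hFP : FPc O F)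
    (p : GrothendieckTopology.Point.{u} J) {r : ℕ} (m : Fin r → stalkAb p F)
    (hgen : ∀ y : stalkAb p F, ∃ a : Fin r → stalkRing p O, y = ∑ k, a k • m k)
    (hind : ∀ a : Fin r → stalkRing p O, ∑ k, a k • m k = 0 → a = 0) :
    ∃ (U : C) (_ : p.fiber.obj U) (b : Fin r → F.val.obj (op U)),
      LocGen O F U b ∧ LocIndep O F U b := by
  classical
  -- Step 1: a neighbourhood with a presentation
  obtain ⟨W⟩ : Nonempty p.fiber.Elements := IsCofiltered.nonempty
  obtain ⟨S, hS, hS'⟩ := hFP W.1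
  obtain ⟨U₀, f₀, hf₀, u₀, -⟩ := p.jointly_surjective S hS W.2
  obtain ⟨n, s, m', ρ, hs, hρ⟩ := hS' U₀ f₀ hf₀
  -- coefficients of the germs of the generators
  choose α hα using fun j => hgen (germ p F U₀ u₀ (s j))
  -- Step 2: representatives
  obtain ⟨V₁, g₁, v₁, hv₁, A₁, γ, hA₁, hγ⟩ := exists_reps' p F U₀ u₀
    (fun q : Fin n × Fin r => α q.1 q.2) m
  -- Step 3: express the `γ k` through the generators
  choose T hT hT' using fun k => hs V₁ g₁ (γ k)
  obtain ⟨V₂, g₂, hg₂, v₂, hv₂⟩ := p.jointly_surjective (Finset.univ.inf T)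
    (finset_inf_mem _ T hT) v₁
  have hg₂k : ∀ k, T k g₂ := fun k => (finset_inf_apply _ T g₂).1 hg₂ k (Finset.mem_univ k)
  choose G hG using fun k => hT' k V₂ g₂ (hg₂k k)
  -- data over `V₂`
  let s₂ : Fin n → F.val.obj (op V₂) := fun j => res O F (g₂ ≫ g₁) (s j)
  let ρ₂ : Fin m' → Fin n → (ringSh O).obj.obj (op V₂) := fun l j =>
    (ringSh O).obj.map (g₂ ≫ g₁).op (ρ l j)
  let b₂ : Fin r → F.val.obj (op V₂) := fun k => res O F g₂ (γ k)
  let a₂ : Fin n → Fin r → O.obj.obj (op V₂) := fun j k => (O.obj.map g₂.op).hom (A₁ (j, k))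
  have hs₂ : LocGen O F V₂ s₂ := hs.restrict O (g₂ ≫ g₁)
  have hρ₂ : RelGen O F V₂ s₂ ρ₂ := hρ.restrict O (g₂ ≫ g₁)
  have H1₂ : ∀ k, b₂ k = ∑ j, G k j • s₂ j := hG
  have hv₂₀ : p.fiber.map (g₂ ≫ g₁) v₂ = u₀ := fiber_map_comp p g₁ g₂ v₂ v₁ u₀ hv₂ hv₁
  have gb₂ : ∀ k, germ p F V₂ v₂ (b₂ k) = m k := fun k =>
    (germ_w' p F g₂ v₂ v₁ hv₂ (γ k)).trans (hγ k)
  have gs₂ : ∀ j, germ p F V₂ v₂ (s₂ j) = ∑ k, α j k • m k := fun j =>
    (germ_w' p F (g₂ ≫ g₁) v₂ u₀ hv₂₀ (s j)).trans (hα j)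
  have ga₂ : ∀ j k, germRing p V₂ v₂ (a₂ j k) = α j k := fun j k =>
    (germRing_w' p g₂ v₂ v₁ hv₂ (A₁ (j, k))).trans (hA₁ (j, k))
  -- germ equations at `(V₂, v₂)`
  have E1g : ∀ j, germ p F V₂ v₂ (s₂ j) = germ p F V₂ v₂ (∑ k, a₂ j k • b₂ k) := by
    intro j
    rw [gs₂ j, germ_sum_smul]
    exact Finset.sum_congr rfl (fun k _ => by rw [ga₂, gb₂])
  have key : ∀ x : Fin n → stalkRing p O,
      ∑ k, (∑ j, x j * α j k) • m k = ∑ j, x j • germ p F V₂ v₂ (s₂ j) := by
    intro x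
    rw [← alg_swap]
    exact Finset.sum_congr rfl (fun j _ => by rw [gs₂ j])
  let G' : Fin r → Fin n → O.obj.obj (op V₂) := G
  let ρ₂' : Fin m' → Fin n → O.obj.obj (op V₂) := ρ₂
  have E2g : ∀ q : Fin r × Fin r, germRing p V₂ v₂ (∑ j, G' q.1 j * a₂ j q.2) =
      germRing p V₂ v₂ (if q.1 = q.2 then 1 else 0) := by
    rintro ⟨k, k'⟩
    have h1 : ∑ k'', (∑ j, germRing p V₂ v₂ (G' k j) * α j k'') • m k'' = m k := by
      rw [key, ← germ_sum_smul, ← gb₂ k, H1₂ k]
      rfl
    have h2 : ∑ k'', ((∑ j, germRing p V₂ v₂ (G' k j) * α j k'') -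
        (if k = k'' then 1 else 0)) • m k'' = 0 := by
      simp only [sub_smul, Finset.sum_sub_distrib]
      rw [h1]
      simp [Finset.sum_ite_eq]
    have h3 := congrFun (hind _ h2) k'
    simp only [Pi.zero_apply, sub_eq_zero] at h3
    rw [germRing_sum]
    simp only [germRing_mul, ga₂]
    rw [h3]
    split_ifs
    · exact (map_one (p.toPresheafFiber V₂ v₂ O.obj).hom).symm
    · exact (map_zero (p.toPresheafFiber V₂ v₂ O.obj).hom).symm
  have E3g : ∀ q : Fin m' × Fin r,
      germRing p V₂ v₂ (∑ j, ρ₂' q.1 j * a₂ j q.2) =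
      germRing p V₂ v₂ 0 := by
    rintro ⟨l, k⟩
    have h1 : ∑ k'', (∑ j, germRing p V₂ v₂ (ρ₂' l j) * α j k'') • m k'' = 0 := by
      rw [key, ← germ_sum_smul]
      have := hρ₂.1 l
      refine Eq.trans (congrArg (germ p F V₂ v₂) this) ?_
      exact germ_zero p F V₂ v₂
    have h3 := congrFun (hind _ h1) k
    rw [germRing_sum]
    simp only [germRing_mul, ga₂]
    rw [h3, germRing_zero]
    rfl
  -- spreading out the ring equations
  let z₁ : (Fin r × Fin r) ⊕ (Fin m' × Fin r) → O.obj.obj (op V₂) :=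
    Sum.elim (fun q => ∑ j, G' q.1 j * a₂ j q.2) (fun q => ∑ j, ρ₂' q.1 j * a₂ j q.2)
  let z₂ : (Fin r × Fin r) ⊕ (Fin m' × Fin r) → O.obj.obj (op V₂) :=
    Sum.elim (fun q => if q.1 = q.2 then 1 else 0) (fun _ => 0)
  have hz : ∀ i, germRing p V₂ v₂ (z₁ i) = germRing p V₂ v₂ (z₂ i) := by
    rintro (q | q)
    · exact E2g q
    · exact E3g q
  obtain ⟨V₃, g₃, v₃, hv₃, hE23⟩ := exists_common_germRing_eq' p V₂ v₂ z₁ z₂ hz
  -- spreading out the module equations
  have E1g₃ : ∀ j, germ p F V₃ v₃ (rs F g₃ (s₂ j)) =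
      germ p F V₃ v₃ (rs F g₃ (∑ k, a₂ j k • b₂ k)) := fun j =>
    (germ_w' p F g₃ v₃ v₂ hv₃ (s₂ j)).trans
      ((E1g j).trans (germ_w' p F g₃ v₃ v₂ hv₃ (∑ k, a₂ j k • b₂ k)).symm)
  obtain ⟨V₄, g₄, v₄, hv₄, hE1⟩ := exists_common_germ_eq p F n V₃ v₃ _ _ E1g₃
  -- final data over `V₄`
  let q : V₄ ⟶ V₂ := g₄ ≫ g₃
  let s₄ : Fin n → F.val.obj (op V₄) := fun j => res O F q (s₂ j)
  let ρ₄ : Fin m' → Fin n → (ringSh O).obj.obj (op V₄) := fun l j =>
    (ringSh O).obj.map q.op (ρ₂ l j)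
  let b₄ : Fin r → F.val.obj (op V₄) := fun k => res O F q (b₂ k)
  let a₂' : Fin n → Fin r → (ringSh O).obj.obj (op V₂) := a₂
  let a₄ : Fin n → Fin r → (ringSh O).obj.obj (op V₄) := fun j k =>
    (ringSh O).obj.map q.op (a₂' j k)
  let G₄ : Fin r → Fin n → (ringSh O).obj.obj (op V₄) := fun k j =>
    (ringSh O).obj.map q.op (G k j)
  have hs₄ : LocGen O F V₄ s₄ := hs₂.restrict O q
  have hρ₄ : RelGen O F V₄ s₄ ρ₄ := hρ₂.restrict O q
  have H1₄ : ∀ k, b₄ k = ∑ j, G₄ k j • s₄ j := by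
    intro k
    have h := congrArg (res O F q) (H1₂ k)
    rw [res_sum] at h
    refine h.trans ?_
    exact Finset.sum_congr rfl (fun j _ => res_smul O F q _ _)
  have E1₄ : ∀ j, s₄ j = ∑ k, a₄ j k • b₄ k := by
    intro j
    have h : res O F g₄ (res O F g₃ (s₂ j)) =
        res O F g₄ (res O F g₃ (∑ k, a₂' j k • b₂ k)) := hE1 j
    have hq : ∀ y, res O F g₄ (res O F g₃ y) = res O F q y := fun y =>
      (res_comp O F g₄ g₃ y).symm
    rw [hq, hq, res_sum] at h
    refine h.trans ?_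
    exact Finset.sum_congr rfl (fun k _ => res_smul O F q _ _)
  have E2₄ : ∀ k k', ∑ j, G₄ k j * a₄ j k' = if k = k' then 1 else 0 := by
    intro k k'
    have h : (ringSh O).obj.map g₃.op (∑ j, G k j * a₂' j k') =
        (ringSh O).obj.map g₃.op (if k = k' then 1 else 0) := hE23 (Sum.inl (k, k'))
    have h' := congrArg ((ringSh O).obj.map g₄.op) h
    rw [← FTDict.Omap_comp O, ← FTDict.Omap_comp O, map_sum] at h'
    simp only [map_mul] at h'
    refine h'.trans ?_
    split_ifs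
    · exact map_one _
    · exact map_zero _
  have E3₄ : ∀ l k, ∑ j, ρ₄ l j * a₄ j k = 0 := by
    intro l k
    have h : (ringSh O).obj.map g₃.op (∑ j, ρ₂ l j * a₂' j k) =
        (ringSh O).obj.map g₃.op 0 := hE23 (Sum.inr (l, k))
    have h' := congrArg ((ringSh O).obj.map g₄.op) h
    rw [← FTDict.Omap_comp O, ← FTDict.Omap_comp O, map_sum, map_zero] at h'
    simp only [map_mul] at h'
    exact h'
  obtain ⟨h1, h2⟩ := locGen_locIndep_of_data O F V₄ s₄ ρ₄ b₄ a₄ G₄ hs₄ hρ₄ H1₄ E1₄ E2₄ E3₄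
  exact ⟨V₄, v₄, b₄, h1, h2⟩

end Stalk

section Top

open TopologicalSpace

theorem exists_restr_iso_free {X : TopCat.{u}} (O : TopCat.Sheaf CommRingCat.{u} X)
    (F : ModSite.Mod O) [SheafOfModules.IsFinitePresentation (R := ModSite.ringSh O) F] (x : X)
    (r : ℕ)
    (hx : Nonempty (ModSite.stalkMod (Opens.pointGrothendieckTopology x) F
      ≃ₗ[ModSite.stalkRing (Opens.pointGrothendieckTopology x) O]
        (Fin r → ModSite.stalkRing (Opens.pointGrothendieckTopology x) O))) :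
    ∃ U : Opens X, x ∈ U ∧
      Nonempty ((ModSite.restr O U).obj F ≅ SheafOfModules.free (ULift.{u} (Fin r))) := by
  classical
  obtain ⟨e⟩ := hx
  let p := Opens.pointGrothendieckTopology x
  let Bs := (Pi.basisFun (stalkRing p O) (Fin r)).map e.symm
  let m : Fin r → stalkAb p F := fun k => Bs k
  have hgen : ∀ y : stalkAb p F, ∃ a : Fin r → stalkRing p O, y = ∑ k, a k • m k :=
    fun y => ⟨fun k => Bs.repr y k, (Bs.sum_repr y).symm⟩
  have hind : ∀ a : Fin r → stalkRing p O, ∑ k, a k • m k = 0 → a = 0 := fun a h =>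
    funext (Fintype.linearIndependent_iff.1 Bs.linearIndependent a h)
  obtain ⟨U, u, b, hb, hi⟩ := exists_locBasis_of_stalk F (fpc_of_isFinitePresentation O F) p m
    hgen hind
  exact ⟨U, u.down.down, iso_of_locGen_locIndep O F U b hb hi⟩

end Top

end Groth.Agent.Lib.Helper45.StalkFree
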