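import Mathlib.CategoryTheory.FiberedCategory.Fibered
import Mathlib.CategoryTheory.FiberedCategory.Fiber
import Mathlib.CategoryTheory.Category.Cat

set_option autoImplicit false
set_option backward.isDefEq.respectTransparency false
universe w v u

open CategoryTheory CategoryTheory.Functor

namespace Groth.Agent.Lib.Helper45.Strictify

variable {C : Type u} [Category.{v} C] {𝒳 : Type w} [Category.{v} 𝒳] (p : 𝒳 ⥤ C)

/-- objects of the fibre of the strictification over `U`. -/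
structure Obj (U : C) where
  x : 𝒳
  f : U ⟶ p.obj x

variable {p}

lemma Obj.ext' {U : C} {a b : Obj p U} (hx : a.x = b.x)
    (hf : a.f = b.f ≫ eqToHom (congrArg p.obj hx).symm) : a = b := by
  cases a; cases b
  dsimp at hx
  subst hx
  simp at hf
  subst hf
  rfl

/-- change of base on objects. -/
abbrev Obj.pull {U V : C} (a : Obj p U) (h : V ⟶ U) : Obj p V := ⟨a.x, h ≫ a.f⟩

@[simp] lemma Obj.pull_x {U V : C} (a : Obj p U) (h : V ⟶ U) : (a.pull h).x = a.x := rfl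
@[simp] lemma Obj.pull_f {U V : C} (a : Obj p U) (h : V ⟶ U) : (a.pull h).f = h ≫ a.f := rfl

lemma Obj.pull_id {U : C} (a : Obj p U) : a.pull (𝟙 U) = a :=
  Obj.ext' rfl (by simp)

lemma Obj.pull_comp {U V W : C} (a : Obj p U) (h : V ⟶ U) (h' : W ⟶ V) :
    a.pull (h' ≫ h) = (a.pull h).pull h' :=
  Obj.ext' rfl (by simp)

variable [p.IsFibered]

/-- the chosen pullback. -/
noncomputable def T {U : C} (a : Obj p U) : 𝒳 := IsPreFibered.pullbackObj (p := p) rfl a.f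

/-- the chosen cartesian arrow. -/
noncomputable def pr {U : C} (a : Obj p U) : T a ⟶ a.x := IsPreFibered.pullbackMap rfl a.f

instance {U : C} (a : Obj p U) : p.IsCartesian a.f (pr a) := by
  unfold pr
  infer_instance

instance {U : C} (a : Obj p U) : p.IsStronglyCartesian a.f (pr a) := inferInstance

lemma T_proj {U : C} (a : Obj p U) : p.obj (T a) = U := IsHomLift.domain_eq p a.f (pr a)

/-- the lift of a morphism through the chosen cartesian arrow. -/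
noncomputable def lift {V W : C} (b : Obj p V) (k : W ⟶ V) {z : 𝒳} (ψ : z ⟶ b.x)
    {f' : W ⟶ p.obj b.x} (hf' : f' = k ≫ b.f) [p.IsHomLift f' ψ] : z ⟶ T b :=
  IsStronglyCartesian.map p b.f (pr b) hf' ψ

instance {V W : C} (b : Obj p V) (k : W ⟶ V) {z : 𝒳} (ψ : z ⟶ b.x)
    {f' : W ⟶ p.obj b.x} (hf' : f' = k ≫ b.f) [p.IsHomLift f' ψ] :
    p.IsHomLift k (lift b k ψ hf') := by
  unfold lift
  infer_instance

@[reassoc (attr := simp)]
lemma lift_fac {V W : C} (b : Obj p V) (k : W ⟶ V) {z : 𝒳} (ψ : z ⟶ b.x)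
    {f' : W ⟶ p.obj b.x} (hf' : f' = k ≫ b.f) [p.IsHomLift f' ψ] :
    lift b k ψ hf' ≫ pr b = ψ :=
  IsStronglyCartesian.fac p b.f (pr b) hf' ψ

lemma hom_ext' {V W : C} (b : Obj p V) (k : W ⟶ V) {z : 𝒳} (α β : z ⟶ T b)
    [p.IsHomLift k α] [p.IsHomLift k β] (h : α ≫ pr b = β ≫ pr b) : α = β :=
  IsStronglyCartesian.ext p b.f (pr b) k h

/-- the category structure on the fibre. -/
noncomputable instance (U : C) : Category.{v} (Obj p U) where
  Hom a b := { φ : T a ⟶ T b // p.IsHomLift (𝟙 U) φ }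
  id a := ⟨𝟙 _, IsHomLift.id (T_proj a)⟩
  comp φ ψ := ⟨φ.1 ≫ ψ.1, by have := φ.2; have := ψ.2; infer_instance⟩
  id_comp φ := Subtype.ext (Category.id_comp _)
  comp_id φ := Subtype.ext (Category.comp_id _)
  assoc φ ψ χ := Subtype.ext (Category.assoc _ _ _)

@[ext] lemma Obj.hom_ext {U : C} {a b : Obj p U} (φ ψ : a ⟶ b) (h : φ.1 = ψ.1) : φ = ψ :=
  Subtype.ext h

@[simp] lemma id_val {U : C} (a : Obj p U) : (𝟙 a : a ⟶ a).1 = 𝟙 (T a) := rfl
@[simp] lemma comp_val {U : C} {a b c : Obj p U} (φ : a ⟶ b) (ψ : b ⟶ c) :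
    (φ ≫ ψ).1 = φ.1 ≫ ψ.1 := rfl

instance {U : C} {a b : Obj p U} (φ : a ⟶ b) : p.IsHomLift (𝟙 U) φ.1 := φ.2

lemma eqToHom_val {U : C} {a a' : Obj p U} (e : a = a') :
    (eqToHom e).1 = eqToHom (congrArg T e) := by
  subst e
  rfl

lemma eqToHom_pr {U : C} {a a' : Obj p U} (e : a = a') :
    eqToHom (congrArg T e) ≫ pr a' = pr a ≫ eqToHom (congrArg Obj.x e) := by
  subst e
  simp

instance {U : C} {a a' : Obj p U} (e : a = a') : p.IsHomLift (𝟙 U) (eqToHom (congrArg T e)) :=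
  IsHomLift.eqToHom_domain_lift_id _ (T_proj a)

instance {U V : C} (h : V ⟶ U) (a : Obj p U) : p.IsHomLift (h ≫ a.f) (pr (a.pull h)) := by
  have : p.IsCartesian (a.pull h).f (pr (a.pull h)) := by
    unfold pr
    infer_instance
  exact this.toIsHomLift

/-- the transition morphism. -/
noncomputable def cc {U V : C} (h : V ⟶ U) (a : Obj p U) : T (a.pull h) ⟶ T a :=
  lift a h (pr (a.pull h)) rfl

instance {U V : C} (h : V ⟶ U) (a : Obj p U) : p.IsHomLift h (cc h a) := by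
  unfold cc
  infer_instance

@[reassoc (attr := simp)]
lemma cc_fac {U V : C} (h : V ⟶ U) (a : Obj p U) : cc h a ≫ pr a = pr (a.pull h) :=
  lift_fac _ _ _ _

lemma conj_eqToHom_val {U : C} {a₁ a b b₁ : Obj p U} (e₁ : a₁ = a) (e₂ : b = b₁) (φ : a ⟶ b) :
    (eqToHom e₁ ≫ φ ≫ eqToHom e₂).1 = eqToHom (congrArg T e₁) ≫ φ.1 ≫ eqToHom (congrArg T e₂) := by
  subst e₁
  subst e₂
  simp

/-- change of base on morphisms. -/
noncomputable def pullMap {U V : C} (h : V ⟶ U) {a b : Obj p U} (φ : a ⟶ b) :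
    a.pull h ⟶ b.pull h :=
  have : p.IsHomLift (h ≫ 𝟙 U ≫ b.f) (cc h a ≫ φ.1 ≫ pr b) := inferInstance
  ⟨@lift _ _ _ _ p _ _ _ (b.pull h) (𝟙 V) _ (cc h a ≫ φ.1 ≫ pr b) (h ≫ 𝟙 U ≫ b.f) (by simp) this,
    inferInstance⟩

@[reassoc (attr := simp)]
lemma pullMap_pr {U V : C} (h : V ⟶ U) {a b : Obj p U} (φ : a ⟶ b) :
    (pullMap h φ).1 ≫ pr (b.pull h) = cc h a ≫ φ.1 ≫ pr b := by
  have : p.IsHomLift (h ≫ 𝟙 U ≫ b.f) (cc h a ≫ φ.1 ≫ pr b) := inferInstance
  exact @lift_fac _ _ _ _ p _ _ _ (b.pull h) (𝟙 V) _ (cc h a ≫ φ.1 ≫ pr b) (h ≫ 𝟙 U ≫ b.f) (by simp) this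

@[reassoc (attr := simp)]
lemma pullMap_cc {U V : C} (h : V ⟶ U) {a b : Obj p U} (φ : a ⟶ b) :
    (pullMap h φ).1 ≫ cc h b = cc h a ≫ φ.1 := by
  apply hom_ext' b h
  simp

/-- change of base as a functor. -/
noncomputable def pullF {U V : C} (h : V ⟶ U) : Obj p U ⥤ Obj p V where
  obj a := a.pull h
  map φ := pullMap h φ
  map_id a := by
    ext
    apply hom_ext' (a.pull h) (𝟙 V)
    simp
  map_comp φ ψ := by
    ext
    apply hom_ext' (Obj.pull _ h) (𝟙 V)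
    simp

@[simp] lemma pullF_obj {U V : C} (h : V ⟶ U) (a : Obj p U) : (pullF h).obj a = a.pull h := rfl
@[simp] lemma pullF_map {U V : C} (h : V ⟶ U) {a b : Obj p U} (φ : a ⟶ b) :
    (pullF h).map φ = pullMap h φ := rfl

lemma cc_id {U : C} (a : Obj p U) : cc (𝟙 U) a = eqToHom (congrArg T a.pull_id) := by
  have : p.IsHomLift (𝟙 U) (eqToHom (congrArg T a.pull_id)) :=
    IsHomLift.eqToHom_domain_lift_id _ (T_proj _)
  apply hom_ext' a (𝟙 U)
  rw [cc_fac, eqToHom_pr a.pull_id]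
  simp

lemma cc_comp {U V W : C} (a : Obj p U) (h : V ⟶ U) (h' : W ⟶ V) :
    cc (h' ≫ h) a = eqToHom (congrArg T (a.pull_comp h h')) ≫ cc h' (a.pull h) ≫ cc h a := by
  have : p.IsHomLift (𝟙 W) (eqToHom (congrArg T (a.pull_comp h h'))) :=
    IsHomLift.eqToHom_domain_lift_id _ (T_proj _)
  apply hom_ext' a (h' ≫ h)
  rw [cc_fac, Category.assoc, Category.assoc, cc_fac, cc_fac, eqToHom_pr (a.pull_comp h h')]
  simp

lemma pullF_id (U : C) : pullF (p := p) (𝟙 U) = 𝟭 _ := by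
  refine Functor.ext (fun a => a.pull_id) (fun a b φ => ?_)
  change pullMap (𝟙 U) φ = eqToHom (a.pull_id) ≫ φ ≫ eqToHom (b.pull_id).symm
  apply Obj.hom_ext
  rw [conj_eqToHom_val]
  apply hom_ext' (b.pull (𝟙 U)) (𝟙 U)
  rw [pullMap_pr, cc_id, Category.assoc, Category.assoc, eqToHom_pr (b.pull_id).symm]
  simp

lemma pullF_comp {U V W : C} (h : V ⟶ U) (h' : W ⟶ V) :
    pullF (p := p) (h' ≫ h) = pullF h ⋙ pullF h' := by
  refine Functor.ext (fun a => a.pull_comp h h') (fun a b φ => ?_)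
  change pullMap (h' ≫ h) φ = eqToHom (a.pull_comp h h') ≫ pullMap h' (pullMap h φ) ≫
    eqToHom (b.pull_comp h h').symm
  apply Obj.hom_ext
  rw [conj_eqToHom_val]
  apply hom_ext' (b.pull (h' ≫ h)) (𝟙 W)
  rw [pullMap_pr, cc_comp]
  simp only [Category.assoc]
  rw [eqToHom_pr (b.pull_comp h h').symm]
  simp

end Groth.Agent.Lib.Helper45.Strictify
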