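import Groth.Agent.Lib.Helper45.StrictifyA
import Mathlib.CategoryTheory.Bicategory.Grothendieck
import Mathlib.CategoryTheory.Bicategory.Functor.LocallyDiscrete

set_option autoImplicit false
set_option backward.isDefEq.respectTransparency false
universe v u

open CategoryTheory CategoryTheory.Functor Opposite Bicategory

namespace Groth.Agent.Lib.Helper45.Strictify

variable {C : Type u} [Category.{v} C] {𝒳 : Type (max u v)} [Category.{v} 𝒳] (p : 𝒳 ⥤ C)
  [p.IsFibered]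

/-- the strict functor attached to a fibred category. -/
noncomputable def Fstr : Cᵒᵖ ⥤ Cat.{v, max u v} where
  obj U := Cat.of (Obj p U.unop)
  map {U V} h := (pullF (p := p) h.unop).toCatHom
  map_id U := by
    change (pullF (p := p) (𝟙 U.unop)).toCatHom = _
    rw [pullF_id]
    rfl
  map_comp f g := by
    change (pullF (p := p) (g.unop ≫ f.unop)).toCatHom = _
    rw [pullF_comp]
    rfl

/-- the associated pseudofunctor. -/
noncomputable abbrev Φ : LocallyDiscrete Cᵒᵖ ⥤ᵖ Cat.{v, max u v} := (Fstr p).toPseudofunctor'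

open Pseudofunctor.CoGrothendieck

variable {p}

/-- the fibre component of an object. -/
def fib (X : ∫ᶜ (Φ p)) : Obj p X.base := X.fiber

/-- the fibre component of a morphism. -/
def fibHom {X Y : ∫ᶜ (Φ p)} (m : X ⟶ Y) : fib X ⟶ (fib Y).pull m.base := m.fiber

/-- the total morphism. -/
noncomputable def tot {X Y : ∫ᶜ (Φ p)} (m : X ⟶ Y) : T (fib X) ⟶ T (fib Y) :=
  (fibHom m).1 ≫ cc m.base (fib Y)

instance {X Y : ∫ᶜ (Φ p)} (m : X ⟶ Y) : p.IsHomLift m.base (tot m) := by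
  unfold tot
  infer_instance

lemma fibHom_id (X : ∫ᶜ (Φ p)) : fibHom (𝟙 X) = eqToHom (fib X).pull_id.symm := by
  unfold fibHom
  simp

lemma fibHom_comp {X Y Z : ∫ᶜ (Φ p)} (m : X ⟶ Y) (n : Y ⟶ Z) :
    fibHom (m ≫ n) = fibHom m ≫ pullMap m.base (fibHom n) ≫
      eqToHom ((fib Z).pull_comp n.base m.base).symm := by
  unfold fibHom
  simp
  rfl

@[simp] lemma tot_id (X : ∫ᶜ (Φ p)) : tot (𝟙 X) = 𝟙 (T (fib X)) := by
  unfold tot
  rw [fibHom_id, eqToHom_val]
  change _ ≫ cc (𝟙 X.base) (fib X) = _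
  rw [cc_id]
  simp

@[simp] lemma tot_comp {X Y Z : ∫ᶜ (Φ p)} (m : X ⟶ Y) (n : Y ⟶ Z) :
    tot (m ≫ n) = tot m ≫ tot n := by
  unfold tot
  rw [fibHom_comp]
  change _ ≫ cc (m.base ≫ n.base) (fib Z) = _
  rw [cc_comp]
  simp [eqToHom_val]

lemma tot_ext {X Y : ∫ᶜ (Φ p)} (m m' : X ⟶ Y) (hb : m.base = m'.base) (ht : tot m = tot m') :
    m = m' := by
  obtain ⟨g, φ⟩ := m
  obtain ⟨g', φ'⟩ := m'
  dsimp at hb
  subst hb
  have : φ = φ' := by
    apply Obj.hom_ext (a := fib X) (b := (fib Y).pull g)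
    apply hom_ext' ((fib Y).pull g) (𝟙 _)
    have := congrArg (· ≫ pr (fib Y)) ht
    simpa [tot, fibHom] using this
  subst this
  rfl

/-- constructor for morphisms of the total category. -/
noncomputable def homMk {X Y : ∫ᶜ (Φ p)} (g : X.base ⟶ Y.base) (ψ : T (fib X) ⟶ T (fib Y))
    [p.IsHomLift g ψ] : X ⟶ Y :=
  have : p.IsHomLift (g ≫ (fib Y).f) (ψ ≫ pr (fib Y)) := inferInstance
  { base := g
    fiber := (⟨@lift _ _ _ _ p _ _ _ ((fib Y).pull g) (𝟙 _) _ (ψ ≫ pr (fib Y)) (g ≫ (fib Y).f)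
      (by simp) this, inferInstance⟩ : fib X ⟶ (fib Y).pull g) }

@[simp] lemma homMk_base {X Y : ∫ᶜ (Φ p)} (g : X.base ⟶ Y.base) (ψ : T (fib X) ⟶ T (fib Y))
    [p.IsHomLift g ψ] : (homMk g ψ).base = g := rfl

@[simp] lemma tot_homMk {X Y : ∫ᶜ (Φ p)} (g : X.base ⟶ Y.base) (ψ : T (fib X) ⟶ T (fib Y))
    [p.IsHomLift g ψ] : tot (homMk g ψ) = ψ := by
  have : p.IsHomLift g (tot (homMk g ψ)) :=
    inferInstanceAs (p.IsHomLift (homMk g ψ).base (tot (homMk g ψ)))
  apply hom_ext' (fib Y) g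
  have : p.IsHomLift (g ≫ (fib Y).f) (ψ ≫ pr (fib Y)) := inferInstance
  unfold tot
  rw [Category.assoc, cc_fac]
  exact @lift_fac _ _ _ _ p _ _ _ ((fib Y).pull g) (𝟙 _) _ (ψ ≫ pr (fib Y)) (g ≫ (fib Y).f)
      (by simp) this

lemma hom_ext'' {V W : C} (b : Obj p V) {z : 𝒳} (α β : z ⟶ T b) (k k' : W ⟶ V) (hk : k = k')
    (hα : p.IsHomLift k α) (hβ : p.IsHomLift k' β) (h : α ≫ pr b = β ≫ pr b) : α = β := by
  subst hk
  exact hom_ext' b k α β h

/-- the canonical object of the fibre over the image. -/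
abbrev ι (x : 𝒳) : Obj p (p.obj x) := ⟨x, 𝟙 _⟩

instance (x : 𝒳) : p.IsHomLift (𝟙 (p.obj x)) (pr (ι (p := p) x)) := by
  have : p.IsCartesian (ι (p := p) x).f (pr (ι (p := p) x)) := by
    unfold pr
    infer_instance
  exact this.toIsHomLift

variable (p) in
/-- the comparison functor on objects. -/
def E₀obj (x : 𝒳) : ∫ᶜ (Φ p) := ⟨p.obj x, ι x⟩

@[simp] lemma E₀obj_base (x : 𝒳) : (E₀obj p x).base = p.obj x := rfl
@[simp] lemma fib_E₀obj (x : 𝒳) : fib (E₀obj p x) = ι x := rfl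

/-- the underlying arrow of the comparison functor. -/
noncomputable def E₀arrow {x y : 𝒳} (φ : x ⟶ y) : T (ι (p := p) x) ⟶ T (ι (p := p) y) :=
  have : p.IsHomLift (𝟙 _ ≫ p.map φ) (pr (ι (p := p) x) ≫ φ) := inferInstance
  @lift _ _ _ _ p _ _ _ (ι y) (p.map φ) _ (pr (ι x) ≫ φ) (𝟙 _ ≫ p.map φ) (by simp [ι]) this

instance {x y : 𝒳} (φ : x ⟶ y) : p.IsHomLift (p.map φ) (E₀arrow (p := p) φ) := by
  unfold E₀arrow
  infer_instance

@[reassoc (attr := simp)]
lemma E₀arrow_pr {x y : 𝒳} (φ : x ⟶ y) : E₀arrow (p := p) φ ≫ pr (ι y) = pr (ι x) ≫ φ := by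
  unfold E₀arrow
  exact lift_fac _ _ _ _

instance (x : 𝒳) : IsIso (pr (ι (p := p) x)) := by
  have : IsIso (ι (p := p) x).f := inferInstanceAs (IsIso (𝟙 (p.obj x)))
  have : p.IsStronglyCartesian (ι (p := p) x).f (pr (ι (p := p) x)) := by
    unfold pr
    infer_instance
  exact IsStronglyCartesian.isIso_of_base_isIso p (ι (p := p) x).f (pr (ι (p := p) x))

variable (p) in
/-- the comparison functor. -/
noncomputable def E₀ : 𝒳 ⥤ ∫ᶜ (Φ p) where
  obj x := E₀obj p x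
  map {x y} φ := homMk (X := E₀obj p x) (Y := E₀obj p y) (p.map φ) (E₀arrow φ)
  map_id x := by
    apply tot_ext
    · simp
    · rw [tot_homMk, tot_id]
      apply hom_ext'' (ι x) _ _ (p.map (𝟙 x)) (𝟙 _) (by simp) inferInstance
        (IsHomLift.id (T_proj _))
      simp
  map_comp {x y z} φ ψ := by
    apply tot_ext
    · simp
    · rw [tot_homMk, tot_comp, tot_homMk, tot_homMk]
      apply hom_ext'' (ι z) _ _ (p.map (φ ≫ ψ)) (p.map φ ≫ p.map ψ) (by simp) inferInstance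
        inferInstance
      simp

@[simp] lemma E₀_obj (x : 𝒳) : (E₀ p).obj x = E₀obj p x := rfl
@[simp] lemma E₀_map_base {x y : 𝒳} (φ : x ⟶ y) : ((E₀ p).map φ).base = p.map φ := rfl
@[simp] lemma tot_E₀_map {x y : 𝒳} (φ : x ⟶ y) : tot ((E₀ p).map φ) = E₀arrow φ :=
  tot_homMk (X := E₀obj p x) (Y := E₀obj p y) _ _

lemma E₀_comp_forget : E₀ p ⋙ forget (Φ p) = p := rfl

instance : (E₀ p).Faithful where
  map_injective {x y} φ ψ h := by
    have h1 : E₀arrow (p := p) φ = E₀arrow ψ := by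
      rw [← tot_E₀_map, ← tot_E₀_map, h]
    have h2 := congrArg (· ≫ pr (ι y)) h1
    simp only [E₀arrow_pr] at h2
    exact (cancel_epi _).1 h2

instance : (E₀ p).Full where
  map_surjective {x y} m := by
    have hm : p.IsHomLift m.base (tot m) := inferInstance
    change p.IsHomLift (m.base : p.obj x ⟶ p.obj y)
      (tot m : T (ι (p := p) x) ⟶ T (ι (p := p) y)) at hm
    let φ : x ⟶ y := inv (pr (ι (p := p) x)) ≫ (tot m : T (ι (p := p) x) ⟶ T (ι (p := p) y)) ≫
      pr (ι y)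
    have hφ : p.IsHomLift (m.base : p.obj x ⟶ p.obj y) φ := by
      have h1 : p.IsHomLift (𝟙 (p.obj x)) (inv (pr (ι (p := p) x))) := by
        have : p.IsHomLift (𝟙 (p.obj x)) (pr (ι (p := p) x)) :=
          inferInstanceAs (p.IsHomLift (ι x).f (pr (ι (p := p) x)))
        infer_instance
      have h2 : p.IsHomLift (𝟙 (p.obj y)) (pr (ι (p := p) y)) :=
          inferInstanceAs (p.IsHomLift (ι y).f (pr (ι (p := p) y)))
      have : p.IsHomLift (𝟙 (p.obj x) ≫ m.base ≫ 𝟙 (p.obj y)) φ := inferInstance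
      simpa using this
    refine ⟨φ, ?_⟩
    apply tot_ext
    · exact (IsHomLift.eq_of_isHomLift p _ φ).symm
    · rw [tot_E₀_map]
      apply hom_ext'' (ι y) _ _ (p.map φ) m.base (IsHomLift.eq_of_isHomLift p _ φ).symm
        inferInstance hm
      simp [φ]

/-- every object of the total category is isomorphic, over the identity, to one in the image. -/
lemma exists_iso_over (η : ∫ᶜ (Φ p)) :
    ∃ (ξ : 𝒳) (e : (E₀ p).obj ξ ≅ η), (forget (Φ p)).IsHomLift (𝟙 η.base) e.hom := by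
  let a : Obj p η.base := fib η
  have hT : p.obj (T a) = η.base := T_proj a
  have h1 : p.IsHomLift (eqToHom hT) (pr (ι (p := p) (T a))) := by
    have : p.IsHomLift (𝟙 _ ≫ eqToHom hT) (pr (ι (p := p) (T a))) := inferInstance
    simpa using this
  have h2 : p.IsHomLift (eqToHom hT.symm) (inv (pr (ι (p := p) (T a)))) := by
    have : p.IsHomLift (inv (eqToHom hT)) (inv (pr (ι (p := p) (T a)))) := inferInstance
    simpa using this
  let hom : E₀obj p (T a) ⟶ η :=
    @homMk _ _ _ _ p _ (E₀obj p (T a)) η (eqToHom hT) (pr (ι (p := p) (T a))) h1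
  let inv' : η ⟶ E₀obj p (T a) :=
    @homMk _ _ _ _ p _ η (E₀obj p (T a)) (eqToHom hT.symm) (inv (pr (ι (p := p) (T a)))) h2
  refine ⟨T a, ⟨hom, inv', ?_, ?_⟩, ?_⟩
  · apply tot_ext
    · change eqToHom hT ≫ eqToHom hT.symm = 𝟙 _
      simp
    · rw [tot_comp, tot_id]
      erw [tot_homMk, tot_homMk]
      simp
  · apply tot_ext
    · change eqToHom hT.symm ≫ eqToHom hT = 𝟙 _
      simp
    · rw [tot_comp, tot_id]
      erw [tot_homMk, tot_homMk]
      simp
  · apply IsHomLift.of_fac' (forget (Φ p)) (𝟙 η.base) hom hT rfl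
    change eqToHom hT = _
    simp

end Groth.Agent.Lib.Helper45.Strictify
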