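import Groth.Agent.Lib.Helper45.StrictifyB
import Groth.Agent.S5139

set_option autoImplicit false
set_option backward.isDefEq.respectTransparency false
universe v u

open CategoryTheory CategoryTheory.Functor Opposite Bicategory FibCat

namespace Groth.Agent.Lib.Helper45.Strictify

open Pseudofunctor.CoGrothendieck

theorem strictify {C : Type u} [Category.{v} C] (𝒳 : BasedCategory.{v, max u v} C) [𝒳.p.IsFibered] :
    ∃ (F : Cᵒᵖ ⥤ Cat.{v, max u v}) (E : 𝒳 ⥤ᵇ BasedCategory.ofFunctor (Pseudofunctor.CoGrothendieck.forget F.toPseudofunctor')),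
      FibCat.IsEquivOver E := by
  refine ⟨Fstr 𝒳.p, ⟨E₀ 𝒳.p, rfl⟩, ?_⟩
  rw [Groth.Agent.S5139.result]
  refine ⟨⟨inferInstanceAs (E₀ 𝒳.p).Full, inferInstanceAs (E₀ 𝒳.p).Faithful⟩, fun η => ?_⟩
  exact exists_iso_over (p := 𝒳.p) η

lemma isFibered_of_isFibGrpd {C : Type u} [Category.{v} C] {𝒳 : Type (max u v)} [Category.{v} 𝒳]
    (p : 𝒳 ⥤ C) (h : FibCat.IsFibGrpd p) : p.IsFibered := by
  apply IsFibered.of_exists_isStronglyCartesian
  intro a R f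
  obtain ⟨y, φ, hφ⟩ := h.exists_lift f
  refine ⟨y, φ, ?_⟩
  have := h.isStronglyCartesian φ
  have e : f = eqToHom (IsHomLift.domain_eq p f φ).symm ≫ p.map φ := by
    have := IsHomLift.fac p f φ
    simpa using this
  have hR := IsHomLift.domain_eq p f φ
  subst hR
  simp at e
  subst e
  infer_instance

lemma isIso_of_isFibGrpd {C : Type u} [Category.{v} C] {𝒳 : Type (max u v)} [Category.{v} 𝒳]
    (p : 𝒳 ⥤ C) (h : FibCat.IsFibGrpd p) {x y : 𝒳} (φ : x ⟶ y) (U : C) [p.IsHomLift (𝟙 U) φ] :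
    IsIso φ := by
  have := h.isStronglyCartesian φ
  have e : 𝟙 U = eqToHom (IsHomLift.domain_eq p (𝟙 U) φ).symm ≫ p.map φ ≫
      eqToHom (IsHomLift.codomain_eq p (𝟙 U) φ) := IsHomLift.fac p (𝟙 U) φ
  have : IsIso (p.map φ) := by
    have e' : p.map φ = eqToHom (IsHomLift.domain_eq p (𝟙 U) φ) ≫ 𝟙 U ≫
      eqToHom (IsHomLift.codomain_eq p (𝟙 U) φ).symm := IsHomLift.fac' p (𝟙 U) φ
    rw [e']
    infer_instance
  exact IsStronglyCartesian.isIso_of_base_isIso p (p.map φ) φ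

theorem strictify_grpd {C : Type u} [Category.{v} C] (𝒳 : BasedCategory.{v, max u v} C) (h𝒳 : FibCat.IsFibGrpd 𝒳.p) :
    ∃ (F : Cᵒᵖ ⥤ Cat.{v, max u v}) (_ : ∀ U : Cᵒᵖ, IsGroupoid (F.obj U))
      (E : 𝒳 ⥤ᵇ BasedCategory.ofFunctor (Pseudofunctor.CoGrothendieck.forget F.toPseudofunctor')),
      FibCat.IsEquivOver E := by
  have := isFibered_of_isFibGrpd 𝒳.p h𝒳
  refine ⟨Fstr 𝒳.p, ?_, ⟨E₀ 𝒳.p, rfl⟩, ?_⟩
  · intro U
    change IsGroupoid (Obj 𝒳.p U.unop)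
    refine ⟨fun {a b} φ => ?_⟩
    have : IsIso φ.1 := isIso_of_isFibGrpd 𝒳.p h𝒳 φ.1 U.unop
    refine ⟨⟨⟨inv φ.1, inferInstance⟩, ?_, ?_⟩⟩
    · apply Obj.hom_ext
      simp
    · apply Obj.hom_ext
      simp
  · rw [Groth.Agent.S5139.result]
    refine ⟨⟨inferInstanceAs (E₀ 𝒳.p).Full, inferInstanceAs (E₀ 𝒳.p).Faithful⟩, fun η => ?_⟩
    exact exists_iso_over (p := 𝒳.p) η

end Groth.Agent.Lib.Helper45.Strictify
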