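import Mathlib

/-!
# G2 for helper62's S9074 (helper45): gluing sections of a subsheaf

`exists_section_of_locally`: for a monomorphism `m : I ⟶ G` of abelian sheaves, a section of `G`
which lies in `I` locally on a covering sieve lies in `I`.  Also `sep` (elementwise
separatedness) and `injective_app` (a mono of abelian sheaves is injective on sections).
-/

set_option autoImplicit false
set_option linter.style.haveILetI false

universe u

open CategoryTheory Limits Opposite

namespace Groth.Agent.Lib.Helper45.SubsheafGlue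

/-- separatedness of an abelian sheaf, elementwise -/
lemma sep {D : Type u} [SmallCategory D] {K : GrothendieckTopology D}
    {M : Dᵒᵖ ⥤ AddCommGrpCat.{u}} (hM : Presheaf.IsSheaf K M) {Z : D} (S : Sieve Z)
    (hS : S ∈ K Z) (x y : M.obj (op Z))
    (h : ∀ ⦃Z' : D⦄ (g : Z' ⟶ Z), S.arrows g → (M.map g.op).hom x = (M.map g.op).hom y) :
    x = y := by
  have h1 := ((isSheaf_iff_isSheaf_of_type _ _).1
    ((Presheaf.isSheaf_iff_isSheaf_forget K M (forget AddCommGrpCat.{u})).1 hM)) S hS
  refine h1.isSeparatedFor.ext ?_
  intro Y' g hg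
  exact h g hg

/-- a monomorphism of abelian sheaves is injective on sections -/
lemma injective_app {D : Type u} [SmallCategory D] (K : GrothendieckTopology D)
    {I G : Sheaf K AddCommGrpCat.{u}} (m : I ⟶ G) [Mono m] (U : Dᵒᵖ) :
    Function.Injective (m.hom.app U).hom := by
  haveI : Mono m.hom := (sheafToPresheaf K AddCommGrpCat.{u}).map_mono m
  haveI : Mono (m.hom.app U) := inferInstance
  exact (AddCommGrpCat.mono_iff_injective (m.hom.app U)).1 inferInstance

theorem exists_section_of_locally {D : Type u} [SmallCategory D] (K : GrothendieckTopology D)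
    {I G : Sheaf K AddCommGrpCat.{u}} (m : I ⟶ G) [Mono m] {V : D} (s : G.obj.obj (op V))
    (R : Sieve V) (hR : R ∈ K V)
    (hloc : ∀ ⦃V' : D⦄ (a : V' ⟶ V), R.arrows a →
      ∃ i : I.obj.obj (op V'), (m.hom.app (op V')).hom i = (G.obj.map a.op).hom s) :
    ∃ i : I.obj.obj (op V), (m.hom.app (op V)).hom i = s := by
  have hI := ((isSheaf_iff_isSheaf_of_type _ _).1
    ((Presheaf.isSheaf_iff_isSheaf_forget K I.obj (forget AddCommGrpCat.{u})).1 I.2)) R hR
  let x : Presieve.FamilyOfElements (I.obj ⋙ forget AddCommGrpCat.{u}) R.arrows :=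
    fun V' a ha => (hloc a ha).choose
  have hx : ∀ {V' : D} (a : V' ⟶ V) (ha : R.arrows a),
      (m.hom.app (op V')).hom (x a ha) = (G.obj.map a.op).hom s :=
    fun a ha => (hloc a ha).choose_spec
  have hcompat : x.Compatible := by
    rw [Presieve.compatible_iff_sieveCompatible]
    intro V' V'' a g ha
    apply injective_app K m (op V'')
    rw [hx (g ≫ a) (R.downward_closed ha g)]
    have hnat := ConcreteCategory.congr_hom (m.hom.naturality g.op) (x a ha)
    change (m.hom.app (op V'')).hom ((I.obj.map g.op).hom (x a ha)) = _ at hnat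
    change _ = (m.hom.app (op V'')).hom ((I.obj.map g.op).hom (x a ha))
    rw [hnat]
    change _ = (G.obj.map g.op).hom ((m.hom.app (op V')).hom (x a ha))
    rw [hx a ha, op_comp, Functor.map_comp]
    rfl
  refine ⟨hI.amalgamate x hcompat, ?_⟩
  apply sep G.2 R hR
  intro V' a ha
  have hglue : (I.obj.map a.op).hom (hI.amalgamate x hcompat) = x a ha :=
    hI.valid_glue hcompat a ha
  have hnat := ConcreteCategory.congr_hom (m.hom.naturality a.op) (hI.amalgamate x hcompat)
  change (m.hom.app (op V')).hom ((I.obj.map a.op).hom (hI.amalgamate x hcompat)) =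
    (G.obj.map a.op).hom ((m.hom.app (op V)).hom (hI.amalgamate x hcompat)) at hnat
  rw [← hnat, hglue, hx a ha]

end Groth.Agent.Lib.Helper45.SubsheafGlue
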