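import Groth.Agent.Lib.Helper42.RestrTensor
import Groth.Agent.Lib.Helper42.Flat
import Groth.Agent.Lib.Helper42.Proj
import Mathlib.Algebra.Category.ModuleCat.Sheaf.Quasicoherent
import Mathlib.Algebra.Category.ModuleCat.Sheaf.LocallyFree

/-!
# Tensor products of generating sections and of presentations (helper45)

On a small ringed site `(C, J, O)`: `free I ⊗ free J ≅ free (Σ _ : I, J)` (`freeTensIso`),
tensor product of generating sections (`tensGen`, finite / iso versions) and of presentations
(`tensPres`, finite version), using helper42's colimit preservation of `⊗`.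
Also the restriction functor `rhoK k : Mod (O.over X) ⥤ Mod (O.over U)` for `k : U ⟶ X`
(pushforward along `Over.map k`), which preserves colimits when `C` has pullbacks and maps
`M.over X` to `M.over U` definitionally.
-/

set_option autoImplicit false
set_option linter.style.haveILetI false
set_option linter.unusedSectionVars false
universe u
open CategoryTheory Limits Opposite ModSite
open Groth.Agent.Lib.Helper42.TensorColim Groth.Agent.Lib.Helper42.Flat Groth.Agent.Lib.Helper42.Proj

namespace Groth.Agent.Lib.Helper45.TensorPerm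


variable {C : Type u} [SmallCategory C] {J : GrothendieckTopology C}
  (O : Sheaf J CommRingCat.{u})

/-- `M ⊗ N`. -/
noncomputable abbrev tens (M N : Mod O) : Mod O := ((tensorBi O).obj M).obj N

/-- `f ⊗ N`. -/
noncomputable abbrev wR {M M' : Mod O} (f : M ⟶ M') (N : Mod O) : tens O M N ⟶ tens O M' N :=
  ((tensorBi O).map f).app N

/-- `M ⊗ g`. -/
noncomputable abbrev wL (M : Mod O) {N N' : Mod O} (g : N ⟶ N') : tens O M N ⟶ tens O M N' :=
  ((tensorBi O).obj M).map g

lemma exchange {M M' N N' : Mod O} (f : M ⟶ M') (g : N ⟶ N') :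
    wL O M g ≫ wR O f N' = wR O f N ≫ wL O M' g :=
  ((tensorBi O).map f).naturality g

instance (N : Mod O) : PreservesFiniteColimits (tensR O N) :=
  PreservesColimitsOfSize.preservesFiniteColimits _

instance (M : Mod O) : PreservesFiniteColimits (tensL O M) :=
  PreservesColimitsOfSize.preservesFiniteColimits _

instance (N : Mod O) : (tensR O N).PreservesZeroMorphisms := inferInstance
instance (M : Mod O) : (tensL O M).PreservesZeroMorphisms := inferInstance

instance epi_wR {M M' : Mod O} (f : M ⟶ M') [Epi f] (N : Mod O) : Epi (wR O f N) :=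
  inferInstanceAs (Epi ((tensR O N).map f))

instance epi_wL (M : Mod O) {N N' : Mod O} (g : N ⟶ N') [Epi g] : Epi (wL O M g) :=
  inferInstanceAs (Epi ((tensL O M).map g))

instance isIso_wR {M M' : Mod O} (f : M ⟶ M') [IsIso f] (N : Mod O) : IsIso (wR O f N) :=
  inferInstanceAs (IsIso ((tensR O N).map f))

instance isIso_wL (M : Mod O) {N N' : Mod O} (g : N ⟶ N') [IsIso g] : IsIso (wL O M g) :=
  inferInstanceAs (IsIso ((tensL O M).map g))

/-- free ⊗ free is free. -/
noncomputable def freeTensIso (I J' : Type u) :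
    tens O (SheafOfModules.free I) (SheafOfModules.free J') ≅
      SheafOfModules.free (R := ringSh O) (Σ _ : I, J') :=
  (PreservesCoproduct.iso (tensR O (SheafOfModules.free J')) (fun _ : I => ModSite.unit O) ≪≫
    Sigma.mapIso (fun _ => (tensLUnitIso O).app (SheafOfModules.free J'))) ≪≫
    @sigmaSigmaIso _ _ I (fun _ : I => J') (fun _ _ => ModSite.unit O) (fun _ => inferInstance)
      inferInstance


section Cok

variable {A1 A0 F B1 B0 G : Mod O} (a : A1 ⟶ A0) (p : A0 ⟶ F) (wa : a ≫ p = 0)
    (ha : IsColimit (CokernelCofork.ofπ p wa)) (b : B1 ⟶ B0) (q : B0 ⟶ G) (wb : b ≫ q = 0)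
    (hb : IsColimit (CokernelCofork.ofπ q wb))

include ha hb in
theorem exists_desc {T : Mod O} (h : tens O A0 B0 ⟶ T) (h1 : wR O a B0 ≫ h = 0)
    (h2 : wL O A0 b ≫ h = 0) :
    ∃ m : tens O F G ⟶ T, wR O p B0 ≫ wL O F q ≫ m = h := by
  haveI : Epi p := epi_of_isColimit_cofork ha
  have hc1 : IsColimit ((CokernelCofork.ofπ p wa).map (tensR O B0)) :=
    CokernelCofork.mapIsColimit _ ha (tensR O B0)
  obtain ⟨m1, hm1⟩ := CokernelCofork.IsColimit.desc' hc1 h h1
  have hm1' : wR O p B0 ≫ m1 = h := hm1
  have hc2 : IsColimit ((CokernelCofork.ofπ q wb).map (tensL O F)) :=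
    CokernelCofork.mapIsColimit _ hb (tensL O F)
  have h3 : wL O F b ≫ m1 = 0 := by
    rw [← cancel_epi (wR O p B1), comp_zero, ← Category.assoc, ← exchange, Category.assoc,
      hm1', h2]
  obtain ⟨m, hm⟩ := CokernelCofork.IsColimit.desc' hc2 m1 h3
  have hm' : wL O F q ≫ m = m1 := hm
  exact ⟨m, by rw [hm', hm1']⟩

lemma wR_comp {M M' M'' : Mod O} (f : M ⟶ M') (f' : M' ⟶ M'') (N : Mod O) :
    wR O f N ≫ wR O f' N = wR O (f ≫ f') N := by
  simp [wR]

lemma wL_comp (M : Mod O) {N N' N'' : Mod O} (g : N ⟶ N') (g' : N' ⟶ N'') :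
    wL O M g ≫ wL O M g' = wL O M (g ≫ g') := by
  simp [wL]

lemma wR_zero {M M' : Mod O} (N : Mod O) : wR O (0 : M ⟶ M') N = 0 :=
  (tensR O N).map_zero _ _

lemma wL_zero (M : Mod O) {N N' : Mod O} : wL O M (0 : N ⟶ N') = 0 :=
  (tensL O M).map_zero _ _

end Cok


section Gen

variable {M N : Mod O}

/-- tensor of generating sections. -/
noncomputable def tensGenHom (GM : M.GeneratingSections) (GN : N.GeneratingSections) :
    SheafOfModules.free (R := ringSh O) (Σ _ : GM.I, GN.I) ⟶ tens O M N :=
  (freeTensIso O GM.I GN.I).inv ≫ wR O GM.π (SheafOfModules.free GN.I) ≫ wL O M GN.π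

instance (GM : M.GeneratingSections) (GN : N.GeneratingSections) : Epi (tensGenHom O GM GN) := by
  unfold tensGenHom; infer_instance

noncomputable def tensGen (GM : M.GeneratingSections) (GN : N.GeneratingSections) :
    (tens O M N).GeneratingSections where
  I := Σ _ : GM.I, GN.I
  s := (tens O M N).freeHomEquiv (tensGenHom O GM GN)
  epi := by rw [Equiv.symm_apply_apply]; infer_instance

lemma tensGen_π (GM : M.GeneratingSections) (GN : N.GeneratingSections) :
    (tensGen O GM GN).π = tensGenHom O GM GN :=
  Equiv.symm_apply_apply _ _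

instance (GM : M.GeneratingSections) (GN : N.GeneratingSections) [GM.IsFiniteType]
    [GN.IsFiniteType] : (tensGen O GM GN).IsFiniteType where
  finite := inferInstanceAs (Finite (Σ _ : GM.I, GN.I))

instance (GM : M.GeneratingSections) (GN : N.GeneratingSections) [IsIso GM.π] [IsIso GN.π] :
    IsIso (tensGen O GM GN).π := by
  rw [tensGen_π]; unfold tensGenHom
  haveI : IsIso (wR O GM.π (SheafOfModules.free GN.I)) := isIso_wR O _ _
  haveI : IsIso (wL O M GN.π) := isIso_wL O _ _
  haveI : IsIso (wR O GM.π (SheafOfModules.free GN.I) ≫ wL O M GN.π) := IsIso.comp_isIso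
  exact IsIso.comp_isIso

end Gen

section Pres

variable {F G : Mod O} {I1 I0 J1 J0 : Type u}
  (a : SheafOfModules.free (R := ringSh O) I1 ⟶ SheafOfModules.free I0)
  (p : SheafOfModules.free (R := ringSh O) I0 ⟶ F) (wa : a ≫ p = 0)
  (ha : IsColimit (CokernelCofork.ofπ p wa))
  (b : SheafOfModules.free (R := ringSh O) J1 ⟶ SheafOfModules.free J0)
  (q : SheafOfModules.free (R := ringSh O) J0 ⟶ G) (wb : b ≫ q = 0)
  (hb : IsColimit (CokernelCofork.ofπ q wb))

/-- the relations map. -/
noncomputable def relHom :
    SheafOfModules.free (R := ringSh O) ((Σ _ : I1, J0) ⊕ (Σ _ : I0, J1)) ⟶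
      SheafOfModules.free (Σ _ : I0, J0) :=
  (SheafOfModules.freeSumIso _ _).inv ≫ coprod.desc
    ((freeTensIso O I1 J0).inv ≫ wR O a _ ≫ (freeTensIso O I0 J0).hom)
    ((freeTensIso O I0 J1).inv ≫ wL O _ b ≫ (freeTensIso O I0 J0).hom)

/-- the generators map. -/
noncomputable def genHom : SheafOfModules.free (R := ringSh O) (Σ _ : I0, J0) ⟶ tens O F G :=
  (freeTensIso O I0 J0).inv ≫ wR O p _ ≫ wL O F q

include wa wb in
lemma relHom_genHom : relHom O a b ≫ genHom O p q = 0 := by
  unfold relHom genHom
  rw [Category.assoc, Iso.inv_comp_eq, comp_zero]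
  apply coprod.hom_ext
  · rw [coprod.inl_desc_assoc, comp_zero]
    simp only [Category.assoc, Iso.hom_inv_id_assoc]
    rw [← Category.assoc (wR O a _), wR_comp, wa, wR_zero, zero_comp, comp_zero]
  · rw [coprod.inr_desc_assoc, comp_zero]
    simp only [Category.assoc, Iso.hom_inv_id_assoc]
    rw [← Category.assoc (wL O _ b), exchange, Category.assoc, wL_comp, wb, wL_zero, comp_zero,
      comp_zero]

include ha hb in
lemma exists_desc_free {T : Mod O} (h : SheafOfModules.free (R := ringSh O) (Σ _ : I0, J0) ⟶ T)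
    (hh : relHom O a b ≫ h = 0) : ∃ m : tens O F G ⟶ T, genHom O p q ≫ m = h := by
  unfold relHom at hh
  rw [Category.assoc, Iso.inv_comp_eq, comp_zero] at hh
  have h1 := congrArg (fun t => coprod.inl ≫ t) hh
  have h2 := congrArg (fun t => coprod.inr ≫ t) hh
  simp only [coprod.inl_desc_assoc, coprod.inr_desc_assoc, comp_zero, Category.assoc,
    Iso.inv_comp_eq] at h1 h2
  obtain ⟨m, hm⟩ := exists_desc O a p wa ha b q wb hb ((freeTensIso O I0 J0).hom ≫ h) h1 h2
  refine ⟨m, ?_⟩
  unfold genHom
  rw [Category.assoc, Category.assoc, hm, Iso.inv_hom_id_assoc]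

include ha hb in
lemma epi_genHom : Epi (genHom O p q) := by
  haveI : Epi p := epi_of_isColimit_cofork ha
  haveI : Epi q := epi_of_isColimit_cofork hb
  unfold genHom; infer_instance

/-- cokernel. -/
noncomputable def isColimitGenHom :
    IsColimit (CokernelCofork.ofπ (genHom O p q) (relHom_genHom O a p wa b q wb)) :=
  haveI := epi_genHom O a p wa ha b q wb hb
  CokernelCofork.IsColimit.ofπ _ _
    (fun h hh => (exists_desc_free O a p wa ha b q wb hb h hh).choose)
    (fun h hh => (exists_desc_free O a p wa ha b q wb hb h hh).choose_spec)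
    (fun h hh m hm => by
      rw [← cancel_epi (genHom O p q), hm,
        (exists_desc_free O a p wa ha b q wb hb h hh).choose_spec])

end Pres

/-- tensor of presentations. -/
noncomputable def tensPres {M N : Mod O} (PM : M.Presentation) (PN : N.Presentation) :
    (tens O M N).Presentation :=
  SheafOfModules.presentationOfIsCokernelFree _ _ _
    (isColimitGenHom O _ _ _ PM.isColimit _ _ _ PN.isColimit)

instance {M N : Mod O} (PM : M.Presentation) (PN : N.Presentation) [PM.IsFinite] [PN.IsFinite] :
    (tensPres O PM PN).IsFinite where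
  isFiniteType_generators := ⟨inferInstanceAs (Finite (Σ _ : PM.generators.I, PN.generators.I))⟩
  isFiniteType_relations := ⟨inferInstanceAs (Finite ((Σ _ : PM.relations.I, PN.generators.I) ⊕
    (Σ _ : PM.generators.I, PN.relations.I)))⟩


section Restrict

variable [HasPullbacks C]

/-- the identity ring map for `Over.map k`. -/
noncomputable def phiK {U X : C} (k : U ⟶ X) :
    ringSh (O.over U) ⟶ ((Over.map k).sheafPushforwardContinuous RingCat.{u} (J.over U)
      (J.over X)).obj (ringSh (O.over X)) := 𝟙 _

instance {U X : C} (k : U ⟶ X) : IsIso (phiK O k) := IsIso.id _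

instance {U X : C} (k : U ⟶ X) : (Over.map k).IsLeftAdjoint := ⟨_, ⟨Over.mapPullbackAdj k⟩⟩

/-- restriction from `C/X` to `C/U`. -/
noncomputable def rhoK {U X : C} (k : U ⟶ X) : Mod (O.over X) ⥤ Mod (O.over U) :=
  SheafOfModules.pushforward.{u} (phiK O k)

instance {U X : C} (k : U ⟶ X) : (rhoK O k).IsLeftAdjoint := by
  unfold rhoK; infer_instance

instance {U X : C} (k : U ⟶ X) : PreservesColimitsOfSize.{u, u} (rhoK O k) := inferInstance

lemma rhoK_restr {U X : C} (k : U ⟶ X) (M : Mod O) :
    (rhoK O k).obj ((restr O X).obj M) = (restr O U).obj M := rfl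

/-- it preserves the unit. -/
noncomputable def etaK {U X : C} (k : U ⟶ X) :
    ModSite.unit (O.over U) ≅ (rhoK O k).obj (ModSite.unit (O.over X)) :=
  Iso.refl _

/-- restriction of generating sections (before identifying the target). -/
noncomputable def genRestrict' {U X : C} (k : U ⟶ X) (M : Mod O)
    (G : ((restr O X).obj M).GeneratingSections) :
    ((rhoK O k).obj ((restr O X).obj M)).GeneratingSections :=
  G.map (rhoK O k) (etaK O k)

lemma isIso_genRestrict' {U X : C} (k : U ⟶ X) (M : Mod O)
    (G : ((restr O X).obj M).GeneratingSections) [IsIso G.π] :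
    IsIso (genRestrict' O k M G).π := by
  unfold genRestrict'
  rw [SheafOfModules.GeneratingSections.map_π_eq]
  haveI : IsIso ((rhoK O k).map G.π) := Functor.map_isIso _ _
  exact IsIso.comp_isIso

/-- restriction of generating sections. -/
noncomputable def genRestrict {U X : C} (k : U ⟶ X) (M : Mod O)
    (G : ((restr O X).obj M).GeneratingSections) : ((restr O U).obj M).GeneratingSections :=
  genRestrict' O k M G

instance {U X : C} (k : U ⟶ X) (M : Mod O) (G : ((restr O X).obj M).GeneratingSections)
    [G.IsFiniteType] : (genRestrict O k M G).IsFiniteType :=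
  ⟨inferInstanceAs (Finite G.I)⟩

instance {U X : C} (k : U ⟶ X) (M : Mod O) (G : ((restr O X).obj M).GeneratingSections)
    [IsIso G.π] : IsIso (genRestrict O k M G).π :=
  isIso_genRestrict' O k M G

/-- restriction of presentations. -/
noncomputable def presRestrict {U X : C} (k : U ⟶ X) (M : Mod O)
    (P : ((restr O X).obj M).Presentation) : ((restr O U).obj M).Presentation :=
  P.map (rhoK O k) (etaK O k)

instance {U X : C} (k : U ⟶ X) (M : Mod O) (P : ((restr O X).obj M).Presentation)
    [P.IsFinite] : (presRestrict O k M P).IsFinite := by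
  unfold presRestrict
  constructor
  · constructor
    exact inferInstanceAs (Finite P.generators.I)
  · constructor
    exact inferInstanceAs (Finite P.relations.I)

end Restrict

end Groth.Agent.Lib.Helper45.TensorPerm
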