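import Groth.Agent.Lib.Helper45.TensorPerm1

/-!
# Permanence of local structures under tensor products (helper45)

On a small ringed site with pullbacks: if `M` and `N` are locally generated by sections / of finite
type / quasi-coherent / of finite presentation / locally free, then so is `M ⊗ N`.
The five notions are handled uniformly through `Has k` (a structure of kind `k` on a module over a
site) and `LocHas k` (such structures on the restrictions to the members of covering sieves).
-/

set_option autoImplicit false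
set_option linter.style.haveILetI false
set_option linter.unusedSectionVars false
universe u
open CategoryTheory Limits Opposite ModSite
open Groth.Agent.Lib.Helper42.RestrTensor

namespace Groth.Agent.Lib.Helper45.TensorPerm

/-- The five kinds of structure. -/
inductive Kind
  | gen | fin | free | pres | finpres

section Has

variable {C : Type u} [SmallCategory C] {J : GrothendieckTopology C} (O : Sheaf J CommRingCat.{u})

/-- A global structure of kind `k` on `A`. -/
def Has (k : Kind) (A : Mod O) : Prop :=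
  match k with
  | .gen => Nonempty A.GeneratingSections
  | .fin => ∃ G : A.GeneratingSections, G.IsFiniteType
  | .free => ∃ G : A.GeneratingSections, IsIso G.π
  | .pres => Nonempty A.Presentation
  | .finpres => ∃ P : A.Presentation, P.IsFinite

variable {O}

lemma Has.of_iso {k : Kind} {A B : Mod O} (e : A ≅ B) (h : Has O k A) : Has O k B := by
  cases k with
  | gen => obtain ⟨G⟩ := h; exact ⟨G.ofEpi e.hom⟩
  | fin => obtain ⟨G, hG⟩ := h; exact ⟨G.ofEpi e.hom, inferInstance⟩
  | free =>
    obtain ⟨G, hG⟩ := h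
    refine ⟨G.ofEpi e.hom, ?_⟩
    rw [SheafOfModules.GeneratingSections.ofEpi_π]
    exact IsIso.comp_isIso' hG inferInstance
  | pres => obtain ⟨P⟩ := h; exact ⟨P.ofIsIso e.hom⟩
  | finpres => obtain ⟨P, hP⟩ := h; exact ⟨P.ofIsIso e.hom, inferInstance⟩

lemma Has.tens {k : Kind} {A B : Mod O} (hA : Has O k A) (hB : Has O k B) :
    Has O k (tens O A B) := by
  cases k with
  | gen => obtain ⟨G⟩ := hA; obtain ⟨G'⟩ := hB; exact ⟨tensGen O G G'⟩
  | fin => obtain ⟨G, hG⟩ := hA; obtain ⟨G', hG'⟩ := hB; exact ⟨tensGen O G G', inferInstance⟩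
  | free => obtain ⟨G, hG⟩ := hA; obtain ⟨G', hG'⟩ := hB; exact ⟨tensGen O G G', inferInstance⟩
  | pres => obtain ⟨P⟩ := hA; obtain ⟨P'⟩ := hB; exact ⟨tensPres O P P'⟩
  | finpres => obtain ⟨P, hP⟩ := hA; obtain ⟨P', hP'⟩ := hB; exact ⟨tensPres O P P', inferInstance⟩

lemma Has.restrict [HasPullbacks C] {k : Kind} {U X : C} (f : U ⟶ X) (M : Mod O)
    (h : Has (O.over X) k ((restr O X).obj M)) : Has (O.over U) k ((restr O U).obj M) := by
  cases k with
  | gen => obtain ⟨G⟩ := h; exact ⟨genRestrict O f M G⟩
  | fin => obtain ⟨G, hG⟩ := h; exact ⟨genRestrict O f M G, inferInstance⟩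
  | free => obtain ⟨G, hG⟩ := h; exact ⟨genRestrict O f M G, inferInstance⟩
  | pres => obtain ⟨P⟩ := h; exact ⟨presRestrict O f M P⟩
  | finpres => obtain ⟨P, hP⟩ := h; exact ⟨presRestrict O f M P, inferInstance⟩

variable (O)

/-- Local structure of kind `k`. -/
def LocHas (k : Kind) (M : Mod O) : Prop :=
  ∀ W₀ : C, ∃ S ∈ J W₀, ∀ (U : C) (g : U ⟶ W₀), S g → Has (O.over U) k ((restr O U).obj M)

variable {O}

theorem LocHas.tens {k : Kind} {M N : Mod O} (hM : LocHas O k M) (hN : LocHas O k N) :
    LocHas O k (tens O M N) := by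
  intro W₀
  obtain ⟨S1, h1, h1'⟩ := hM W₀
  obtain ⟨S2, h2, h2'⟩ := hN W₀
  refine ⟨S1 ⊓ S2, J.intersection_covering h1 h2, fun U g hg => ?_⟩
  exact Has.of_iso (restrTensorIso O U M N).symm (Has.tens (h1' U g hg.1) (h2' U g hg.2))

variable [HasPullbacks C]

theorem locHas_gen_of (M : Mod O) (σ : SheafOfModules.LocalGeneratorsData.{u} (R := ringSh O) M) :
    LocHas O .gen M := by
  intro W₀
  refine ⟨Sieve.ofObjects σ.X W₀, σ.coversTop W₀, ?_⟩
  rintro U g ⟨i, ⟨f⟩⟩
  exact Has.restrict f M ⟨σ.generators i⟩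

theorem locHas_fin_of (M : Mod O) (σ : SheafOfModules.LocalGeneratorsData.{u} (R := ringSh O) M)
    [σ.IsFiniteType] : LocHas O .fin M := by
  intro W₀
  refine ⟨Sieve.ofObjects σ.X W₀, σ.coversTop W₀, ?_⟩
  rintro U g ⟨i, ⟨f⟩⟩
  exact Has.restrict f M ⟨σ.generators i,
    SheafOfModules.LocalGeneratorsData.IsFiniteType.isFiniteType i⟩

theorem locHas_free_of (M : Mod O) (σ : SheafOfModules.LocalGeneratorsData.{u} (R := ringSh O) M)
    [σ.IsLocallyFreeData] : LocHas O .free M := by
  intro W₀
  refine ⟨Sieve.ofObjects σ.X W₀, σ.coversTop W₀, ?_⟩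
  rintro U g ⟨i, ⟨f⟩⟩
  exact Has.restrict f M ⟨σ.generators i,
    SheafOfModules.LocalGeneratorsData.IsLocallyFreeData.isIso i⟩

theorem locHas_pres_of (M : Mod O) (σ : SheafOfModules.QuasicoherentData.{u} (R := ringSh O) M) :
    LocHas O .pres M := by
  intro W₀
  refine ⟨Sieve.ofObjects σ.X W₀, σ.coversTop W₀, ?_⟩
  rintro U g ⟨i, ⟨f⟩⟩
  exact Has.restrict f M ⟨σ.presentation i⟩

theorem locHas_finpres_of (M : Mod O)
    (σ : SheafOfModules.QuasicoherentData.{u} (R := ringSh O) M) [σ.IsFinitePresentation] :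
    LocHas O .finpres M := by
  intro W₀
  refine ⟨Sieve.ofObjects σ.X W₀, σ.coversTop W₀, ?_⟩
  rintro U g ⟨i, ⟨f⟩⟩
  exact Has.restrict f M ⟨σ.presentation i,
    SheafOfModules.QuasicoherentData.IsFinitePresentation.isFinite_presentation i⟩

omit [HasPullbacks C]

/-- local generators data from local structures. -/
noncomputable def lgdOf (M : Mod O) (h : LocHas O .gen M) :
    SheafOfModules.LocalGeneratorsData.{u} (R := ringSh O) M where
  I := {U : C // Has (O.over U) .gen ((restr O U).obj M)}
  X := Subtype.val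
  coversTop := by
    intro W₀
    obtain ⟨S, hS, hS'⟩ := h W₀
    refine J.superset_covering ?_ hS
    intro U g hg
    exact ⟨⟨U, hS' U g hg⟩, ⟨𝟙 U⟩⟩
  generators := fun i => i.2.some

/-- local generators data from local structures. -/
noncomputable def lgdOfFin (M : Mod O) (h : LocHas O .fin M) :
    SheafOfModules.LocalGeneratorsData.{u} (R := ringSh O) M where
  I := {U : C // Has (O.over U) .fin ((restr O U).obj M)}
  X := Subtype.val
  coversTop := by
    intro W₀
    obtain ⟨S, hS, hS'⟩ := h W₀
    refine J.superset_covering ?_ hS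
    intro U g hg
    exact ⟨⟨U, hS' U g hg⟩, ⟨𝟙 U⟩⟩
  generators := fun i => i.2.choose

instance (M : Mod O) (h : LocHas O .fin M) : (lgdOfFin M h).IsFiniteType where
  isFiniteType := fun i => i.2.choose_spec

/-- local generators data from local structures. -/
noncomputable def lgdOfFree (M : Mod O) (h : LocHas O .free M) :
    SheafOfModules.LocalGeneratorsData.{u} (R := ringSh O) M where
  I := {U : C // Has (O.over U) .free ((restr O U).obj M)}
  X := Subtype.val
  coversTop := by
    intro W₀
    obtain ⟨S, hS, hS'⟩ := h W₀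
    refine J.superset_covering ?_ hS
    intro U g hg
    exact ⟨⟨U, hS' U g hg⟩, ⟨𝟙 U⟩⟩
  generators := fun i => i.2.choose

instance (M : Mod O) (h : LocHas O .free M) : (lgdOfFree M h).IsLocallyFreeData where
  isIso := fun i => i.2.choose_spec

/-- quasi-coherent data from local structures. -/
noncomputable def qcdOf (M : Mod O) (h : LocHas O .pres M) :
    SheafOfModules.QuasicoherentData.{u} (R := ringSh O) M where
  I := {U : C // Has (O.over U) .pres ((restr O U).obj M)}
  X := Subtype.val
  coversTop := by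
    intro W₀
    obtain ⟨S, hS, hS'⟩ := h W₀
    refine J.superset_covering ?_ hS
    intro U g hg
    exact ⟨⟨U, hS' U g hg⟩, ⟨𝟙 U⟩⟩
  presentation := fun i => i.2.some

/-- quasi-coherent data from local structures. -/
noncomputable def qcdOfFin (M : Mod O) (h : LocHas O .finpres M) :
    SheafOfModules.QuasicoherentData.{u} (R := ringSh O) M where
  I := {U : C // Has (O.over U) .finpres ((restr O U).obj M)}
  X := Subtype.val
  coversTop := by
    intro W₀
    obtain ⟨S, hS, hS'⟩ := h W₀
    refine J.superset_covering ?_ hS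
    intro U g hg
    exact ⟨⟨U, hS' U g hg⟩, ⟨𝟙 U⟩⟩
  presentation := fun i => i.2.choose

instance (M : Mod O) (h : LocHas O .finpres M) : (qcdOfFin M h).IsFinitePresentation where
  isFinite_presentation := fun i => i.2.choose_spec

end Has

section Main

variable {C : Type u} [SmallCategory C] [HasPullbacks C] {J : GrothendieckTopology C}
  (O : Sheaf J CommRingCat.{u}) (F G : Mod O)

theorem main6850 :
    (Nonempty (SheafOfModules.LocalGeneratorsData.{u} (R := ringSh O) F) →
        Nonempty (SheafOfModules.LocalGeneratorsData.{u} (R := ringSh O) G) →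
          Nonempty (SheafOfModules.LocalGeneratorsData.{u} (R := ringSh O)
            (((tensorBi O).obj F).obj G))) ∧
      (SheafOfModules.IsFiniteType (R := ringSh O) F →
        SheafOfModules.IsFiniteType (R := ringSh O) G →
        SheafOfModules.IsFiniteType (R := ringSh O) (((tensorBi O).obj F).obj G)) ∧
      (SheafOfModules.IsQuasicoherent (R := ringSh O) F →
        SheafOfModules.IsQuasicoherent (R := ringSh O) G →
          SheafOfModules.IsQuasicoherent (R := ringSh O) (((tensorBi O).obj F).obj G)) ∧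
      (SheafOfModules.IsFinitePresentation (R := ringSh O) F →
        SheafOfModules.IsFinitePresentation (R := ringSh O) G →
          SheafOfModules.IsFinitePresentation (R := ringSh O) (((tensorBi O).obj F).obj G)) ∧
      (SheafOfModules.IsLocallyFree (R := ringSh O) F →
        SheafOfModules.IsLocallyFree (R := ringSh O) G →
        SheafOfModules.IsLocallyFree (R := ringSh O) (((tensorBi O).obj F).obj G)) := by
  refine ⟨?_, ?_, ?_, ?_, ?_⟩
  · rintro ⟨σ⟩ ⟨τ⟩
    exact ⟨lgdOf (O := O) (tens O F G) ((locHas_gen_of F σ).tens (locHas_gen_of G τ))⟩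
  · rintro ⟨σ, hσ⟩ ⟨τ, hτ⟩
    exact { exists_localGeneratorsData :=
      ⟨lgdOfFin (O := O) (tens O F G) ((locHas_fin_of F σ).tens (locHas_fin_of G τ)),
        inferInstance⟩ }
  · rintro ⟨⟨σ⟩⟩ ⟨⟨τ⟩⟩
    exact { nonempty_quasicoherentData :=
      ⟨qcdOf (O := O) (tens O F G) ((locHas_pres_of F σ).tens (locHas_pres_of G τ))⟩ }
  · rintro ⟨σ, hσ⟩ ⟨τ, hτ⟩
    exact { exists_quasicoherentData :=
      ⟨qcdOfFin (O := O) (tens O F G) ((locHas_finpres_of F σ).tens (locHas_finpres_of G τ)),
        inferInstance⟩ }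
  · rintro ⟨σ, hσ⟩ ⟨τ, hτ⟩
    exact { exists_isLocallyFreeData :=
      ⟨lgdOfFree (O := O) (tens O F G) ((locHas_free_of F σ).tens (locHas_free_of G τ)),
        inferInstance⟩ }

end Main

end Groth.Agent.Lib.Helper45.TensorPerm
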