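import Groth.Agent.Lib.Helper45.ToposGiraud3

/-!
# The closed complement of an open of a sheaf topos, part 1 (helper45)

`closedTop U`: the closed topology; `IsClosedSec U X`; a sheaf is a sheaf for `closedTop U`
iff it lies in `SGA4.closedCompl U` (`closedCompl_iff`, `isSheaf_closedTop_of_isClosedSec`,
`isClosedSec_of_isSheaf_closedTop`). Sections of products and of the terminal sheaf.
-/

set_option autoImplicit false
set_option backward.isDefEq.respectTransparency false
universe w w' v u

open CategoryTheory CategoryTheory.Limits Opposite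

namespace Groth.Agent.Lib.Helper45

variable {C : Type u} [SmallCategory C] {J : GrothendieckTopology C}

lemma subsingleton_terminal_sections (V : Cᵒᵖ) :
    Subsingleton ((⊤_ ToposFin.Sh J).obj.obj V) := by
  have h : IsTerminal ((sheafToPresheaf J (Type u) ⋙ (evaluation Cᵒᵖ (Type u)).obj V).obj
      (⊤_ ToposFin.Sh J)) := IsTerminal.isTerminalObj _ _ terminalIsTerminal
  have i := Types.isTerminalEquivUnique _ h
  exact ⟨fun a b => (i.uniq a).trans (i.uniq b).symm⟩

lemma exists_section_prod (A B : ToposFin.Sh J) (V : C) (a : A.obj.obj (op V))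
    (b : B.obj.obj (op V)) :
    ∃ p : (A ⨯ B).obj.obj (op V), (prod.fst : A ⨯ B ⟶ A).hom.app (op V) p = a ∧
      (prod.snd : A ⨯ B ⟶ B).hom.app (op V) p = b := by
  have := subsingleton_terminal_sections (J := J) (op V)
  exact exists_section_of_isPullback (IsPullback.of_hasBinaryProduct' (X := A) (Y := B)) V a b
    (Subsingleton.elim _ _)

lemma section_prod_ext (A B : ToposFin.Sh J) (V : C) (p p' : (A ⨯ B).obj.obj (op V))
    (h1 : (prod.fst : A ⨯ B ⟶ A).hom.app (op V) p = (prod.fst : A ⨯ B ⟶ A).hom.app (op V) p')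
    (h2 : (prod.snd : A ⨯ B ⟶ B).hom.app (op V) p = (prod.snd : A ⨯ B ⟶ B).hom.app (op V) p') :
    p = p' :=
  section_ext_of_isPullback (IsPullback.of_hasBinaryProduct' (X := A) (Y := B)) V p p' h1 h2

/-- a morphism of sheaves which is bijective on sections is an isomorphism. -/
lemma isIso_of_bijective_sections {A B : ToposFin.Sh J} (f : A ⟶ B)
    (h : ∀ V : C, Function.Bijective (f.hom.app (op V))) : IsIso f := by
  have : ∀ V : Cᵒᵖ, IsIso (f.hom.app V) := fun V => by
    rw [isIso_iff_bijective]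
    exact h V.unop
  have : IsIso f.hom := NatIso.isIso_of_isIso_app _
  have : IsIso ((sheafToPresheaf J (Type u)).map f) := this
  exact isIso_of_reflects_iso f (sheafToPresheaf J (Type u))

lemma bijective_sections_of_isIso {A B : ToposFin.Sh J} (f : A ⟶ B) [IsIso f] (V : C) :
    Function.Bijective (f.hom.app (op V)) := by
  have : IsIso ((sheafToPresheaf J (Type u) ⋙ (evaluation Cᵒᵖ (Type u)).obj (op V)).map f) :=
    inferInstance
  exact (isIso_iff_bijective _).1 this


variable (U : ToposFin.Sh J)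

/-- the sieve of arrows whose source carries a section of `U`. -/
def uSieve (V : C) : Sieve V where
  arrows W _ := Nonempty (U.obj.obj (op W))
  downward_closed := fun ⟨u⟩ g => ⟨U.obj.map g.op u⟩

lemma uSieve_apply {V W : C} (f : W ⟶ V) : uSieve U V f ↔ Nonempty (U.obj.obj (op W)) := Iff.rfl

lemma uSieve_pullback {V V' : C} (f : V' ⟶ V) : (uSieve U V).pullback f = uSieve U V' := by
  ext W g
  rfl

lemma uSieve_eq_top {V : C} (h : Nonempty (U.obj.obj (op V))) : uSieve U V = ⊤ := by
  rw [← Sieve.id_mem_iff_eq_top]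
  exact h

lemma sup_uSieve_pullback {V V' : C} (f : V' ⟶ V) (R : Sieve V) :
    (R ⊔ uSieve U V).pullback f = R.pullback f ⊔ uSieve U V' := by
  ext W g
  rfl

/-- the closed topology attached to `U`. -/
def closedTop : GrothendieckTopology C where
  sieves V := {R | R ⊔ uSieve U V ∈ J V}
  top_mem' V := by
    change ⊤ ⊔ uSieve U V ∈ J V
    rw [top_sup_eq]
    exact J.top_mem V
  pullback_stable' V V' R f hR := by
    change R.pullback f ⊔ uSieve U V' ∈ J V'
    rw [← sup_uSieve_pullback]
    exact J.pullback_stable f hR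
  transitive' V S hS R hR := by
    change R ⊔ uSieve U V ∈ J V
    refine J.transitive hS _ fun W f hf => ?_
    rw [sup_uSieve_pullback]
    rcases hf with hf | hf
    · exact hR hf
    · rw [uSieve_eq_top U hf, sup_top_eq]
      exact J.top_mem W

lemma mem_closedTop_iff {V : C} (R : Sieve V) : R ∈ closedTop U V ↔ R ⊔ uSieve U V ∈ J V := Iff.rfl

lemma le_closedTop : J ≤ closedTop U := fun _ _ hR =>
  J.superset_covering le_sup_left hR

lemma bot_mem_closedTop {V : C} (h : Nonempty (U.obj.obj (op V))) : (⊥ : Sieve V) ∈ closedTop U V := by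
  rw [mem_closedTop_iff, uSieve_eq_top U h, sup_top_eq]
  exact J.top_mem V

/-- sectionwise closedness: sections over objects where `U` has a section are singletons. -/
def IsClosedSec (X : ToposFin.Sh J) : Prop :=
  ∀ W : C, Nonempty (U.obj.obj (op W)) → Nonempty (Unique (X.obj.obj (op W)))


variable {U}

lemma IsClosedSec.eq {X : ToposFin.Sh J} (hX : IsClosedSec U X) {W : C}
    (h : Nonempty (U.obj.obj (op W))) (a b : X.obj.obj (op W)) : a = b := by
  obtain ⟨i⟩ := hX W h
  exact (i.uniq a).trans (i.uniq b).symm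

lemma isSheafFor_of_isClosedSec {X : ToposFin.Sh J} (hX : IsClosedSec U X) {V : C} (R : Sieve V)
    (hR : R ∈ closedTop U V) : Presieve.IsSheafFor X.obj R.arrows := by
  classical
  have hXs : Presieve.IsSheaf J X.obj := (isSheaf_iff_isSheaf_of_type _ _).1 X.2
  intro x hx
  let x' : Presieve.FamilyOfElements X.obj (R ⊔ uSieve U V).arrows := fun W f hf =>
    if h : R f then x f h else
      (Classical.choice (hX W (hf.resolve_left h))).default
  have hx' : x'.Compatible := by
    intro Y₁ Y₂ Z g₁ g₂ f₁ f₂ h₁ h₂ hcomm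
    by_cases hZ : Nonempty (U.obj.obj (op Z))
    · exact hX.eq hZ _ _
    · have hR₁ : R f₁ := by
        rcases h₁ with h | ⟨⟨u⟩⟩
        · exact h
        · exact absurd ⟨U.obj.map g₁.op u⟩ hZ
      have hR₂ : R f₂ := by
        rcases h₂ with h | ⟨⟨u⟩⟩
        · exact h
        · exact absurd ⟨U.obj.map g₂.op u⟩ hZ
      simp only [x', dif_pos hR₁, dif_pos hR₂]
      exact hx g₁ g₂ hR₁ hR₂ hcomm
  obtain ⟨t, ht, htu⟩ := hXs _ hR x' hx'
  refine ⟨t, ?_, ?_⟩
  · intro W f hf
    have := ht f (Or.inl hf)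
    simpa [x', dif_pos hf] using this
  · intro t' ht'
    apply htu
    intro W f hf
    by_cases h : R f
    · simp only [x', dif_pos h]
      exact ht' f h
    · exact hX.eq (hf.resolve_left h) _ _

lemma isSheaf_closedTop_of_isClosedSec {X : ToposFin.Sh J} (hX : IsClosedSec U X) :
    Presheaf.IsSheaf (closedTop U) X.obj := by
  rw [isSheaf_iff_isSheaf_of_type]
  intro V R hR
  exact isSheafFor_of_isClosedSec hX R hR

lemma isClosedSec_of_isSheaf_closedTop {X : ToposFin.Sh J}
    (hX : Presheaf.IsSheaf (closedTop U) X.obj) : IsClosedSec U X := by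
  rw [isSheaf_iff_isSheaf_of_type] at hX
  intro W hW
  have h := hX _ (bot_mem_closedTop U hW)
  let x : Presieve.FamilyOfElements X.obj (⊥ : Sieve W).arrows := fun _ _ hf => hf.elim
  have hx : x.Compatible := fun _ _ _ _ _ _ _ h₁ => h₁.elim
  obtain ⟨t, -, htu⟩ := h x hx
  exact ⟨⟨⟨t⟩, fun a => htu a (fun _ _ hf => hf.elim)⟩⟩


lemma closedCompl_of_isClosedSec {X : ToposFin.Sh J} (hX : IsClosedSec U X) :
    SGA4.closedCompl U X := by
  change IsIso (prod.fst : U ⨯ X ⟶ U)
  apply isIso_of_bijective_sections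
  intro V
  constructor
  · intro p p' h
    apply section_prod_ext _ _ _ _ _ h
    exact hX.eq ⟨(prod.fst : U ⨯ X ⟶ U).hom.app (op V) p⟩ _ _
  · intro u
    obtain ⟨i⟩ := hX V ⟨u⟩
    obtain ⟨p, hp, -⟩ := exists_section_prod U X V u i.default
    exact ⟨p, hp⟩

lemma isClosedSec_of_closedCompl {X : ToposFin.Sh J} (hX : SGA4.closedCompl U X) :
    IsClosedSec U X := by
  have : IsIso (prod.fst : U ⨯ X ⟶ U) := hX
  have hb := fun V => bijective_sections_of_isIso (prod.fst : U ⨯ X ⟶ U) V
  rintro W ⟨u⟩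
  obtain ⟨p, hp⟩ := (hb W).2 u
  refine ⟨⟨⟨(prod.snd : U ⨯ X ⟶ X).hom.app (op W) p⟩, fun a => ?_⟩⟩
  obtain ⟨p', hp', ha⟩ := exists_section_prod U X W u a
  have : p' = p := (hb W).1 (hp'.trans hp.symm)
  rw [← ha, this]
  rfl

lemma closedCompl_iff {X : ToposFin.Sh J} : SGA4.closedCompl U X ↔ IsClosedSec U X :=
  ⟨isClosedSec_of_closedCompl, closedCompl_of_isClosedSec⟩

end Groth.Agent.Lib.Helper45
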