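import Groth.Agent.Lib.Helper45.ToposClosed1
import Mathlib.CategoryTheory.Adjunction.Restrict

/-!
# The closed complement of an open of a sheaf topos, part 2 (helper45)

`closedL U`: the reflector onto `SGA4.closedCompl U` (sheafification for the closed topology),
`closedAdj U : closedL U ⊣ (SGA4.closedCompl U).ι`, and `closedL U` preserves finite limits.
-/

set_option autoImplicit false
set_option backward.isDefEq.respectTransparency false
universe w w' v u

open CategoryTheory CategoryTheory.Limits Opposite

namespace Groth.Agent.Lib.Helper45

variable {C : Type u} [SmallCategory C] {J : GrothendieckTopology C} (U : ToposFin.Sh J)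

lemma sheafify_closedTop_isSheaf (P : Cᵒᵖ ⥤ Type u) :
    Presheaf.IsSheaf (closedTop U) (sheafify (closedTop U) P) :=
  ((presheafToSheaf (closedTop U) (Type u)).obj P).2

/-- the object part of the reflector. -/
noncomputable def closedLObj (X : ToposFin.Sh J) : (SGA4.closedCompl U).FullSubcategory :=
  ⟨⟨sheafify (closedTop U) X.obj,
    (isSheaf_iff_isSheaf_of_type _ _).2 (Presieve.isSheaf_of_le _ (le_closedTop U)
      ((isSheaf_iff_isSheaf_of_type _ _).1 (sheafify_closedTop_isSheaf U X.obj)))⟩,
    closedCompl_of_isClosedSec (isClosedSec_of_isSheaf_closedTop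
      (sheafify_closedTop_isSheaf U X.obj))⟩

/-- the reflector onto the closed complement. -/
noncomputable def closedL : ToposFin.Sh J ⥤ (SGA4.closedCompl U).FullSubcategory where
  obj X := closedLObj U X
  map f := ObjectProperty.homMk (ObjectProperty.homMk (sheafifyMap (closedTop U) f.hom))
  map_id X := by
    apply ObjectProperty.hom_ext
    apply Sheaf.hom_ext
    exact sheafifyMap_id (closedTop U) X.obj
  map_comp f g := by
    apply ObjectProperty.hom_ext
    apply Sheaf.hom_ext
    exact sheafifyMap_comp (closedTop U) f.hom g.hom

/-- closed objects as sheaves for the closed topology. -/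
noncomputable def closedToSheaf : (SGA4.closedCompl U).FullSubcategory ⥤ Sheaf (closedTop U) (Type u) where
  obj Y := ⟨Y.obj.obj, isSheaf_closedTop_of_isClosedSec (isClosedSec_of_closedCompl Y.property)⟩
  map f := ObjectProperty.homMk f.hom.hom


/-- `closedToSheaf` is fully faithful. -/
noncomputable def closedToSheafFullyFaithful : (closedToSheaf U).FullyFaithful where
  preimage f := ObjectProperty.homMk (ObjectProperty.homMk f.hom)

/-- first compatibility. -/
noncomputable def closedComm1 :
    sheafToPresheaf J (Type u) ⋙ presheafToSheaf (closedTop U) (Type u) ≅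
      closedL U ⋙ closedToSheaf U :=
  NatIso.ofComponents (fun X => Iso.refl _) (fun {X Y} f => by
    apply Sheaf.hom_ext
    simp
    rfl)

/-- second compatibility. -/
noncomputable def closedComm2 :
    closedToSheaf U ⋙ sheafToPresheaf (closedTop U) (Type u) ≅
      (SGA4.closedCompl U).ι ⋙ sheafToPresheaf J (Type u) :=
  NatIso.ofComponents (fun X => Iso.refl _) (fun {X Y} f => by
    simp
    rfl)

/-- the adjunction between the reflector and the inclusion of the closed complement. -/
noncomputable def closedAdj : closedL U ⊣ (SGA4.closedCompl U).ι :=
  (sheafificationAdjunction (closedTop U) (Type u)).restrictFullyFaithful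
    (fullyFaithfulSheafToPresheaf J (Type u)) (closedToSheafFullyFaithful U)
    (closedComm1 U) (closedComm2 U)


instance preservesFiniteLimits_closedL : PreservesFiniteLimits (closedL U) := by
  have : (closedToSheaf U).Full := (closedToSheafFullyFaithful U).full
  have : (closedToSheaf U).Faithful := (closedToSheafFullyFaithful U).faithful
  constructor
  intro K _ _
  have h1 : PreservesLimitsOfShape K
      (sheafToPresheaf J (Type u) ⋙ presheafToSheaf (closedTop U) (Type u)) := inferInstance
  have h2 : PreservesLimitsOfShape K (closedL U ⋙ closedToSheaf U) :=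
    preservesLimitsOfShape_of_natIso (closedComm1 U)
  exact preservesLimitsOfShape_of_reflects_of_preserves (closedL U) (closedToSheaf U)

end Groth.Agent.Lib.Helper45
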