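import Groth.Agent.Lib.Helper45.ToposClosed2

/-!
# The closed complement of an open of a sheaf topos, part 3 (helper45)

`hom_eq_of_closedCompl`, `subsingleton_sections_of_isOpen`, `closedPushout U X`,
`closedCompl_closedPushout`, `nonempty_iso_closedPushout` (any reflection onto the closed complement
is the pushout `U ⨿_{U × X} X`).
-/

set_option autoImplicit false
set_option backward.isDefEq.respectTransparency false
universe w w' v u

open CategoryTheory CategoryTheory.Limits Opposite

namespace Groth.Agent.Lib.Helper45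

variable {C : Type u} [SmallCategory C] {J : GrothendieckTopology C} (U : ToposFin.Sh J)

variable {U} in
/-- morphisms into a closed object from an object over `U` are unique. -/
lemma hom_eq_of_closedCompl {T Y : ToposFin.Sh J} (hY : SGA4.closedCompl U Y) (t : T ⟶ U)
    (f g : T ⟶ Y) : f = g := by
  have : IsIso (prod.fst : U ⨯ Y ⟶ U) := hY
  have h : prod.lift t f = prod.lift t g := by
    rw [← cancel_mono (prod.fst : U ⨯ Y ⟶ U)]
    simp
  have := congrArg (fun k => k ≫ (prod.snd : U ⨯ Y ⟶ Y)) h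
  simpa using this

variable {U} in
lemma subsingleton_sections_of_isOpen (hU : SGA4.IsOpen U) (V : Cᵒᵖ) :
    Subsingleton (U.obj.obj V) := by
  have : Mono (terminal.from U) := hU
  have h1 : Mono (terminal.from U).hom := inferInstance
  have h2 : Mono ((terminal.from U).hom.app V) := inferInstance
  rw [mono_iff_injective] at h2
  have := subsingleton_terminal_sections (J := J) V
  exact ⟨fun a b => h2 (Subsingleton.elim _ _)⟩

/-- the pushout `U ⨿_{U × X} X`. -/
noncomputable abbrev closedPushout (X : ToposFin.Sh J) : ToposFin.Sh J :=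
  pushout (prod.fst : U ⨯ X ⟶ U) (prod.snd : U ⨯ X ⟶ X)

/-- the two legs of the pushout as a family. -/
noncomputable def pushoutFam (X : ToposFin.Sh J) : Bool → ToposFin.Sh J
  | true => U
  | false => X

/-- the two legs of the pushout as a family. -/
noncomputable def pushoutMap (X : ToposFin.Sh J) : ∀ b, pushoutFam U X b ⟶ closedPushout U X
  | true => pushout.inl _ _
  | false => pushout.inr _ _

lemma jEpi_pushoutMap (X : ToposFin.Sh J) : JEpi (pushoutMap U X) := by
  intro Z a b h
  exact pushout.hom_ext (h true) (h false)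

lemma closedPushout_local (X : ToposFin.Sh J) (V : C) (s : (closedPushout U X).obj.obj (op V)) :
    ∃ S ∈ J V, ∀ ⦃W : C⦄ (f : W ⟶ V), S f →
      (∃ y : U.obj.obj (op W), (pushout.inl (prod.fst : U ⨯ X ⟶ U) (prod.snd : U ⨯ X ⟶ X)).hom.app
        (op W) y = (closedPushout U X).obj.map f.op s) ∨
      (∃ y : X.obj.obj (op W), (pushout.inr (prod.fst : U ⨯ X ⟶ U) (prod.snd : U ⨯ X ⟶ X)).hom.app
        (op W) y = (closedPushout U X).obj.map f.op s) := by
  obtain ⟨S, hS, hSx⟩ := (jEpi_iff_ljs _).1 (jEpi_pushoutMap U X) V s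
  refine ⟨S, hS, fun W f hf => ?_⟩
  obtain ⟨i, y, hy⟩ := hSx f hf
  cases i
  · exact Or.inr ⟨y, hy⟩
  · exact Or.inl ⟨y, hy⟩

lemma isClosedSec_closedPushout (hU : SGA4.IsOpen U) (X : ToposFin.Sh J) :
    IsClosedSec U (closedPushout U X) := by
  rintro V ⟨u⟩
  -- all sections agree with the image of the section of `U`
  have key : ∀ s : (closedPushout U X).obj.obj (op V),
      s = (pushout.inl (prod.fst : U ⨯ X ⟶ U) (prod.snd : U ⨯ X ⟶ X)).hom.app (op V) u := by
    intro s
    obtain ⟨S, hS, hSx⟩ := closedPushout_local U X V s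
    apply (((isSheaf_iff_isSheaf_of_type _ _).1 (closedPushout U X).2).isSeparated _ hS).ext
    intro W f hf
    rw [← map_app_restrict]
    rcases hSx f hf with ⟨y, hy⟩ | ⟨y, hy⟩
    · rw [← hy]
      have := subsingleton_sections_of_isOpen hU (op W)
      rw [Subsingleton.elim y (U.obj.map f.op u)]
    · rw [← hy]
      obtain ⟨p, hp1, hp2⟩ := exists_section_prod U X W (U.obj.map f.op u) y
      have hc := ConcreteCategory.congr_hom (congr_app ((sheafToPresheaf J _).congr_map
        (pushout.condition (f := (prod.fst : U ⨯ X ⟶ U)) (g := (prod.snd : U ⨯ X ⟶ X)))) (op W)) p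
      change (pushout.inl (prod.fst : U ⨯ X ⟶ U) (prod.snd : U ⨯ X ⟶ X)).hom.app (op W)
        ((prod.fst : U ⨯ X ⟶ U).hom.app (op W) p) =
        (pushout.inr (prod.fst : U ⨯ X ⟶ U) (prod.snd : U ⨯ X ⟶ X)).hom.app (op W)
        ((prod.snd : U ⨯ X ⟶ X).hom.app (op W) p) at hc
      rw [hp1, hp2] at hc
      exact hc.symm
  exact ⟨⟨⟨_⟩, key⟩⟩


lemma closedCompl_closedPushout (hU : SGA4.IsOpen U) (X : ToposFin.Sh J) :
    SGA4.closedCompl U (closedPushout U X) :=
  closedCompl_of_isClosedSec (isClosedSec_closedPushout U hU X)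

variable {U} in
/-- the unique morphism from `U` to a closed object. -/
noncomputable def fromOpen {Y : ToposFin.Sh J} (hY : SGA4.closedCompl U Y) : U ⟶ Y :=
  have : IsIso (prod.fst : U ⨯ Y ⟶ U) := hY
  inv (prod.fst : U ⨯ Y ⟶ U) ≫ prod.snd

/-- any reflection onto the closed complement is the pushout `U ⨿_{U × X} X`. -/
theorem nonempty_iso_closedPushout (hU : SGA4.IsOpen U)
    (L : ToposFin.Sh J ⥤ (SGA4.closedCompl U).FullSubcategory)
    (adj : L ⊣ (SGA4.closedCompl U).ι) (X : ToposFin.Sh J) :
    Nonempty (((SGA4.closedCompl U).ι).obj (L.obj X) ≅ closedPushout U X) := by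
  let P' : (SGA4.closedCompl U).FullSubcategory := ⟨closedPushout U X, closedCompl_closedPushout U hU X⟩
  let φ : L.obj X ⟶ P' := (adj.homEquiv X P').symm (pushout.inr _ _)
  have hφ : adj.unit.app X ≫ φ.hom = pushout.inr _ _ := by
    have := (adj.homEquiv X P').apply_symm_apply (pushout.inr _ _)
    rw [Adjunction.homEquiv_unit] at this
    exact this
  let ψ : closedPushout U X ⟶ (L.obj X).obj :=
    pushout.desc (fromOpen (L.obj X).property) (adj.unit.app X)
      (hom_eq_of_closedCompl (L.obj X).property prod.fst _ _)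
  have hψ : pushout.inr _ _ ≫ ψ = adj.unit.app X := pushout.inr_desc _ _ _
  refine ⟨⟨φ.hom, ψ, ?_, ?_⟩⟩
  · have h : φ ≫ (ObjectProperty.homMk ψ : P' ⟶ L.obj X) = 𝟙 (L.obj X) := by
      apply (adj.homEquiv X (L.obj X)).injective
      rw [Adjunction.homEquiv_unit, Adjunction.homEquiv_unit]
      change adj.unit.app X ≫ φ.hom ≫ ψ = adj.unit.app X ≫ 𝟙 _
      rw [reassoc_of% hφ, hψ, Category.comp_id]
    exact congrArg (fun k => k.hom) h
  · apply pushout.hom_ext
    · exact hom_eq_of_closedCompl (closedCompl_closedPushout U hU X) (𝟙 U) _ _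
    · rw [reassoc_of% hψ, hφ, Category.comp_id]

end Groth.Agent.Lib.Helper45
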