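import Groth.Agent.Lib.Helper45.ToposClosed3
import Mathlib.CategoryTheory.Comma.Over.Pullback

/-!
# The closed complement of an open of a sheaf topos, part 4 (helper45)

`isIso_iff_star_and_closed`: restriction to the open part and to the closed complement are jointly
conservative.
-/

set_option autoImplicit false
set_option backward.isDefEq.respectTransparency false
universe w w' v u

open CategoryTheory CategoryTheory.Limits Opposite

namespace Groth.Agent.Lib.Helper45

variable {C : Type u} [SmallCategory C] {J : GrothendieckTopology C} (U : ToposFin.Sh J)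

/-- if `U × m` is an isomorphism, `m` is bijective on sections over objects where `U` has a section. -/
lemma bijective_of_isIso_prod_map {X Y : ToposFin.Sh J} (m : X ⟶ Y)
    [IsIso (prod.map (𝟙 U) m)] (V : C) (u : U.obj.obj (op V)) :
    Function.Bijective (m.hom.app (op V)) := by
  have hb := bijective_sections_of_isIso (prod.map (𝟙 U) m) V
  have e1 : ∀ p : (U ⨯ X).obj.obj (op V),
      (prod.fst : U ⨯ Y ⟶ U).hom.app (op V) ((prod.map (𝟙 U) m).hom.app (op V) p) =
        (prod.fst : U ⨯ X ⟶ U).hom.app (op V) p := fun p => by
    have e : prod.map (𝟙 U) m ≫ (prod.fst : U ⨯ Y ⟶ U) = prod.fst := by simp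
    exact ConcreteCategory.congr_hom (congr_app ((sheafToPresheaf J _).congr_map e) (op V)) p
  have e2 : ∀ p : (U ⨯ X).obj.obj (op V),
      (prod.snd : U ⨯ Y ⟶ Y).hom.app (op V) ((prod.map (𝟙 U) m).hom.app (op V) p) =
        m.hom.app (op V) ((prod.snd : U ⨯ X ⟶ X).hom.app (op V) p) := fun p => by
    have e : prod.map (𝟙 U) m ≫ (prod.snd : U ⨯ Y ⟶ Y) = prod.snd ≫ m := by simp
    exact ConcreteCategory.congr_hom (congr_app ((sheafToPresheaf J _).congr_map e) (op V)) p
  constructor
  · intro x x' h
    obtain ⟨p, hp1, hp2⟩ := exists_section_prod U X V u x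
    obtain ⟨p', hp1', hp2'⟩ := exists_section_prod U X V u x'
    have : p = p' := by
      apply hb.1
      apply section_prod_ext
      · rw [e1, e1, hp1, hp1']
      · rw [e2, e2, hp2, hp2', h]
    rw [← hp2, ← hp2', this]
  · intro y
    obtain ⟨q, hq1, hq2⟩ := exists_section_prod U Y V u y
    obtain ⟨p, hp⟩ := hb.2 q
    refine ⟨(prod.snd : U ⨯ X ⟶ X).hom.app (op V) p, ?_⟩
    rw [← e2, hp, hq2]


section Conservative

variable {U}
variable {X Y : ToposFin.Sh J} (m : X ⟶ Y)
  (hbij : ∀ V : C, Nonempty (U.obj.obj (op V)) → Function.Bijective (m.hom.app (op V)))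
  (hL : IsIso (sheafifyMap (closedTop U) m.hom))

include hbij hL

lemma injective_of_closed_open (V : C) : Function.Injective (m.hom.app (op V)) := by
  intro x x' h
  have hLb : Function.Bijective ((sheafifyMap (closedTop U) m.hom).app (op V)) := by
    rw [← isIso_iff_bijective]
    infer_instance
  have hnat : ∀ z : X.obj.obj (op V),
      (sheafifyMap (closedTop U) m.hom).app (op V) ((toSheafify (closedTop U) X.obj).app (op V) z) =
        (toSheafify (closedTop U) Y.obj).app (op V) (m.hom.app (op V) z) := fun z =>
    (ConcreteCategory.congr_hom (congr_app (toSheafify_naturality (closedTop U) m.hom) (op V)) z).symm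
  have h1 : (toSheafify (closedTop U) X.obj).app (op V) x =
      (toSheafify (closedTop U) X.obj).app (op V) x' := by
    apply hLb.1
    rw [hnat, hnat, h]
  have hcov := Presheaf.equalizerSieve_mem (D := Type u) (FD := TypeCat.Fun) (CD := fun X => X)
    (closedTop U) (toSheafify (closedTop U) X.obj) (X := op V) x x' h1
  rw [mem_closedTop_iff] at hcov
  have hXs : Presieve.IsSheaf J X.obj := (isSheaf_iff_isSheaf_of_type _ _).1 X.2
  apply (hXs.isSeparated _ hcov).ext
  intro W f hf
  rcases hf with hf | hf
  · exact hf
  · apply (hbij W hf).1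
    rw [map_app_restrict, map_app_restrict, h]

lemma mono_of_closed_open : Mono m := by
  have h1 : ∀ V : Cᵒᵖ, Mono (m.hom.app V) := fun V => by
    rw [mono_iff_injective]
    exact injective_of_closed_open m hbij hL V.unop
  have : Mono m.hom := NatTrans.mono_of_mono_app _
  exact (sheafToPresheaf J (Type u)).mono_of_mono_map this

omit hbij hL in
/-- the sieve where a section lifts along `m`. -/
def liftSieve {V : C} (y : Y.obj.obj (op V)) : Sieve V where
  arrows W h := ∃ x : X.obj.obj (op W), m.hom.app (op W) x = Y.obj.map h.op y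
  downward_closed := by
    rintro W W' h ⟨x, hx⟩ g
    refine ⟨X.obj.map g.op x, ?_⟩
    rw [map_app_restrict, hx, op_comp, Functor.map_comp]
    rfl

omit hbij in
lemma liftSieve_mem_closedTop {V : C} (y : Y.obj.obj (op V)) :
    liftSieve m y ∈ closedTop U V := by
  have hLb : Function.Bijective ((sheafifyMap (closedTop U) m.hom).app (op V)) := by
    rw [← isIso_iff_bijective]
    infer_instance
  have hnat : ∀ (W : C) (z : X.obj.obj (op W)),
      (sheafifyMap (closedTop U) m.hom).app (op W) ((toSheafify (closedTop U) X.obj).app (op W) z) =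
        (toSheafify (closedTop U) Y.obj).app (op W) (m.hom.app (op W) z) := fun W z =>
    (ConcreteCategory.congr_hom (congr_app (toSheafify_naturality (closedTop U) m.hom) (op W)) z).symm
  obtain ⟨z, hz⟩ := hLb.2 ((toSheafify (closedTop U) Y.obj).app (op V) y)
  have h1 := Presheaf.imageSieve_mem (closedTop U) (toSheafify (closedTop U) X.obj) (U := op V) z
  refine (closedTop U).transitive h1 _ ?_
  rintro W f ⟨x, hx⟩
  -- `x` maps to the restriction of `z`
  have h2 : (toSheafify (closedTop U) Y.obj).app (op W) (m.hom.app (op W) x) =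
      (toSheafify (closedTop U) Y.obj).app (op W) (Y.obj.map f.op y) := by
    rw [← hnat, hx]
    have e1 := ConcreteCategory.congr_hom
      ((sheafifyMap (closedTop U) m.hom).naturality f.op) z
    have e2 := ConcreteCategory.congr_hom
      ((toSheafify (closedTop U) Y.obj).naturality f.op) y
    simp only [types_comp_apply] at e1 e2
    rw [e1, hz, e2]
  have hcov := Presheaf.equalizerSieve_mem (D := Type u) (FD := TypeCat.Fun) (CD := fun X => X)
    (closedTop U) (toSheafify (closedTop U) Y.obj) (X := op W) _ _ h2
  refine (closedTop U).superset_covering ?_ hcov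
  intro W' g hg
  refine ⟨X.obj.map g.op x, ?_⟩
  rw [map_app_restrict, op_comp, Functor.map_comp]
  exact hg

lemma liftSieve_mem {V : C} (y : Y.obj.obj (op V)) : liftSieve m y ∈ J V := by
  have h := liftSieve_mem_closedTop m hL y
  rw [mem_closedTop_iff] at h
  refine J.superset_covering ?_ h
  rintro W f (hf | hf)
  · exact hf
  · exact (hbij W hf).2 _

lemma epi_of_closed_open : Epi m := by
  apply epi_of_jEpi_punit.{0}
  apply jEpi_of_ljs
  intro V y
  refine ⟨liftSieve m y, liftSieve_mem m hbij hL y, ?_⟩
  rintro W f ⟨x, hx⟩
  exact ⟨PUnit.unit, x, hx⟩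

lemma isIso_of_closed_open : IsIso m := by
  have := mono_of_closed_open m hbij hL
  have := epi_of_closed_open m hbij hL
  exact isIso_of_mono_of_epi m

end Conservative

/-- restriction to the open part and to the closed complement are jointly conservative. -/
theorem isIso_iff_star_and_closed (L : ToposFin.Sh J ⥤ (SGA4.closedCompl U).FullSubcategory)
    (adj : L ⊣ (SGA4.closedCompl U).ι) {X Y : ToposFin.Sh J} (m : X ⟶ Y) :
    IsIso m ↔ IsIso ((Over.star U).map m) ∧ IsIso (L.map m) := by
  constructor
  · intro h
    exact ⟨inferInstance, inferInstance⟩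
  · rintro ⟨h1, h2⟩
    have h3 : IsIso (prod.map (𝟙 U) m) := by
      have : IsIso ((Over.forget U).map ((Over.star U).map m)) := inferInstance
      simpa using this
    have hbij : ∀ V : C, Nonempty (U.obj.obj (op V)) → Function.Bijective (m.hom.app (op V)) := by
      rintro V ⟨u⟩
      exact bijective_of_isIso_prod_map U m V u
    let e : L ≅ closedL U := adj.leftAdjointUniq (closedAdj U)
    have h4 : IsIso ((closedL U).map m) := by
      have : (closedL U).map m = e.inv.app X ≫ L.map m ≫ e.hom.app Y := by
        simp
      rw [this]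
      infer_instance
    have hL : IsIso (sheafifyMap (closedTop U) m.hom) := by
      have : IsIso (((SGA4.closedCompl U).ι ⋙ sheafToPresheaf J (Type u)).map ((closedL U).map m)) :=
        inferInstance
      exact this
    exact isIso_of_closed_open m hbij hL

end Groth.Agent.Lib.Helper45
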