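import Groth.Agent.Lib.Helper45.ToposClosed4
import Groth.Agent.Lib.Helper45.Gluing
import Mathlib.CategoryTheory.Adjunction.Triple

/-!
# Gluing a sheaf topos from an open subtopos and its closed complement (helper45)

`nonempty_gluing_equivalence`: `Sh J ≌ Comma (𝟭 F) (j_* ⋙ i^*)`.
-/

set_option autoImplicit false
set_option backward.isDefEq.respectTransparency false
universe w w' v u

open CategoryTheory CategoryTheory.Limits Opposite

namespace Groth.Agent.Lib.Helper45

variable {C : Type u} [SmallCategory C] {J : GrothendieckTopology C} (U : ToposFin.Sh J)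

/-- the forgetful functor from the slice over a subterminal object is fully faithful. -/
noncomputable def overForgetFullyFaithful (hU : SGA4.IsOpen U) : (Over.forget U).FullyFaithful where
  preimage {A B} f := Over.homMk f (by
    have : Mono (terminal.from U) := hU
    rw [← cancel_mono (terminal.from U)]
    exact Subsingleton.elim _ _)

lemma isTerminal_star_closed (Y : (SGA4.closedCompl U).FullSubcategory) :
    Nonempty (IsTerminal ((Over.star U).obj ((SGA4.closedCompl U).ι.obj Y))) := by
  have : IsIso (prod.fst : U ⨯ Y.obj ⟶ U) := Y.property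
  let e : (Over.star U).obj ((SGA4.closedCompl U).ι.obj Y) ≅ Over.mk (𝟙 U) :=
    Over.isoMk (asIso (prod.fst : U ⨯ Y.obj ⟶ U)) (by simp)
  exact ⟨IsTerminal.ofIso Over.mkIdTerminal e.symm⟩

theorem nonempty_gluing_equivalence (hU : SGA4.IsOpen U) [(Over.star U).IsLeftAdjoint]
    (L : ToposFin.Sh J ⥤ (SGA4.closedCompl U).FullSubcategory)
    (adj : L ⊣ (SGA4.closedCompl U).ι) :
    Nonempty (ToposFin.Sh J ≌
      Comma (𝟭 (SGA4.closedCompl U).FullSubcategory) ((Over.star U).rightAdjoint ⋙ L)) := by
  let adjJ : Over.star U ⊣ (Over.star U).rightAdjoint := Adjunction.ofIsLeftAdjoint _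
  let t : Adjunction.Triple (Over.forget U) (Over.star U) (Over.star U).rightAdjoint :=
    ⟨Over.forgetAdjStar U, adjJ⟩
  have ff := t.fullyFaithfulEquiv (overForgetFullyFaithful U hU)
  have : (Over.star U).rightAdjoint.Full := ff.full
  have : (Over.star U).rightAdjoint.Faithful := ff.faithful
  have : PreservesLimitsOfShape WalkingCospan (Over.star U) := inferInstance
  have : PreservesLimitsOfShape WalkingCospan L :=
    preservesLimitsOfShape_of_natIso ((closedAdj U).leftAdjointUniq adj)
  exact Gluing.nonempty_glue_equivalence adjJ adj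
    (fun Y => (isTerminal_star_closed U Y).some)
    (fun m h1 h2 => (isIso_iff_star_and_closed U L adj m).2 ⟨h1, h2⟩)

end Groth.Agent.Lib.Helper45
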