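import Groth.Agent.Lib.Helper45.ToposFin7
import Groth.Agent.Lib.Helper45.SheafColim

/-!
# Quasi-compact objects and filtered colimits in a sheaf topos
-/

set_option autoImplicit false
set_option linter.style.haveILetI false
set_option linter.unusedSectionVars false

universe u

open CategoryTheory CategoryTheory.Limits Opposite

namespace Groth.Agent.Lib.Helper45.ToposFP

open Groth.Agent.Lib.Helper45

variable {C : Type u} [SmallCategory C] {J : GrothendieckTopology C}
variable {I : Type u} [SmallCategory I] [IsFiltered I] (D : I ⥤ ToposFin.Sh J)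

/-- Two morphisms agree at a section after composing with a transition map. -/
def EqAt {X : ToposFin.Sh J} {k : I} (f g : X ⟶ D.obj k) {k' : I} (c : k ⟶ k') {V : C}
    (x : X.obj.obj (op V)) : Prop :=
  (f ≫ D.map c).hom.app (op V) x = (g ≫ D.map c).hom.app (op V) x

lemma EqAt.comp {X : ToposFin.Sh J} {k : I} {f g : X ⟶ D.obj k} {k' : I} {c : k ⟶ k'} {V : C}
    {x : X.obj.obj (op V)} (h : EqAt D f g c x) {k'' : I} (t : k' ⟶ k'') :
    EqAt D f g (c ≫ t) x := by
  unfold EqAt at h ⊢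
  rw [D.map_comp, ← Category.assoc, ← Category.assoc]
  exact congrArg ((D.map t).hom.app (op V)) h

lemma exists_common {X : ToposFin.Sh J} {k : I} (f g : X ⟶ D.obj k) {α : Type u}
    (V : α → C) (x : ∀ a, X.obj.obj (op (V a)))
    (h : ∀ a, ∃ (k' : I) (c : k ⟶ k'), EqAt D f g c (x a)) (s : Finset α) :
    ∃ (k' : I) (c : k ⟶ k'), ∀ a ∈ s, EqAt D f g c (x a) := by
  classical
  induction s using Finset.induction_on with
  | empty => exact ⟨k, 𝟙 k, fun a ha => absurd ha (Finset.notMem_empty a)⟩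
  | insert a s _ ih =>
    obtain ⟨k₁, c₁, h₁⟩ := ih
    obtain ⟨k₂, c₂, h₂⟩ := h a
    obtain ⟨k₃, u, v, huv⟩ := IsFiltered.span c₁ c₂
    refine ⟨k₃, c₁ ≫ u, fun b hb => ?_⟩
    rcases Finset.mem_insert.1 hb with rfl | hb
    · rw [huv]
      exact h₂.comp D v
    · exact (h₁ b hb).comp D u

theorem exists_eq_of_isQC {X : ToposFin.Sh J} (hX : ToposFin.IsQC X) {k : I} (f g : X ⟶ D.obj k)
    (h : f ≫ colimit.ι D k = g ≫ colimit.ι D k) :
    ∃ (k' : I) (c : k ⟶ k'), f ≫ D.map c = g ≫ D.map c := by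
  let A := {p : Σ V : C, X.obj.obj (op V) // ∃ (k' : I) (c : k ⟶ k'), EqAt D f g c p.2}
  let π : ∀ a : A, ToposFin.eps J a.1.1 ⟶ X := fun a => secMap a.1.2
  have hLJS : LJS π := by
    intro U x
    have hx : (colimit.ι D k).hom.app (op U) (f.hom.app (op U) x) =
        (colimit.ι D k).hom.app (op U) (g.hom.app (op U) x) := by
      have e := congrArg (fun t => t.hom.app (op U)) h
      exact ConcreteCategory.congr_hom e x
    obtain ⟨S, hS, hSx⟩ := SheafColim.locInj J (colimit.isColimit D) _ _ hx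
    refine ⟨S, hS, fun V φ hφ => ?_⟩
    obtain ⟨k', a, ha⟩ := hSx φ hφ
    have hmem : ∃ (k' : I) (c : k ⟶ k'), EqAt D f g c (X.obj.map φ.op x) := by
      refine ⟨k', a, ?_⟩
      unfold EqAt
      have e1 := map_app_restrict f φ x
      have e2 := map_app_restrict g φ x
      show (D.map a).hom.app (op V) (f.hom.app (op V) (X.obj.map φ.op x)) =
        (D.map a).hom.app (op V) (g.hom.app (op V) (X.obj.map φ.op x))
      rw [e1, e2]
      exact ha
    exact ⟨⟨⟨V, X.obj.map φ.op x⟩, hmem⟩, etaSec J V, secMap_app_etaSec _⟩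
  obtain ⟨s, hs⟩ := (isQC_iff X).1 hX A _ π (jEpi_of_ljs π hLJS)
  obtain ⟨k', c, hc⟩ := exists_common D f g (fun a : A => a.1.1) (fun a => a.1.2) (fun a => a.2) s
  refine ⟨k', c, hs _ _ fun a => ?_⟩
  apply eps_hom_ext
  have := hc a.1 a.2
  unfold EqAt at this
  show (f ≫ D.map c).hom.app _ ((secMap a.1.1.2).hom.app _ (etaSec J _)) =
    (g ≫ D.map c).hom.app _ ((secMap a.1.1.2).hom.app _ (etaSec J _))
  rw [secMap_app_etaSec]
  exact this

theorem post_injective_of_isQC {X : ToposFin.Sh J} (hX : ToposFin.IsQC X) :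
    Function.Injective (colimit.post D (coyoneda.obj (op X))) := by
  intro x y hxy
  obtain ⟨j, f, rfl⟩ := Types.jointly_surjective' x
  obtain ⟨j', f', rfl⟩ := Types.jointly_surjective' y
  let k := IsFiltered.max j j'
  let a : j ⟶ k := IsFiltered.leftToMax j j'
  let a' : j' ⟶ k := IsFiltered.rightToMax j j'
  have e1 : colimit.ι (D ⋙ coyoneda.obj (op X)) j f =
      colimit.ι (D ⋙ coyoneda.obj (op X)) k (f ≫ D.map a) :=
    (ConcreteCategory.congr_hom (colimit.w (D ⋙ coyoneda.obj (op X)) a) f).symm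
  have e2 : colimit.ι (D ⋙ coyoneda.obj (op X)) j' f' =
      colimit.ι (D ⋙ coyoneda.obj (op X)) k (f' ≫ D.map a') :=
    (ConcreteCategory.congr_hom (colimit.w (D ⋙ coyoneda.obj (op X)) a') f').symm
  rw [e1, e2] at hxy ⊢
  have hpost : ∀ (g : X ⟶ D.obj k), colimit.post D (coyoneda.obj (op X))
      (colimit.ι (D ⋙ coyoneda.obj (op X)) k g) = g ≫ colimit.ι D k := fun g =>
    ConcreteCategory.congr_hom (colimit.ι_post D (coyoneda.obj (op X)) k) g
  rw [hpost, hpost] at hxy
  obtain ⟨k', c, hc⟩ := exists_eq_of_isQC D hX _ _ hxy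
  rw [Types.FilteredColimit.colimit_eq_iff]
  exact ⟨k', c, c, hc⟩

end Groth.Agent.Lib.Helper45.ToposFP
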