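import Groth.Agent.Lib.Helper45.ToposFP1

/-!
# Quasi-compactness from injectivity of the comparison map: cokernel pairs of finite image unions
-/

set_option autoImplicit false
set_option linter.style.haveILetI false
set_option linter.unusedSectionVars false

universe u

open CategoryTheory CategoryTheory.Limits Opposite

namespace Groth.Agent.Lib.Helper45.ToposFP

open Groth.Agent.Lib.Helper45

variable {C : Type u} [SmallCategory C] {J : GrothendieckTopology C}

/-- The cokernel pair of a subfunctor, functorially. -/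
noncomputable def Pfun (P : Cᵒᵖ ⥤ Type u) : Subfunctor P ⥤ (Cᵒᵖ ⥤ Type u) where
  obj A := pushout A.ι A.ι
  map {A B} h := pushout.desc (pushout.inl _ _) (pushout.inr _ _) (by
    rw [← Subfunctor.homOfLe_ι (leOfHom h), Category.assoc, Category.assoc, pushout.condition])
  map_id A := by
    apply pushout.hom_ext
    · rw [pushout.inl_desc, Category.comp_id]
    · rw [pushout.inr_desc, Category.comp_id]
  map_comp f g := by
    apply pushout.hom_ext
    · rw [pushout.inl_desc, ← Category.assoc, pushout.inl_desc, pushout.inl_desc]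
    · rw [pushout.inr_desc, ← Category.assoc, pushout.inr_desc, pushout.inr_desc]

variable {X : ToposFin.Sh J} {ι : Type u} {F : ι → ToposFin.Sh J} (π : ∀ i, F i ⟶ X)

/-- The union of the images of a finite subfamily. -/
def imgFin (s : Finset ι) : Subfunctor X.obj := ⨆ i ∈ s, Subfunctor.range (π i).hom

lemma imgFin_mono : Monotone (imgFin π) := fun _ _ h => biSup_mono (fun _ hi => h hi)

lemma mem_imgFin {s : Finset ι} {U : Cᵒᵖ} (x : X.obj.obj U) :
    x ∈ (imgFin π s).obj U ↔ ∃ i ∈ s, ∃ y : (F i).obj.obj U, (π i).hom.app U y = x := by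
  simp only [imgFin, Subfunctor.iSup_obj, Set.mem_iUnion]
  constructor
  · rintro ⟨i, hi, y, hy⟩
    exact ⟨i, hi, y, hy⟩
  · rintro ⟨i, hi, y, hy⟩
    exact ⟨i, hi, y, hy⟩

/-- The diagram of sheafified cokernel pairs. -/
noncomputable def Dg : Finset ι ⥤ ToposFin.Sh J :=
  (imgFin_mono π).functor ⋙ Pfun X.obj ⋙ presheafToSheaf J (Type u)

/-- First inclusion. -/
noncomputable def j₁ (s : Finset ι) : X ⟶ (Dg π).obj s :=
  ObjectProperty.homMk (pushout.inl (imgFin π s).ι (imgFin π s).ι ≫ toSheafify J _)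

/-- Second inclusion. -/
noncomputable def j₂ (s : Finset ι) : X ⟶ (Dg π).obj s :=
  ObjectProperty.homMk (pushout.inr (imgFin π s).ι (imgFin π s).ι ≫ toSheafify J _)

lemma j₁_map {s t : Finset ι} (h : s ⟶ t) : j₁ π s ≫ (Dg π).map h = j₁ π t := by
  apply Sheaf.hom_ext
  show (pushout.inl _ _ ≫ toSheafify J _) ≫ sheafifyMap J ((Pfun X.obj).map _) = _
  rw [Category.assoc, ← toSheafify_naturality, ← Category.assoc]
  congr 1
  exact pushout.inl_desc _ _ _

lemma j₂_map {s t : Finset ι} (h : s ⟶ t) : j₂ π s ≫ (Dg π).map h = j₂ π t := by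
  apply Sheaf.hom_ext
  show (pushout.inr _ _ ≫ toSheafify J _) ≫ sheafifyMap J ((Pfun X.obj).map _) = _
  rw [Category.assoc, ← toSheafify_naturality, ← Category.assoc]
  congr 1
  exact pushout.inr_desc _ _ _

lemma j_eq_on_img (s : Finset ι) {U : Cᵒᵖ} (x : X.obj.obj U) (hx : x ∈ (imgFin π s).obj U) :
    (j₁ π s).hom.app U x = (j₂ π s).hom.app U x := by
  have e := congrArg (fun t => t.app U)
    (pushout.condition (f := (imgFin π s).ι) (g := (imgFin π s).ι))
  have e' := ConcreteCategory.congr_hom e ⟨x, hx⟩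
  exact congrArg (fun z => (toSheafify J (pushout (imgFin π s).ι (imgFin π s).ι)).app U z) e'

lemma j₁_ι (s : Finset ι) :
    j₁ π s ≫ colimit.ι (Dg π) s = j₁ π ∅ ≫ colimit.ι (Dg π) ∅ := by
  have h : (∅ : Finset ι) ⟶ s := homOfLE (Finset.empty_subset s)
  rw [← colimit.w (Dg π) h, ← Category.assoc, j₁_map]

lemma j₂_ι (s : Finset ι) :
    j₂ π s ≫ colimit.ι (Dg π) s = j₂ π ∅ ≫ colimit.ι (Dg π) ∅ := by
  have h : (∅ : Finset ι) ⟶ s := homOfLE (Finset.empty_subset s)
  rw [← colimit.w (Dg π) h, ← Category.assoc, j₂_map]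

lemma claimA (hπ : JEpi π) :
    j₁ π ∅ ≫ colimit.ι (Dg π) ∅ = j₂ π ∅ ≫ colimit.ι (Dg π) ∅ := by
  have hLJS := ljs_of_jEpi π hπ
  apply Sheaf.hom_ext
  ext U x
  obtain ⟨S, hS, hSx⟩ := hLJS U.unop x
  apply (((isSheaf_iff_isSheaf_of_type _ _).1 (colimit (Dg π)).2).isSeparated _ hS).ext
  intro V φ hφ
  obtain ⟨i, y, hy⟩ := hSx φ hφ
  have n1 := map_app_restrict (j₁ π ∅ ≫ colimit.ι (Dg π) ∅) φ x
  have n2 := map_app_restrict (j₂ π ∅ ≫ colimit.ι (Dg π) ∅) φ x
  refine n1.symm.trans (Eq.trans ?_ n2)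
  rw [← j₁_ι π {i}, ← j₂_ι π {i}]
  have hmem : X.obj.map φ.op x ∈ (imgFin π {i}).obj (op V) :=
    (mem_imgFin π _).2 ⟨i, Finset.mem_singleton_self i, y, hy⟩
  exact congrArg (fun z => (colimit.ι (Dg π) {i}).hom.app (op V) z)
    (j_eq_on_img π {i} _ hmem)

lemma claimC (s : Finset ι) (h : j₁ π s = j₂ π s) : LJS (fun i : s => π i) := by
  intro U x
  let A := imgFin π s
  let P := pushout A.ι A.ι
  have hx : (toSheafify J P).app (op U) ((pushout.inl A.ι A.ι).app (op U) x) =
      (toSheafify J P).app (op U) ((pushout.inr A.ι A.ι).app (op U) x) :=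
    ConcreteCategory.congr_hom
      (congrArg (fun t : X ⟶ (Dg π).obj s => t.hom.app (op U)) h) x
  haveI : Presheaf.IsLocallyInjective J (toSheafify J P) := inferInstance
  refine ⟨_, Presheaf.equalizerSieve_mem J (toSheafify J P) _ _ hx, ?_⟩
  intro V φ hφ
  change P.map φ.op _ = P.map φ.op _ at hφ
  have n1 : P.map φ.op ((pushout.inl A.ι A.ι).app (op U) x) =
      (pushout.inl A.ι A.ι).app (op V) (X.obj.map φ.op x) :=
    (ConcreteCategory.congr_hom ((pushout.inl A.ι A.ι).naturality φ.op) x).symm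
  have n2 : P.map φ.op ((pushout.inr A.ι A.ι).app (op U) x) =
      (pushout.inr A.ι A.ι).app (op V) (X.obj.map φ.op x) :=
    (ConcreteCategory.congr_hom ((pushout.inr A.ι A.ι).naturality φ.op) x).symm
  rw [n1, n2] at hφ
  have sq := (IsPushout.of_hasPushout A.ι A.ι).map ((evaluation Cᵒᵖ (Type u)).obj (op V))
  have hinj : Function.Injective (A.ι.app (op V)) := fun a b hab => Subtype.ext hab
  obtain ⟨z, hz, -⟩ := (Types.pushoutCocone_inl_eq_inr_iff_of_isColimit sq.isColimit hinj _ _).1 hφ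
  have hmem : X.obj.map φ.op x ∈ A.obj (op V) := by
    rw [← hz]
    exact z.2
  obtain ⟨i, hi, y, hy⟩ := (mem_imgFin π _).1 hmem
  exact ⟨⟨i, hi⟩, y, hy⟩

theorem isQC_of_post_injective (X : ToposFin.Sh J)
    (h : ∀ (I : Type u) [SmallCategory I] [IsFiltered I] (D : I ⥤ ToposFin.Sh J),
      Function.Injective (colimit.post D (coyoneda.obj (op X)))) : ToposFin.IsQC X := by
  classical
  rw [isQC_iff]
  intro ι F π hπ
  have hinj := h (Finset ι) (Dg π)
  have hpost : ∀ (g : X ⟶ (Dg π).obj ∅), colimit.post (Dg π) (coyoneda.obj (op X))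
      (colimit.ι (Dg π ⋙ coyoneda.obj (op X)) ∅ g) = g ≫ colimit.ι (Dg π) ∅ := fun g =>
    ConcreteCategory.congr_hom (colimit.ι_post (Dg π) (coyoneda.obj (op X)) ∅) g
  have he : colimit.ι (Dg π ⋙ coyoneda.obj (op X)) ∅ (j₁ π ∅) =
      colimit.ι (Dg π ⋙ coyoneda.obj (op X)) ∅ (j₂ π ∅) := by
    apply hinj
    rw [hpost, hpost]
    exact claimA π hπ
  obtain ⟨s, a, b, hab⟩ := (Types.FilteredColimit.colimit_eq_iff _).1 he
  have hs : j₁ π s = j₂ π s := by
    rw [← j₁_map π a, ← j₂_map π b]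
    exact hab
  exact ⟨s, jEpi_of_ljs _ (claimC π s hs)⟩

theorem isQC_iff_post_injective (X : ToposFin.Sh J) :
    ToposFin.IsQC X ↔ ∀ (I : Type u) [SmallCategory I] [IsFiltered I] (D : I ⥤ ToposFin.Sh J),
      Function.Injective (colimit.post D (coyoneda.obj (op X))) :=
  ⟨fun hX _ _ _ D => post_injective_of_isQC D hX, isQC_of_post_injective X⟩

end Groth.Agent.Lib.Helper45.ToposFP
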