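import Groth.Agent.Lib.Helper45.ToposFP3

/-!
# Finitely presentable objects of a sheaf topos: factorisation form, coequalizers, retracts
-/

set_option autoImplicit false
set_option linter.style.haveILetI false
set_option linter.unusedSectionVars false

universe u

open CategoryTheory CategoryTheory.Limits Opposite

namespace Groth.Agent.Lib.Helper45.ToposFP

open Groth.Agent.Lib.Helper45

variable {C : Type u} [SmallCategory C] {J : GrothendieckTopology C}

/-- Factorisation form of finite presentability. -/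
def FPForm (X : ToposFin.Sh J) : Prop :=
  ∀ (I : Type u) [SmallCategory I] [IsFiltered I] (D : I ⥤ ToposFin.Sh J),
    (∀ φ : X ⟶ colimit D, ∃ (k : I) (ψ : X ⟶ D.obj k), ψ ≫ colimit.ι D k = φ) ∧
    (∀ (k : I) (f g : X ⟶ D.obj k), f ≫ colimit.ι D k = g ≫ colimit.ι D k →
      ∃ (k' : I) (c : k ⟶ k'), f ≫ D.map c = g ≫ D.map c)

lemma post_ι {I : Type u} [SmallCategory I] (D : I ⥤ ToposFin.Sh J) (X : ToposFin.Sh J) (k : I)
    (g : X ⟶ D.obj k) :
    colimit.post D (coyoneda.obj (op X)) (colimit.ι (D ⋙ coyoneda.obj (op X)) k g) =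
      g ≫ colimit.ι D k :=
  ConcreteCategory.congr_hom (colimit.ι_post D (coyoneda.obj (op X)) k) g

lemma isFP_iff_fpForm (X : ToposFin.Sh J) : ToposFin.IsFP X ↔ FPForm X := by
  constructor
  · intro h I _ _ D
    obtain ⟨hinj, hsurj⟩ := h I D
    constructor
    · intro φ
      obtain ⟨z, hz⟩ := hsurj φ
      obtain ⟨k, ψ, rfl⟩ := Types.jointly_surjective' z
      exact ⟨k, ψ, (post_ι D X k ψ).symm.trans hz⟩
    · intro k f g hfg
      have e : colimit.ι (D ⋙ coyoneda.obj (op X)) k f =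
          colimit.ι (D ⋙ coyoneda.obj (op X)) k g := by
        apply hinj
        rw [post_ι, post_ι]
        exact hfg
      obtain ⟨k', c, c', hc⟩ := (Types.FilteredColimit.colimit_eq_iff _).1 e
      have hc' : f ≫ D.map c = g ≫ D.map c' := hc
      refine ⟨IsFiltered.coeq c c', c ≫ IsFiltered.coeqHom c c', ?_⟩
      rw [D.map_comp, ← Category.assoc, hc', Category.assoc, ← D.map_comp, ← IsFiltered.coeq_condition,
        D.map_comp]
  · intro h I _ _ D
    obtain ⟨hs, hi⟩ := h I D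
    constructor
    · intro x y hxy
      obtain ⟨j, f, rfl⟩ := Types.jointly_surjective' x
      obtain ⟨j', f', rfl⟩ := Types.jointly_surjective' y
      let k := IsFiltered.max j j'
      let a : j ⟶ k := IsFiltered.leftToMax j j'
      let a' : j' ⟶ k := IsFiltered.rightToMax j j'
      have e1 : colimit.ι (D ⋙ coyoneda.obj (op X)) j f =
          colimit.ι (D ⋙ coyoneda.obj (op X)) k (f ≫ D.map a) :=
        (ConcreteCategory.congr_hom (colimit.w (D ⋙ coyoneda.obj (op X)) a) f).symm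
      have e2 : colimit.ι (D ⋙ coyoneda.obj (op X)) j' f' =
          colimit.ι (D ⋙ coyoneda.obj (op X)) k (f' ≫ D.map a') :=
        (ConcreteCategory.congr_hom (colimit.w (D ⋙ coyoneda.obj (op X)) a') f').symm
      rw [e1, e2] at hxy ⊢
      rw [post_ι, post_ι] at hxy
      obtain ⟨k', c, hc⟩ := hi k _ _ hxy
      rw [Types.FilteredColimit.colimit_eq_iff]
      exact ⟨k', c, c, hc⟩
    · intro φ
      obtain ⟨k, ψ, hψ⟩ := hs φ
      exact ⟨colimit.ι (D ⋙ coyoneda.obj (op X)) k ψ, (post_ι D X k ψ).trans hψ⟩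

lemma fpForm_of_retract {X Q : ToposFin.Sh J} (i : X ⟶ Q) (p : Q ⟶ X) (hip : i ≫ p = 𝟙 X)
    (hQ : FPForm Q) : FPForm X := by
  intro I _ _ D
  obtain ⟨hs, hi⟩ := hQ I D
  constructor
  · intro φ
    obtain ⟨k, ψ, hψ⟩ := hs (p ≫ φ)
    refine ⟨k, i ≫ ψ, ?_⟩
    rw [Category.assoc, hψ, ← Category.assoc, hip, Category.id_comp]
  · intro k f g hfg
    obtain ⟨k', c, hc⟩ := hi k (p ≫ f) (p ≫ g) (by rw [Category.assoc, Category.assoc, hfg])
    refine ⟨k', c, ?_⟩
    have := congrArg (fun t => i ≫ t) hc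
    simpa only [← Category.assoc, hip, Category.id_comp] using this

lemma fpForm_coequalizer {X₀ X₁ : ToposFin.Sh J} (a b : X₁ ⟶ X₀) (h₀ : FPForm X₀)
    (h₁ : FPForm X₁) : FPForm (coequalizer a b) := by
  intro I _ _ D
  obtain ⟨hs₀, hi₀⟩ := h₀ I D
  obtain ⟨-, hi₁⟩ := h₁ I D
  constructor
  · intro φ
    obtain ⟨k, ψ, hψ⟩ := hs₀ (coequalizer.π a b ≫ φ)
    obtain ⟨k', c, hc⟩ := hi₁ k (a ≫ ψ) (b ≫ ψ) (by
      rw [Category.assoc, Category.assoc, hψ, ← Category.assoc, ← Category.assoc,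
        coequalizer.condition])
    refine ⟨k', coequalizer.desc (ψ ≫ D.map c) (by simpa only [Category.assoc] using hc), ?_⟩
    rw [← cancel_epi (coequalizer.π a b), ← Category.assoc, coequalizer.π_desc, Category.assoc,
      colimit.w, hψ]
  · intro k f g hfg
    obtain ⟨k', c, hc⟩ := hi₀ k (coequalizer.π a b ≫ f) (coequalizer.π a b ≫ g)
      (by rw [Category.assoc, Category.assoc, hfg])
    refine ⟨k', c, ?_⟩
    rw [← cancel_epi (coequalizer.π a b)]
    simpa only [Category.assoc] using hc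

lemma hasQCGenerators_of_hasCoherentGenerators (hE : ToposFin.HasCoherentGenerators J) :
    ToposFin.HasQCGenerators J := by
  intro X
  obtain ⟨ι, F, π, hF, hπ⟩ := hE X
  exact ⟨ι, F, π, fun i => (hF i).1, hπ⟩

lemma isFP_of_isCoherent (hE : ToposFin.HasQCGenerators J) {X : ToposFin.Sh J}
    (hX : ToposFin.IsCoherent X) : ToposFin.IsFP X :=
  fun _ _ _ D => post_bijective_of_isCoherent D hE hX

lemma isFP_of_retract_coequalizer (hE : ToposFin.HasQCGenerators J) {X X₀ X₁ : ToposFin.Sh J}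
    (a b : X₁ ⟶ X₀) (i : X ⟶ coequalizer a b) (p : coequalizer a b ⟶ X)
    (h₀ : ToposFin.IsCoherent X₀) (h₁ : ToposFin.IsCoherent X₁) (hip : i ≫ p = 𝟙 X) :
    ToposFin.IsFP X := by
  rw [isFP_iff_fpForm]
  exact fpForm_of_retract i p hip (fpForm_coequalizer a b
    ((isFP_iff_fpForm _).1 (isFP_of_isCoherent hE h₀)) ((isFP_iff_fpForm _).1 (isFP_of_isCoherent hE h₁)))

lemma isCoherent_sigma {κ : Type u} [Finite κ] (T : κ → ToposFin.Sh J)
    (h : ∀ k, ToposFin.IsCoherent (T k)) : ToposFin.IsCoherent (∐ T) :=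
  ⟨isQC_of_finite_cover _ (jEpi_sigma_ι T) (fun k => (h k).1),
    (isQS_sigma_iff T).2 (fun k => (h k).2)⟩

end Groth.Agent.Lib.Helper45.ToposFP
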