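import Groth.Agent.Lib.Helper45.ToposFP4

/-!
# Finitely presentable objects are retracts of coequalizers of coherent objects
-/

set_option autoImplicit false
set_option linter.style.haveILetI false
set_option linter.unusedSectionVars false
set_option backward.isDefEq.respectTransparency false

universe u

open CategoryTheory CategoryTheory.Limits Opposite

namespace Groth.Agent.Lib.Helper45.ToposFP

open Groth.Agent.Lib.Helper45

variable {C : Type u} [SmallCategory C] {J : GrothendieckTopology C}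

section Present

variable {X G₀ : ToposFin.Sh J} (g : G₀ ⟶ X) {B : Type u} (H : B → ToposFin.Sh J)
  (ρ : ∀ b, H b ⟶ pullback g g)

/-- First map from the finite coproduct. -/
noncomputable def αQ (t : Finset B) : (∐ fun b : t => H b) ⟶ G₀ :=
  Sigma.desc (fun b : t => ρ b ≫ pullback.fst g g)

/-- Second map from the finite coproduct. -/
noncomputable def βQ (t : Finset B) : (∐ fun b : t => H b) ⟶ G₀ :=
  Sigma.desc (fun b : t => ρ b ≫ pullback.snd g g)

lemma ι_αQ (t : Finset B) (b : t) :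
    Sigma.ι (fun b : t => H b) b ≫ αQ g H ρ t = ρ b ≫ pullback.fst g g :=
  Sigma.ι_desc _ _

lemma ι_βQ (t : Finset B) (b : t) :
    Sigma.ι (fun b : t => H b) b ≫ βQ g H ρ t = ρ b ≫ pullback.snd g g :=
  Sigma.ι_desc _ _

lemma comp_π (t : Finset B) (b : B) (hb : b ∈ t) :
    ρ b ≫ pullback.fst g g ≫ coequalizer.π (αQ g H ρ t) (βQ g H ρ t) =
      ρ b ≫ pullback.snd g g ≫ coequalizer.π (αQ g H ρ t) (βQ g H ρ t) := by
  calc ρ b ≫ pullback.fst g g ≫ coequalizer.π (αQ g H ρ t) (βQ g H ρ t)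
      = (Sigma.ι (fun b : t => H b) ⟨b, hb⟩ ≫ αQ g H ρ t) ≫ coequalizer.π _ _ := by
        rw [ι_αQ, Category.assoc]
    _ = (Sigma.ι (fun b : t => H b) ⟨b, hb⟩ ≫ βQ g H ρ t) ≫ coequalizer.π _ _ := by
        rw [Category.assoc, Category.assoc, coequalizer.condition]
    _ = _ := by rw [ι_βQ, Category.assoc]

lemma cond_of_le {t t' : Finset B} (h : t ≤ t') :
    αQ g H ρ t ≫ coequalizer.π (αQ g H ρ t') (βQ g H ρ t') =
      βQ g H ρ t ≫ coequalizer.π (αQ g H ρ t') (βQ g H ρ t') := by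
  apply Sigma.hom_ext
  intro b
  rw [← Category.assoc, ← Category.assoc, ι_αQ, ι_βQ, Category.assoc, Category.assoc]
  exact comp_π g H ρ t' b (h b.2)

/-- The diagram of finite-stage quotients. -/
noncomputable def Qdiag : Finset B ⥤ ToposFin.Sh J where
  obj t := coequalizer (αQ g H ρ t) (βQ g H ρ t)
  map {t t'} h := coequalizer.desc (coequalizer.π _ _) (cond_of_le g H ρ (leOfHom h))
  map_id t := by
    apply coequalizer.hom_ext
    rw [coequalizer.π_desc, Category.comp_id]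
  map_comp f f' := by
    apply coequalizer.hom_ext
    rw [coequalizer.π_desc, ← Category.assoc, coequalizer.π_desc, coequalizer.π_desc]

/-- The projection to the finite-stage quotient. -/
noncomputable def πQ (t : Finset B) : G₀ ⟶ (Qdiag g H ρ).obj t := coequalizer.π _ _

instance (t : Finset B) : Epi (πQ g H ρ t) := by
  unfold πQ
  infer_instance

lemma comp_πQ (t : Finset B) (b : B) (hb : b ∈ t) :
    ρ b ≫ pullback.fst g g ≫ πQ g H ρ t = ρ b ≫ pullback.snd g g ≫ πQ g H ρ t :=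
  comp_π g H ρ t b hb

lemma comp_πQ_assoc' (t : Finset B) (b : B) (hb : b ∈ t) {Z : ToposFin.Sh J}
    (z : (Qdiag g H ρ).obj t ⟶ Z) :
    ρ b ≫ pullback.fst g g ≫ πQ g H ρ t ≫ z = ρ b ≫ pullback.snd g g ≫ πQ g H ρ t ≫ z := by
  have := congrArg (fun m => m ≫ z) (comp_πQ g H ρ t b hb)
  simpa only [Category.assoc] using this

lemma πQ_map {t t' : Finset B} (h : t ⟶ t') :
    πQ g H ρ t ≫ (Qdiag g H ρ).map h = πQ g H ρ t' := coequalizer.π_desc _ _

/-- The map from the finite-stage quotient to `X`. -/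
noncomputable def qX (t : Finset B) : (Qdiag g H ρ).obj t ⟶ X :=
  coequalizer.desc g (by
    apply Sigma.hom_ext
    intro b
    rw [← Category.assoc, ← Category.assoc, ι_αQ, ι_βQ, Category.assoc, Category.assoc,
      pullback.condition])

lemma πQ_qX (t : Finset B) : πQ g H ρ t ≫ qX g H ρ t = g := coequalizer.π_desc _ _

/-- The cocone with apex `X`. -/
noncomputable def Qcocone : Cocone (Qdiag g H ρ) where
  pt := X
  ι :=
    { app := fun t => qX g H ρ t
      naturality := fun t t' h => by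
        rw [← cancel_epi (πQ g H ρ t)]
        dsimp
        rw [← Category.assoc, πQ_map, πQ_qX, Category.comp_id, πQ_qX] }

lemma Qcocone_ι (t : Finset B) : (Qcocone g H ρ).ι.app t = qX g H ρ t := rfl

theorem isColimit_Qcocone [Epi g] (hρ : JEpi ρ) : Nonempty (IsColimit (Qcocone g H ρ)) := by
  classical
  refine ⟨IsColimit.ofExistsUnique fun s => ?_⟩
  let e : G₀ ⟶ s.pt := πQ g H ρ ∅ ≫ s.ι.app ∅
  have he : ∀ t : Finset B, πQ g H ρ t ≫ s.ι.app t = e := by
    intro t
    have h : (∅ : Finset B) ⟶ t := homOfLE (Finset.empty_subset t)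
    have := s.w h
    dsimp only [e]
    rw [← this, ← Category.assoc, πQ_map]
  have hcoeq : pullback.fst g g ≫ e = pullback.snd g g ≫ e := by
    apply hρ
    intro b
    rw [← he {b}]
    exact comp_πQ_assoc' g H ρ {b} b (Finset.mem_singleton_self b) _
  obtain ⟨m, hm⟩ := exists_desc_of_epi g e hcoeq
  refine ⟨m, fun t => ?_, fun m' hm' => ?_⟩
  · rw [← cancel_epi (πQ g H ρ t), Qcocone_ι, ← Category.assoc, πQ_qX, hm, he]
  · have h0 : (Qcocone g H ρ).ι.app ∅ ≫ m' = s.ι.app ∅ := hm' ∅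
    rw [Qcocone_ι] at h0
    have h1 : g ≫ m' = e := by
      calc g ≫ m' = (πQ g H ρ ∅ ≫ qX g H ρ ∅) ≫ m' := by rw [πQ_qX]
        _ = e := by rw [Category.assoc, h0]
    exact (cancel_epi g).1 (h1.trans hm.symm)

end Present

theorem exists_presentation (hE : ToposFin.HasCoherentGenerators J) (X : ToposFin.Sh J)
    (hX : ToposFin.IsFP X) :
    ∃ (X₀ X₁ : ToposFin.Sh J) (a b : X₁ ⟶ X₀) (i : X ⟶ coequalizer a b)
      (p : coequalizer a b ⟶ X), ToposFin.IsCoherent X₀ ∧ ToposFin.IsCoherent X₁ ∧ i ≫ p = 𝟙 X := by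
  classical
  have hqc : ToposFin.IsQC X := isQC_of_post_injective X (fun I _ _ D => (hX I D).1)
  obtain ⟨ι, F, π, hF, hπ⟩ := hE X
  obtain ⟨s, hs⟩ := (isQC_iff X).1 hqc ι F π ((epi_desc_iff π).1 hπ)
  let G₀ : ToposFin.Sh J := ∐ (fun i : s => F i)
  let g : G₀ ⟶ X := Sigma.desc (fun i : s => π i)
  haveI : Epi g := (epi_desc_iff _).2 hs
  have hG₀ : ToposFin.IsCoherent G₀ := isCoherent_sigma _ (fun i => hF i)
  obtain ⟨B, H, ρ, hH, hρ'⟩ := hE (pullback g g)
  have hρ : JEpi ρ := (epi_desc_iff ρ).1 hρ'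
  obtain ⟨hc⟩ := isColimit_Qcocone g H ρ hρ
  let φ : X ⟶ colimit (Qdiag g H ρ) :=
    (hc.coconePointUniqueUpToIso (colimit.isColimit (Qdiag g H ρ))).hom
  have hφ : ∀ t, qX g H ρ t ≫ φ = colimit.ι (Qdiag g H ρ) t := fun t =>
    hc.comp_coconePointUniqueUpToIso_hom _ t
  obtain ⟨t, ψ, hψ⟩ := ((isFP_iff_fpForm X).1 hX (Finset B) (Qdiag g H ρ)).1 φ
  refine ⟨G₀, ∐ fun b : t => H b, αQ g H ρ t, βQ g H ρ t, ψ, qX g H ρ t, hG₀,
    isCoherent_sigma _ (fun b => hH b), ?_⟩
  have h1 : (ψ ≫ qX g H ρ t) ≫ φ = 𝟙 X ≫ φ := by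
    rw [Category.assoc, hφ]
    exact hψ.trans (Category.id_comp φ).symm
  exact (cancel_mono φ).1 h1

theorem isFP_iff_retract (hE : ToposFin.HasCoherentGenerators J) (X : ToposFin.Sh J) :
    ToposFin.IsFP X ↔ ∃ (X₀ X₁ : ToposFin.Sh J) (a b : X₁ ⟶ X₀) (i : X ⟶ coequalizer a b)
      (p : coequalizer a b ⟶ X), ToposFin.IsCoherent X₀ ∧ ToposFin.IsCoherent X₁ ∧ i ≫ p = 𝟙 X := by
  constructor
  · exact exists_presentation hE X
  · rintro ⟨X₀, X₁, a, b, i, p, h₀, h₁, hip⟩
    exact isFP_of_retract_coequalizer (hasQCGenerators_of_hasCoherentGenerators hE) a b i p h₀ h₁ hip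

end Groth.Agent.Lib.Helper45.ToposFP
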