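import Groth.Agent.Lib.Helper45.ToposFP5

/-!
# Generating sets of quasi-compact objects stable under finite colimits and fibre products
-/

set_option autoImplicit false
set_option linter.style.haveILetI false
set_option linter.unusedSectionVars false

universe u

open CategoryTheory CategoryTheory.Limits Opposite

namespace Groth.Agent.Lib.Helper45.ToposFP

open Groth.Agent.Lib.Helper45

variable {C : Type u} [SmallCategory C] {J : GrothendieckTopology C}

lemma isCoherent_of_retract {X Q : ToposFin.Sh J} (i : X ⟶ Q) (p : Q ⟶ X) (hip : i ≫ p = 𝟙 X)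
    (hQ : ToposFin.IsCoherent Q) : ToposFin.IsCoherent X := by
  haveI : IsSplitMono i := ⟨⟨⟨p, hip⟩⟩⟩
  haveI : IsSplitEpi p := ⟨⟨⟨i, hip⟩⟩⟩
  exact ⟨isQC_of_finite_cover (fun _ : PUnit.{1} => p) (jEpi_of_epi p) (fun _ => hQ.1),
    isQS_of_mono i hQ.2⟩

section

variable (S : Set (ToposFin.Sh J))
  (hcolim : ∀ (K : Type) [SmallCategory K] [FinCategory K] (D : K ⥤ ToposFin.Sh J),
      (∀ k, D.obj k ∈ S) → colimit D ∈ S)

include hcolim in
lemma sigma_mem {n : ℕ} (T : Fin n → ToposFin.Sh J) (hT : ∀ k, T k ∈ S) : (∐ T) ∈ S :=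
  hcolim (Discrete (Fin n)) (Discrete.functor T) (fun k => hT k.as)

include hcolim in
lemma coequalizer_mem {A B : ToposFin.Sh J} (a b : A ⟶ B) (hA : A ∈ S) (hB : B ∈ S) :
    coequalizer a b ∈ S :=
  hcolim WalkingParallelPair (parallelPair a b) (by
    rintro (_ | _)
    · exact hA
    · exact hB)

lemma exists_fin_cover (hgen : ToposFin.IsGenerating S) {X : ToposFin.Sh J}
    (hX : ToposFin.IsQC X) : ∃ (n : ℕ) (T : Fin n → ToposFin.Sh J) (τ : ∀ k, T k ⟶ X),
      (∀ k, T k ∈ S) ∧ JEpi τ := by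
  obtain ⟨κ, hκ, F, π, hF, hπ⟩ := exists_finite_cover_of_isGenerating hgen hX
  obtain ⟨n, ⟨e⟩⟩ := Finite.exists_equiv_fin κ
  exact ⟨n, fun k => F (e.symm k), fun k => π (e.symm k), fun k => hF _,
    hπ.reindex_of_surjective e.symm e.symm.surjective⟩

include hcolim in
theorem mem_of_isCoherent (hqc : ∀ K ∈ S, ToposFin.IsQC K)
    (hiso : ∀ ⦃K L : ToposFin.Sh J⦄, K ∈ S → Nonempty (K ≅ L) → L ∈ S)
    (hgen : ToposFin.IsGenerating S) {X : ToposFin.Sh J} (hX : ToposFin.IsCoherent X) :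
    X ∈ S := by
  obtain ⟨n, T, τ, hT, hτ⟩ := exists_fin_cover S hgen hX.1
  have hG₀ : (∐ T) ∈ S := sigma_mem S hcolim T hT
  let g : (∐ T) ⟶ X := Sigma.desc τ
  haveI : Epi g := (epi_desc_iff τ).2 hτ
  have hR : ToposFin.IsQC (pullback g g) := hX.2 _ _ g g (hqc _ hG₀) (hqc _ hG₀)
  obtain ⟨m, H, ρ, hH, hρ⟩ := exists_fin_cover S hgen hR
  have hHs : (∐ H) ∈ S := sigma_mem S hcolim H hH
  let r : (∐ H) ⟶ pullback g g := Sigma.desc ρ
  haveI : Epi r := (epi_desc_iff ρ).2 hρ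
  let a : (∐ H) ⟶ (∐ T) := r ≫ pullback.fst g g
  let b : (∐ H) ⟶ (∐ T) := r ≫ pullback.snd g g
  have hQ : coequalizer a b ∈ S := coequalizer_mem S hcolim a b hHs hG₀
  have hab : a ≫ g = b ≫ g := by
    simp only [a, b, Category.assoc, pullback.condition]
  let d : coequalizer a b ⟶ X := coequalizer.desc g hab
  obtain ⟨m', hm'⟩ := exists_desc_of_epi g (coequalizer.π a b) (by
    rw [← cancel_epi r]
    simpa only [a, b, Category.assoc] using coequalizer.condition a b)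
  have h1 : d ≫ m' = 𝟙 _ := by
    apply coequalizer.hom_ext
    rw [← Category.assoc, coequalizer.π_desc, hm', Category.comp_id]
  have h2 : m' ≫ d = 𝟙 _ := by
    rw [← cancel_epi g, ← Category.assoc, hm', coequalizer.π_desc, Category.comp_id]
  exact hiso hQ ⟨⟨d, m', h1, h2⟩⟩

include hcolim in
theorem coherent_of_generating (hqc : ∀ K ∈ S, ToposFin.IsQC K)
    (hiso : ∀ ⦃K L : ToposFin.Sh J⦄, K ∈ S → Nonempty (K ≅ L) → L ∈ S)
    (hgen : ToposFin.IsGenerating S) (hpb : ToposFin.ClosedUnderPullbacks S) :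
    (∀ X : ToposFin.Sh J, X ∈ S ↔ ToposFin.IsCoherent X) ∧
    (∀ X : ToposFin.Sh J, ToposFin.IsFP X → ToposFin.IsCoherent X) := by
  have h1 : ∀ X : ToposFin.Sh J, X ∈ S ↔ ToposFin.IsCoherent X := fun X =>
    ⟨fun h => isCoherent_of_mem_of_closedUnderPullbacks hqc hgen hpb h,
      fun h => mem_of_isCoherent S hcolim hqc hiso hgen h⟩
  refine ⟨h1, fun X hX => ?_⟩
  have hE : ToposFin.HasCoherentGenerators J := by
    intro Y
    obtain ⟨ι, F, π, hF, hπ⟩ := exists_cover_of_isGenerating hgen Y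
    exact ⟨ι, F, π, fun i => (h1 _).1 (hF i), (epi_desc_iff π).2 hπ⟩
  obtain ⟨X₀, X₁, a, b, i, p, h₀, h₁, hip⟩ := exists_presentation hE X hX
  have hQ : coequalizer a b ∈ S := coequalizer_mem S hcolim a b ((h1 _).2 h₁) ((h1 _).2 h₀)
  exact isCoherent_of_retract i p hip ((h1 _).1 hQ)

end

end Groth.Agent.Lib.Helper45.ToposFP
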