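import Groth.Agent.Lib.Helper45.ToposFP6
import Groth.Agent.Lib.Helper45.ToposFin8
import Mathlib.CategoryTheory.Presentable.StrongGenerator

/-!
# Filtered colimits of coherent objects in a sheaf topos with coherent generators
-/

set_option autoImplicit false
set_option linter.style.haveILetI false
set_option linter.unusedSectionVars false

universe u

open CategoryTheory CategoryTheory.Limits Opposite

namespace Groth.Agent.Lib.Helper45.ToposFP

open Groth.Agent.Lib.Helper45

attribute [local instance] Cardinal.fact_isRegular_aleph0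

variable {C : Type u} [SmallCategory C] {J : GrothendieckTopology C}

lemma isCardinalPresentable_of_isFP {X : ToposFin.Sh J} (h : ToposFin.IsFP X) :
    IsCardinalPresentable X Cardinal.aleph0.{u} := by
  refine ⟨fun I _ _ => ⟨fun {D} => ?_⟩⟩
  haveI : IsFiltered I := isFiltered_of_isCardinalFiltered I Cardinal.aleph0.{u}
  haveI : IsIso (colimit.post D (coyoneda.obj (op X))) := (isIso_iff_bijective _).2 (h I D)
  exact preservesColimit_of_isIso_post _ _

lemma isFP_of_isCardinalPresentable {X : ToposFin.Sh J}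
    (h : IsCardinalPresentable X Cardinal.aleph0.{u}) : ToposFin.IsFP X := by
  intro I _ _ D
  haveI : IsCardinalFiltered I Cardinal.aleph0.{u} :=
    (isCardinalFiltered_aleph0_iff I).2 inferInstance
  haveI := preservesColimitsOfShape_of_isCardinalPresentable X Cardinal.aleph0.{u} I
  have : IsIso (colimit.post D (coyoneda.obj (op X))) := inferInstance
  exact (isIso_iff_bijective _).1 this

theorem exists_filtered_coherent (hE : ToposFin.HasCoherentGenerators J)
    (h3 : ∀ X : ToposFin.Sh J, ToposFin.IsFP X → ToposFin.IsCoherent X) (X : ToposFin.Sh J) :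
    ∃ (I : Type u) (_ : SmallCategory I) (_ : IsFiltered I) (D : I ⥤ ToposFin.Sh J),
      (∀ i, ToposFin.IsCoherent (D.obj i)) ∧ Nonempty (X ≅ colimit D) := by
  have hQC := hasQCGenerators_of_hasCoherentGenerators hE
  choose ιV FV πV hFV hπV using fun V : C => hE (ToposFin.eps J V)
  let A := Σ V : C, ιV V
  let Gf : A → ToposFin.Sh J := fun p => FV p.1 p.2
  let P : ObjectProperty (ToposFin.Sh J) := ObjectProperty.ofObj Gf
  have hcover : ∀ Y : ToposFin.Sh J, JEpi (fun q : Σ (p : Σ V : C, Y.obj.obj (op V)), ιV p.1 =>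
      πV q.1.1 q.2 ≫ secMap q.1.2) :=
    fun Y => (jEpi_secMap Y).comp (fun p i => πV p.1 i) (fun p => (epi_desc_iff _).1 (hπV p.1))
  have hS₂ : P ≤ isCardinalPresentable (ToposFin.Sh J) Cardinal.aleph0.{u} := by
    rintro _ ⟨p⟩
    exact isCardinalPresentable_of_isFP (isFP_of_isCoherent hQC (hFV p.1 p.2))
  have hS₁ : P.IsStrongGenerator := by
    rw [ObjectProperty.isStrongGenerator_iff]
    refine ⟨fun Y Z f g hfg => hcover Y f g fun q => ?_, fun Y Z i _ hi => ?_⟩
    · exact hfg _ (ObjectProperty.ofObj_apply Gf ⟨q.1.1, q.2⟩) _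
    · haveI : Epi i := by
        refine ⟨fun {W} a b hab => hcover Z a b fun q => ?_⟩
        obtain ⟨f, hf⟩ := hi _ (ObjectProperty.ofObj_apply Gf ⟨q.1.1, q.2⟩)
          (πV q.1.1 q.2 ≫ secMap q.1.2)
        dsimp only at hf ⊢
        rw [← hf, Category.assoc, Category.assoc, hab]
      exact isIso_of_mono_of_epi i
  have hd := hS₁.isDense_colimitsCardinalClosure_ι hS₂
  have hgen : (P.colimitsCardinalClosure Cardinal.aleph0.{u}).IsCardinalFilteredGenerator
      Cardinal.aleph0.{u} :=
    IsCardinalFilteredGenerator.of_isDense_ι _ _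
      (P.colimitsCardinalClosure_le_isCardinalPresentable hS₂)
  obtain ⟨I, hI1, hI2, ⟨pres⟩⟩ := hgen.exists_colimitsOfShape X
  haveI : IsFiltered I := isFiltered_of_isCardinalFiltered I Cardinal.aleph0.{u}
  exact ⟨I, hI1, inferInstance, pres.diag,
    fun i => h3 _ (isFP_of_isCardinalPresentable
      (hgen.le_isCardinalPresentable _ (pres.prop_diag_obj i))),
    ⟨pres.isColimit.coconePointUniqueUpToIso (colimit.isColimit _)⟩⟩

theorem main5582 (hE : ToposFin.HasCoherentGenerators J) :
    ((∀ (X₀ X₁ : ToposFin.Sh J) (a b : X₁ ⟶ X₀), ToposFin.IsCoherent X₀ → ToposFin.IsCoherent X₁ →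
        ToposFin.IsCoherent (coequalizer a b)) ↔
      (∀ X : ToposFin.Sh J, ToposFin.IsFP X → ToposFin.IsCoherent X)) ∧
    ((∀ X : ToposFin.Sh J, ∃ (I : Type u) (_ : SmallCategory I) (_ : IsFiltered I)
        (D : I ⥤ ToposFin.Sh J),
        (∀ i, ToposFin.IsCoherent (D.obj i)) ∧ Nonempty (X ≅ colimit D)) ↔
      (∀ X : ToposFin.Sh J, ToposFin.IsFP X → ToposFin.IsCoherent X)) := by
  have hQC := hasQCGenerators_of_hasCoherentGenerators hE
  refine ⟨⟨fun h X hX => ?_, fun h X₀ X₁ a b h₀ h₁ => ?_⟩, ⟨fun h X hX => ?_, fun h X => ?_⟩⟩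
  · obtain ⟨X₀, X₁, a, b, i, p, h₀, h₁, hip⟩ := exists_presentation hE X hX
    exact isCoherent_of_retract i p hip (h X₀ X₁ a b h₀ h₁)
  · apply h
    rw [isFP_iff_fpForm]
    exact fpForm_coequalizer a b ((isFP_iff_fpForm _).1 (isFP_of_isCoherent hQC h₀))
      ((isFP_iff_fpForm _).1 (isFP_of_isCoherent hQC h₁))
  · obtain ⟨I, _, _, D, hD, ⟨e⟩⟩ := h X
    obtain ⟨k, ψ, hψ⟩ := ((isFP_iff_fpForm X).1 hX I D).1 e.hom
    exact isCoherent_of_retract ψ (colimit.ι D k ≫ e.inv)
      (by rw [← Category.assoc, hψ, e.hom_inv_id]) (hD k)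
  · exact exists_filtered_coherent hE h X

end Groth.Agent.Lib.Helper45.ToposFP
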