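import Groth.Prelude.Def_SGA4c
import Mathlib.CategoryTheory.Limits.Shapes.Diagonal
import Mathlib.CategoryTheory.Limits.Shapes.Pullback.Mono
import Mathlib.CategoryTheory.Sites.LocallySurjective
import Mathlib.CategoryTheory.Sites.EpiMono
import Mathlib.CategoryTheory.Sites.Subsheaf
import Mathlib.CategoryTheory.Limits.Types.Pullbacks

/-!
# Finiteness conditions in a sheaf topos: helper library (helper45)

* `JEpi π`: the family `π` is jointly epimorphic (cancellation form); `epi_desc_iff` links it to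
  `Epi (Sigma.desc π)`.
* `LJS π`: the family is locally jointly surjective on sections; `jEpi_iff_ljs`.
* `JEpi.baseChange`: jointly epimorphic families are stable under base change.
* `isQC_iff`, `isQC_of_iso`, `isQC_of_finite_cover`, and the calculus of quasi-compact morphisms.
-/

set_option autoImplicit false
universe w w' u

open CategoryTheory CategoryTheory.Limits Opposite

namespace Groth.Agent.Lib.Helper45

variable {C : Type u} [SmallCategory C] {J : GrothendieckTopology C}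

/-- A family of morphisms with common target is jointly epimorphic. -/
def JEpi {ι : Type w} {X : ToposFin.Sh J} {F : ι → ToposFin.Sh J} (π : ∀ i, F i ⟶ X) : Prop :=
  ∀ ⦃Z : ToposFin.Sh J⦄ (a b : X ⟶ Z), (∀ i, π i ≫ a = π i ≫ b) → a = b

lemma epi_desc_iff {ι : Type w} {X : ToposFin.Sh J} {F : ι → ToposFin.Sh J} [HasCoproduct F]
    (π : ∀ i, F i ⟶ X) : Epi (Sigma.desc π) ↔ JEpi π := by
  constructor
  · intro h Z a b hab
    rw [← cancel_epi (Sigma.desc π)]
    refine Sigma.hom_ext _ _ fun i => ?_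
    simpa using hab i
  · intro h
    refine ⟨fun {Z} a b hab => h a b fun i => ?_⟩
    have := congrArg (fun t => Sigma.ι F i ≫ t) hab
    simpa using this

/-- Locally jointly surjective on sections. -/
def LJS {ι : Type w} {X : ToposFin.Sh J} {F : ι → ToposFin.Sh J} (π : ∀ i, F i ⟶ X) : Prop :=
  ∀ (U : C) (x : X.obj.obj (op U)), ∃ S ∈ J U, ∀ ⦃V : C⦄ (f : V ⟶ U), S f →
    ∃ (i : ι) (y : (F i).obj.obj (op V)), (π i).hom.app (op V) y = X.obj.map f.op x

lemma jEpi_of_ljs {ι : Type w} {X : ToposFin.Sh J} {F : ι → ToposFin.Sh J} (π : ∀ i, F i ⟶ X)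
    (h : LJS π) : JEpi π := by
  intro Z a b hab
  ext U x
  obtain ⟨S, hS, hSx⟩ := h U.unop x
  apply (((isSheaf_iff_isSheaf_of_type _ _).1 Z.2).isSeparated _ hS).ext
  intro V f hf
  obtain ⟨i, y, hy⟩ := hSx f hf
  have h₁ := ConcreteCategory.congr_hom (a.hom.naturality f.op) x
  have h₂ := ConcreteCategory.congr_hom (b.hom.naturality f.op) x
  dsimp at h₁ h₂ ⊢
  rw [← h₁, ← h₂, ← hy]
  exact ConcreteCategory.congr_hom (congr_app ((sheafToPresheaf J _).congr_map (hab i)) (op V)) y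

/-- The union of the images of a family, as a subfunctor. -/
def imgUnion {ι : Type w} {X : ToposFin.Sh J} {F : ι → ToposFin.Sh J} (π : ∀ i, F i ⟶ X) :
    Subfunctor X.obj := ⨆ i, Subfunctor.range (π i).hom

lemma ljs_iff_sheafify_eq_top {ι : Type w} {X : ToposFin.Sh J} {F : ι → ToposFin.Sh J}
    (π : ∀ i, F i ⟶ X) : LJS π ↔ (imgUnion π).sheafify J = ⊤ := by
  constructor
  · intro h
    rw [eq_top_iff]
    intro U x _
    obtain ⟨S, hS, hSx⟩ := h U.unop x
    refine J.superset_covering ?_ hS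
    intro V f hf
    obtain ⟨i, y, hy⟩ := hSx f hf
    change _ ∈ (imgUnion π).obj _
    rw [imgUnion, Subfunctor.iSup_obj]
    exact Set.mem_iUnion.2 ⟨i, y, hy⟩
  · intro h U x
    have hx : x ∈ ((imgUnion π).sheafify J).obj (op U) := by rw [h]; trivial
    refine ⟨_, hx, ?_⟩
    intro V f hf
    change _ ∈ (imgUnion π).obj _ at hf
    rw [imgUnion, Subfunctor.iSup_obj] at hf
    obtain ⟨i, y, hy⟩ := Set.mem_iUnion.1 hf
    exact ⟨i, y, hy⟩

lemma ljs_of_jEpi {ι : Type w} {X : ToposFin.Sh J} {F : ι → ToposFin.Sh J} (π : ∀ i, F i ⟶ X)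
    (h : JEpi π) : LJS π := by
  rw [ljs_iff_sheafify_eq_top]
  have hX : Presieve.IsSheaf J X.obj := (isSheaf_iff_isSheaf_of_type _ _).1 X.2
  let G := (imgUnion π).sheafify J
  let I : ToposFin.Sh J := ⟨G.toFunctor, (isSheaf_iff_isSheaf_of_type _ _).2
    (Subfunctor.sheafify_isSheaf _ hX)⟩
  let ι' : I ⟶ X := ObjectProperty.homMk G.ι
  have hle : ∀ i, Subfunctor.range (π i).hom ≤ G := fun i =>
    (le_iSup (fun i => Subfunctor.range (π i).hom) i).trans (Subfunctor.le_sheafify J _)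
  let l : ∀ i, F i ⟶ I := fun i => ObjectProperty.homMk
    (Subfunctor.lift (π i).hom (by
      intro U x hx
      exact hle i U hx))
  have hl : ∀ i, l i ≫ ι' = π i := fun i => by
    apply Sheaf.hom_ext
    rfl
  have hmono : Mono ι' := by
    have : Mono ((sheafToPresheaf J (Type u)).map ι') := inferInstanceAs (Mono G.ι)
    exact (sheafToPresheaf J (Type u)).mono_of_mono_map this
  have hepi : Epi ι' := by
    refine ⟨fun {Z} a b hab => h a b fun i => ?_⟩
    rw [← hl i, Category.assoc, Category.assoc, hab]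
  have hiso : IsIso ι' := isIso_of_mono_of_epi ι'
  rw [Subfunctor.eq_top_iff_isIso]
  exact inferInstanceAs (IsIso ((sheafToPresheaf J (Type u)).map ι'))

lemma jEpi_iff_ljs {ι : Type w} {X : ToposFin.Sh J} {F : ι → ToposFin.Sh J} (π : ∀ i, F i ⟶ X) :
    JEpi π ↔ LJS π := ⟨ljs_of_jEpi π, jEpi_of_ljs π⟩

lemma exists_section_of_isPullback {P A B X : ToposFin.Sh J} {fst : P ⟶ A} {snd : P ⟶ B}
    {f : A ⟶ X} {g : B ⟶ X} (sq : IsPullback fst snd f g) (U : C)
    (a : A.obj.obj (op U)) (b : B.obj.obj (op U))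
    (hab : f.hom.app (op U) a = g.hom.app (op U) b) :
    ∃ p : P.obj.obj (op U), fst.hom.app (op U) p = a ∧ snd.hom.app (op U) p = b := by
  have sq' := sq.map (sheafToPresheaf J (Type u) ⋙ (evaluation Cᵒᵖ (Type u)).obj (op U))
  exact Types.exists_of_isPullback sq' a b hab

/-- Jointly epimorphic families are stable under base change. -/
lemma JEpi.baseChange {ι : Type w} {X X' : ToposFin.Sh J} {F : ι → ToposFin.Sh J}
    {π : ∀ i, F i ⟶ X} (h : JEpi π) (g : X' ⟶ X) {P : ι → ToposFin.Sh J}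
    (fst : ∀ i, P i ⟶ F i) (snd : ∀ i, P i ⟶ X')
    (sq : ∀ i, IsPullback (fst i) (snd i) (π i) g) : JEpi snd := by
  rw [jEpi_iff_ljs] at h ⊢
  intro U x'
  obtain ⟨S, hS, hSx⟩ := h U (g.hom.app (op U) x')
  refine ⟨S, hS, fun V f hf => ?_⟩
  obtain ⟨i, y, hy⟩ := hSx f hf
  have hnat := ConcreteCategory.congr_hom (g.hom.naturality f.op) x'
  dsimp at hnat
  obtain ⟨p, -, hp⟩ := exists_section_of_isPullback (sq i) V y (X'.obj.map f.op x')
    (by rw [hy, hnat])
  exact ⟨i, p, hp⟩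

/-- Base change along the canonical pullbacks `pullback (π i) g`. -/
lemma JEpi.pullback_snd {ι : Type w} {X X' : ToposFin.Sh J} {F : ι → ToposFin.Sh J}
    {π : ∀ i, F i ⟶ X} (h : JEpi π) (g : X' ⟶ X) :
    JEpi (fun i => pullback.snd (π i) g) :=
  h.baseChange g (fun i => pullback.fst (π i) g) _ fun i => IsPullback.of_hasPullback (π i) g

/-- Base change along the canonical pullbacks `pullback g (π i)`. -/
lemma JEpi.pullback_fst {ι : Type w} {X X' : ToposFin.Sh J} {F : ι → ToposFin.Sh J}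
    {π : ∀ i, F i ⟶ X} (h : JEpi π) (g : X' ⟶ X) :
    JEpi (fun i => pullback.fst g (π i)) :=
  h.baseChange g (fun i => pullback.snd g (π i)) _ fun i =>
    (IsPullback.of_hasPullback g (π i)).flip

/-- Composition of jointly epimorphic families. -/
lemma JEpi.comp {ι : Type w} {κ : ι → Type w'} {X : ToposFin.Sh J} {F : ι → ToposFin.Sh J}
    {π : ∀ i, F i ⟶ X} (h : JEpi π) {G : ∀ i, κ i → ToposFin.Sh J}
    (ρ : ∀ i (k : κ i), G i k ⟶ F i) (hρ : ∀ i, JEpi (ρ i)) :
    JEpi (fun p : Σ i, κ i => ρ p.1 p.2 ≫ π p.1) := by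
  intro Z a b hab
  refine h a b fun i => hρ i _ _ fun k => ?_
  simpa using hab ⟨i, k⟩

/-- If a family of composites is jointly epimorphic, so is the outer family. -/
lemma JEpi.of_comp {ι : Type w} {κ : Type w'} {X : ToposFin.Sh J} {F : ι → ToposFin.Sh J}
    {π : ∀ i, F i ⟶ X} {G : κ → ToposFin.Sh J} (a : κ → ι) (ρ : ∀ k, G k ⟶ F (a k))
    (h : JEpi (fun k => ρ k ≫ π (a k))) : JEpi π := by
  intro _ x y hxy
  refine h x y fun k => ?_
  simp only [Category.assoc]
  rw [hxy]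

lemma JEpi.of_reindex {ι : Type w} {κ : Type w'} {X : ToposFin.Sh J} {F : ι → ToposFin.Sh J}
    {π : ∀ i, F i ⟶ X} (a : κ → ι) (h : JEpi (fun k => π (a k))) : JEpi π := by
  intro Z x y hxy
  exact h x y fun k => hxy (a k)

lemma JEpi.reindex_of_surjective {ι : Type w} {κ : Type w'} {X : ToposFin.Sh J}
    {F : ι → ToposFin.Sh J} {π : ∀ i, F i ⟶ X} (h : JEpi π) (a : κ → ι)
    (ha : Function.Surjective a) : JEpi (fun k => π (a k)) := by
  intro Z x y hxy
  refine h x y fun i => ?_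
  obtain ⟨k, rfl⟩ := ha i
  exact hxy k

lemma jEpi_of_epi {X Y : ToposFin.Sh J} (f : X ⟶ Y) [Epi f] :
    JEpi (fun _ : PUnit.{w + 1} => f) := by
  intro Z a b hab
  rw [← cancel_epi f]
  exact hab PUnit.unit

lemma epi_of_jEpi_punit {X Y : ToposFin.Sh J} (f : X ⟶ Y)
    (h : JEpi (fun _ : PUnit.{w + 1} => f)) : Epi f :=
  ⟨fun {Z} a b hab => h a b fun _ => hab⟩

/-! ### Quasi-compact objects -/

lemma isQC_iff (X : ToposFin.Sh J) : ToposFin.IsQC X ↔
    ∀ (ι : Type u) (F : ι → ToposFin.Sh J) (π : ∀ i, F i ⟶ X), JEpi π →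
      ∃ s : Finset ι, JEpi (fun i : s => π i) := by
  unfold ToposFin.IsQC
  constructor
  · intro h ι F π hπ
    obtain ⟨s, hs⟩ := h ι F π ((epi_desc_iff π).2 hπ)
    exact ⟨s, (epi_desc_iff _).1 hs⟩
  · intro h ι F π hπ
    obtain ⟨s, hs⟩ := h ι F π ((epi_desc_iff π).1 hπ)
    exact ⟨s, (epi_desc_iff _).2 hs⟩

lemma isQC_of_iso {X X' : ToposFin.Sh J} (e : X ≅ X') (hX : ToposFin.IsQC X) :
    ToposFin.IsQC X' := by
  rw [isQC_iff] at hX ⊢
  intro ι F π hπ
  have h1 : JEpi (fun i => π i ≫ e.inv) := by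
    intro Z a b hab
    have := hπ (e.inv ≫ a) (e.inv ≫ b) fun i => by simpa using hab i
    exact (cancel_epi e.inv).1 this
  obtain ⟨s, hs⟩ := hX ι F _ h1
  refine ⟨s, ?_⟩
  intro Z a b hab
  have := hs (e.hom ≫ a) (e.hom ≫ b) fun i => by simpa using hab i
  exact (cancel_epi e.hom).1 this

/-- An object covered by a finite family of quasi-compact objects is quasi-compact. -/
lemma isQC_of_finite_cover {κ : Type w} [Finite κ] {Y : ToposFin.Sh J} {W : κ → ToposFin.Sh J}
    (w : ∀ k, W k ⟶ Y) (hw : JEpi w) (hW : ∀ k, ToposFin.IsQC (W k)) : ToposFin.IsQC Y := by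
  classical
  rw [isQC_iff]
  intro ι F π hπ
  have hk : ∀ k, ∃ s : Finset ι, JEpi (fun i : s => pullback.fst (w k) (π i)) := by
    intro k
    exact (isQC_iff _).1 (hW k) ι _ _ (hπ.pullback_fst (w k))
  choose s hs using hk
  have := Fintype.ofFinite κ
  refine ⟨Finset.univ.biUnion s, ?_⟩
  intro Z a b hab
  refine hw a b fun k => hs k _ _ fun i => ?_
  have hi : (i : ι) ∈ Finset.univ.biUnion s :=
    Finset.mem_biUnion.2 ⟨k, Finset.mem_univ k, i.2⟩
  have := hab ⟨i, hi⟩
  dsimp only at this ⊢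
  rw [← Category.assoc, ← Category.assoc, pullback.condition, Category.assoc, Category.assoc, this]

/-! ### Quasi-compact morphisms -/

lemma isQC_of_isPullback {X Y Y' P : ToposFin.Sh J} {f : X ⟶ Y} (hf : ToposFin.IsQCHom f)
    (s : Y' ⟶ Y) (hY' : ToposFin.IsQC Y') {a : P ⟶ X} {b : P ⟶ Y'}
    (sq : IsPullback a b f s) : ToposFin.IsQC P :=
  isQC_of_iso sq.isoPullback.symm (hf Y' s hY')

lemma isQCHom_of_isPullback {X Y W P : ToposFin.Sh J} {f : X ⟶ Y} (hf : ToposFin.IsQCHom f)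
    {h : W ⟶ Y} {a : P ⟶ X} {b : P ⟶ W} (sq : IsPullback a b f h) : ToposFin.IsQCHom b := by
  intro Y' t hY'
  exact isQC_of_isPullback hf (t ≫ h) hY' ((IsPullback.of_hasPullback b t).paste_horiz sq)

lemma isQCHom_comp {X Y Z : ToposFin.Sh J} {f : X ⟶ Y} {g : Y ⟶ Z} (hf : ToposFin.IsQCHom f)
    (hg : ToposFin.IsQCHom g) : ToposFin.IsQCHom (f ≫ g) := by
  intro Z' s hZ'
  have hP : ToposFin.IsQC (pullback g s) := hg Z' s hZ'
  exact isQC_of_isPullback hf (pullback.fst g s) hP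
    (IsPullback.of_bot' (IsPullback.of_hasPullback (f ≫ g) s) (IsPullback.of_hasPullback g s))

lemma isQCHom_of_isIso {X Y : ToposFin.Sh J} (f : X ⟶ Y) [IsIso f] : ToposFin.IsQCHom f := by
  intro Y' g hY'
  exact isQC_of_iso (asIso (pullback.snd f g)).symm hY'

lemma isQCHom_of_comp_mono {A B B' : ToposFin.Sh J} (k : A ⟶ B) (j : B ⟶ B') [Mono j]
    (h : ToposFin.IsQCHom (k ≫ j)) : ToposFin.IsQCHom k := by
  intro Y' t hY'
  have sq : IsPullback (pullback.fst k t) (pullback.snd k t) (k ≫ j) (t ≫ j) :=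
    IsPullback.of_isLimit (pullbackIsPullbackOfCompMono k t j)
  exact isQC_of_isPullback h (t ≫ j) hY' sq

/-- A morphism from a quasi-compact object to a quasi-separated object is quasi-compact. -/
lemma isQCHom_of_isQC_of_isQS {A B : ToposFin.Sh J} (f : A ⟶ B) (hA : ToposFin.IsQC A)
    (hB : ToposFin.IsQS B) : ToposFin.IsQCHom f :=
  fun Y' g hY' => hB A Y' f g hA hY'

lemma isQC_of_isPullback_of_isQS {X A B P : ToposFin.Sh J} (hX : ToposFin.IsQS X)
    {a : A ⟶ X} {b : B ⟶ X} {p : P ⟶ A} {q : P ⟶ B} (sq : IsPullback p q a b)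
    (hA : ToposFin.IsQC A) (hB : ToposFin.IsQC B) : ToposFin.IsQC P :=
  isQC_of_iso sq.isoPullback.symm (hX A B a b hA hB)

/-- If `g` is covered (on the source) by finitely many morphisms `f k` with `f k ≫ g`
quasi-compact, then `g` is quasi-compact. -/
lemma isQCHom_of_finite_cover_of_source {κ : Type w} [Finite κ] {Y Z : ToposFin.Sh J} (g : Y ⟶ Z)
    {X : κ → ToposFin.Sh J} (f : ∀ k, X k ⟶ Y) (hf : JEpi f)
    (h : ∀ k, ToposFin.IsQCHom (f k ≫ g)) : ToposFin.IsQCHom g := by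
  intro Z' t hZ'
  refine isQC_of_finite_cover (fun k => pullback.snd (f k) (pullback.fst g t))
    (hf.pullback_snd _) fun k => ?_
  exact isQC_of_isPullback (h k) t hZ'
    ((IsPullback.of_hasPullback (f k) (pullback.fst g t)).paste_vert
      (IsPullback.of_hasPullback g t))

end Groth.Agent.Lib.Helper45
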