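import Groth.Agent.Lib.Helper45.ToposFin10a

/-!
# Finiteness conditions in a sheaf topos, part 10 (helper45): quasi-separated morphisms out of coproducts
-/

set_option autoImplicit false
set_option backward.isDefEq.respectTransparency false
universe w w' v u

open CategoryTheory CategoryTheory.Limits Opposite

namespace Groth.Agent.Lib.Helper45

variable {C : Type u} [SmallCategory C] {J : GrothendieckTopology C}

/-- locality on the target for covers by quasi-compact morphisms (no generators needed). -/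
lemma isQCHom_of_local_on_target_of_qc_cover {X Y : ToposFin.Sh J} (f : X ⟶ Y) {ι : Type u}
    {Yi : ι → ToposFin.Sh J} (g : ∀ i, Yi i ⟶ Y) (hg : JEpi g)
    (hgqc : ∀ i, ToposFin.IsQCHom (g i))
    (h : ∀ i, ToposFin.IsQCHom (pullback.snd f (g i))) : ToposFin.IsQCHom f := by
  intro Y' t hY'
  obtain ⟨s, hs⟩ := (isQC_iff Y').1 hY' _ _ _ (hg.pullback_snd t)
  refine isQC_pullback_of_finite_cover_right f t _ hs fun i => ?_
  exact isQC_pullback_of_eq_comp (h i) (hgqc i Y' t hY') _ (pullback.fst (g i) t)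
    pullback.condition.symm

lemma isQCHom_of_isEmptyObj {W B : ToposFin.Sh J} (f : W ⟶ B) (hW : IsEmptyObj W) :
    ToposFin.IsQCHom f :=
  fun _ g _ => isQC_of_isEmptyObj (hW.of_hom (pullback.fst f g))

lemma isQSHom_of_mono {X Y : ToposFin.Sh J} (f : X ⟶ Y) [Mono f] : ToposFin.IsQSHom f := by
  have : IsIso (pullback.diagonal f) := by
    rw [pullback.isIso_diagonal_iff]; infer_instance
  exact isQCHom_of_isIso _

lemma isQSHom_comp {X Y Z : ToposFin.Sh J} {f : X ⟶ Y} {g : Y ⟶ Z} (hf : ToposFin.IsQSHom f)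
    (hg : ToposFin.IsQSHom g) : ToposFin.IsQSHom (f ≫ g) := by
  unfold ToposFin.IsQSHom at hf hg ⊢
  rw [pullback.diagonal_comp]
  refine isQCHom_comp hf (isQCHom_comp (isQCHom_of_isIso _) ?_)
  exact isQCHom_of_isPullback hg (IsPullback.of_hasPullback _ _)

/-- `pullback.map` of two quasi-compact morphisms over the identity is quasi-compact. -/
lemma isQCHom_pullback_map {A A' B B' Y : ToposFin.Sh J} (a : A ⟶ Y) (b : B ⟶ Y) (α : A' ⟶ A)
    (β : B' ⟶ B) (hα : ToposFin.IsQCHom α) (hβ : ToposFin.IsQCHom β) :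
    ToposFin.IsQCHom (pullback.map (α ≫ a) (β ≫ b) a b α β (𝟙 Y) (by simp) (by simp)) := by
  have e : pullback.map (α ≫ a) (β ≫ b) (α ≫ a) b (𝟙 _) β (𝟙 Y)
      (by simp) (by simp) ≫ pullback.map (α ≫ a) b a b α (𝟙 B) (𝟙 Y) (by simp) (by simp) =
      pullback.map (α ≫ a) (β ≫ b) a b α β (𝟙 Y) (by simp) (by simp) := by
    apply pullback.hom_ext <;> simp
  rw [← e]
  exact isQCHom_comp (isQCHom_of_isPullback hβ (isPullback_map_right β (α ≫ a) b))
    (isQCHom_of_isPullback hα (isPullback_map_left α a b))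

/-- S5581: quasi-separatedness can be checked on the summands of the source. -/
lemma isQSHom_cofan_desc_iff {Y : ToposFin.Sh J} {ι : Type u} (X : ι → ToposFin.Sh J)
    (c : Cofan X) (hc : IsColimit c) (f : c.pt ⟶ Y) :
    ToposFin.IsQSHom f ↔ ∀ i, ToposFin.IsQSHom (c.inj i ≫ f) := by
  constructor
  · intro hf i
    have := mono_cofan_inj c hc i
    exact isQSHom_comp (isQSHom_of_mono (c.inj i)) hf
  · intro h
    refine isQCHom_of_local_on_target_of_qc_cover (pullback.diagonal f)
      (fun p : ι × ι => pullback.map (c.inj p.1 ≫ f) (c.inj p.2 ≫ f) f f (c.inj p.1) (c.inj p.2)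
        (𝟙 Y) (by simp) (by simp))
      (jEpi_pullback_map f f c.inj c.inj (jEpi_cofan_inj c hc) (jEpi_cofan_inj c hc))
      (fun p => isQCHom_pullback_map f f _ _ (isQCHom_cofan_inj c hc p.1)
        (isQCHom_cofan_inj c hc p.2)) fun p => ?_
    let k : pullback (c.inj p.1) (c.inj p.2) ⟶ pullback (c.inj p.1 ≫ f) (c.inj p.2 ≫ f) :=
      pullback.map (c.inj p.1) (c.inj p.2) (c.inj p.1 ≫ f) (c.inj p.2 ≫ f) (𝟙 _) (𝟙 _) f
        (by simp) (by simp)
    have e : pullback.snd (pullback.diagonal f) (pullback.map (c.inj p.1 ≫ f) (c.inj p.2 ≫ f) f f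
        (c.inj p.1) (c.inj p.2) (𝟙 Y) (by simp) (by simp)) =
        (pullbackDiagonalMapIdIso (c.inj p.1) (c.inj p.2) f).hom ≫ k := by
      rw [← Iso.inv_comp_eq]
      apply pullback.hom_ext <;> simp [k]
    rw [e]
    refine isQCHom_comp (isQCHom_of_isIso _) ?_
    obtain ⟨i, j⟩ := p
    by_cases hij : i = j
    · subst hij
      have := mono_cofan_inj c hc i
      have hiso : IsIso (pullback.diagonal (c.inj i)) := by
        rw [pullback.isIso_diagonal_iff]; infer_instance
      have hk : k = inv (pullback.diagonal (c.inj i)) ≫ pullback.diagonal (c.inj i ≫ f) := by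
        rw [IsIso.eq_inv_comp]
        apply pullback.hom_ext <;> simp [k]
      rw [hk]
      exact isQCHom_comp (isQCHom_of_isIso _) (h i)
    · exact isQCHom_of_isEmptyObj k
        (isEmptyObj_of_disjoint c hc hij (pullback.fst _ _) (pullback.snd _ _) pullback.condition)

end Groth.Agent.Lib.Helper45
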