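import Groth.Agent.Lib.Helper45.ToposFin9

/-!
# Finiteness conditions in a sheaf topos, part 10a (helper45): coprojections are quasi-compact
-/

set_option autoImplicit false
set_option backward.isDefEq.respectTransparency false
universe w w' v u

open CategoryTheory CategoryTheory.Limits Opposite

namespace Groth.Agent.Lib.Helper45

variable {C : Type u} [SmallCategory C] {J : GrothendieckTopology C}

/-- coprojections of a coproduct are quasi-compact morphisms. -/
lemma isQCHom_cofan_inj {ι : Type u} {X : ι → ToposFin.Sh J} (c : Cofan X) (hc : IsColimit c)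
    (i : ι) : ToposFin.IsQCHom (c.inj i) := by
  classical
  intro T t hT
  have hmono : Mono (c.inj i) := mono_cofan_inj c hc i
  let m : ∀ j, pullback (c.inj j) t ⟶ T := fun j => pullback.snd (c.inj j) t
  have hm : JEpi m := (jEpi_cofan_inj c hc).pullback_snd t
  rw [isQC_iff]
  intro κ G ρ hρ
  -- the combined family
  let F : κ ⊕ {j : ι // j ≠ i} → ToposFin.Sh J :=
    Sum.elim G (fun j => pullback (c.inj j.1) t)
  let φ : ∀ p, F p ⟶ T := fun p => match p with
    | Sum.inl k => ρ k ≫ m i
    | Sum.inr j => m j.1
  have hφ : JEpi φ := by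
    intro Z a b hab
    refine hm a b fun j => ?_
    by_cases hj : j = i
    · subst hj
      refine hρ _ _ fun k => ?_
      simpa [φ] using hab (Sum.inl k)
    · exact hab (Sum.inr ⟨j, hj⟩)
  obtain ⟨s, hs⟩ := (isQC_iff T).1 hT _ _ _ hφ
  refine ⟨s.toLeft, ?_⟩
  intro Z a b hab
  have hbc := hs.pullback_snd (m i)
  refine hbc a b fun p => ?_
  obtain ⟨p, hp⟩ := p
  match p, hp with
  | Sum.inl k, hp =>
    have hk : k ∈ s.toLeft := Finset.mem_toLeft.2 hp
    have h1 : pullback.fst (ρ k ≫ m i) (m i) ≫ ρ k = pullback.snd (ρ k ≫ m i) (m i) := by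
      rw [← cancel_mono (m i), Category.assoc]
      exact pullback.condition
    have h2 := hab ⟨k, hk⟩
    change pullback.snd (ρ k ≫ m i) (m i) ≫ a = pullback.snd (ρ k ≫ m i) (m i) ≫ b
    rw [← h1, Category.assoc, Category.assoc, h2]
  | Sum.inr j, hp =>
    have hW : IsEmptyObj (pullback (m j.1) (m i)) := by
      refine isEmptyObj_of_disjoint c hc j.2 (pullback.fst _ _ ≫ pullback.fst _ _)
        (pullback.snd _ _ ≫ pullback.fst _ _) ?_
      simp only [Category.assoc, pullback.condition]
      rw [← Category.assoc, ← Category.assoc, pullback.condition]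
    exact hW _ _

end Groth.Agent.Lib.Helper45
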