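import Groth.Agent.Lib.Helper45.ToposFin

/-!
# Finiteness conditions in a sheaf topos, part 2 (helper45)

Pullback lemmas (diagonal of a base change), locality on the target of quasi-compact morphisms
in a topos with quasi-compact generators, finite refinements.
-/

set_option autoImplicit false
set_option backward.isDefEq.respectTransparency false
universe w w' v u

open CategoryTheory CategoryTheory.Limits Opposite

namespace Groth.Agent.Lib.Helper45

section General
variable {D : Type u} [Category.{v} D] [HasPullbacks D]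

/-- The diagonal of a base change is the base change of the diagonal. -/
lemma isPullback_diagonal_baseChange {X Y Y' : D} (f : X ⟶ Y) (g : Y' ⟶ Y) :
    IsPullback (pullback.fst f g) (pullback.diagonal (pullback.snd f g)) (pullback.diagonal f)
      (pullback.map (pullback.snd f g) (pullback.snd f g) f f (pullback.fst f g)
        (pullback.fst f g) g pullback.condition.symm pullback.condition.symm) := by
  refine ⟨⟨by ext <;> simp⟩, ⟨PullbackCone.IsLimit.mk _ (fun s => s.snd ≫ pullback.fst _ _) ?_ ?_ ?_⟩⟩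
  · intro s
    have h := s.condition
    have h1 := congrArg (fun t => t ≫ pullback.fst f f) h
    simpa using h1.symm
  · intro s
    have h := s.condition
    have h1 := congrArg (fun t => t ≫ pullback.fst f f) h
    have h2 := congrArg (fun t => t ≫ pullback.snd f f) h
    simp at h1 h2
    have key : s.snd ≫ pullback.fst (pullback.snd f g) (pullback.snd f g) =
        s.snd ≫ pullback.snd (pullback.snd f g) (pullback.snd f g) := by
      apply pullback.hom_ext
      · simp [← h1, ← h2]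
      · simp [pullback.condition]
    apply pullback.hom_ext
    · simp
    · simp [key]
  · intro s m h1 h2
    have := congrArg (fun t => t ≫ pullback.fst (pullback.snd f g) (pullback.snd f g)) h2
    simpa using this

/-- The base change of `g` along `X ×_Y X ⟶ Y` is `X' ×_{Y'} X'`. -/
lemma isPullback_diagonalObj_baseChange {X Y Y' : D} (f : X ⟶ Y) (g : Y' ⟶ Y) :
    IsPullback (pullback.fst (pullback.snd f g) (pullback.snd f g) ≫ pullback.snd f g)
      (pullback.map (pullback.snd f g) (pullback.snd f g) f f (pullback.fst f g)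
        (pullback.fst f g) g pullback.condition.symm pullback.condition.symm)
      g (pullback.fst f f ≫ f) := by
  refine ⟨⟨by simp [pullback.condition]⟩, ⟨PullbackCone.IsLimit.mk _
    (fun s => pullback.lift
      (pullback.lift (s.snd ≫ pullback.fst f f) s.fst (by simpa using s.condition.symm))
      (pullback.lift (s.snd ≫ pullback.snd f f) s.fst
        (by simpa [pullback.condition] using s.condition.symm))
      (by simp)) ?_ ?_ ?_⟩⟩
  · intro s
    simp
  · intro s
    apply pullback.hom_ext <;> simp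
  · intro s m h1 h2
    have h2a := congrArg (fun t => t ≫ pullback.fst f f) h2
    have h2b := congrArg (fun t => t ≫ pullback.snd f f) h2
    simp at h2a h2b
    apply pullback.hom_ext
    · apply pullback.hom_ext
      · simpa using h2a
      · simpa using h1
    · apply pullback.hom_ext
      · simpa using h2b
      · simpa [pullback.condition] using h1

lemma isPullback_map_left {A' A B Y : D} (α : A' ⟶ A) (a : A ⟶ Y) (b : B ⟶ Y) :
    IsPullback (pullback.fst (α ≫ a) b)
      (pullback.map (α ≫ a) b a b α (𝟙 B) (𝟙 Y) (by simp) (by simp)) α (pullback.fst a b) := by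
  refine IsPullback.of_bot (h₃₁ := b) (v₂₁ := pullback.snd a b) (v₂₂ := a) ?_ (by simp)
    (IsPullback.of_hasPullback a b)
  have : pullback.map (α ≫ a) b a b α (𝟙 B) (𝟙 Y) (by simp) (by simp) ≫ pullback.snd a b =
      pullback.snd (α ≫ a) b := by simp
  rw [this]
  exact IsPullback.of_hasPullback (α ≫ a) b

lemma isPullback_map_right {A B' B Y : D} (β : B' ⟶ B) (a : A ⟶ Y) (b : B ⟶ Y) :
    IsPullback (pullback.snd a (β ≫ b))
      (pullback.map a (β ≫ b) a b (𝟙 A) β (𝟙 Y) (by simp) (by simp)) β (pullback.snd a b) := by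
  refine IsPullback.of_bot (h₃₁ := a) (v₂₁ := pullback.fst a b) (v₂₂ := b) ?_ (by simp)
    (IsPullback.of_hasPullback a b).flip
  have : pullback.map a (β ≫ b) a b (𝟙 A) β (𝟙 Y) (by simp) (by simp) ≫ pullback.fst a b =
      pullback.fst a (β ≫ b) := by simp
  rw [this]
  exact (IsPullback.of_hasPullback a (β ≫ b)).flip

end General

variable {C : Type u} [SmallCategory C] {J : GrothendieckTopology C}

lemma isQS_of_iso {X X' : ToposFin.Sh J} (e : X ≅ X') (hX : ToposFin.IsQS X) :
    ToposFin.IsQS X' := by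
  intro A B a b hA hB
  have h := hX A B (a ≫ e.inv) (b ≫ e.inv) hA hB
  have sq : IsPullback (pullback.fst a b) (pullback.snd a b) (a ≫ e.inv) (b ≫ e.inv) :=
    IsPullback.of_isLimit (pullbackIsPullbackOfCompMono a b e.inv)
  exact isQC_of_iso sq.isoPullback.symm h

lemma isQC_pullback_of_isPullback {X Y T P : ToposFin.Sh J} {f : X ⟶ Y} {t : T ⟶ Y}
    {a : P ⟶ X} {b : P ⟶ T} (sq : IsPullback a b f t) (hP : ToposFin.IsQC P) :
    ToposFin.IsQC (pullback f t) :=
  isQC_of_iso sq.isoPullback hP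

lemma isQCHom_pullback_snd_of_isPullback {X Y W P : ToposFin.Sh J} {f : X ⟶ Y} {h : W ⟶ Y}
    {a : P ⟶ X} {b : P ⟶ W} (sq : IsPullback a b f h) (hb : ToposFin.IsQCHom b) :
    ToposFin.IsQCHom (pullback.snd f h) := by
  rw [← sq.isoPullback_inv_snd]
  exact isQCHom_comp (isQCHom_of_isIso _) hb

/-- L3 -/
lemma isQC_pullback_of_eq_comp {X Y Y₁ T : ToposFin.Sh J} {f : X ⟶ Y} {g : Y₁ ⟶ Y}
    (h : ToposFin.IsQCHom (pullback.snd f g)) (hT : ToposFin.IsQC T) (t : T ⟶ Y) (t' : T ⟶ Y₁)
    (ht : t = t' ≫ g) : ToposFin.IsQC (pullback f t) := by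
  subst ht
  have hP : ToposFin.IsQC (pullback (pullback.snd f g) t') := h T t' hT
  exact isQC_pullback_of_isPullback
    ((IsPullback.of_hasPullback (pullback.snd f g) t').paste_horiz
      (IsPullback.of_hasPullback f g)) hP

/-- L5 -/
lemma isQC_pullback_of_finite_cover_right {κ : Type w} [Finite κ] {X Y Y' : ToposFin.Sh J}
    (f : X ⟶ Y) (h : Y' ⟶ Y) {T : κ → ToposFin.Sh J} (π : ∀ k, T k ⟶ Y') (hπ : JEpi π)
    (hqc : ∀ k, ToposFin.IsQC (pullback f (π k ≫ h))) : ToposFin.IsQC (pullback f h) := by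
  refine isQC_of_finite_cover (fun k => pullback.snd (π k) (pullback.snd f h))
    (hπ.pullback_snd _) fun k => ?_
  have sq : IsPullback (pullback.snd (π k) (pullback.snd f h) ≫ pullback.fst f h)
      (pullback.fst (π k) (pullback.snd f h)) f (π k ≫ h) :=
    (IsPullback.of_hasPullback (π k) (pullback.snd f h)).flip.paste_horiz
      (IsPullback.of_hasPullback f h)
  exact isQC_of_iso sq.isoPullback.symm (hqc k)

lemma isQC_pullback_of_finite_cover_left {κ : Type w} [Finite κ] {X Y Y' : ToposFin.Sh J}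
    (f : X ⟶ Y) (h : Y' ⟶ Y) {T : κ → ToposFin.Sh J} (π : ∀ k, T k ⟶ Y') (hπ : JEpi π)
    (hqc : ∀ k, ToposFin.IsQC (pullback (π k ≫ h) f)) : ToposFin.IsQC (pullback h f) := by
  refine isQC_of_iso (pullbackSymmetry f h) ?_
  exact isQC_pullback_of_finite_cover_right f h π hπ fun k =>
    isQC_of_iso (pullbackSymmetry _ _) (hqc k)

/-- L1 -/
lemma isQC_pullback_of_finite_covers {κ : Type w} {μ : Type w'} [Finite κ] [Finite μ]
    {A B Y : ToposFin.Sh J} (a : A ⟶ Y) (b : B ⟶ Y) {A' : κ → ToposFin.Sh J}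
    {B' : μ → ToposFin.Sh J} (α : ∀ k, A' k ⟶ A) (β : ∀ l, B' l ⟶ B) (hα : JEpi α) (hβ : JEpi β)
    (h : ∀ k l, ToposFin.IsQC (pullback (α k ≫ a) (β l ≫ b))) : ToposFin.IsQC (pullback a b) :=
  isQC_pullback_of_finite_cover_left b a α hα fun k =>
    isQC_pullback_of_finite_cover_right (α k ≫ a) b β hβ fun l => h k l

/-- L6 -/
lemma isQC_pullback_of_factor_through_qs {Y₁ Y A B : ToposFin.Sh J} (g₁ : Y₁ ⟶ Y)
    (hg₁ : ToposFin.IsQCHom g₁) (hY₁ : ToposFin.IsQS Y₁) (hA : ToposFin.IsQC A)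
    (hB : ToposFin.IsQC B) (a' : A ⟶ Y₁) (b : B ⟶ Y) : ToposFin.IsQC (pullback (a' ≫ g₁) b) := by
  have hR : ToposFin.IsQC (pullback g₁ b) := hg₁ B b hB
  have hT : ToposFin.IsQC (pullback a' (pullback.fst g₁ b)) := hY₁ _ _ _ _ hA hR
  exact isQC_pullback_of_isPullback
    ((IsPullback.of_hasPullback a' (pullback.fst g₁ b)).paste_vert
      (IsPullback.of_hasPullback g₁ b)) hT

/-! ### Generators -/

lemma exists_qc_cover (hE : ToposFin.HasQCGenerators J) (X : ToposFin.Sh J) :
    ∃ (ι : Type u) (F : ι → ToposFin.Sh J) (π : ∀ i, F i ⟶ X),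
      (∀ i, ToposFin.IsQC (F i)) ∧ JEpi π := by
  obtain ⟨ι, F, π, hF, hπ⟩ := hE X
  exact ⟨ι, F, π, hF, (epi_desc_iff π).1 hπ⟩

lemma hasQCGenerators_of_family {α : Type u} (G : α → ToposFin.Sh J)
    (hG : ∀ a, ToposFin.IsQC (G a))
    (hgen : ∀ X : ToposFin.Sh J, ∃ (ι : Type u) (a : ι → α) (π : ∀ i, G (a i) ⟶ X),
      Epi (Sigma.desc π)) : ToposFin.HasQCGenerators J := by
  intro X
  obtain ⟨ι, a, π, hπ⟩ := hgen X
  exact ⟨ι, fun i => G (a i), π, fun i => hG _, hπ⟩

/-- A quasi-compact object has a finite cover by quasi-compact objects refining a given cover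
of a target. -/
lemma exists_finite_qc_refinement (hE : ToposFin.HasQCGenerators J) {Y' Y : ToposFin.Sh J}
    (hY' : ToposFin.IsQC Y') (t : Y' ⟶ Y) {ι : Type u} {Yi : ι → ToposFin.Sh J}
    (g : ∀ i, Yi i ⟶ Y) (hg : JEpi g) :
    ∃ (κ : Type u) (_ : Finite κ) (T : κ → ToposFin.Sh J) (τ : ∀ k, T k ⟶ Y') (i : κ → ι)
      (y : ∀ k, T k ⟶ Yi (i k)), (∀ k, ToposFin.IsQC (T k)) ∧ JEpi τ ∧
        ∀ k, τ k ≫ t = y k ≫ g (i k) := by
  have h1 : JEpi (fun i => pullback.snd (g i) t) := hg.pullback_snd t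
  choose κ G ρ hG hρ using fun i => exists_qc_cover hE (pullback (g i) t)
  have h2 := h1.comp ρ hρ
  obtain ⟨s, hs⟩ := (isQC_iff Y').1 hY' _ _ _ h2
  refine ⟨s, inferInstance, fun p => G p.1.1 p.1.2, fun p => ρ p.1.1 p.1.2 ≫ pullback.snd (g p.1.1) t,
    fun p => p.1.1, fun p => ρ p.1.1 p.1.2 ≫ pullback.fst (g p.1.1) t, fun p => hG _ _, hs, ?_⟩
  intro p
  simp [pullback.condition]

/-- quasi-compactness of a morphism is local on the target. -/
lemma isQCHom_of_local_on_target (hE : ToposFin.HasQCGenerators J) {X Y : ToposFin.Sh J}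
    (f : X ⟶ Y) {ι : Type u} {Yi : ι → ToposFin.Sh J} (g : ∀ i, Yi i ⟶ Y) (hg : JEpi g)
    (h : ∀ i, ToposFin.IsQCHom (pullback.snd f (g i))) : ToposFin.IsQCHom f := by
  intro Y' t hY'
  obtain ⟨κ, hκ, T, τ, i, y, hT, hτ, hy⟩ := exists_finite_qc_refinement hE hY' t g hg
  refine isQC_pullback_of_finite_cover_right f t τ hτ fun k => ?_
  exact isQC_pullback_of_eq_comp (h (i k)) (hT k) _ (y k) (hy k)

/-- quasi-separatedness of a morphism is stable under base change. -/
lemma isQSHom_pullback_snd {X Y Y' : ToposFin.Sh J} (f : X ⟶ Y) (g : Y' ⟶ Y)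
    (hf : ToposFin.IsQSHom f) : ToposFin.IsQSHom (pullback.snd f g) :=
  isQCHom_of_isPullback hf (isPullback_diagonal_baseChange f g)

/-- quasi-separatedness of a morphism is local on the target. -/
lemma isQSHom_of_local_on_target (hE : ToposFin.HasQCGenerators J) {X Y : ToposFin.Sh J}
    (f : X ⟶ Y) {ι : Type u} {Yi : ι → ToposFin.Sh J} (g : ∀ i, Yi i ⟶ Y) (hg : JEpi g)
    (h : ∀ i, ToposFin.IsQSHom (pullback.snd f (g i))) : ToposFin.IsQSHom f := by
  refine isQCHom_of_local_on_target hE (pullback.diagonal f)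
    (fun i => pullback.map (pullback.snd f (g i)) (pullback.snd f (g i)) f f (pullback.fst f (g i))
        (pullback.fst f (g i)) (g i) pullback.condition.symm pullback.condition.symm)
    (hg.baseChange (pullback.fst f f ≫ f) _ _ fun i => isPullback_diagonalObj_baseChange f (g i))
    fun i => ?_
  exact isQCHom_pullback_snd_of_isPullback (isPullback_diagonal_baseChange f (g i)) (h i)

/-- If `Y` is covered by quasi-separated objects via quasi-compact morphisms, it is
quasi-separated. -/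
lemma isQS_of_qs_cover_qc_maps {Y : ToposFin.Sh J} {ι : Type u} {Yi : ι → ToposFin.Sh J}
    (g : ∀ i, Yi i ⟶ Y) (hg : JEpi g) (hqs : ∀ i, ToposFin.IsQS (Yi i))
    (hqc : ∀ i, ToposFin.IsQCHom (g i)) : ToposFin.IsQS Y := by
  intro A B a b hA hB
  obtain ⟨s, hs⟩ := (isQC_iff A).1 hA _ _ _ (hg.pullback_snd a)
  obtain ⟨t, ht⟩ := (isQC_iff B).1 hB _ _ _ (hg.pullback_snd b)
  refine isQC_pullback_of_finite_covers a b _ _ hs ht fun k l => ?_
  have hAk : ToposFin.IsQC (pullback (g k) a) := hqc k A a hA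
  have hBl : ToposFin.IsQC (pullback (g l) b) := hqc l B b hB
  have e : pullback.snd (g k) a ≫ a = pullback.fst (g k) a ≫ g k := pullback.condition.symm
  have := isQC_pullback_of_factor_through_qs (g k) (hqc k) (hqs k) hAk hBl
    (pullback.fst (g k) a) (pullback.snd (g l) b ≫ b)
  exact isQC_of_iso (pullback.congrHom e.symm rfl) this

/-- generators detect quasi-separatedness. -/
lemma isQS_of_generators {α : Type u} (G : α → ToposFin.Sh J) (hG : ∀ a, ToposFin.IsQC (G a))
    (hgen : ∀ X : ToposFin.Sh J, ∃ (ι : Type u) (a : ι → α) (π : ∀ i, G (a i) ⟶ X),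
      Epi (Sigma.desc π)) (Y : ToposFin.Sh J)
    (h : ∀ (a : α) (s : G a ⟶ Y), ToposFin.IsQCHom s) : ToposFin.IsQS Y := by
  intro A B a b hA hB
  obtain ⟨ι, ai, π, hπ⟩ := hgen A
  obtain ⟨κ, bi, ρ, hρ⟩ := hgen B
  obtain ⟨s, hs⟩ := (isQC_iff A).1 hA _ _ _ ((epi_desc_iff π).1 hπ)
  obtain ⟨t, ht⟩ := (isQC_iff B).1 hB _ _ _ ((epi_desc_iff ρ).1 hρ)
  refine isQC_pullback_of_finite_covers a b _ _ hs ht fun k l => ?_
  exact h _ (π k ≫ a) _ (ρ l ≫ b) (hG _)

/-- L7 -/
lemma jEpi_pullback_map {κ : Type w} {μ : Type w'} {A B Y : ToposFin.Sh J} (a : A ⟶ Y) (b : B ⟶ Y)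
    {A' : κ → ToposFin.Sh J} {B' : μ → ToposFin.Sh J} (α : ∀ k, A' k ⟶ A) (β : ∀ l, B' l ⟶ B)
    (hα : JEpi α) (hβ : JEpi β) :
    JEpi (fun p : κ × μ => pullback.map (α p.1 ≫ a) (β p.2 ≫ b) a b (α p.1) (β p.2) (𝟙 Y)
      (by simp) (by simp)) := by
  have h1 : JEpi (fun k => pullback.map (α k ≫ a) b a b (α k) (𝟙 B) (𝟙 Y) (by simp) (by simp)) :=
    hα.baseChange (pullback.fst a b) _ _ fun k => isPullback_map_left (α k) a b
  have h2 : ∀ k, JEpi (fun l => pullback.map (α k ≫ a) (β l ≫ b) (α k ≫ a) b (𝟙 _) (β l) (𝟙 Y)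
      (by simp) (by simp)) := fun k =>
    hβ.baseChange (pullback.snd (α k ≫ a) b) _ _ fun l => isPullback_map_right (β l) (α k ≫ a) b
  have h3 := h1.comp _ h2
  intro Z x y hxy
  refine h3 x y fun p => ?_
  have := hxy (p.1, p.2)
  have e : pullback.map (α p.1 ≫ a) (β p.2 ≫ b) (α p.1 ≫ a) b (𝟙 _) (β p.2) (𝟙 Y)
      (by simp) (by simp) ≫ pullback.map (α p.1 ≫ a) b a b (α p.1) (𝟙 B) (𝟙 Y) (by simp) (by simp) =
      pullback.map (α p.1 ≫ a) (β p.2 ≫ b) a b (α p.1) (β p.2) (𝟙 Y) (by simp) (by simp) := by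
    apply pullback.hom_ext <;> simp
  simp only [Category.assoc] at this ⊢
  rw [← Category.assoc, e, this, ← e, Category.assoc]

end Groth.Agent.Lib.Helper45
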