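import Groth.Agent.Lib.Helper45.ToposFin2

/-!
# Finiteness conditions in a sheaf topos, part 3 (helper45): quasi-separated morphisms
-/

set_option autoImplicit false
set_option backward.isDefEq.respectTransparency false
universe w w' v u

open CategoryTheory CategoryTheory.Limits Opposite

namespace Groth.Agent.Lib.Helper45

variable {C : Type u} [SmallCategory C] {J : GrothendieckTopology C}

lemma isQSHom_of_comp {X Y Z : ToposFin.Sh J} (f : X ⟶ Y) (g : Y ⟶ Z)
    (h : ToposFin.IsQSHom (f ≫ g)) : ToposFin.IsQSHom f := by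
  unfold ToposFin.IsQSHom at h ⊢
  rw [pullback.diagonal_comp] at h
  exact isQCHom_of_comp_mono _ _ h

lemma isQCHom_of_comp_of_isQSHom {X Y Z : ToposFin.Sh J} (f : X ⟶ Y) (g : Y ⟶ Z)
    (hg : ToposFin.IsQSHom g) (h : ToposFin.IsQCHom (f ≫ g)) : ToposFin.IsQCHom f := by
  have h1 : ToposFin.IsQCHom (pullback.lift (𝟙 X) f (by simp) : X ⟶ pullback (f ≫ g) g) :=
    isQCHom_of_isPullback hg (pullback_lift_diagonal_isPullback f g)
  have h2 : ToposFin.IsQCHom (pullback.snd (f ≫ g) g) :=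
    isQCHom_of_isPullback h (IsPullback.of_hasPullback (f ≫ g) g)
  have h3 := isQCHom_comp h1 h2
  rwa [pullback.lift_snd] at h3

lemma isQSHom_of_isPullback {X Y W P : ToposFin.Sh J} {f : X ⟶ Y} (hf : ToposFin.IsQSHom f)
    {h : W ⟶ Y} {a : P ⟶ X} {b : P ⟶ W} (sq : IsPullback a b f h) : ToposFin.IsQSHom b := by
  have h1 := isQSHom_pullback_snd f h hf
  have e : b = sq.isoPullback.hom ≫ pullback.snd f h := by simp
  rw [e]
  unfold ToposFin.IsQSHom at h1 ⊢
  rw [pullback.diagonal_comp]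
  refine isQCHom_comp ?_ (isQCHom_comp (isQCHom_of_isIso _) ?_)
  · have : Mono sq.isoPullback.hom := inferInstance
    have : IsIso (pullback.diagonal sq.isoPullback.hom) := by
      rw [pullback.isIso_diagonal_iff]; infer_instance
    exact isQCHom_of_isIso _
  · exact isQCHom_of_isPullback h1 (IsPullback.of_hasPullback _ _)

lemma isQS_of_mono {X Y : ToposFin.Sh J} (i : X ⟶ Y) [Mono i] (hY : ToposFin.IsQS Y) :
    ToposFin.IsQS X := by
  intro A B a b hA hB
  have sq : IsPullback (pullback.fst a b) (pullback.snd a b) (a ≫ i) (b ≫ i) :=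
    IsPullback.of_isLimit (pullbackIsPullbackOfCompMono a b i)
  exact isQC_of_iso sq.isoPullback.symm (hY A B _ _ hA hB)

/-- S3070 as a lemma. -/
lemma isQSHom_of_cover_with_qs_products (hE : ToposFin.HasQCGenerators J)
    {X Y : ToposFin.Sh J} (f : X ⟶ Y) {ι : Type u} (Xi : ι → ToposFin.Sh J) (g : ∀ i, Xi i ⟶ X)
    (hg : JEpi g) (hqc : ∀ i, ToposFin.IsQC (Xi i))
    (hqs : ∀ i j, ToposFin.IsQS (pullback (g i ≫ f) (g j ≫ f))) (hX : ToposFin.IsQS X) :
    ToposFin.IsQSHom f := by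
  refine isQCHom_of_local_on_target hE (pullback.diagonal f)
    (fun p : ι × ι => pullback.map (g p.1 ≫ f) (g p.2 ≫ f) f f (g p.1) (g p.2) (𝟙 Y)
      (by simp) (by simp)) (jEpi_pullback_map f f g g hg hg) fun p => ?_
  refine isQCHom_of_isQC_of_isQS _ ?_ (hqs p.1 p.2)
  exact isQC_of_iso (pullbackDiagonalMapIdIso (g p.1) (g p.2) f).symm
    (hX _ _ _ _ (hqc p.1) (hqc p.2))

/-- S3076 (1) as a lemma. -/
lemma isQSHom_of_cover_of_source (hE : ToposFin.HasQCGenerators J) {Y Z : ToposFin.Sh J}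
    (g : Y ⟶ Z) {ι : Type u} (X : ι → ToposFin.Sh J) (f : ∀ i, X i ⟶ Y) (hf : JEpi f)
    (hqc : ∀ i, ToposFin.IsQCHom (f i)) (hqs : ∀ i, ToposFin.IsQSHom (f i ≫ g)) :
    ToposFin.IsQSHom g := by
  refine isQCHom_of_local_on_target hE (pullback.diagonal g)
    (fun p : ι × ι => pullback.map (f p.1 ≫ g) (f p.2 ≫ g) g g (f p.1) (f p.2) (𝟙 Z)
      (by simp) (by simp)) (jEpi_pullback_map g g f f hf hf) fun p => ?_
  -- the canonical map `X_i ×_Y X_j ⟶ X_i ×_Z X_j`
  let c : pullback (f p.1) (f p.2) ⟶ pullback (f p.1 ≫ g) (f p.2 ≫ g) :=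
    pullback.map (f p.1) (f p.2) (f p.1 ≫ g) (f p.2 ≫ g) (𝟙 _) (𝟙 _) g (by simp) (by simp)
  have hc : ToposFin.IsQCHom c := by
    refine isQCHom_of_comp_of_isQSHom c (pullback.fst (f p.1 ≫ g) (f p.2 ≫ g)) ?_ ?_
    · exact isQSHom_of_isPullback (hqs p.2) (IsPullback.of_hasPullback _ _).flip
    · have : c ≫ pullback.fst (f p.1 ≫ g) (f p.2 ≫ g) = pullback.fst (f p.1) (f p.2) := by
        simp [c]
      rw [this]
      exact isQCHom_of_isPullback (hqc p.2) (IsPullback.of_hasPullback _ _).flip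
  have e : pullback.snd (pullback.diagonal g) (pullback.map (f p.1 ≫ g) (f p.2 ≫ g) g g (f p.1)
      (f p.2) (𝟙 Z) (by simp) (by simp)) = (pullbackDiagonalMapIdIso (f p.1) (f p.2) g).hom ≫ c := by
    rw [← Iso.inv_comp_eq]
    apply pullback.hom_ext <;> simp [c]
  rw [e]
  exact isQCHom_comp (isQCHom_of_isIso _) hc

end Groth.Agent.Lib.Helper45
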