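import Groth.Agent.Lib.Helper45.ToposFin4

/-!
# Finiteness conditions in a sheaf topos, part 5 (helper45): inverse image functors
-/

set_option autoImplicit false
set_option backward.isDefEq.respectTransparency false
universe w w' v u

open CategoryTheory CategoryTheory.Limits Opposite

namespace Groth.Agent.Lib.Helper45

variable {C : Type u} [SmallCategory C] {J : GrothendieckTopology C}
variable {D : Type u} [SmallCategory D] {K : GrothendieckTopology D}

/-- A left adjoint preserves jointly epimorphic families. -/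
lemma JEpi.map_of_adjunction {F : ToposFin.Sh K ⥤ ToposFin.Sh J} {R : ToposFin.Sh J ⥤ ToposFin.Sh K}
    (adj : F ⊣ R) {ι : Type w} {X : ToposFin.Sh K} {G : ι → ToposFin.Sh K} {π : ∀ i, G i ⟶ X}
    (h : JEpi π) : JEpi (fun i => F.map (π i)) := by
  intro Z a b hab
  apply (adj.homEquiv X Z).injective
  refine h _ _ fun i => ?_
  rw [← Adjunction.homEquiv_naturality_left, ← Adjunction.homEquiv_naturality_left, hab i]

/-- S5589, nontrivial direction. -/
lemma isQC_map_of_generating {F : ToposFin.Sh K ⥤ ToposFin.Sh J} {R : ToposFin.Sh J ⥤ ToposFin.Sh K}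
    (adj : F ⊣ R) (S : Set (ToposFin.Sh K)) (hgen : ToposFin.IsGenerating S)
    (h : ∀ X ∈ S, ToposFin.IsQC (F.obj X)) {X : ToposFin.Sh K} (hX : ToposFin.IsQC X) :
    ToposFin.IsQC (F.obj X) := by
  obtain ⟨κ, hκ, G, π, hG, hπ⟩ := exists_finite_cover_of_isGenerating hgen hX
  exact isQC_of_finite_cover (fun k => F.map (π k)) (hπ.map_of_adjunction adj) fun k => h _ (hG k)

/-- S5590, quasi-separated part. -/
lemma isQS_map_of_generating {F : ToposFin.Sh K ⥤ ToposFin.Sh J} {R : ToposFin.Sh J ⥤ ToposFin.Sh K}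
    (adj : F ⊣ R) [PreservesFiniteLimits F] (hE' : ToposFin.HasQCGenerators J)
    (S : Set (ToposFin.Sh K)) (hS : ∀ X ∈ S, ToposFin.IsCoherent X)
    (hgen : ToposFin.IsGenerating S) (h : ∀ X ∈ S, ToposFin.IsCoherent (F.obj X))
    {X : ToposFin.Sh K} (hX : ToposFin.IsQS X) : ToposFin.IsQS (F.obj X) := by
  obtain ⟨ι, G, π, hG, hπ⟩ := exists_cover_of_isGenerating hgen X
  have hJE : JEpi (fun i => F.map (π i)) := hπ.map_of_adjunction adj
  refine isQS_of_qs_cover_qc_maps _ hJE (fun i => (h _ (hG i)).2) fun i => ?_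
  refine isQCHom_of_local_on_target hE' (F.map (π i)) _ hJE fun j => ?_
  have sq := (IsPullback.of_hasPullback (π i) (π j)).map F
  refine isQCHom_pullback_snd_of_isPullback sq ?_
  refine isQCHom_of_isQC_of_isQS _ ?_ (h _ (hG j)).2
  exact isQC_map_of_generating adj S hgen (fun X hX => (h X hX).1)
    (hX _ _ _ _ (hS _ (hG i)).1 (hS _ (hG j)).1)

/-- S5591. -/
lemma isQCHom_map_of_coherent {F : ToposFin.Sh K ⥤ ToposFin.Sh J}
    {R : ToposFin.Sh J ⥤ ToposFin.Sh K} (adj : F ⊣ R) [PreservesFiniteLimits F]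
    (S : Set (ToposFin.Sh K)) (hqc : ∀ X ∈ S, ToposFin.IsQC X) (hgen : ToposFin.IsGenerating S)
    (hpb : ToposFin.ClosedUnderPullbacks S)
    (hE' : ToposFin.HasQCGenerators J)
    (hFqc : ∀ X : ToposFin.Sh K, ToposFin.IsQC X → ToposFin.IsQC (F.obj X))
    (hFqs : ∀ X : ToposFin.Sh K, ToposFin.IsQS X → ToposFin.IsQS (F.obj X))
    {X Y : ToposFin.Sh K} (v : X ⟶ Y) (hv : ToposFin.IsQCHom v) :
    ToposFin.IsQCHom (F.map v) := by
  obtain ⟨ι, G, π, hG, hπ⟩ := exists_cover_of_isGenerating hgen Y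
  have hJE : JEpi (fun i => F.map (π i)) := hπ.map_of_adjunction adj
  refine isQCHom_of_local_on_target hE' (F.map v) _ hJE fun i => ?_
  have sq := (IsPullback.of_hasPullback v (π i)).map F
  refine isQCHom_pullback_snd_of_isPullback sq ?_
  refine isQCHom_of_isQC_of_isQS _ (hFqc _ (hv _ (π i) (hqc _ (hG i)))) (hFqs _ ?_)
  exact isQS_of_mem_of_closedUnderPullbacks hqc hgen hpb (hG i)

end Groth.Agent.Lib.Helper45
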