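import Groth.Agent.Lib.Helper45.ToposFin5
import Mathlib.CategoryTheory.Sites.LocallyBijective

/-!
# Finiteness conditions in a sheaf topos, part 6 (helper45): sheaves associated to representables
-/

set_option autoImplicit false
set_option backward.isDefEq.respectTransparency false
universe w w' v u

open CategoryTheory CategoryTheory.Limits Opposite

namespace Groth.Agent.Lib.Helper45

variable {C : Type u} [SmallCategory C] {J : GrothendieckTopology C}

/-- the universal section of `eps J V` over `V`. -/
noncomputable def etaSec (J : GrothendieckTopology C) (V : C) :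
    (ToposFin.eps J V).obj.obj (op V) :=
  (toSheafify J (yoneda.obj V)).app (op V) (𝟙 V)

/-- the morphism `eps J V ⟶ F` attached to a section of `F` over `V`. -/
noncomputable def secMap {F : ToposFin.Sh J} {V : C} (s : F.obj.obj (op V)) :
    ToposFin.eps J V ⟶ F :=
  ((sheafificationAdjunction J (Type u)).homEquiv _ _).symm (yonedaEquiv.symm s)

lemma toSheafify_comp_secMap {F : ToposFin.Sh J} {V : C} (s : F.obj.obj (op V)) :
    toSheafify J (yoneda.obj V) ≫ (secMap s).hom = yonedaEquiv.symm s := by
  have := ((sheafificationAdjunction J (Type u)).homEquiv (yoneda.obj V) F).apply_symm_apply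
    (yonedaEquiv.symm s)
  rw [Adjunction.homEquiv_unit] at this
  exact this

lemma secMap_app_etaSec {F : ToposFin.Sh J} {V : C} (s : F.obj.obj (op V)) :
    (secMap s).hom.app (op V) (etaSec J V) = s := by
  have h := congrArg (fun t => yonedaEquiv t) (toSheafify_comp_secMap s)
  simp only [Equiv.apply_symm_apply] at h
  exact Eq.trans rfl h

lemma eps_hom_ext {F : ToposFin.Sh J} {V : C} (φ ψ : ToposFin.eps J V ⟶ F)
    (h : φ.hom.app (op V) (etaSec J V) = ψ.hom.app (op V) (etaSec J V)) : φ = ψ := by
  apply ((sheafificationAdjunction J (Type u)).homEquiv (yoneda.obj V) F).injective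
  rw [Adjunction.homEquiv_unit, Adjunction.homEquiv_unit]
  apply yonedaEquiv.injective
  exact h

lemma secMap_app_etaSec_eq {F : ToposFin.Sh J} {V : C} (φ : ToposFin.eps J V ⟶ F) :
    secMap (φ.hom.app (op V) (etaSec J V)) = φ :=
  eps_hom_ext _ _ (secMap_app_etaSec _)

/-- restriction of the universal section along `t : W ⟶ V`. -/
lemma toSheafify_app_eq {V W : C} (t : W ⟶ V) :
    (toSheafify J (yoneda.obj V)).app (op W) t = (ToposFin.eps J V).obj.map t.op (etaSec J V) := by
  have h := ConcreteCategory.congr_hom ((toSheafify J (yoneda.obj V)).naturality t.op) (𝟙 V)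
  simp only [types_comp_apply] at h
  rw [etaSec, ← h]
  congr 1
  simp

/-- naturality of sections. -/
lemma map_app_restrict {F G : ToposFin.Sh J} (φ : F ⟶ G) {U V : C} (f : V ⟶ U)
    (x : F.obj.obj (op U)) :
    φ.hom.app (op V) (F.obj.map f.op x) = G.obj.map f.op (φ.hom.app (op U) x) :=
  ConcreteCategory.congr_hom (φ.hom.naturality f.op) x

/-- every section of `eps J V` comes locally from a morphism to `V`. -/
lemma exists_covering_eps_section {V U : C} (y : (ToposFin.eps J V).obj.obj (op U)) :
    ∃ S ∈ J U, ∀ ⦃W : C⦄ (f : W ⟶ U), S f → ∃ t : W ⟶ V,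
      (ToposFin.eps J V).obj.map f.op y = (ToposFin.eps J V).obj.map t.op (etaSec J V) := by
  refine ⟨_, Presheaf.imageSieve_mem J (toSheafify J (yoneda.obj V)) (U := op U) y, ?_⟩
  rintro W f ⟨t, ht⟩
  exact ⟨t, by rw [← ht, toSheafify_app_eq]⟩

/-- the sheaf is covered by representables. -/
lemma jEpi_secMap (X : ToposFin.Sh J) :
    JEpi (fun p : Σ V : C, X.obj.obj (op V) => secMap p.2) := by
  rw [jEpi_iff_ljs]
  intro U x
  refine ⟨⊤, J.top_mem U, fun V f _ => ⟨⟨V, X.obj.map f.op x⟩, etaSec J V, ?_⟩⟩
  exact secMap_app_etaSec _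

end Groth.Agent.Lib.Helper45
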