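import Groth.Agent.Lib.Helper45.ToposFin6
import Mathlib.CategoryTheory.Limits.Yoneda

/-!
# Finiteness conditions in a sheaf topos, part 7 (helper45): quasi-compact sites
-/

set_option autoImplicit false
set_option backward.isDefEq.respectTransparency false
universe w w' v u

open CategoryTheory CategoryTheory.Limits Opposite

namespace Groth.Agent.Lib.Helper45

variable {C : Type u} [SmallCategory C] {J : GrothendieckTopology C}

lemma isQC_eps_of_isQCSite {X : C} (hX : ToposFin.IsQCSite J X) :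
    ToposFin.IsQC (ToposFin.eps J X) := by
  classical
  rw [isQC_iff]
  intro ι F π hπ
  obtain ⟨S, hS, hSx⟩ := (jEpi_iff_ljs π).1 hπ X (etaSec J X)
  obtain ⟨n, V, g, hg, hcov⟩ := hX S hS
  choose i y hy using fun k => hSx (g k) (hg k)
  refine ⟨Finset.univ.image i, ?_⟩
  intro Z a b hab
  apply eps_hom_ext
  apply (((isSheaf_iff_isSheaf_of_type _ _).1 Z.2).isSeparated _ hcov).ext
  intro W f hf
  obtain ⟨k, e, rfl⟩ := (Sieve.mem_ofArrows_iff V g f).1 hf
  have hk : i k ∈ Finset.univ.image i := Finset.mem_image.2 ⟨k, Finset.mem_univ k, rfl⟩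
  have h1 := hab ⟨i k, hk⟩
  have h2 : (π (i k) ≫ a).hom.app (op (V k)) (y k) = (π (i k) ≫ b).hom.app (op (V k)) (y k) := by
    rw [h1]
  simp only [ObjectProperty.FullSubcategory.comp_hom, NatTrans.comp_app, types_comp_apply] at h2
  rw [hy k, map_app_restrict, map_app_restrict] at h2
  simp only [op_comp, Functor.map_comp, types_comp_apply]
  rw [h2]

/-- the morphism `eps J V ⟶ eps J X` induced by `f : V ⟶ X`. -/
noncomputable def epsMap (J : GrothendieckTopology C) {V X : C} (f : V ⟶ X) :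
    ToposFin.eps J V ⟶ ToposFin.eps J X :=
  secMap ((ToposFin.eps J X).obj.map f.op (etaSec J X))

lemma epsMap_app_etaSec {V X : C} (f : V ⟶ X) :
    (epsMap J f).hom.app (op V) (etaSec J V) = (ToposFin.eps J X).obj.map f.op (etaSec J X) :=
  secMap_app_etaSec _

lemma restrict_restrict {F : ToposFin.Sh J} {U V W : C} (f : V ⟶ U) (g : W ⟶ V)
    (x : F.obj.obj (op U)) :
    F.obj.map g.op (F.obj.map f.op x) = F.obj.map (g ≫ f).op x := by
  simp

/-- the family of `eps V ⟶ eps X` for `V ⟶ X` in a covering sieve is jointly epimorphic. -/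
lemma jEpi_epsMap_of_covering {X : C} (S : Sieve X) (hS : S ∈ J X) :
    JEpi (fun p : Σ V : C, {f : V ⟶ X // S f} => epsMap J p.2.1) := by
  rw [jEpi_iff_ljs]
  intro U x
  obtain ⟨S1, hS1, hS1x⟩ := exists_covering_eps_section x
  choose t ht using hS1x
  refine ⟨Sieve.bind S1 (fun W h hh => S.pullback (t h hh)),
    J.bind_covering hS1 (fun W h hh => J.pullback_stable _ hS), ?_⟩
  rintro W' f ⟨W, e, h, hh, he, rfl⟩
  refine ⟨⟨W', ⟨e ≫ t h hh, he⟩⟩, etaSec J W', ?_⟩
  rw [epsMap_app_etaSec, ← restrict_restrict h e x, ht h hh, restrict_restrict]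

lemma isQCSite_of_isQC_eps {X : C} (hX : ToposFin.IsQC (ToposFin.eps J X)) :
    ToposFin.IsQCSite J X := by
  intro S hS
  obtain ⟨s, hs⟩ := (isQC_iff _).1 hX _ _ _ (jEpi_epsMap_of_covering S hS)
  let e := s.equivFin.symm
  refine ⟨s.card, fun k => (e k).1.1, fun k => (e k).1.2.1, fun k => (e k).1.2.2, ?_⟩
  obtain ⟨S2, hS2, hS2x⟩ := (jEpi_iff_ljs _).1 hs X (etaSec J X)
  refine J.transitive hS2 _ fun W f hf => ?_
  obtain ⟨i, y, hy⟩ := hS2x f hf
  obtain ⟨S3, hS3, hS3x⟩ := exists_covering_eps_section y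
  refine J.transitive hS3 _ fun W' h hh => ?_
  obtain ⟨t, ht⟩ := hS3x h hh
  -- the two morphisms `h ≫ f` and `t ≫ f_i` have the same image in `eps X`
  have key : (toSheafify J (yoneda.obj X)).app (op W') (h ≫ f) =
      (toSheafify J (yoneda.obj X)).app (op W') (t ≫ i.1.2.1) := by
    rw [toSheafify_app_eq, toSheafify_app_eq, ← restrict_restrict f h, ← hy,
      ← map_app_restrict, ht, map_app_restrict, epsMap_app_etaSec, restrict_restrict]
  have hcov := Presheaf.equalizerSieve_mem (D := Type u) (FD := TypeCat.Fun) (CD := fun X => X)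
    J (toSheafify J (yoneda.obj X)) (X := op W') (h ≫ f) (t ≫ i.1.2.1) key
  refine J.superset_covering ?_ hcov
  intro W'' q hq
  rw [Sieve.pullback_apply, Sieve.pullback_apply, Sieve.mem_ofArrows_iff]
  have hq' : (q ≫ h) ≫ f = q ≫ t ≫ i.1.2.1 := by
    simpa using hq
  rw [hq']
  have : ∀ (j : s) (hj : j = i), ∃ a : W'' ⟶ j.1.1, q ≫ t ≫ i.1.2.1 = a ≫ j.1.2.1 := by
    intro j hj
    subst hj
    exact ⟨q ≫ t, by simp⟩
  exact ⟨e.symm i, this (e (e.symm i)) (by simp)⟩

lemma epsMap_eq {V X : C} (f : V ⟶ X) :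
    epsMap J f = (presheafToSheaf J (Type u)).map (yoneda.map f) := by
  apply eps_hom_ext
  rw [epsMap_app_etaSec, ← toSheafify_app_eq]
  have h := ConcreteCategory.congr_hom
    (congr_app (toSheafify_naturality J (yoneda.map f)) (op V)) (𝟙 V)
  simp only [NatTrans.comp_app, types_comp_apply] at h
  rw [etaSec]
  refine Eq.trans ?_ h
  congr 1
  simp

lemma isPullback_epsMap [HasPullbacks C] {V W X : C} (f : V ⟶ X) (g : W ⟶ X) :
    IsPullback (epsMap J (pullback.fst f g)) (epsMap J (pullback.snd f g)) (epsMap J f)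
      (epsMap J g) := by
  simp only [epsMap_eq]
  exact (IsPullback.of_hasPullback f g).map (yoneda ⋙ presheafToSheaf J (Type u))

lemma secMap_comp {F G : ToposFin.Sh J} {V : C} (s : F.obj.obj (op V)) (φ : F ⟶ G) :
    secMap s ≫ φ = secMap (φ.hom.app (op V) s) := by
  apply eps_hom_ext
  rw [secMap_app_etaSec]
  simp only [ObjectProperty.FullSubcategory.comp_hom, NatTrans.comp_app, types_comp_apply]
  rw [secMap_app_etaSec]

/-- covers by representables compatible with a morphism to `eps J X`. -/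
lemma exists_rep_cover_over {A : ToposFin.Sh J} {X : C} (a : A ⟶ ToposFin.eps J X) :
    ∃ (ι : Type u) (V : ι → C) (h : ∀ i, V i ⟶ X) (π : ∀ i, ToposFin.eps J (V i) ⟶ A),
      JEpi π ∧ ∀ i, π i ≫ a = epsMap J (h i) := by
  refine ⟨Σ V : C, {p : A.obj.obj (op V) × (V ⟶ X) //
      a.hom.app (op V) p.1 = (ToposFin.eps J X).obj.map p.2.op (etaSec J X)},
    fun i => i.1, fun i => i.2.1.2, fun i => secMap i.2.1.1, ?_, ?_⟩
  · rw [jEpi_iff_ljs]
    intro U x
    obtain ⟨S1, hS1, hS1x⟩ := exists_covering_eps_section (a.hom.app (op U) x)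
    refine ⟨S1, hS1, fun W f hf => ?_⟩
    obtain ⟨t, ht⟩ := hS1x f hf
    refine ⟨⟨W, ⟨(A.obj.map f.op x, t), ?_⟩⟩, etaSec J W, secMap_app_etaSec _⟩
    rw [map_app_restrict, ht]
  · intro i
    rw [secMap_comp, i.2.2]
    rfl

/-- `eps J X` is quasi-separated on a site with fibre products and quasi-compact objects. -/
lemma isQS_eps [HasPullbacks C] (hC : ∀ X : C, ToposFin.IsQCSite J X) (X : C) :
    ToposFin.IsQS (ToposFin.eps J X) := by
  intro A B a b hA hB
  obtain ⟨ι, V, h, π, hπ, hπa⟩ := exists_rep_cover_over a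
  obtain ⟨κ, W, h', ρ, hρ, hρb⟩ := exists_rep_cover_over b
  obtain ⟨s, hs⟩ := (isQC_iff A).1 hA _ _ _ hπ
  obtain ⟨t, ht⟩ := (isQC_iff B).1 hB _ _ _ hρ
  refine isQC_pullback_of_finite_covers a b _ _ hs ht fun k l => ?_
  refine isQC_of_iso (pullback.congrHom (hπa k).symm (hρb l).symm) ?_
  exact isQC_of_iso (isPullback_epsMap (h k) (h' l)).isoPullback (isQC_eps_of_isQCSite (hC _))

lemma isCoherent_eps [HasPullbacks C] (hC : ∀ X : C, ToposFin.IsQCSite J X) (X : C) :
    ToposFin.IsCoherent (ToposFin.eps J X) :=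
  ⟨isQC_eps_of_isQCSite (hC X), isQS_eps hC X⟩

lemma hasQCGenerators_of_isQCSite (hC : ∀ X : C, ToposFin.IsQCSite J X) :
    ToposFin.HasQCGenerators J := by
  intro X
  exact ⟨_, _, fun p : Σ V : C, X.obj.obj (op V) => secMap p.2,
    fun p => isQC_eps_of_isQCSite (hC p.1), (epi_desc_iff _).2 (jEpi_secMap X)⟩

/-- on a quasi-compact site with fibre products, every morphism from a quasi-separated object
to `eps J X` is quasi-separated. -/
lemma isQSHom_to_eps [HasPullbacks C] (hC : ∀ X : C, ToposFin.IsQCSite J X) {X : C}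
    {G : ToposFin.Sh J} (g : G ⟶ ToposFin.eps J X) (hG : ToposFin.IsQS G) :
    ToposFin.IsQSHom g := by
  obtain ⟨ι, V, h, π, hπ, hπa⟩ := exists_rep_cover_over g
  refine isQSHom_of_cover_with_qs_products (hasQCGenerators_of_isQCSite hC) g _ π hπ
    (fun i => isQC_eps_of_isQCSite (hC _)) (fun i j => ?_) hG
  refine isQS_of_iso (pullback.congrHom (hπa i).symm (hπa j).symm) ?_
  exact isQS_of_iso (isPullback_epsMap (h i) (h j)).isoPullback (isQS_eps hC _)

lemma isQS_pullback_over_eps [HasPullbacks C] (hC : ∀ X : C, ToposFin.IsQCSite J X) {X : C}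
    {G H : ToposFin.Sh J} (g : G ⟶ ToposFin.eps J X) (h : H ⟶ ToposFin.eps J X)
    (hG : ToposFin.IsQS G) (hH : ToposFin.IsQS H) : ToposFin.IsQS (pullback g h) :=
  isQS_of_isQSHom_of_isQS _ (isQSHom_pullback_snd g h (isQSHom_to_eps hC g hG)) hH

end Groth.Agent.Lib.Helper45
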