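import Groth.Agent.Lib.Helper45.ToposFin8
import Mathlib.CategoryTheory.Limits.MonoCoprod
import Mathlib.CategoryTheory.Extensive

/-!
# Finiteness conditions in a sheaf topos, part 9 (helper45): coproducts, empty objects
-/

set_option autoImplicit false
set_option backward.isDefEq.respectTransparency false
universe w w' v u

open CategoryTheory CategoryTheory.Limits Opposite

namespace Groth.Agent.Lib.Helper45

variable {C : Type u} [SmallCategory C] {J : GrothendieckTopology C}

/-- `W` is empty: any two morphisms out of it agree. -/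
def IsEmptyObj (W : ToposFin.Sh J) : Prop := ∀ ⦃Z : ToposFin.Sh J⦄ (a b : W ⟶ Z), a = b

lemma isEmptyObj_of_iso_initial {W : ToposFin.Sh J} (e : W ≅ ⊥_ (ToposFin.Sh J)) :
    IsEmptyObj W := fun _ a b => (IsInitial.ofIso initialIsInitial e.symm).hom_ext a b

lemma isEmptyObj_of_hom_initial {W : ToposFin.Sh J} (f : W ⟶ ⊥_ (ToposFin.Sh J)) :
    IsEmptyObj W := by
  have : IsIso f := initialIsInitial.isIso_to f
  exact isEmptyObj_of_iso_initial (asIso f)

lemma IsEmptyObj.of_hom {W W' : ToposFin.Sh J} (hW : IsEmptyObj W) (f : W' ⟶ W) :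
    IsEmptyObj W' := by
  have h : terminal.from W ≫ (coprod.inl : (⊤_ (ToposFin.Sh J)) ⟶ (⊤_ (ToposFin.Sh J)) ⨿ (⊤_ (ToposFin.Sh J))) =
      terminal.from W ≫ coprod.inr := hW _ _
  have sq := FinitaryExtensive.isPullback_initial_to_binaryCofan
    (coprodIsCoprod (⊤_ (ToposFin.Sh J)) (⊤_ (ToposFin.Sh J)))
  exact isEmptyObj_of_hom_initial (f ≫ sq.lift (terminal.from W) (terminal.from W) h)

lemma IsEmptyObj.nonempty_iso {W : ToposFin.Sh J} (hW : IsEmptyObj W) :
    Nonempty (W ≅ ⊥_ (ToposFin.Sh J)) := by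
  have h : terminal.from W ≫ (coprod.inl : (⊤_ (ToposFin.Sh J)) ⟶ (⊤_ (ToposFin.Sh J)) ⨿ (⊤_ (ToposFin.Sh J))) =
      terminal.from W ≫ coprod.inr := hW _ _
  have sq := FinitaryExtensive.isPullback_initial_to_binaryCofan
    (coprodIsCoprod (⊤_ (ToposFin.Sh J)) (⊤_ (ToposFin.Sh J)))
  have : IsIso (sq.lift (terminal.from W) (terminal.from W) h) := initialIsInitial.isIso_to _
  exact ⟨asIso (sq.lift (terminal.from W) (terminal.from W) h)⟩

/-- distinct coprojections of a coproduct are disjoint. -/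
lemma isEmptyObj_of_disjoint {ι : Type w} {X : ι → ToposFin.Sh J} (c : Cofan X)
    (hc : IsColimit c) {i j : ι} (hij : i ≠ j) {W : ToposFin.Sh J} (u : W ⟶ X i) (v : W ⟶ X j)
    (h : u ≫ c.inj i = v ≫ c.inj j) : IsEmptyObj W := by
  classical
  let d : c.pt ⟶ (⊤_ (ToposFin.Sh J)) ⨿ (⊤_ (ToposFin.Sh J)) :=
    Cofan.IsColimit.desc hc fun k =>
      if k = i then terminal.from _ ≫ coprod.inl else terminal.from _ ≫ coprod.inr
  have hi : c.inj i ≫ d = terminal.from _ ≫ coprod.inl := by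
    simp [d]
  have hj : c.inj j ≫ d = terminal.from _ ≫ coprod.inr := by
    simp [d, hij.symm]
  have h' : terminal.from W ≫ (coprod.inl : (⊤_ (ToposFin.Sh J)) ⟶ (⊤_ (ToposFin.Sh J)) ⨿ (⊤_ (ToposFin.Sh J))) =
      terminal.from W ≫ coprod.inr := by
    have := congrArg (fun t => t ≫ d) h
    simp only [Category.assoc, hi, hj] at this
    rw [← Category.assoc, ← Category.assoc] at this
    convert this using 2 <;> exact Subsingleton.elim _ _
  have sq := FinitaryExtensive.isPullback_initial_to_binaryCofan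
    (coprodIsCoprod (⊤_ (ToposFin.Sh J)) (⊤_ (ToposFin.Sh J)))
  exact isEmptyObj_of_hom_initial (sq.lift (terminal.from W) (terminal.from W) h')

lemma isQC_of_isEmptyObj {W : ToposFin.Sh J} (hW : IsEmptyObj W) : ToposFin.IsQC W := by
  rw [isQC_iff]
  intro ι F π _
  exact ⟨∅, fun _ _ _ _ => hW _ _⟩

lemma jEpi_cofan_inj {ι : Type w} {X : ι → ToposFin.Sh J} (c : Cofan X) (hc : IsColimit c) :
    JEpi c.inj := fun _ _ _ hab => Cofan.IsColimit.hom_ext hc _ _ hab

lemma mono_cofan_inj {ι : Type u} {X : ι → ToposFin.Sh J} (c : Cofan X) (hc : IsColimit c)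
    (i : ι) : Mono (c.inj i) :=
  MonoCoprod.mono_inj X c hc i

end Groth.Agent.Lib.Helper45
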