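import Groth.Agent.Lib.Helper45.ToposFin11
import Groth.Prelude.Def_SGA4a

/-!
# Giraud axioms for a sheaf topos, part 1 (helper45): disjoint universal coproducts
-/

set_option autoImplicit false
set_option backward.isDefEq.respectTransparency false
universe w w' v u

open CategoryTheory CategoryTheory.Limits Opposite

namespace Groth.Agent.Lib.Helper45

variable {C : Type u} [SmallCategory C] {J : GrothendieckTopology C}

lemma coproductDisjoint_sheaf {ι : Type u} (X : ι → ToposFin.Sh J) : CoproductDisjoint X where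
  nonempty_isInitial_of_ne {c} hc {i j} hij s _ := by
    have hE : IsEmptyObj s.pt := isEmptyObj_of_disjoint c hc hij s.fst s.snd s.condition
    obtain ⟨e⟩ := hE.nonempty_iso
    exact ⟨IsInitial.ofIso initialIsInitial e.symm⟩
  mono_inj {c} hc i := mono_cofan_inj c hc i

/-- coproducts in a sheaf topos are universal. -/
lemma isUniversalColimit_cofan {ι : Type u} {X : ι → ToposFin.Sh J} (c : Cofan X)
    (hc : IsColimit c) : IsUniversalColimit c := by
  intro F' c' α f hα _ hpb
  -- notation
  let Y : ι → ToposFin.Sh J := fun i => F'.obj ⟨i⟩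
  let m : ∀ i, Y i ⟶ c'.pt := fun i => c'.ι.app ⟨i⟩
  let a : ∀ i, Y i ⟶ X i := fun i => α.app ⟨i⟩
  have sq : ∀ i, IsPullback (m i) (a i) f (c.inj i) := fun i => hpb ⟨i⟩
  have hm : JEpi m := (jEpi_cofan_inj c hc).baseChange f a m fun i => (sq i).flip
  have hmono : ∀ i, Mono (m i) := fun i => by
    have := mono_cofan_inj c hc i
    refine ⟨fun {W} x y hxy => (sq i).hom_ext hxy ?_⟩
    rw [← cancel_mono (c.inj i), Category.assoc, Category.assoc, ← (sq i).w,
      ← Category.assoc, hxy, Category.assoc]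
  let d : ∐ Y ⟶ c'.pt := Sigma.desc m
  have hd : ∀ i, Sigma.ι Y i ≫ d = m i := fun i => by simp [d]
  have hepi : Epi d := (epi_desc_iff m).2 hm
  have hmonod : Mono d := by
    refine ⟨fun {W} x y hxy => ?_⟩
    have key : ∀ {P : ToposFin.Sh J} (r : P ⟶ W) (i j : ι) (u : P ⟶ Y i) (v : P ⟶ Y j),
        r ≫ x = u ≫ Sigma.ι Y i → r ≫ y = v ≫ Sigma.ι Y j → r ≫ x = r ≫ y := by
      intro P r i j u v h1 h2
      have h3 : u ≫ m i = v ≫ m j := by
        calc u ≫ m i = (u ≫ Sigma.ι Y i) ≫ d := by rw [Category.assoc, hd i]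
          _ = (r ≫ x) ≫ d := by rw [h1]
          _ = r ≫ y ≫ d := by rw [Category.assoc, hxy]
          _ = (v ≫ Sigma.ι Y j) ≫ d := by rw [← Category.assoc, h2]
          _ = v ≫ m j := by rw [Category.assoc, hd j]
      rw [h1, h2]
      by_cases hij : i = j
      · subst hij
        have : u = v := (cancel_mono (m i)).1 h3
        rw [this]
      · have hE : IsEmptyObj P := by
          refine isEmptyObj_of_disjoint c hc hij (u ≫ a i) (v ≫ a j) ?_
          calc (u ≫ a i) ≫ c.inj i = u ≫ m i ≫ f := by rw [Category.assoc, (sq i).w]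
            _ = v ≫ m j ≫ f := by rw [← Category.assoc, h3, Category.assoc]
            _ = (v ≫ a j) ≫ c.inj j := by rw [Category.assoc, (sq j).w]
        exact hE _ _
    have hJ1 : JEpi (fun i => pullback.snd (Sigma.ι Y i) x) :=
      (jEpi_cofan_inj _ (coproductIsCoproduct Y)).pullback_snd x
    have hJ2 : ∀ i, JEpi (fun j => pullback.snd (Sigma.ι Y j)
        (pullback.snd (Sigma.ι Y i) x ≫ y)) := fun i =>
      (jEpi_cofan_inj _ (coproductIsCoproduct Y)).pullback_snd _
    refine (hJ1.comp _ hJ2) x y fun p => ?_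
    obtain ⟨i, j⟩ := p
    refine key _ i j (pullback.snd (Sigma.ι Y j) (pullback.snd (Sigma.ι Y i) x ≫ y) ≫
      pullback.fst (Sigma.ι Y i) x) (pullback.fst (Sigma.ι Y j) _) ?_ ?_
    · simp only [Category.assoc]
      rw [pullback.condition]
    · simp only [Category.assoc]
      rw [pullback.condition]
  have hiso : IsIso d := isIso_of_mono_of_epi d
  refine ⟨⟨fun s => inv d ≫ Sigma.desc (fun i => s.ι.app ⟨i⟩), ?_, ?_⟩⟩
  · rintro s ⟨i⟩
    have : c'.ι.app ⟨i⟩ = Sigma.ι Y i ≫ d := (hd i).symm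
    rw [this]
    simp
  · intro s k hk
    rw [IsIso.eq_inv_comp]
    refine Sigma.hom_ext _ _ fun i => ?_
    rw [← Category.assoc, hd i]
    simpa using hk ⟨i⟩

lemma hasDisjointUniversalCoproducts_sheaf (J : GrothendieckTopology C) :
    SGA4.HasDisjointUniversalCoproducts.{u + 1, u} (Sheaf J (Type u)) := by
  intro ι X
  exact ⟨Cofan.mk (∐ X) (Sigma.ι X), coproductIsCoproduct X, coproductDisjoint_sheaf X,
    isUniversalColimit_cofan _ (coproductIsCoproduct X)⟩

end Groth.Agent.Lib.Helper45
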