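import Groth.Agent.Lib.Helper45.ToposGiraud1

/-!
# Giraud axioms for a sheaf topos, part 2 (helper45): equivalence relations on sections
-/

set_option autoImplicit false
set_option backward.isDefEq.respectTransparency false
universe w w' v u

open CategoryTheory CategoryTheory.Limits Opposite

namespace Groth.Agent.Lib.Helper45

variable {C : Type u} [SmallCategory C] {J : GrothendieckTopology C}

lemma section_ext_of_isPullback {P A B X : ToposFin.Sh J} {fst : P ⟶ A} {snd : P ⟶ B}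
    {f : A ⟶ X} {g : B ⟶ X} (sq : IsPullback fst snd f g) (U : C)
    (p p' : P.obj.obj (op U)) (h1 : fst.hom.app (op U) p = fst.hom.app (op U) p')
    (h2 : snd.hom.app (op U) p = snd.hom.app (op U) p') : p = p' := by
  have sq' := sq.map (sheafToPresheaf J (Type u) ⋙ (evaluation Cᵒᵖ (Type u)).obj (op U))
  exact Types.ext_of_isPullback sq' h1 h2

section EquivRel

variable {R A : ToposFin.Sh J} (p₁ p₂ : R ⟶ A)

/-- the relation on sections induced by `R`. -/
def secRel (V : Cᵒᵖ) (a a' : A.obj.obj V) : Prop :=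
  ∃ ρ : R.obj.obj V, p₁.hom.app V ρ = a ∧ p₂.hom.app V ρ = a'

variable {p₁ p₂}

lemma secRel_iff (V : C) (a a' : A.obj.obj (op V)) :
    secRel p₁ p₂ (op V) a a' ↔
      ∃ f : ToposFin.eps J V ⟶ R, f ≫ p₁ = secMap a ∧ f ≫ p₂ = secMap a' := by
  constructor
  · rintro ⟨ρ, h1, h2⟩
    exact ⟨secMap ρ, by rw [secMap_comp, h1], by rw [secMap_comp, h2]⟩
  · rintro ⟨f, h1, h2⟩
    refine ⟨f.hom.app (op V) (etaSec J V), ?_, ?_⟩
    · have := congrArg (fun t => t.hom.app (op V) (etaSec J V)) h1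
      simpa [secMap_app_etaSec] using this
    · have := congrArg (fun t => t.hom.app (op V) (etaSec J V)) h2
      simpa [secMap_app_etaSec] using this

lemma secRel_equivalence (hR : SGA4.IsEquivRel p₁ p₂) (V : Cᵒᵖ) :
    Equivalence (secRel p₁ p₂ V) := by
  obtain ⟨V⟩ := V
  have h := (hR (ToposFin.eps J V)).2
  have key : ∀ a a' : A.obj.obj (op V), secRel p₁ p₂ (op V) a a' ↔
      (fun a b : ToposFin.eps J V ⟶ A => ∃ f : ToposFin.eps J V ⟶ R, f ≫ p₁ = a ∧ f ≫ p₂ = b)
        (secMap a) (secMap a') := fun a a' => secRel_iff V a a'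
  refine ⟨fun a => (key a a).2 (h.refl _), fun {a b} hab => (key b a).2 (h.symm ((key a b).1 hab)),
    fun {a b c} hab hbc => (key a c).2 (h.trans ((key a b).1 hab) ((key b c).1 hbc))⟩

lemma secRel_injective (hR : SGA4.IsEquivRel p₁ p₂) (V : C) (ρ ρ' : R.obj.obj (op V))
    (h1 : p₁.hom.app (op V) ρ = p₁.hom.app (op V) ρ')
    (h2 : p₂.hom.app (op V) ρ = p₂.hom.app (op V) ρ') : ρ = ρ' := by
  have h := (hR (ToposFin.eps J V)).1
  have : secMap ρ = secMap ρ' := by
    apply h
    simp only [Prod.mk.injEq]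
    exact ⟨by rw [secMap_comp, secMap_comp, h1], by rw [secMap_comp, secMap_comp, h2]⟩
  have := congrArg (fun t => t.hom.app (op V) (etaSec J V)) this
  simpa [secMap_app_etaSec] using this

lemma secRel_map {V W : Cᵒᵖ} (f : V ⟶ W) {a a' : A.obj.obj V} (h : secRel p₁ p₂ V a a') :
    secRel p₁ p₂ W (A.obj.map f a) (A.obj.map f a') := by
  obtain ⟨ρ, h1, h2⟩ := h
  refine ⟨R.obj.map f ρ, ?_, ?_⟩
  · rw [← h1]; exact ConcreteCategory.congr_hom (p₁.hom.naturality f) ρ
  · rw [← h2]; exact ConcreteCategory.congr_hom (p₂.hom.naturality f) ρ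

end EquivRel

end Groth.Agent.Lib.Helper45
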