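import Mathlib.CategoryTheory.Sites.Pullback
import Mathlib.CategoryTheory.Sites.CoverLifting
import Mathlib.CategoryTheory.Sites.LeftExact
import Mathlib.CategoryTheory.Sites.Canonical

set_option autoImplicit false
set_option backward.isDefEq.respectTransparency false
open CategoryTheory Opposite
universe u

namespace Groth.Agent.Lib.Helper45.UShriekFF

theorem full_faithful_of_sheafPullback
    {C : Type u} [SmallCategory C] {C' : Type u} [SmallCategory C']
    (J : GrothendieckTopology C) (K : GrothendieckTopology C') [J.Subcanonical] [K.Subcanonical]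
    (u : C ⥤ C') [u.IsContinuous J K] [u.IsCocontinuous J K]
    (h : (u.sheafPullback (Type u) J K).Full ∧ (u.sheafPullback (Type u) J K).Faithful) :
    u.Full ∧ u.Faithful := by
  obtain ⟨hfull, hfaith⟩ := h
  let adj := u.sheafAdjunctionContinuous (Type u) J K
  have hη : IsIso adj.unit := adj.unit_isIso_of_L_fully_faithful
  -- for each X, the data
  have key : ∀ X : C, ∃ (G : Sheaf K (Type u)) (η : J.yoneda.obj X ⟶
      (u.sheafPushforwardContinuous (Type u) J K).obj G) (s : G ⟶ K.yoneda.obj (u.obj X)),
      IsIso η ∧ ∀ (Y : C) (f : Y ⟶ X), s.hom.app (op (u.obj Y)) (η.hom.app (op Y) f) = u.map f := by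
    intro X
    let s' : J.yoneda.obj X ⟶
        (u.sheafPushforwardContinuous (Type u) J K).obj (K.yoneda.obj (u.obj X)) :=
      ObjectProperty.homMk
        { app := fun Y => TypeCat.ofHom (fun f => u.map f)
          naturality := by
            intro Y Y' g
            ext f
            simp }
    refine ⟨(u.sheafPullback (Type u) J K).obj (J.yoneda.obj X), adj.unit.app _,
      (adj.homEquiv _ _).symm s', inferInstance, ?_⟩
    intro Y f
    have h1 : adj.unit.app (J.yoneda.obj X) ≫
        (u.sheafPushforwardContinuous (Type u) J K).map ((adj.homEquiv _ _).symm s') = s' := by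
      have := adj.homEquiv_unit (X := J.yoneda.obj X) (Y := K.yoneda.obj (u.obj X))
        (f := (adj.homEquiv _ _).symm s')
      rw [Equiv.apply_symm_apply] at this
      exact this.symm
    have h2 := congrArg (fun t => t.hom.app (op Y) f) h1
    exact h2
  have hnat : ∀ (X : C) (G : Sheaf K (Type u)) (η : J.yoneda.obj X ⟶
      (u.sheafPushforwardContinuous (Type u) J K).obj G) (Y : C) (f : Y ⟶ X),
      η.hom.app (op Y) f = G.obj.map (u.map f).op (η.hom.app (op X) (𝟙 X)) := by
    intro X G η Y f
    have h1 := ConcreteCategory.congr_hom (η.hom.naturality f.op) (𝟙 X)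
    have h2 : (J.yoneda.obj X).obj.map f.op (𝟙 X) = f := by
      change f ≫ 𝟙 X = f
      exact Category.comp_id f
    change η.hom.app (op Y) ((J.yoneda.obj X).obj.map f.op (𝟙 X)) = _ at h1
    rw [h2] at h1
    exact h1
  have hbij : ∀ (X : C) (G : Sheaf K (Type u)) (η : J.yoneda.obj X ⟶
      (u.sheafPushforwardContinuous (Type u) J K).obj G), IsIso η → ∀ Y : C,
      Function.Bijective (η.hom.app (op Y)) := by
    intro X G η hη Y
    have h1 : IsIso ((sheafToPresheaf J (Type u)).map η) := inferInstance
    have h2 : IsIso (((sheafToPresheaf J (Type u)).map η).app (op Y)) := inferInstance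
    exact (isIso_iff_bijective _).1 h2
  constructor
  · constructor
    intro Y X g
    obtain ⟨G, η, s, hηiso, hs⟩ := key X
    obtain ⟨f, hf⟩ := (hbij X G η hηiso Y).2 (G.obj.map g.op (η.hom.app (op X) (𝟙 X)))
    refine ⟨f, ?_⟩
    rw [← hs Y f, hf]
    have h1 := ConcreteCategory.congr_hom (s.hom.naturality g.op) (η.hom.app (op X) (𝟙 X))
    refine h1.trans ?_
    change g ≫ s.hom.app (op (u.obj X)) (η.hom.app (op X) (𝟙 X)) = g
    rw [hs X (𝟙 X), u.map_id, Category.comp_id]
  · constructor
    intro Y X f f' hff'
    obtain ⟨G, η, s, hηiso, hs⟩ := key X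
    apply (hbij X G η hηiso Y).1
    rw [hnat X G η Y f, hnat X G η Y f', hff']

end Groth.Agent.Lib.Helper45.UShriekFF
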