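import Groth.Agent.Lib.Helper45.VCommaA
import Groth.Prelude.Def_W4stkcategoriessitesFib

set_option autoImplicit false
set_option backward.isDefEq.respectTransparency false
universe v u

open CategoryTheory CategoryTheory.Functor FibCat

namespace Groth.Agent.Lib.Helper45.VComma

theorem factorization_aux {C : Type u} [Category.{v} C] (X : Type (max u v)) [instX : Category.{v} X]
    (𝒴 : BasedCategory.{v, max u v} C) [𝒴.p.IsFibered] (F₀ : X ⥤ 𝒴.obj) (p : X ⥤ C)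
    (hw : F₀ ⋙ 𝒴.p = p) [hp : p.IsFibered]
    (hF : FibCat.PreservesStronglyCartesian
      (⟨F₀, hw⟩ : (⟨X, instX, p⟩ : BasedCategory.{v, max u v} C) ⥤ᵇ 𝒴)) :
    ∃ (𝒳' : BasedCategory.{v, max u v} C)
      (u : (⟨X, instX, p⟩ : BasedCategory.{v, max u v} C) ⥤ᵇ 𝒳') (v : 𝒳' ⥤ᵇ 𝒴)
      (w : 𝒳' ⥤ᵇ (⟨X, instX, p⟩ : BasedCategory.{v, max u v} C)),
      𝒳'.p.IsFibered ∧ FibCat.PreservesStronglyCartesian u ∧ FibCat.PreservesStronglyCartesian v ∧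
        FibCat.PreservesStronglyCartesian w ∧
        BasedFunctor.comp u v = (⟨F₀, hw⟩ : (⟨X, instX, p⟩ : BasedCategory.{v, max u v} C) ⥤ᵇ 𝒴) ∧
        u.toFunctor.Full ∧ u.toFunctor.Faithful ∧ Nonempty (w.toFunctor ⊣ u.toFunctor) ∧
        v.toFunctor.IsFibered := by
  subst hw
  let q := 𝒴.p
  have hF' : ∀ ⦃a b : X⦄ (φ : a ⟶ b), SCe (F₀ ⋙ q) φ → SCe q (F₀.map φ) := by
    intro a b φ h
    have h1 : (F₀ ⋙ q).IsStronglyCartesian ((F₀ ⋙ q).map φ) φ := (sce_iff _ φ).2 h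
    exact sce_of_sc q _ _ (hF _ φ h1)
  let 𝒳' : BasedCategory.{v, max u v} C := ⟨VC q F₀, inferInstance, P q F₀⟩
  let u : (⟨X, instX, F₀ ⋙ q⟩ : BasedCategory.{v, max u v} C) ⥤ᵇ 𝒳' := ⟨incl q F₀, rfl⟩
  let v : 𝒳' ⥤ᵇ 𝒴 := ⟨fst q F₀, rfl⟩
  let w : 𝒳' ⥤ᵇ (⟨X, instX, F₀ ⋙ q⟩ : BasedCategory.{v, max u v} C) := ⟨snd q F₀, snd_comp q F₀⟩
  refine ⟨𝒳', u, v, w, P_isFibered hF', ?_, ?_, ?_, rfl, inferInstanceAs (incl q F₀).Full,
    inferInstanceAs (incl q F₀).Faithful, ⟨adj q F₀⟩, fst_isFibered hF'⟩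
  · intro R S f a b φ h
    exact incl_sc hF' f φ h
  · intro R S f a b m h
    exact (components_sc hF' f m h).1
  · intro R S f a b m h
    have h1 := (components_sc hF' f m h).2
    have hl : (F₀ ⋙ q).IsHomLift f (w.map m) := by
      have := h.toIsHomLift
      exact BasedFunctor.preserves_isHomLift w f m
    exact sc_of_sce _ f _ hl h1

theorem factorization {C : Type u} [Category.{v} C]
    {𝒳 𝒴 : BasedCategory.{v, max u v} C} [𝒳.p.IsFibered] [𝒴.p.IsFibered]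
    (F : 𝒳 ⥤ᵇ 𝒴) (hF : FibCat.PreservesStronglyCartesian F) :
    ∃ (𝒳' : BasedCategory.{v, max u v} C) (u : 𝒳 ⥤ᵇ 𝒳') (v : 𝒳' ⥤ᵇ 𝒴) (w : 𝒳' ⥤ᵇ 𝒳),
      𝒳'.p.IsFibered ∧ FibCat.PreservesStronglyCartesian u ∧ FibCat.PreservesStronglyCartesian v ∧
        FibCat.PreservesStronglyCartesian w ∧ BasedFunctor.comp u v = F ∧
        u.toFunctor.Full ∧ u.toFunctor.Faithful ∧ Nonempty (w.toFunctor ⊣ u.toFunctor) ∧
        v.toFunctor.IsFibered := by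
  obtain ⟨X, instX, p⟩ := 𝒳
  obtain ⟨F₀, hw⟩ := F
  exact factorization_aux X 𝒴 F₀ p hw hF

end Groth.Agent.Lib.Helper45.VComma
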